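import Mathlib
import Cfsg.Agent.Helper9.RuO.Data

set_option autoImplicit false

/-! Kernel checks of the certificates, a part. -/

noncomputable section

namespace Cfsg.Agent.Helper9.RuO

open Cfsg.Agent.Helper9.OutG Cfsg.Agent.Helper9.J3

set_option maxRecDepth 1000000 in
theorem cls_hclo_0 : allC (cloChk dD dC dE dCl) 0 91 = true := by decide +kernel

set_option maxRecDepth 1000000 in
theorem cls_hclo_1 : allC (cloChk dD dC dE dCl) 1 91 = true := by decide +kernel

set_option maxRecDepth 1000000 in
theorem cls_hclo_2 : allC (cloChk dD dC dE dCl) 2 91 = true := by decide +kernel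

set_option maxRecDepth 1000000 in
theorem cls_hclo_3 : allC (cloChk dD dC dE dCl) 3 91 = true := by decide +kernel

set_option maxRecDepth 1000000 in
theorem cls_hclo_4 : allC (cloChk dD dC dE dCl) 4 91 = true := by decide +kernel

set_option maxRecDepth 1000000 in
theorem cls_hclo_5 : allC (cloChk dD dC dE dCl) 5 91 = true := by decide +kernel

set_option maxRecDepth 1000000 in
theorem cls_hclo_6 : allC (cloChk dD dC dE dCl) 6 91 = true := by decide +kernel

set_option maxRecDepth 1000000 in
theorem cls_hclo_7 : allC (cloChk dD dC dE dCl) 7 91 = true := by decide +kernel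

set_option maxRecDepth 1000000 in
theorem cls_hclo_8 : allC (cloChk dD dC dE dCl) 8 91 = true := by decide +kernel

set_option maxRecDepth 1000000 in
theorem cls_hclo_9 : allC (cloChk dD dC dE dCl) 9 91 = true := by decide +kernel

set_option maxRecDepth 1000000 in
theorem cls_hclo_10 : allC (cloChk dD dC dE dCl) 10 91 = true := by decide +kernel

set_option maxRecDepth 1000000 in
theorem cls_hclo_11 : allC (cloChk dD dC dE dCl) 11 91 = true := by decide +kernel

set_option maxRecDepth 1000000 in
theorem cls_hclo_12 : allC (cloChk dD dC dE dCl) 12 91 = true := by decide +kernel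

set_option maxRecDepth 1000000 in
theorem cls_hclo_13 : allC (cloChk dD dC dE dCl) 13 91 = true := by decide +kernel

set_option maxRecDepth 1000000 in
theorem cls_hclo_14 : allC (cloChk dD dC dE dCl) 14 91 = true := by decide +kernel

set_option maxRecDepth 1000000 in
theorem cls_hclo_15 : allC (cloChk dD dC dE dCl) 15 91 = true := by decide +kernel

set_option maxRecDepth 1000000 in
theorem cls_hclo_16 : allC (cloChk dD dC dE dCl) 16 91 = true := by decide +kernel

set_option maxRecDepth 1000000 in
theorem cls_hclo_17 : allC (cloChk dD dC dE dCl) 17 91 = true := by decide +kernel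

set_option maxRecDepth 1000000 in
theorem cls_hclo_18 : allC (cloChk dD dC dE dCl) 18 91 = true := by decide +kernel

set_option maxRecDepth 1000000 in
theorem cls_hclo_19 : allC (cloChk dD dC dE dCl) 19 91 = true := by decide +kernel

set_option maxRecDepth 1000000 in
theorem cls_hclo_20 : allC (cloChk dD dC dE dCl) 20 91 = true := by decide +kernel

set_option maxRecDepth 1000000 in
theorem cls_hclo_21 : allC (cloChk dD dC dE dCl) 21 91 = true := by decide +kernel

set_option maxRecDepth 1000000 in
theorem cls_hclo_22 : allC (cloChk dD dC dE dCl) 22 91 = true := by decide +kernel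

set_option maxRecDepth 1000000 in
theorem cls_hclo_23 : allC (cloChk dD dC dE dCl) 23 91 = true := by decide +kernel

set_option maxRecDepth 1000000 in
theorem cls_hclo_24 : allC (cloChk dD dC dE dCl) 24 91 = true := by decide +kernel

set_option maxRecDepth 1000000 in
theorem cls_hclo_25 : allC (cloChk dD dC dE dCl) 25 91 = true := by decide +kernel

set_option maxRecDepth 1000000 in
theorem cls_hclo_26 : allC (cloChk dD dC dE dCl) 26 91 = true := by decide +kernel

set_option maxRecDepth 1000000 in
theorem cls_hclo_27 : allC (cloChk dD dC dE dCl) 27 91 = true := by decide +kernel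

set_option maxRecDepth 1000000 in
theorem cls_hclo_28 : allC (cloChk dD dC dE dCl) 28 91 = true := by decide +kernel

set_option maxRecDepth 1000000 in
theorem cls_hclo_29 : allC (cloChk dD dC dE dCl) 29 91 = true := by decide +kernel

set_option maxRecDepth 1000000 in
theorem cls_hclo_30 : allC (cloChk dD dC dE dCl) 30 91 = true := by decide +kernel

set_option maxRecDepth 1000000 in
theorem cls_hclo_31 : allC (cloChk dD dC dE dCl) 31 91 = true := by decide +kernel

set_option maxRecDepth 1000000 in
theorem cls_hclo_32 : allC (cloChk dD dC dE dCl) 32 91 = true := by decide +kernel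

set_option maxRecDepth 1000000 in
theorem cls_hclo_33 : allC (cloChk dD dC dE dCl) 33 91 = true := by decide +kernel

set_option maxRecDepth 1000000 in
theorem cls_hclo_34 : allC (cloChk dD dC dE dCl) 34 91 = true := by decide +kernel

set_option maxRecDepth 1000000 in
theorem cls_hclo_35 : allC (cloChk dD dC dE dCl) 35 91 = true := by decide +kernel

set_option maxRecDepth 1000000 in
theorem cls_hclo_36 : allC (cloChk dD dC dE dCl) 36 91 = true := by decide +kernel

set_option maxRecDepth 1000000 in
theorem cls_hclo_37 : allC (cloChk dD dC dE dCl) 37 91 = true := by decide +kernel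

set_option maxRecDepth 1000000 in
theorem cls_hclo_38 : allC (cloChk dD dC dE dCl) 38 91 = true := by decide +kernel

set_option maxRecDepth 1000000 in
theorem cls_hclo_39 : allC (cloChk dD dC dE dCl) 39 91 = true := by decide +kernel

set_option maxRecDepth 1000000 in
theorem cls_hclo_40 : allC (cloChk dD dC dE dCl) 40 91 = true := by decide +kernel

set_option maxRecDepth 1000000 in
theorem cls_hclo_41 : allC (cloChk dD dC dE dCl) 41 91 = true := by decide +kernel

set_option maxRecDepth 1000000 in
theorem cls_hclo_42 : allC (cloChk dD dC dE dCl) 42 91 = true := by decide +kernel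

set_option maxRecDepth 1000000 in
theorem cls_hclo_43 : allC (cloChk dD dC dE dCl) 43 91 = true := by decide +kernel

set_option maxRecDepth 1000000 in
theorem cls_hclo_44 : allC (cloChk dD dC dE dCl) 44 91 = true := by decide +kernel

set_option maxRecDepth 1000000 in
theorem cls_hclo_45 : allC (cloChk dD dC dE dCl) 45 91 = true := by decide +kernel

set_option maxRecDepth 1000000 in
theorem cls_hclo_46 : allC (cloChk dD dC dE dCl) 46 91 = true := by decide +kernel

set_option maxRecDepth 1000000 in
theorem cls_hclo_47 : allC (cloChk dD dC dE dCl) 47 91 = true := by decide +kernel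

set_option maxRecDepth 1000000 in
theorem cls_hclo_48 : allC (cloChk dD dC dE dCl) 48 91 = true := by decide +kernel

set_option maxRecDepth 1000000 in
theorem cls_hclo_49 : allC (cloChk dD dC dE dCl) 49 91 = true := by decide +kernel

set_option maxRecDepth 1000000 in
theorem cls_hclo_50 : allC (cloChk dD dC dE dCl) 50 91 = true := by decide +kernel

set_option maxRecDepth 1000000 in
theorem cls_hclo_51 : allC (cloChk dD dC dE dCl) 51 91 = true := by decide +kernel

set_option maxRecDepth 1000000 in
theorem cls_hclo_52 : allC (cloChk dD dC dE dCl) 52 91 = true := by decide +kernel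

set_option maxRecDepth 1000000 in
theorem cls_hclo_53 : allC (cloChk dD dC dE dCl) 53 91 = true := by decide +kernel

set_option maxRecDepth 1000000 in
theorem cls_hclo_54 : allC (cloChk dD dC dE dCl) 54 91 = true := by decide +kernel

set_option maxRecDepth 1000000 in
theorem cls_hclo_55 : allC (cloChk dD dC dE dCl) 55 91 = true := by decide +kernel

set_option maxRecDepth 1000000 in
theorem cls_hclo_56 : allC (cloChk dD dC dE dCl) 56 91 = true := by decide +kernel

set_option maxRecDepth 1000000 in
theorem cls_hclo_57 : allC (cloChk dD dC dE dCl) 57 91 = true := by decide +kernel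

set_option maxRecDepth 1000000 in
theorem cls_hclo_58 : allC (cloChk dD dC dE dCl) 58 91 = true := by decide +kernel

set_option maxRecDepth 1000000 in
theorem cls_hclo_59 : allC (cloChk dD dC dE dCl) 59 91 = true := by decide +kernel

set_option maxRecDepth 1000000 in
theorem cls_hclo_60 : allC (cloChk dD dC dE dCl) 60 91 = true := by decide +kernel

set_option maxRecDepth 1000000 in
theorem cls_hclo_61 : allC (cloChk dD dC dE dCl) 61 91 = true := by decide +kernel

set_option maxRecDepth 1000000 in
theorem cls_hclo_62 : allC (cloChk dD dC dE dCl) 62 91 = true := by decide +kernel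

set_option maxRecDepth 1000000 in
theorem cls_hclo_63 : allC (cloChk dD dC dE dCl) 63 91 = true := by decide +kernel

set_option maxRecDepth 1000000 in
theorem cls_hclo_64 : allC (cloChk dD dC dE dCl) 64 91 = true := by decide +kernel

set_option maxRecDepth 1000000 in
theorem cls_hclo_65 : allC (cloChk dD dC dE dCl) 65 91 = true := by decide +kernel

set_option maxRecDepth 1000000 in
theorem cls_hclo_66 : allC (cloChk dD dC dE dCl) 66 91 = true := by decide +kernel

set_option maxRecDepth 1000000 in
theorem cls_hclo_67 : allC (cloChk dD dC dE dCl) 67 91 = true := by decide +kernel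

set_option maxRecDepth 1000000 in
theorem cls_hclo_68 : allC (cloChk dD dC dE dCl) 68 91 = true := by decide +kernel

set_option maxRecDepth 1000000 in
theorem cls_hclo_69 : allC (cloChk dD dC dE dCl) 69 91 = true := by decide +kernel

set_option maxRecDepth 1000000 in
theorem cls_hclo_70 : allC (cloChk dD dC dE dCl) 70 91 = true := by decide +kernel

set_option maxRecDepth 1000000 in
theorem cls_hclo_71 : allC (cloChk dD dC dE dCl) 71 91 = true := by decide +kernel

set_option maxRecDepth 1000000 in
theorem cls_hclo_72 : allC (cloChk dD dC dE dCl) 72 91 = true := by decide +kernel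

set_option maxRecDepth 1000000 in
theorem cls_hclo_73 : allC (cloChk dD dC dE dCl) 73 91 = true := by decide +kernel

set_option maxRecDepth 1000000 in
theorem cls_hclo_74 : allC (cloChk dD dC dE dCl) 74 91 = true := by decide +kernel

set_option maxRecDepth 1000000 in
theorem cls_hclo_75 : allC (cloChk dD dC dE dCl) 75 91 = true := by decide +kernel

set_option maxRecDepth 1000000 in
theorem cls_hclo_76 : allC (cloChk dD dC dE dCl) 76 91 = true := by decide +kernel

set_option maxRecDepth 1000000 in
theorem cls_hclo_77 : allC (cloChk dD dC dE dCl) 77 91 = true := by decide +kernel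

set_option maxRecDepth 1000000 in
theorem cls_hclo_78 : allC (cloChk dD dC dE dCl) 78 91 = true := by decide +kernel

set_option maxRecDepth 1000000 in
theorem cls_hclo_79 : allC (cloChk dD dC dE dCl) 79 91 = true := by decide +kernel

set_option maxRecDepth 1000000 in
theorem cls_hclo_80 : allC (cloChk dD dC dE dCl) 80 91 = true := by decide +kernel

set_option maxRecDepth 1000000 in
theorem cls_hclo_81 : allC (cloChk dD dC dE dCl) 81 91 = true := by decide +kernel

set_option maxRecDepth 1000000 in
theorem cls_hclo_82 : allC (cloChk dD dC dE dCl) 82 91 = true := by decide +kernel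

set_option maxRecDepth 1000000 in
theorem cls_hclo_83 : allC (cloChk dD dC dE dCl) 83 91 = true := by decide +kernel

set_option maxRecDepth 1000000 in
theorem cls_hclo_84 : allC (cloChk dD dC dE dCl) 84 91 = true := by decide +kernel

set_option maxRecDepth 1000000 in
theorem cls_hclo_85 : allC (cloChk dD dC dE dCl) 85 91 = true := by decide +kernel

set_option maxRecDepth 1000000 in
theorem cls_hclo_86 : allC (cloChk dD dC dE dCl) 86 91 = true := by decide +kernel

set_option maxRecDepth 1000000 in
theorem cls_hclo_87 : allC (cloChk dD dC dE dCl) 87 91 = true := by decide +kernel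

set_option maxRecDepth 1000000 in
theorem cls_hclo_88 : allC (cloChk dD dC dE dCl) 88 91 = true := by decide +kernel

set_option maxRecDepth 1000000 in
theorem cls_hclo_89 : allC (cloChk dD dC dE dCl) 89 91 = true := by decide +kernel

set_option maxRecDepth 1000000 in
theorem cls_hclo_90 : allC (cloChk dD dC dE dCl) 90 91 = true := by decide +kernel

set_option maxRecDepth 1000000 in
theorem cls_hclo_91 : allC (cloChk dD dC dE dCl) 91 91 = true := by decide +kernel

set_option maxRecDepth 1000000 in
theorem cls_hclo_92 : allC (cloChk dD dC dE dCl) 92 91 = true := by decide +kernel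

set_option maxRecDepth 1000000 in
theorem cls_hclo_93 : allC (cloChk dD dC dE dCl) 93 91 = true := by decide +kernel

set_option maxRecDepth 1000000 in
theorem cls_hclo_94 : allC (cloChk dD dC dE dCl) 94 91 = true := by decide +kernel

set_option maxRecDepth 1000000 in
theorem cls_hclo_95 : allC (cloChk dD dC dE dCl) 95 91 = true := by decide +kernel

set_option maxRecDepth 1000000 in
theorem cls_hclo_96 : allC (cloChk dD dC dE dCl) 96 91 = true := by decide +kernel

set_option maxRecDepth 1000000 in
theorem cls_hclo_97 : allC (cloChk dD dC dE dCl) 97 91 = true := by decide +kernel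

set_option maxRecDepth 1000000 in
theorem cls_hclo_98 : allC (cloChk dD dC dE dCl) 98 91 = true := by decide +kernel

set_option maxRecDepth 1000000 in
theorem cls_hclo_99 : allC (cloChk dD dC dE dCl) 99 91 = true := by decide +kernel

end Cfsg.Agent.Helper9.RuO

end
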