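import Mathlib
import Cfsg.Agent.Helper9.RuO.Data

set_option autoImplicit false

/-! Kernel checks of the certificates, a part. -/

noncomputable section

namespace Cfsg.Agent.Helper9.RuO

open Cfsg.Agent.Helper9.OutG Cfsg.Agent.Helper9.J3

set_option maxRecDepth 1000000 in
theorem cls_hclo_100 : allC (cloChk dD dC dE dCl) 100 91 = true := by decide +kernel

set_option maxRecDepth 1000000 in
theorem cls_hclo_101 : allC (cloChk dD dC dE dCl) 101 91 = true := by decide +kernel

set_option maxRecDepth 1000000 in
theorem cls_hclo_102 : allC (cloChk dD dC dE dCl) 102 91 = true := by decide +kernel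

set_option maxRecDepth 1000000 in
theorem cls_hclo_103 : allC (cloChk dD dC dE dCl) 103 91 = true := by decide +kernel

set_option maxRecDepth 1000000 in
theorem cls_hclo_104 : allC (cloChk dD dC dE dCl) 104 91 = true := by decide +kernel

set_option maxRecDepth 1000000 in
theorem cls_hclo_105 : allC (cloChk dD dC dE dCl) 105 91 = true := by decide +kernel

set_option maxRecDepth 1000000 in
theorem cls_hclo_106 : allC (cloChk dD dC dE dCl) 106 91 = true := by decide +kernel

set_option maxRecDepth 1000000 in
theorem cls_hclo_107 : allC (cloChk dD dC dE dCl) 107 91 = true := by decide +kernel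

set_option maxRecDepth 1000000 in
theorem cls_hclo_108 : allC (cloChk dD dC dE dCl) 108 91 = true := by decide +kernel

set_option maxRecDepth 1000000 in
theorem cls_hclo_109 : allC (cloChk dD dC dE dCl) 109 91 = true := by decide +kernel

set_option maxRecDepth 1000000 in
theorem cls_hclo_110 : allC (cloChk dD dC dE dCl) 110 91 = true := by decide +kernel

set_option maxRecDepth 1000000 in
theorem cls_hclo_111 : allC (cloChk dD dC dE dCl) 111 91 = true := by decide +kernel

set_option maxRecDepth 1000000 in
theorem cls_hclo_112 : allC (cloChk dD dC dE dCl) 112 91 = true := by decide +kernel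

set_option maxRecDepth 1000000 in
theorem cls_hclo_113 : allC (cloChk dD dC dE dCl) 113 91 = true := by decide +kernel

set_option maxRecDepth 1000000 in
theorem cls_hclo_114 : allC (cloChk dD dC dE dCl) 114 91 = true := by decide +kernel

set_option maxRecDepth 1000000 in
theorem cls_hclo_115 : allC (cloChk dD dC dE dCl) 115 91 = true := by decide +kernel

set_option maxRecDepth 1000000 in
theorem cls_hclo_116 : allC (cloChk dD dC dE dCl) 116 91 = true := by decide +kernel

set_option maxRecDepth 1000000 in
theorem cls_hclo_117 : allC (cloChk dD dC dE dCl) 117 91 = true := by decide +kernel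

set_option maxRecDepth 1000000 in
theorem cls_hclo_118 : allC (cloChk dD dC dE dCl) 118 91 = true := by decide +kernel

set_option maxRecDepth 1000000 in
theorem cls_hclo_119 : allC (cloChk dD dC dE dCl) 119 91 = true := by decide +kernel

set_option maxRecDepth 1000000 in
theorem cls_hclo_120 : allC (cloChk dD dC dE dCl) 120 91 = true := by decide +kernel

set_option maxRecDepth 1000000 in
theorem cls_hclo_121 : allC (cloChk dD dC dE dCl) 121 91 = true := by decide +kernel

set_option maxRecDepth 1000000 in
theorem cls_hclo_122 : allC (cloChk dD dC dE dCl) 122 91 = true := by decide +kernel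

set_option maxRecDepth 1000000 in
theorem cls_hclo_123 : allC (cloChk dD dC dE dCl) 123 91 = true := by decide +kernel

set_option maxRecDepth 1000000 in
theorem cls_hclo_124 : allC (cloChk dD dC dE dCl) 124 91 = true := by decide +kernel

set_option maxRecDepth 1000000 in
theorem cls_hclo_125 : allC (cloChk dD dC dE dCl) 125 91 = true := by decide +kernel

set_option maxRecDepth 1000000 in
theorem cls_hclo_126 : allC (cloChk dD dC dE dCl) 126 91 = true := by decide +kernel

set_option maxRecDepth 1000000 in
theorem cls_hclo_127 : allC (cloChk dD dC dE dCl) 127 91 = true := by decide +kernel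

set_option maxRecDepth 1000000 in
theorem cls_hclo_128 : allC (cloChk dD dC dE dCl) 128 91 = true := by decide +kernel

set_option maxRecDepth 1000000 in
theorem cls_hclo_129 : allC (cloChk dD dC dE dCl) 129 91 = true := by decide +kernel

set_option maxRecDepth 1000000 in
theorem cls_hclo_130 : allC (cloChk dD dC dE dCl) 130 91 = true := by decide +kernel

set_option maxRecDepth 1000000 in
theorem cls_hclo_131 : allC (cloChk dD dC dE dCl) 131 91 = true := by decide +kernel

set_option maxRecDepth 1000000 in
theorem cls_hclo_132 : allC (cloChk dD dC dE dCl) 132 91 = true := by decide +kernel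

set_option maxRecDepth 1000000 in
theorem cls_hclo_133 : allC (cloChk dD dC dE dCl) 133 91 = true := by decide +kernel

set_option maxRecDepth 1000000 in
theorem cls_hclo_134 : allC (cloChk dD dC dE dCl) 134 91 = true := by decide +kernel

set_option maxRecDepth 1000000 in
theorem cls_hclo_135 : allC (cloChk dD dC dE dCl) 135 91 = true := by decide +kernel

set_option maxRecDepth 1000000 in
theorem cls_hclo_136 : allC (cloChk dD dC dE dCl) 136 91 = true := by decide +kernel

set_option maxRecDepth 1000000 in
theorem cls_hclo_137 : allC (cloChk dD dC dE dCl) 137 91 = true := by decide +kernel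

set_option maxRecDepth 1000000 in
theorem cls_hclo_138 : allC (cloChk dD dC dE dCl) 138 91 = true := by decide +kernel

set_option maxRecDepth 1000000 in
theorem cls_hclo_139 : allC (cloChk dD dC dE dCl) 139 91 = true := by decide +kernel

set_option maxRecDepth 1000000 in
theorem cls_hclo_140 : allC (cloChk dD dC dE dCl) 140 91 = true := by decide +kernel

set_option maxRecDepth 1000000 in
theorem cls_hclo_141 : allC (cloChk dD dC dE dCl) 141 91 = true := by decide +kernel

set_option maxRecDepth 1000000 in
theorem cls_hclo_142 : allC (cloChk dD dC dE dCl) 142 91 = true := by decide +kernel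

set_option maxRecDepth 1000000 in
theorem cls_hclo_143 : allC (cloChk dD dC dE dCl) 143 91 = true := by decide +kernel

set_option maxRecDepth 1000000 in
theorem cls_hclo_144 : allC (cloChk dD dC dE dCl) 144 91 = true := by decide +kernel

set_option maxRecDepth 1000000 in
theorem cls_hclo_145 : allC (cloChk dD dC dE dCl) 145 91 = true := by decide +kernel

set_option maxRecDepth 1000000 in
theorem cls_hclo_146 : allC (cloChk dD dC dE dCl) 146 91 = true := by decide +kernel

set_option maxRecDepth 1000000 in
theorem cls_hclo_147 : allC (cloChk dD dC dE dCl) 147 91 = true := by decide +kernel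

set_option maxRecDepth 1000000 in
theorem cls_hclo_148 : allC (cloChk dD dC dE dCl) 148 91 = true := by decide +kernel

set_option maxRecDepth 1000000 in
theorem cls_hclo_149 : allC (cloChk dD dC dE dCl) 149 91 = true := by decide +kernel

set_option maxRecDepth 1000000 in
theorem cls_hclo_150 : allC (cloChk dD dC dE dCl) 150 91 = true := by decide +kernel

set_option maxRecDepth 1000000 in
theorem cls_hclo_151 : allC (cloChk dD dC dE dCl) 151 91 = true := by decide +kernel

set_option maxRecDepth 1000000 in
theorem cls_hclo_152 : allC (cloChk dD dC dE dCl) 152 91 = true := by decide +kernel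

set_option maxRecDepth 1000000 in
theorem cls_hclo_153 : allC (cloChk dD dC dE dCl) 153 91 = true := by decide +kernel

set_option maxRecDepth 1000000 in
theorem cls_hclo_154 : allC (cloChk dD dC dE dCl) 154 91 = true := by decide +kernel

set_option maxRecDepth 1000000 in
theorem cls_hclo_155 : allC (cloChk dD dC dE dCl) 155 91 = true := by decide +kernel

set_option maxRecDepth 1000000 in
theorem cls_hclo_156 : allC (cloChk dD dC dE dCl) 156 91 = true := by decide +kernel

set_option maxRecDepth 1000000 in
theorem cls_hclo_157 : allC (cloChk dD dC dE dCl) 157 91 = true := by decide +kernel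

set_option maxRecDepth 1000000 in
theorem cls_hclo_158 : allC (cloChk dD dC dE dCl) 158 91 = true := by decide +kernel

set_option maxRecDepth 1000000 in
theorem cls_hclo_159 : allC (cloChk dD dC dE dCl) 159 91 = true := by decide +kernel

set_option maxRecDepth 1000000 in
theorem cls_hclo_160 : allC (cloChk dD dC dE dCl) 160 91 = true := by decide +kernel

set_option maxRecDepth 1000000 in
theorem cls_hclo_161 : allC (cloChk dD dC dE dCl) 161 91 = true := by decide +kernel

set_option maxRecDepth 1000000 in
theorem cls_hclo_162 : allC (cloChk dD dC dE dCl) 162 91 = true := by decide +kernel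

set_option maxRecDepth 1000000 in
theorem cls_hclo_163 : allC (cloChk dD dC dE dCl) 163 91 = true := by decide +kernel

set_option maxRecDepth 1000000 in
theorem cls_hclo_164 : allC (cloChk dD dC dE dCl) 164 91 = true := by decide +kernel

set_option maxRecDepth 1000000 in
theorem cls_hclo_165 : allC (cloChk dD dC dE dCl) 165 91 = true := by decide +kernel

set_option maxRecDepth 1000000 in
theorem cls_hclo_166 : allC (cloChk dD dC dE dCl) 166 91 = true := by decide +kernel

set_option maxRecDepth 1000000 in
theorem cls_hclo_167 : allC (cloChk dD dC dE dCl) 167 91 = true := by decide +kernel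

set_option maxRecDepth 1000000 in
theorem cls_hclo_168 : allC (cloChk dD dC dE dCl) 168 91 = true := by decide +kernel

set_option maxRecDepth 1000000 in
theorem cls_hclo_169 : allC (cloChk dD dC dE dCl) 169 91 = true := by decide +kernel

set_option maxRecDepth 1000000 in
theorem cls_hclo_170 : allC (cloChk dD dC dE dCl) 170 91 = true := by decide +kernel

set_option maxRecDepth 1000000 in
theorem cls_hclo_171 : allC (cloChk dD dC dE dCl) 171 91 = true := by decide +kernel

set_option maxRecDepth 1000000 in
theorem cls_hclo_172 : allC (cloChk dD dC dE dCl) 172 91 = true := by decide +kernel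

set_option maxRecDepth 1000000 in
theorem cls_hclo_173 : allC (cloChk dD dC dE dCl) 173 91 = true := by decide +kernel

set_option maxRecDepth 1000000 in
theorem cls_hclo_174 : allC (cloChk dD dC dE dCl) 174 91 = true := by decide +kernel

set_option maxRecDepth 1000000 in
theorem cls_hclo_175 : allC (cloChk dD dC dE dCl) 175 91 = true := by decide +kernel

set_option maxRecDepth 1000000 in
theorem cls_hclo_176 : allC (cloChk dD dC dE dCl) 176 91 = true := by decide +kernel

set_option maxRecDepth 1000000 in
theorem cls_hclo_177 : allC (cloChk dD dC dE dCl) 177 91 = true := by decide +kernel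

set_option maxRecDepth 1000000 in
theorem cls_hclo_178 : allC (cloChk dD dC dE dCl) 178 91 = true := by decide +kernel

set_option maxRecDepth 1000000 in
theorem cls_hclo_179 : allC (cloChk dD dC dE dCl) 179 91 = true := by decide +kernel

set_option maxRecDepth 1000000 in
theorem cls_hclo_180 : allC (cloChk dD dC dE dCl) 180 91 = true := by decide +kernel

set_option maxRecDepth 1000000 in
theorem cls_hclo_181 : allC (cloChk dD dC dE dCl) 181 91 = true := by decide +kernel

set_option maxRecDepth 1000000 in
theorem cls_hclo_182 : allC (cloChk dD dC dE dCl) 182 91 = true := by decide +kernel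

set_option maxRecDepth 1000000 in
theorem cls_hclo_183 : allC (cloChk dD dC dE dCl) 183 91 = true := by decide +kernel

set_option maxRecDepth 1000000 in
theorem cls_hclo_184 : allC (cloChk dD dC dE dCl) 184 91 = true := by decide +kernel

set_option maxRecDepth 1000000 in
theorem cls_hclo_185 : allC (cloChk dD dC dE dCl) 185 91 = true := by decide +kernel

set_option maxRecDepth 1000000 in
theorem cls_hclo_186 : allC (cloChk dD dC dE dCl) 186 91 = true := by decide +kernel

set_option maxRecDepth 1000000 in
theorem cls_hclo_187 : allC (cloChk dD dC dE dCl) 187 91 = true := by decide +kernel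

set_option maxRecDepth 1000000 in
theorem cls_hclo_188 : allC (cloChk dD dC dE dCl) 188 91 = true := by decide +kernel

set_option maxRecDepth 1000000 in
theorem cls_hclo_189 : allC (cloChk dD dC dE dCl) 189 91 = true := by decide +kernel

set_option maxRecDepth 1000000 in
theorem cls_hclo_190 : allC (cloChk dD dC dE dCl) 190 91 = true := by decide +kernel

set_option maxRecDepth 1000000 in
theorem cls_hclo_191 : allC (cloChk dD dC dE dCl) 191 91 = true := by decide +kernel

set_option maxRecDepth 1000000 in
theorem cls_hclo_192 : allC (cloChk dD dC dE dCl) 192 91 = true := by decide +kernel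

set_option maxRecDepth 1000000 in
theorem cls_hclo_193 : allC (cloChk dD dC dE dCl) 193 91 = true := by decide +kernel

set_option maxRecDepth 1000000 in
theorem cls_hclo_194 : allC (cloChk dD dC dE dCl) 194 91 = true := by decide +kernel

set_option maxRecDepth 1000000 in
theorem cls_hclo_195 : allC (cloChk dD dC dE dCl) 195 91 = true := by decide +kernel

set_option maxRecDepth 1000000 in
theorem cls_hclo_196 : allC (cloChk dD dC dE dCl) 196 91 = true := by decide +kernel

set_option maxRecDepth 1000000 in
theorem cls_hclo_197 : allC (cloChk dD dC dE dCl) 197 91 = true := by decide +kernel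

set_option maxRecDepth 1000000 in
theorem cls_hclo_198 : allC (cloChk dD dC dE dCl) 198 91 = true := by decide +kernel

set_option maxRecDepth 1000000 in
theorem cls_hclo_199 : allC (cloChk dD dC dE dCl) 199 91 = true := by decide +kernel

end Cfsg.Agent.Helper9.RuO

end
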