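import Mathlib
import Cfsg.Agent.Helper9.RuO.Data

set_option autoImplicit false

/-! Kernel checks of the certificates, a part. -/

noncomputable section

namespace Cfsg.Agent.Helper9.RuO

open Cfsg.Agent.Helper9.OutG Cfsg.Agent.Helper9.J3

set_option maxRecDepth 1000000 in
theorem cls_hclo_1000 : allC (cloChk dD dC dE dCl) 1000 91 = true := by decide +kernel

set_option maxRecDepth 1000000 in
theorem cls_hclo_1001 : allC (cloChk dD dC dE dCl) 1001 91 = true := by decide +kernel

set_option maxRecDepth 1000000 in
theorem cls_hclo_1002 : allC (cloChk dD dC dE dCl) 1002 91 = true := by decide +kernel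

set_option maxRecDepth 1000000 in
theorem cls_hclo_1003 : allC (cloChk dD dC dE dCl) 1003 91 = true := by decide +kernel

set_option maxRecDepth 1000000 in
theorem cls_hclo_1004 : allC (cloChk dD dC dE dCl) 1004 91 = true := by decide +kernel

set_option maxRecDepth 1000000 in
theorem cls_hclo_1005 : allC (cloChk dD dC dE dCl) 1005 91 = true := by decide +kernel

set_option maxRecDepth 1000000 in
theorem cls_hclo_1006 : allC (cloChk dD dC dE dCl) 1006 91 = true := by decide +kernel

set_option maxRecDepth 1000000 in
theorem cls_hclo_1007 : allC (cloChk dD dC dE dCl) 1007 91 = true := by decide +kernel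

set_option maxRecDepth 1000000 in
theorem cls_hclo_1008 : allC (cloChk dD dC dE dCl) 1008 91 = true := by decide +kernel

set_option maxRecDepth 1000000 in
theorem cls_hclo_1009 : allC (cloChk dD dC dE dCl) 1009 91 = true := by decide +kernel

set_option maxRecDepth 1000000 in
theorem cls_hclo_1010 : allC (cloChk dD dC dE dCl) 1010 91 = true := by decide +kernel

set_option maxRecDepth 1000000 in
theorem cls_hclo_1011 : allC (cloChk dD dC dE dCl) 1011 91 = true := by decide +kernel

set_option maxRecDepth 1000000 in
theorem cls_hclo_1012 : allC (cloChk dD dC dE dCl) 1012 91 = true := by decide +kernel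

set_option maxRecDepth 1000000 in
theorem cls_hclo_1013 : allC (cloChk dD dC dE dCl) 1013 91 = true := by decide +kernel

set_option maxRecDepth 1000000 in
theorem cls_hclo_1014 : allC (cloChk dD dC dE dCl) 1014 91 = true := by decide +kernel

set_option maxRecDepth 1000000 in
theorem cls_hclo_1015 : allC (cloChk dD dC dE dCl) 1015 91 = true := by decide +kernel

set_option maxRecDepth 1000000 in
theorem cls_hclo_1016 : allC (cloChk dD dC dE dCl) 1016 91 = true := by decide +kernel

set_option maxRecDepth 1000000 in
theorem cls_hclo_1017 : allC (cloChk dD dC dE dCl) 1017 91 = true := by decide +kernel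

set_option maxRecDepth 1000000 in
theorem cls_hclo_1018 : allC (cloChk dD dC dE dCl) 1018 91 = true := by decide +kernel

set_option maxRecDepth 1000000 in
theorem cls_hclo_1019 : allC (cloChk dD dC dE dCl) 1019 91 = true := by decide +kernel

set_option maxRecDepth 1000000 in
theorem cls_hclo_1020 : allC (cloChk dD dC dE dCl) 1020 91 = true := by decide +kernel

set_option maxRecDepth 1000000 in
theorem cls_hclo_1021 : allC (cloChk dD dC dE dCl) 1021 91 = true := by decide +kernel

set_option maxRecDepth 1000000 in
theorem cls_hclo_1022 : allC (cloChk dD dC dE dCl) 1022 91 = true := by decide +kernel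

set_option maxRecDepth 1000000 in
theorem cls_hclo_1023 : allC (cloChk dD dC dE dCl) 1023 91 = true := by decide +kernel

set_option maxRecDepth 1000000 in
theorem cls_hclo_1024 : allC (cloChk dD dC dE dCl) 1024 91 = true := by decide +kernel

set_option maxRecDepth 1000000 in
theorem cls_hclo_1025 : allC (cloChk dD dC dE dCl) 1025 91 = true := by decide +kernel

set_option maxRecDepth 1000000 in
theorem cls_hclo_1026 : allC (cloChk dD dC dE dCl) 1026 91 = true := by decide +kernel

set_option maxRecDepth 1000000 in
theorem cls_hclo_1027 : allC (cloChk dD dC dE dCl) 1027 91 = true := by decide +kernel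

set_option maxRecDepth 1000000 in
theorem cls_hclo_1028 : allC (cloChk dD dC dE dCl) 1028 91 = true := by decide +kernel

set_option maxRecDepth 1000000 in
theorem cls_hclo_1029 : allC (cloChk dD dC dE dCl) 1029 91 = true := by decide +kernel

set_option maxRecDepth 1000000 in
theorem cls_hclo_1030 : allC (cloChk dD dC dE dCl) 1030 91 = true := by decide +kernel

set_option maxRecDepth 1000000 in
theorem cls_hclo_1031 : allC (cloChk dD dC dE dCl) 1031 91 = true := by decide +kernel

set_option maxRecDepth 1000000 in
theorem cls_hclo_1032 : allC (cloChk dD dC dE dCl) 1032 91 = true := by decide +kernel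

set_option maxRecDepth 1000000 in
theorem cls_hclo_1033 : allC (cloChk dD dC dE dCl) 1033 91 = true := by decide +kernel

set_option maxRecDepth 1000000 in
theorem cls_hclo_1034 : allC (cloChk dD dC dE dCl) 1034 91 = true := by decide +kernel

set_option maxRecDepth 1000000 in
theorem cls_hclo_1035 : allC (cloChk dD dC dE dCl) 1035 91 = true := by decide +kernel

set_option maxRecDepth 1000000 in
theorem cls_hclo_1036 : allC (cloChk dD dC dE dCl) 1036 91 = true := by decide +kernel

set_option maxRecDepth 1000000 in
theorem cls_hclo_1037 : allC (cloChk dD dC dE dCl) 1037 91 = true := by decide +kernel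

set_option maxRecDepth 1000000 in
theorem cls_hclo_1038 : allC (cloChk dD dC dE dCl) 1038 91 = true := by decide +kernel

set_option maxRecDepth 1000000 in
theorem cls_hclo_1039 : allC (cloChk dD dC dE dCl) 1039 91 = true := by decide +kernel

set_option maxRecDepth 1000000 in
theorem cls_hclo_1040 : allC (cloChk dD dC dE dCl) 1040 91 = true := by decide +kernel

set_option maxRecDepth 1000000 in
theorem cls_hclo_1041 : allC (cloChk dD dC dE dCl) 1041 91 = true := by decide +kernel

set_option maxRecDepth 1000000 in
theorem cls_hclo_1042 : allC (cloChk dD dC dE dCl) 1042 91 = true := by decide +kernel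

set_option maxRecDepth 1000000 in
theorem cls_hclo_1043 : allC (cloChk dD dC dE dCl) 1043 91 = true := by decide +kernel

set_option maxRecDepth 1000000 in
theorem cls_hclo_1044 : allC (cloChk dD dC dE dCl) 1044 91 = true := by decide +kernel

set_option maxRecDepth 1000000 in
theorem cls_hclo_1045 : allC (cloChk dD dC dE dCl) 1045 91 = true := by decide +kernel

set_option maxRecDepth 1000000 in
theorem cls_hclo_1046 : allC (cloChk dD dC dE dCl) 1046 91 = true := by decide +kernel

set_option maxRecDepth 1000000 in
theorem cls_hclo_1047 : allC (cloChk dD dC dE dCl) 1047 91 = true := by decide +kernel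

set_option maxRecDepth 1000000 in
theorem cls_hclo_1048 : allC (cloChk dD dC dE dCl) 1048 91 = true := by decide +kernel

set_option maxRecDepth 1000000 in
theorem cls_hclo_1049 : allC (cloChk dD dC dE dCl) 1049 91 = true := by decide +kernel

set_option maxRecDepth 1000000 in
theorem cls_hclo_1050 : allC (cloChk dD dC dE dCl) 1050 91 = true := by decide +kernel

set_option maxRecDepth 1000000 in
theorem cls_hclo_1051 : allC (cloChk dD dC dE dCl) 1051 91 = true := by decide +kernel

set_option maxRecDepth 1000000 in
theorem cls_hclo_1052 : allC (cloChk dD dC dE dCl) 1052 91 = true := by decide +kernel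

set_option maxRecDepth 1000000 in
theorem cls_hclo_1053 : allC (cloChk dD dC dE dCl) 1053 91 = true := by decide +kernel

set_option maxRecDepth 1000000 in
theorem cls_hclo_1054 : allC (cloChk dD dC dE dCl) 1054 91 = true := by decide +kernel

set_option maxRecDepth 1000000 in
theorem cls_hclo_1055 : allC (cloChk dD dC dE dCl) 1055 91 = true := by decide +kernel

set_option maxRecDepth 1000000 in
theorem cls_hclo_1056 : allC (cloChk dD dC dE dCl) 1056 91 = true := by decide +kernel

set_option maxRecDepth 1000000 in
theorem cls_hclo_1057 : allC (cloChk dD dC dE dCl) 1057 91 = true := by decide +kernel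

set_option maxRecDepth 1000000 in
theorem cls_hclo_1058 : allC (cloChk dD dC dE dCl) 1058 91 = true := by decide +kernel

set_option maxRecDepth 1000000 in
theorem cls_hclo_1059 : allC (cloChk dD dC dE dCl) 1059 91 = true := by decide +kernel

set_option maxRecDepth 1000000 in
theorem cls_hclo_1060 : allC (cloChk dD dC dE dCl) 1060 91 = true := by decide +kernel

set_option maxRecDepth 1000000 in
theorem cls_hclo_1061 : allC (cloChk dD dC dE dCl) 1061 91 = true := by decide +kernel

set_option maxRecDepth 1000000 in
theorem cls_hclo_1062 : allC (cloChk dD dC dE dCl) 1062 91 = true := by decide +kernel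

set_option maxRecDepth 1000000 in
theorem cls_hclo_1063 : allC (cloChk dD dC dE dCl) 1063 91 = true := by decide +kernel

set_option maxRecDepth 1000000 in
theorem cls_hclo_1064 : allC (cloChk dD dC dE dCl) 1064 91 = true := by decide +kernel

set_option maxRecDepth 1000000 in
theorem cls_hclo_1065 : allC (cloChk dD dC dE dCl) 1065 91 = true := by decide +kernel

set_option maxRecDepth 1000000 in
theorem cls_hclo_1066 : allC (cloChk dD dC dE dCl) 1066 91 = true := by decide +kernel

set_option maxRecDepth 1000000 in
theorem cls_hclo_1067 : allC (cloChk dD dC dE dCl) 1067 91 = true := by decide +kernel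

set_option maxRecDepth 1000000 in
theorem cls_hclo_1068 : allC (cloChk dD dC dE dCl) 1068 91 = true := by decide +kernel

set_option maxRecDepth 1000000 in
theorem cls_hclo_1069 : allC (cloChk dD dC dE dCl) 1069 91 = true := by decide +kernel

set_option maxRecDepth 1000000 in
theorem cls_hclo_1070 : allC (cloChk dD dC dE dCl) 1070 91 = true := by decide +kernel

set_option maxRecDepth 1000000 in
theorem cls_hclo_1071 : allC (cloChk dD dC dE dCl) 1071 91 = true := by decide +kernel

set_option maxRecDepth 1000000 in
theorem cls_hclo_1072 : allC (cloChk dD dC dE dCl) 1072 91 = true := by decide +kernel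

set_option maxRecDepth 1000000 in
theorem cls_hclo_1073 : allC (cloChk dD dC dE dCl) 1073 91 = true := by decide +kernel

set_option maxRecDepth 1000000 in
theorem cls_hclo_1074 : allC (cloChk dD dC dE dCl) 1074 91 = true := by decide +kernel

set_option maxRecDepth 1000000 in
theorem cls_hclo_1075 : allC (cloChk dD dC dE dCl) 1075 91 = true := by decide +kernel

set_option maxRecDepth 1000000 in
theorem cls_hclo_1076 : allC (cloChk dD dC dE dCl) 1076 91 = true := by decide +kernel

set_option maxRecDepth 1000000 in
theorem cls_hclo_1077 : allC (cloChk dD dC dE dCl) 1077 91 = true := by decide +kernel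

set_option maxRecDepth 1000000 in
theorem cls_hclo_1078 : allC (cloChk dD dC dE dCl) 1078 91 = true := by decide +kernel

set_option maxRecDepth 1000000 in
theorem cls_hclo_1079 : allC (cloChk dD dC dE dCl) 1079 91 = true := by decide +kernel

set_option maxRecDepth 1000000 in
theorem cls_hclo_1080 : allC (cloChk dD dC dE dCl) 1080 91 = true := by decide +kernel

set_option maxRecDepth 1000000 in
theorem cls_hclo_1081 : allC (cloChk dD dC dE dCl) 1081 91 = true := by decide +kernel

set_option maxRecDepth 1000000 in
theorem cls_hclo_1082 : allC (cloChk dD dC dE dCl) 1082 91 = true := by decide +kernel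

set_option maxRecDepth 1000000 in
theorem cls_hclo_1083 : allC (cloChk dD dC dE dCl) 1083 91 = true := by decide +kernel

set_option maxRecDepth 1000000 in
theorem cls_hclo_1084 : allC (cloChk dD dC dE dCl) 1084 91 = true := by decide +kernel

set_option maxRecDepth 1000000 in
theorem cls_hclo_1085 : allC (cloChk dD dC dE dCl) 1085 91 = true := by decide +kernel

set_option maxRecDepth 1000000 in
theorem cls_hclo_1086 : allC (cloChk dD dC dE dCl) 1086 91 = true := by decide +kernel

set_option maxRecDepth 1000000 in
theorem cls_hclo_1087 : allC (cloChk dD dC dE dCl) 1087 91 = true := by decide +kernel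

set_option maxRecDepth 1000000 in
theorem cls_hclo_1088 : allC (cloChk dD dC dE dCl) 1088 91 = true := by decide +kernel

set_option maxRecDepth 1000000 in
theorem cls_hclo_1089 : allC (cloChk dD dC dE dCl) 1089 91 = true := by decide +kernel

set_option maxRecDepth 1000000 in
theorem cls_hclo_1090 : allC (cloChk dD dC dE dCl) 1090 91 = true := by decide +kernel

set_option maxRecDepth 1000000 in
theorem cls_hclo_1091 : allC (cloChk dD dC dE dCl) 1091 91 = true := by decide +kernel

set_option maxRecDepth 1000000 in
theorem cls_hclo_1092 : allC (cloChk dD dC dE dCl) 1092 91 = true := by decide +kernel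

set_option maxRecDepth 1000000 in
theorem cls_hclo_1093 : allC (cloChk dD dC dE dCl) 1093 91 = true := by decide +kernel

set_option maxRecDepth 1000000 in
theorem cls_hclo_1094 : allC (cloChk dD dC dE dCl) 1094 91 = true := by decide +kernel

set_option maxRecDepth 1000000 in
theorem cls_hclo_1095 : allC (cloChk dD dC dE dCl) 1095 91 = true := by decide +kernel

set_option maxRecDepth 1000000 in
theorem cls_hclo_1096 : allC (cloChk dD dC dE dCl) 1096 91 = true := by decide +kernel

set_option maxRecDepth 1000000 in
theorem cls_hclo_1097 : allC (cloChk dD dC dE dCl) 1097 91 = true := by decide +kernel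

set_option maxRecDepth 1000000 in
theorem cls_hclo_1098 : allC (cloChk dD dC dE dCl) 1098 91 = true := by decide +kernel

set_option maxRecDepth 1000000 in
theorem cls_hclo_1099 : allC (cloChk dD dC dE dCl) 1099 91 = true := by decide +kernel

end Cfsg.Agent.Helper9.RuO

end
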