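import Mathlib
import Cfsg.Agent.Helper9.RuO.Data

set_option autoImplicit false

/-! Kernel checks of the certificates, a part. -/

noncomputable section

namespace Cfsg.Agent.Helper9.RuO

open Cfsg.Agent.Helper9.OutG Cfsg.Agent.Helper9.J3

set_option maxRecDepth 1000000 in
theorem cls_hclo_1100 : allC (cloChk dD dC dE dCl) 1100 91 = true := by decide +kernel

set_option maxRecDepth 1000000 in
theorem cls_hclo_1101 : allC (cloChk dD dC dE dCl) 1101 91 = true := by decide +kernel

set_option maxRecDepth 1000000 in
theorem cls_hclo_1102 : allC (cloChk dD dC dE dCl) 1102 91 = true := by decide +kernel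

set_option maxRecDepth 1000000 in
theorem cls_hclo_1103 : allC (cloChk dD dC dE dCl) 1103 91 = true := by decide +kernel

set_option maxRecDepth 1000000 in
theorem cls_hclo_1104 : allC (cloChk dD dC dE dCl) 1104 91 = true := by decide +kernel

set_option maxRecDepth 1000000 in
theorem cls_hclo_1105 : allC (cloChk dD dC dE dCl) 1105 91 = true := by decide +kernel

set_option maxRecDepth 1000000 in
theorem cls_hclo_1106 : allC (cloChk dD dC dE dCl) 1106 91 = true := by decide +kernel

set_option maxRecDepth 1000000 in
theorem cls_hclo_1107 : allC (cloChk dD dC dE dCl) 1107 91 = true := by decide +kernel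

set_option maxRecDepth 1000000 in
theorem cls_hclo_1108 : allC (cloChk dD dC dE dCl) 1108 91 = true := by decide +kernel

set_option maxRecDepth 1000000 in
theorem cls_hclo_1109 : allC (cloChk dD dC dE dCl) 1109 91 = true := by decide +kernel

set_option maxRecDepth 1000000 in
theorem cls_hclo_1110 : allC (cloChk dD dC dE dCl) 1110 91 = true := by decide +kernel

set_option maxRecDepth 1000000 in
theorem cls_hclo_1111 : allC (cloChk dD dC dE dCl) 1111 91 = true := by decide +kernel

set_option maxRecDepth 1000000 in
theorem cls_hclo_1112 : allC (cloChk dD dC dE dCl) 1112 91 = true := by decide +kernel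

set_option maxRecDepth 1000000 in
theorem cls_hclo_1113 : allC (cloChk dD dC dE dCl) 1113 91 = true := by decide +kernel

set_option maxRecDepth 1000000 in
theorem cls_hclo_1114 : allC (cloChk dD dC dE dCl) 1114 91 = true := by decide +kernel

set_option maxRecDepth 1000000 in
theorem cls_hclo_1115 : allC (cloChk dD dC dE dCl) 1115 91 = true := by decide +kernel

set_option maxRecDepth 1000000 in
theorem cls_hclo_1116 : allC (cloChk dD dC dE dCl) 1116 91 = true := by decide +kernel

set_option maxRecDepth 1000000 in
theorem cls_hclo_1117 : allC (cloChk dD dC dE dCl) 1117 91 = true := by decide +kernel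

set_option maxRecDepth 1000000 in
theorem cls_hclo_1118 : allC (cloChk dD dC dE dCl) 1118 91 = true := by decide +kernel

set_option maxRecDepth 1000000 in
theorem cls_hclo_1119 : allC (cloChk dD dC dE dCl) 1119 91 = true := by decide +kernel

set_option maxRecDepth 1000000 in
theorem cls_hclo_1120 : allC (cloChk dD dC dE dCl) 1120 91 = true := by decide +kernel

set_option maxRecDepth 1000000 in
theorem cls_hclo_1121 : allC (cloChk dD dC dE dCl) 1121 91 = true := by decide +kernel

set_option maxRecDepth 1000000 in
theorem cls_hclo_1122 : allC (cloChk dD dC dE dCl) 1122 91 = true := by decide +kernel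

set_option maxRecDepth 1000000 in
theorem cls_hclo_1123 : allC (cloChk dD dC dE dCl) 1123 91 = true := by decide +kernel

set_option maxRecDepth 1000000 in
theorem cls_hclo_1124 : allC (cloChk dD dC dE dCl) 1124 91 = true := by decide +kernel

set_option maxRecDepth 1000000 in
theorem cls_hclo_1125 : allC (cloChk dD dC dE dCl) 1125 91 = true := by decide +kernel

set_option maxRecDepth 1000000 in
theorem cls_hclo_1126 : allC (cloChk dD dC dE dCl) 1126 91 = true := by decide +kernel

set_option maxRecDepth 1000000 in
theorem cls_hclo_1127 : allC (cloChk dD dC dE dCl) 1127 91 = true := by decide +kernel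

set_option maxRecDepth 1000000 in
theorem cls_hclo_1128 : allC (cloChk dD dC dE dCl) 1128 91 = true := by decide +kernel

set_option maxRecDepth 1000000 in
theorem cls_hclo_1129 : allC (cloChk dD dC dE dCl) 1129 91 = true := by decide +kernel

set_option maxRecDepth 1000000 in
theorem cls_hclo_1130 : allC (cloChk dD dC dE dCl) 1130 91 = true := by decide +kernel

set_option maxRecDepth 1000000 in
theorem cls_hclo_1131 : allC (cloChk dD dC dE dCl) 1131 91 = true := by decide +kernel

set_option maxRecDepth 1000000 in
theorem cls_hclo_1132 : allC (cloChk dD dC dE dCl) 1132 91 = true := by decide +kernel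

set_option maxRecDepth 1000000 in
theorem cls_hclo_1133 : allC (cloChk dD dC dE dCl) 1133 91 = true := by decide +kernel

set_option maxRecDepth 1000000 in
theorem cls_hclo_1134 : allC (cloChk dD dC dE dCl) 1134 91 = true := by decide +kernel

set_option maxRecDepth 1000000 in
theorem cls_hclo_1135 : allC (cloChk dD dC dE dCl) 1135 91 = true := by decide +kernel

set_option maxRecDepth 1000000 in
theorem cls_hclo_1136 : allC (cloChk dD dC dE dCl) 1136 91 = true := by decide +kernel

set_option maxRecDepth 1000000 in
theorem cls_hclo_1137 : allC (cloChk dD dC dE dCl) 1137 91 = true := by decide +kernel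

set_option maxRecDepth 1000000 in
theorem cls_hclo_1138 : allC (cloChk dD dC dE dCl) 1138 91 = true := by decide +kernel

set_option maxRecDepth 1000000 in
theorem cls_hclo_1139 : allC (cloChk dD dC dE dCl) 1139 91 = true := by decide +kernel

set_option maxRecDepth 1000000 in
theorem cls_hclo_1140 : allC (cloChk dD dC dE dCl) 1140 91 = true := by decide +kernel

set_option maxRecDepth 1000000 in
theorem cls_hclo_1141 : allC (cloChk dD dC dE dCl) 1141 91 = true := by decide +kernel

set_option maxRecDepth 1000000 in
theorem cls_hclo_1142 : allC (cloChk dD dC dE dCl) 1142 91 = true := by decide +kernel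

set_option maxRecDepth 1000000 in
theorem cls_hclo_1143 : allC (cloChk dD dC dE dCl) 1143 91 = true := by decide +kernel

set_option maxRecDepth 1000000 in
theorem cls_hclo_1144 : allC (cloChk dD dC dE dCl) 1144 91 = true := by decide +kernel

set_option maxRecDepth 1000000 in
theorem cls_hclo_1145 : allC (cloChk dD dC dE dCl) 1145 91 = true := by decide +kernel

set_option maxRecDepth 1000000 in
theorem cls_hclo_1146 : allC (cloChk dD dC dE dCl) 1146 91 = true := by decide +kernel

set_option maxRecDepth 1000000 in
theorem cls_hclo_1147 : allC (cloChk dD dC dE dCl) 1147 91 = true := by decide +kernel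

set_option maxRecDepth 1000000 in
theorem cls_hclo_1148 : allC (cloChk dD dC dE dCl) 1148 91 = true := by decide +kernel

set_option maxRecDepth 1000000 in
theorem cls_hclo_1149 : allC (cloChk dD dC dE dCl) 1149 91 = true := by decide +kernel

set_option maxRecDepth 1000000 in
theorem cls_hclo_1150 : allC (cloChk dD dC dE dCl) 1150 91 = true := by decide +kernel

set_option maxRecDepth 1000000 in
theorem cls_hclo_1151 : allC (cloChk dD dC dE dCl) 1151 91 = true := by decide +kernel

set_option maxRecDepth 1000000 in
theorem cls_hclo_1152 : allC (cloChk dD dC dE dCl) 1152 91 = true := by decide +kernel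

set_option maxRecDepth 1000000 in
theorem cls_hclo_1153 : allC (cloChk dD dC dE dCl) 1153 91 = true := by decide +kernel

set_option maxRecDepth 1000000 in
theorem cls_hclo_1154 : allC (cloChk dD dC dE dCl) 1154 91 = true := by decide +kernel

set_option maxRecDepth 1000000 in
theorem cls_hclo_1155 : allC (cloChk dD dC dE dCl) 1155 91 = true := by decide +kernel

set_option maxRecDepth 1000000 in
theorem cls_hclo_1156 : allC (cloChk dD dC dE dCl) 1156 91 = true := by decide +kernel

set_option maxRecDepth 1000000 in
theorem cls_hclo_1157 : allC (cloChk dD dC dE dCl) 1157 91 = true := by decide +kernel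

set_option maxRecDepth 1000000 in
theorem cls_hclo_1158 : allC (cloChk dD dC dE dCl) 1158 91 = true := by decide +kernel

set_option maxRecDepth 1000000 in
theorem cls_hclo_1159 : allC (cloChk dD dC dE dCl) 1159 91 = true := by decide +kernel

set_option maxRecDepth 1000000 in
theorem cls_hclo_1160 : allC (cloChk dD dC dE dCl) 1160 91 = true := by decide +kernel

set_option maxRecDepth 1000000 in
theorem cls_hclo_1161 : allC (cloChk dD dC dE dCl) 1161 91 = true := by decide +kernel

set_option maxRecDepth 1000000 in
theorem cls_hclo_1162 : allC (cloChk dD dC dE dCl) 1162 91 = true := by decide +kernel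

set_option maxRecDepth 1000000 in
theorem cls_hclo_1163 : allC (cloChk dD dC dE dCl) 1163 91 = true := by decide +kernel

set_option maxRecDepth 1000000 in
theorem cls_hclo_1164 : allC (cloChk dD dC dE dCl) 1164 91 = true := by decide +kernel

set_option maxRecDepth 1000000 in
theorem cls_hclo_1165 : allC (cloChk dD dC dE dCl) 1165 91 = true := by decide +kernel

set_option maxRecDepth 1000000 in
theorem cls_hclo_1166 : allC (cloChk dD dC dE dCl) 1166 91 = true := by decide +kernel

set_option maxRecDepth 1000000 in
theorem cls_hclo_1167 : allC (cloChk dD dC dE dCl) 1167 91 = true := by decide +kernel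

set_option maxRecDepth 1000000 in
theorem cls_hclo_1168 : allC (cloChk dD dC dE dCl) 1168 91 = true := by decide +kernel

set_option maxRecDepth 1000000 in
theorem cls_hclo_1169 : allC (cloChk dD dC dE dCl) 1169 91 = true := by decide +kernel

set_option maxRecDepth 1000000 in
theorem cls_hclo_1170 : allC (cloChk dD dC dE dCl) 1170 91 = true := by decide +kernel

set_option maxRecDepth 1000000 in
theorem cls_hclo_1171 : allC (cloChk dD dC dE dCl) 1171 91 = true := by decide +kernel

set_option maxRecDepth 1000000 in
theorem cls_hclo_1172 : allC (cloChk dD dC dE dCl) 1172 91 = true := by decide +kernel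

set_option maxRecDepth 1000000 in
theorem cls_hclo_1173 : allC (cloChk dD dC dE dCl) 1173 91 = true := by decide +kernel

set_option maxRecDepth 1000000 in
theorem cls_hclo_1174 : allC (cloChk dD dC dE dCl) 1174 91 = true := by decide +kernel

set_option maxRecDepth 1000000 in
theorem cls_hclo_1175 : allC (cloChk dD dC dE dCl) 1175 91 = true := by decide +kernel

set_option maxRecDepth 1000000 in
theorem cls_hclo_1176 : allC (cloChk dD dC dE dCl) 1176 91 = true := by decide +kernel

set_option maxRecDepth 1000000 in
theorem cls_hclo_1177 : allC (cloChk dD dC dE dCl) 1177 91 = true := by decide +kernel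

set_option maxRecDepth 1000000 in
theorem cls_hclo_1178 : allC (cloChk dD dC dE dCl) 1178 91 = true := by decide +kernel

set_option maxRecDepth 1000000 in
theorem cls_hclo_1179 : allC (cloChk dD dC dE dCl) 1179 91 = true := by decide +kernel

set_option maxRecDepth 1000000 in
theorem cls_hclo_1180 : allC (cloChk dD dC dE dCl) 1180 91 = true := by decide +kernel

set_option maxRecDepth 1000000 in
theorem cls_hclo_1181 : allC (cloChk dD dC dE dCl) 1181 91 = true := by decide +kernel

set_option maxRecDepth 1000000 in
theorem cls_hclo_1182 : allC (cloChk dD dC dE dCl) 1182 91 = true := by decide +kernel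

set_option maxRecDepth 1000000 in
theorem cls_hclo_1183 : allC (cloChk dD dC dE dCl) 1183 91 = true := by decide +kernel

set_option maxRecDepth 1000000 in
theorem cls_hclo_1184 : allC (cloChk dD dC dE dCl) 1184 91 = true := by decide +kernel

set_option maxRecDepth 1000000 in
theorem cls_hclo_1185 : allC (cloChk dD dC dE dCl) 1185 91 = true := by decide +kernel

set_option maxRecDepth 1000000 in
theorem cls_hclo_1186 : allC (cloChk dD dC dE dCl) 1186 91 = true := by decide +kernel

set_option maxRecDepth 1000000 in
theorem cls_hclo_1187 : allC (cloChk dD dC dE dCl) 1187 91 = true := by decide +kernel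

set_option maxRecDepth 1000000 in
theorem cls_hclo_1188 : allC (cloChk dD dC dE dCl) 1188 91 = true := by decide +kernel

set_option maxRecDepth 1000000 in
theorem cls_hclo_1189 : allC (cloChk dD dC dE dCl) 1189 91 = true := by decide +kernel

set_option maxRecDepth 1000000 in
theorem cls_hclo_1190 : allC (cloChk dD dC dE dCl) 1190 91 = true := by decide +kernel

set_option maxRecDepth 1000000 in
theorem cls_hclo_1191 : allC (cloChk dD dC dE dCl) 1191 91 = true := by decide +kernel

set_option maxRecDepth 1000000 in
theorem cls_hclo_1192 : allC (cloChk dD dC dE dCl) 1192 91 = true := by decide +kernel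

set_option maxRecDepth 1000000 in
theorem cls_hclo_1193 : allC (cloChk dD dC dE dCl) 1193 91 = true := by decide +kernel

set_option maxRecDepth 1000000 in
theorem cls_hclo_1194 : allC (cloChk dD dC dE dCl) 1194 91 = true := by decide +kernel

set_option maxRecDepth 1000000 in
theorem cls_hclo_1195 : allC (cloChk dD dC dE dCl) 1195 91 = true := by decide +kernel

set_option maxRecDepth 1000000 in
theorem cls_hclo_1196 : allC (cloChk dD dC dE dCl) 1196 91 = true := by decide +kernel

set_option maxRecDepth 1000000 in
theorem cls_hclo_1197 : allC (cloChk dD dC dE dCl) 1197 91 = true := by decide +kernel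

set_option maxRecDepth 1000000 in
theorem cls_hclo_1198 : allC (cloChk dD dC dE dCl) 1198 91 = true := by decide +kernel

set_option maxRecDepth 1000000 in
theorem cls_hclo_1199 : allC (cloChk dD dC dE dCl) 1199 91 = true := by decide +kernel

end Cfsg.Agent.Helper9.RuO

end
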