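import Mathlib
import Cfsg.Agent.Helper9.RuO.Data

set_option autoImplicit false

/-! Kernel checks of the certificates, a part. -/

noncomputable section

namespace Cfsg.Agent.Helper9.RuO

open Cfsg.Agent.Helper9.OutG Cfsg.Agent.Helper9.J3

set_option maxRecDepth 1000000 in
theorem cls_hclo_1200 : allC (cloChk dD dC dE dCl) 1200 91 = true := by decide +kernel

set_option maxRecDepth 1000000 in
theorem cls_hclo_1201 : allC (cloChk dD dC dE dCl) 1201 91 = true := by decide +kernel

set_option maxRecDepth 1000000 in
theorem cls_hclo_1202 : allC (cloChk dD dC dE dCl) 1202 91 = true := by decide +kernel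

set_option maxRecDepth 1000000 in
theorem cls_hclo_1203 : allC (cloChk dD dC dE dCl) 1203 91 = true := by decide +kernel

set_option maxRecDepth 1000000 in
theorem cls_hclo_1204 : allC (cloChk dD dC dE dCl) 1204 91 = true := by decide +kernel

set_option maxRecDepth 1000000 in
theorem cls_hclo_1205 : allC (cloChk dD dC dE dCl) 1205 91 = true := by decide +kernel

set_option maxRecDepth 1000000 in
theorem cls_hclo_1206 : allC (cloChk dD dC dE dCl) 1206 91 = true := by decide +kernel

set_option maxRecDepth 1000000 in
theorem cls_hclo_1207 : allC (cloChk dD dC dE dCl) 1207 91 = true := by decide +kernel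

set_option maxRecDepth 1000000 in
theorem cls_hclo_1208 : allC (cloChk dD dC dE dCl) 1208 91 = true := by decide +kernel

set_option maxRecDepth 1000000 in
theorem cls_hclo_1209 : allC (cloChk dD dC dE dCl) 1209 91 = true := by decide +kernel

set_option maxRecDepth 1000000 in
theorem cls_hclo_1210 : allC (cloChk dD dC dE dCl) 1210 91 = true := by decide +kernel

set_option maxRecDepth 1000000 in
theorem cls_hclo_1211 : allC (cloChk dD dC dE dCl) 1211 91 = true := by decide +kernel

set_option maxRecDepth 1000000 in
theorem cls_hclo_1212 : allC (cloChk dD dC dE dCl) 1212 91 = true := by decide +kernel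

set_option maxRecDepth 1000000 in
theorem cls_hclo_1213 : allC (cloChk dD dC dE dCl) 1213 91 = true := by decide +kernel

set_option maxRecDepth 1000000 in
theorem cls_hclo_1214 : allC (cloChk dD dC dE dCl) 1214 91 = true := by decide +kernel

set_option maxRecDepth 1000000 in
theorem cls_hclo_1215 : allC (cloChk dD dC dE dCl) 1215 91 = true := by decide +kernel

set_option maxRecDepth 1000000 in
theorem cls_hclo_1216 : allC (cloChk dD dC dE dCl) 1216 91 = true := by decide +kernel

set_option maxRecDepth 1000000 in
theorem cls_hclo_1217 : allC (cloChk dD dC dE dCl) 1217 91 = true := by decide +kernel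

set_option maxRecDepth 1000000 in
theorem cls_hclo_1218 : allC (cloChk dD dC dE dCl) 1218 91 = true := by decide +kernel

set_option maxRecDepth 1000000 in
theorem cls_hclo_1219 : allC (cloChk dD dC dE dCl) 1219 91 = true := by decide +kernel

set_option maxRecDepth 1000000 in
theorem cls_hclo_1220 : allC (cloChk dD dC dE dCl) 1220 91 = true := by decide +kernel

set_option maxRecDepth 1000000 in
theorem cls_hclo_1221 : allC (cloChk dD dC dE dCl) 1221 91 = true := by decide +kernel

set_option maxRecDepth 1000000 in
theorem cls_hclo_1222 : allC (cloChk dD dC dE dCl) 1222 91 = true := by decide +kernel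

set_option maxRecDepth 1000000 in
theorem cls_hclo_1223 : allC (cloChk dD dC dE dCl) 1223 91 = true := by decide +kernel

set_option maxRecDepth 1000000 in
theorem cls_hclo_1224 : allC (cloChk dD dC dE dCl) 1224 91 = true := by decide +kernel

set_option maxRecDepth 1000000 in
theorem cls_hclo_1225 : allC (cloChk dD dC dE dCl) 1225 91 = true := by decide +kernel

set_option maxRecDepth 1000000 in
theorem cls_hclo_1226 : allC (cloChk dD dC dE dCl) 1226 91 = true := by decide +kernel

set_option maxRecDepth 1000000 in
theorem cls_hclo_1227 : allC (cloChk dD dC dE dCl) 1227 91 = true := by decide +kernel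

set_option maxRecDepth 1000000 in
theorem cls_hclo_1228 : allC (cloChk dD dC dE dCl) 1228 91 = true := by decide +kernel

set_option maxRecDepth 1000000 in
theorem cls_hclo_1229 : allC (cloChk dD dC dE dCl) 1229 91 = true := by decide +kernel

set_option maxRecDepth 1000000 in
theorem cls_hclo_1230 : allC (cloChk dD dC dE dCl) 1230 91 = true := by decide +kernel

set_option maxRecDepth 1000000 in
theorem cls_hclo_1231 : allC (cloChk dD dC dE dCl) 1231 91 = true := by decide +kernel

set_option maxRecDepth 1000000 in
theorem cls_hclo_1232 : allC (cloChk dD dC dE dCl) 1232 91 = true := by decide +kernel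

set_option maxRecDepth 1000000 in
theorem cls_hclo_1233 : allC (cloChk dD dC dE dCl) 1233 91 = true := by decide +kernel

set_option maxRecDepth 1000000 in
theorem cls_hclo_1234 : allC (cloChk dD dC dE dCl) 1234 91 = true := by decide +kernel

set_option maxRecDepth 1000000 in
theorem cls_hclo_1235 : allC (cloChk dD dC dE dCl) 1235 91 = true := by decide +kernel

set_option maxRecDepth 1000000 in
theorem cls_hclo_1236 : allC (cloChk dD dC dE dCl) 1236 91 = true := by decide +kernel

set_option maxRecDepth 1000000 in
theorem cls_hclo_1237 : allC (cloChk dD dC dE dCl) 1237 91 = true := by decide +kernel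

set_option maxRecDepth 1000000 in
theorem cls_hclo_1238 : allC (cloChk dD dC dE dCl) 1238 91 = true := by decide +kernel

set_option maxRecDepth 1000000 in
theorem cls_hclo_1239 : allC (cloChk dD dC dE dCl) 1239 91 = true := by decide +kernel

set_option maxRecDepth 1000000 in
theorem cls_hclo_1240 : allC (cloChk dD dC dE dCl) 1240 91 = true := by decide +kernel

set_option maxRecDepth 1000000 in
theorem cls_hclo_1241 : allC (cloChk dD dC dE dCl) 1241 91 = true := by decide +kernel

set_option maxRecDepth 1000000 in
theorem cls_hclo_1242 : allC (cloChk dD dC dE dCl) 1242 91 = true := by decide +kernel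

set_option maxRecDepth 1000000 in
theorem cls_hclo_1243 : allC (cloChk dD dC dE dCl) 1243 91 = true := by decide +kernel

set_option maxRecDepth 1000000 in
theorem cls_hclo_1244 : allC (cloChk dD dC dE dCl) 1244 91 = true := by decide +kernel

set_option maxRecDepth 1000000 in
theorem cls_hclo_1245 : allC (cloChk dD dC dE dCl) 1245 91 = true := by decide +kernel

set_option maxRecDepth 1000000 in
theorem cls_hclo_1246 : allC (cloChk dD dC dE dCl) 1246 91 = true := by decide +kernel

set_option maxRecDepth 1000000 in
theorem cls_hclo_1247 : allC (cloChk dD dC dE dCl) 1247 91 = true := by decide +kernel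

set_option maxRecDepth 1000000 in
theorem cls_hclo_1248 : allC (cloChk dD dC dE dCl) 1248 91 = true := by decide +kernel

set_option maxRecDepth 1000000 in
theorem cls_hclo_1249 : allC (cloChk dD dC dE dCl) 1249 91 = true := by decide +kernel

set_option maxRecDepth 1000000 in
theorem cls_hclo_1250 : allC (cloChk dD dC dE dCl) 1250 91 = true := by decide +kernel

set_option maxRecDepth 1000000 in
theorem cls_hclo_1251 : allC (cloChk dD dC dE dCl) 1251 91 = true := by decide +kernel

set_option maxRecDepth 1000000 in
theorem cls_hclo_1252 : allC (cloChk dD dC dE dCl) 1252 91 = true := by decide +kernel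

set_option maxRecDepth 1000000 in
theorem cls_hclo_1253 : allC (cloChk dD dC dE dCl) 1253 91 = true := by decide +kernel

set_option maxRecDepth 1000000 in
theorem cls_hclo_1254 : allC (cloChk dD dC dE dCl) 1254 91 = true := by decide +kernel

set_option maxRecDepth 1000000 in
theorem cls_hclo_1255 : allC (cloChk dD dC dE dCl) 1255 91 = true := by decide +kernel

set_option maxRecDepth 1000000 in
theorem cls_hclo_1256 : allC (cloChk dD dC dE dCl) 1256 91 = true := by decide +kernel

set_option maxRecDepth 1000000 in
theorem cls_hclo_1257 : allC (cloChk dD dC dE dCl) 1257 91 = true := by decide +kernel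

set_option maxRecDepth 1000000 in
theorem cls_hclo_1258 : allC (cloChk dD dC dE dCl) 1258 91 = true := by decide +kernel

set_option maxRecDepth 1000000 in
theorem cls_hclo_1259 : allC (cloChk dD dC dE dCl) 1259 91 = true := by decide +kernel

set_option maxRecDepth 1000000 in
theorem cls_hclo_1260 : allC (cloChk dD dC dE dCl) 1260 91 = true := by decide +kernel

set_option maxRecDepth 1000000 in
theorem cls_hclo_1261 : allC (cloChk dD dC dE dCl) 1261 91 = true := by decide +kernel

set_option maxRecDepth 1000000 in
theorem cls_hclo_1262 : allC (cloChk dD dC dE dCl) 1262 91 = true := by decide +kernel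

set_option maxRecDepth 1000000 in
theorem cls_hclo_1263 : allC (cloChk dD dC dE dCl) 1263 91 = true := by decide +kernel

set_option maxRecDepth 1000000 in
theorem cls_hclo_1264 : allC (cloChk dD dC dE dCl) 1264 91 = true := by decide +kernel

set_option maxRecDepth 1000000 in
theorem cls_hclo_1265 : allC (cloChk dD dC dE dCl) 1265 91 = true := by decide +kernel

set_option maxRecDepth 1000000 in
theorem cls_hclo_1266 : allC (cloChk dD dC dE dCl) 1266 91 = true := by decide +kernel

set_option maxRecDepth 1000000 in
theorem cls_hclo_1267 : allC (cloChk dD dC dE dCl) 1267 91 = true := by decide +kernel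

set_option maxRecDepth 1000000 in
theorem cls_hclo_1268 : allC (cloChk dD dC dE dCl) 1268 91 = true := by decide +kernel

set_option maxRecDepth 1000000 in
theorem cls_hclo_1269 : allC (cloChk dD dC dE dCl) 1269 91 = true := by decide +kernel

set_option maxRecDepth 1000000 in
theorem cls_hclo_1270 : allC (cloChk dD dC dE dCl) 1270 91 = true := by decide +kernel

set_option maxRecDepth 1000000 in
theorem cls_hclo_1271 : allC (cloChk dD dC dE dCl) 1271 91 = true := by decide +kernel

set_option maxRecDepth 1000000 in
theorem cls_hclo_1272 : allC (cloChk dD dC dE dCl) 1272 91 = true := by decide +kernel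

set_option maxRecDepth 1000000 in
theorem cls_hclo_1273 : allC (cloChk dD dC dE dCl) 1273 91 = true := by decide +kernel

set_option maxRecDepth 1000000 in
theorem cls_hclo_1274 : allC (cloChk dD dC dE dCl) 1274 91 = true := by decide +kernel

set_option maxRecDepth 1000000 in
theorem cls_hclo_1275 : allC (cloChk dD dC dE dCl) 1275 91 = true := by decide +kernel

set_option maxRecDepth 1000000 in
theorem cls_hclo_1276 : allC (cloChk dD dC dE dCl) 1276 91 = true := by decide +kernel

set_option maxRecDepth 1000000 in
theorem cls_hclo_1277 : allC (cloChk dD dC dE dCl) 1277 91 = true := by decide +kernel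

set_option maxRecDepth 1000000 in
theorem cls_hclo_1278 : allC (cloChk dD dC dE dCl) 1278 91 = true := by decide +kernel

set_option maxRecDepth 1000000 in
theorem cls_hclo_1279 : allC (cloChk dD dC dE dCl) 1279 91 = true := by decide +kernel

set_option maxRecDepth 1000000 in
theorem cls_hclo_1280 : allC (cloChk dD dC dE dCl) 1280 91 = true := by decide +kernel

set_option maxRecDepth 1000000 in
theorem cls_hclo_1281 : allC (cloChk dD dC dE dCl) 1281 91 = true := by decide +kernel

set_option maxRecDepth 1000000 in
theorem cls_hclo_1282 : allC (cloChk dD dC dE dCl) 1282 91 = true := by decide +kernel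

set_option maxRecDepth 1000000 in
theorem cls_hclo_1283 : allC (cloChk dD dC dE dCl) 1283 91 = true := by decide +kernel

set_option maxRecDepth 1000000 in
theorem cls_hclo_1284 : allC (cloChk dD dC dE dCl) 1284 91 = true := by decide +kernel

set_option maxRecDepth 1000000 in
theorem cls_hclo_1285 : allC (cloChk dD dC dE dCl) 1285 91 = true := by decide +kernel

set_option maxRecDepth 1000000 in
theorem cls_hclo_1286 : allC (cloChk dD dC dE dCl) 1286 91 = true := by decide +kernel

set_option maxRecDepth 1000000 in
theorem cls_hclo_1287 : allC (cloChk dD dC dE dCl) 1287 91 = true := by decide +kernel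

set_option maxRecDepth 1000000 in
theorem cls_hclo_1288 : allC (cloChk dD dC dE dCl) 1288 91 = true := by decide +kernel

set_option maxRecDepth 1000000 in
theorem cls_hclo_1289 : allC (cloChk dD dC dE dCl) 1289 91 = true := by decide +kernel

set_option maxRecDepth 1000000 in
theorem cls_hclo_1290 : allC (cloChk dD dC dE dCl) 1290 91 = true := by decide +kernel

set_option maxRecDepth 1000000 in
theorem cls_hclo_1291 : allC (cloChk dD dC dE dCl) 1291 91 = true := by decide +kernel

set_option maxRecDepth 1000000 in
theorem cls_hclo_1292 : allC (cloChk dD dC dE dCl) 1292 91 = true := by decide +kernel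

set_option maxRecDepth 1000000 in
theorem cls_hclo_1293 : allC (cloChk dD dC dE dCl) 1293 91 = true := by decide +kernel

set_option maxRecDepth 1000000 in
theorem cls_hclo_1294 : allC (cloChk dD dC dE dCl) 1294 91 = true := by decide +kernel

set_option maxRecDepth 1000000 in
theorem cls_hclo_1295 : allC (cloChk dD dC dE dCl) 1295 91 = true := by decide +kernel

set_option maxRecDepth 1000000 in
theorem cls_hclo_1296 : allC (cloChk dD dC dE dCl) 1296 91 = true := by decide +kernel

set_option maxRecDepth 1000000 in
theorem cls_hclo_1297 : allC (cloChk dD dC dE dCl) 1297 91 = true := by decide +kernel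

set_option maxRecDepth 1000000 in
theorem cls_hclo_1298 : allC (cloChk dD dC dE dCl) 1298 91 = true := by decide +kernel

set_option maxRecDepth 1000000 in
theorem cls_hclo_1299 : allC (cloChk dD dC dE dCl) 1299 91 = true := by decide +kernel

end Cfsg.Agent.Helper9.RuO

end
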