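import Mathlib
import Cfsg.Agent.Helper9.RuO.Data

set_option autoImplicit false

/-! Kernel checks of the certificates, a part. -/

noncomputable section

namespace Cfsg.Agent.Helper9.RuO

open Cfsg.Agent.Helper9.OutG Cfsg.Agent.Helper9.J3

set_option maxRecDepth 1000000 in
theorem cls_hclo_1300 : allC (cloChk dD dC dE dCl) 1300 91 = true := by decide +kernel

set_option maxRecDepth 1000000 in
theorem cls_hclo_1301 : allC (cloChk dD dC dE dCl) 1301 91 = true := by decide +kernel

set_option maxRecDepth 1000000 in
theorem cls_hclo_1302 : allC (cloChk dD dC dE dCl) 1302 91 = true := by decide +kernel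

set_option maxRecDepth 1000000 in
theorem cls_hclo_1303 : allC (cloChk dD dC dE dCl) 1303 91 = true := by decide +kernel

set_option maxRecDepth 1000000 in
theorem cls_hclo_1304 : allC (cloChk dD dC dE dCl) 1304 91 = true := by decide +kernel

set_option maxRecDepth 1000000 in
theorem cls_hclo_1305 : allC (cloChk dD dC dE dCl) 1305 91 = true := by decide +kernel

set_option maxRecDepth 1000000 in
theorem cls_hclo_1306 : allC (cloChk dD dC dE dCl) 1306 91 = true := by decide +kernel

set_option maxRecDepth 1000000 in
theorem cls_hclo_1307 : allC (cloChk dD dC dE dCl) 1307 91 = true := by decide +kernel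

set_option maxRecDepth 1000000 in
theorem cls_hclo_1308 : allC (cloChk dD dC dE dCl) 1308 91 = true := by decide +kernel

set_option maxRecDepth 1000000 in
theorem cls_hclo_1309 : allC (cloChk dD dC dE dCl) 1309 91 = true := by decide +kernel

set_option maxRecDepth 1000000 in
theorem cls_hclo_1310 : allC (cloChk dD dC dE dCl) 1310 91 = true := by decide +kernel

set_option maxRecDepth 1000000 in
theorem cls_hclo_1311 : allC (cloChk dD dC dE dCl) 1311 91 = true := by decide +kernel

set_option maxRecDepth 1000000 in
theorem cls_hclo_1312 : allC (cloChk dD dC dE dCl) 1312 91 = true := by decide +kernel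

set_option maxRecDepth 1000000 in
theorem cls_hclo_1313 : allC (cloChk dD dC dE dCl) 1313 91 = true := by decide +kernel

set_option maxRecDepth 1000000 in
theorem cls_hclo_1314 : allC (cloChk dD dC dE dCl) 1314 91 = true := by decide +kernel

set_option maxRecDepth 1000000 in
theorem cls_hclo_1315 : allC (cloChk dD dC dE dCl) 1315 91 = true := by decide +kernel

set_option maxRecDepth 1000000 in
theorem cls_hclo_1316 : allC (cloChk dD dC dE dCl) 1316 91 = true := by decide +kernel

set_option maxRecDepth 1000000 in
theorem cls_hclo_1317 : allC (cloChk dD dC dE dCl) 1317 91 = true := by decide +kernel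

set_option maxRecDepth 1000000 in
theorem cls_hclo_1318 : allC (cloChk dD dC dE dCl) 1318 91 = true := by decide +kernel

set_option maxRecDepth 1000000 in
theorem cls_hclo_1319 : allC (cloChk dD dC dE dCl) 1319 91 = true := by decide +kernel

set_option maxRecDepth 1000000 in
theorem cls_hclo_1320 : allC (cloChk dD dC dE dCl) 1320 91 = true := by decide +kernel

set_option maxRecDepth 1000000 in
theorem cls_hclo_1321 : allC (cloChk dD dC dE dCl) 1321 91 = true := by decide +kernel

set_option maxRecDepth 1000000 in
theorem cls_hclo_1322 : allC (cloChk dD dC dE dCl) 1322 91 = true := by decide +kernel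

set_option maxRecDepth 1000000 in
theorem cls_hclo_1323 : allC (cloChk dD dC dE dCl) 1323 91 = true := by decide +kernel

set_option maxRecDepth 1000000 in
theorem cls_hclo_1324 : allC (cloChk dD dC dE dCl) 1324 91 = true := by decide +kernel

set_option maxRecDepth 1000000 in
theorem cls_hclo_1325 : allC (cloChk dD dC dE dCl) 1325 91 = true := by decide +kernel

set_option maxRecDepth 1000000 in
theorem cls_hclo_1326 : allC (cloChk dD dC dE dCl) 1326 91 = true := by decide +kernel

set_option maxRecDepth 1000000 in
theorem cls_hclo_1327 : allC (cloChk dD dC dE dCl) 1327 91 = true := by decide +kernel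

set_option maxRecDepth 1000000 in
theorem cls_hclo_1328 : allC (cloChk dD dC dE dCl) 1328 91 = true := by decide +kernel

set_option maxRecDepth 1000000 in
theorem cls_hclo_1329 : allC (cloChk dD dC dE dCl) 1329 91 = true := by decide +kernel

set_option maxRecDepth 1000000 in
theorem cls_hclo_1330 : allC (cloChk dD dC dE dCl) 1330 91 = true := by decide +kernel

set_option maxRecDepth 1000000 in
theorem cls_hclo_1331 : allC (cloChk dD dC dE dCl) 1331 91 = true := by decide +kernel

set_option maxRecDepth 1000000 in
theorem cls_hclo_1332 : allC (cloChk dD dC dE dCl) 1332 91 = true := by decide +kernel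

set_option maxRecDepth 1000000 in
theorem cls_hclo_1333 : allC (cloChk dD dC dE dCl) 1333 91 = true := by decide +kernel

set_option maxRecDepth 1000000 in
theorem cls_hclo_1334 : allC (cloChk dD dC dE dCl) 1334 91 = true := by decide +kernel

set_option maxRecDepth 1000000 in
theorem cls_hclo_1335 : allC (cloChk dD dC dE dCl) 1335 91 = true := by decide +kernel

set_option maxRecDepth 1000000 in
theorem cls_hclo_1336 : allC (cloChk dD dC dE dCl) 1336 91 = true := by decide +kernel

set_option maxRecDepth 1000000 in
theorem cls_hclo_1337 : allC (cloChk dD dC dE dCl) 1337 91 = true := by decide +kernel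

set_option maxRecDepth 1000000 in
theorem cls_hclo_1338 : allC (cloChk dD dC dE dCl) 1338 91 = true := by decide +kernel

set_option maxRecDepth 1000000 in
theorem cls_hclo_1339 : allC (cloChk dD dC dE dCl) 1339 91 = true := by decide +kernel

set_option maxRecDepth 1000000 in
theorem cls_hclo_1340 : allC (cloChk dD dC dE dCl) 1340 91 = true := by decide +kernel

set_option maxRecDepth 1000000 in
theorem cls_hclo_1341 : allC (cloChk dD dC dE dCl) 1341 91 = true := by decide +kernel

set_option maxRecDepth 1000000 in
theorem cls_hclo_1342 : allC (cloChk dD dC dE dCl) 1342 91 = true := by decide +kernel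

set_option maxRecDepth 1000000 in
theorem cls_hclo_1343 : allC (cloChk dD dC dE dCl) 1343 91 = true := by decide +kernel

set_option maxRecDepth 1000000 in
theorem cls_hclo_1344 : allC (cloChk dD dC dE dCl) 1344 91 = true := by decide +kernel

set_option maxRecDepth 1000000 in
theorem cls_hclo_1345 : allC (cloChk dD dC dE dCl) 1345 91 = true := by decide +kernel

set_option maxRecDepth 1000000 in
theorem cls_hclo_1346 : allC (cloChk dD dC dE dCl) 1346 91 = true := by decide +kernel

set_option maxRecDepth 1000000 in
theorem cls_hclo_1347 : allC (cloChk dD dC dE dCl) 1347 91 = true := by decide +kernel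

set_option maxRecDepth 1000000 in
theorem cls_hclo_1348 : allC (cloChk dD dC dE dCl) 1348 91 = true := by decide +kernel

set_option maxRecDepth 1000000 in
theorem cls_hclo_1349 : allC (cloChk dD dC dE dCl) 1349 91 = true := by decide +kernel

set_option maxRecDepth 1000000 in
theorem cls_hclo_1350 : allC (cloChk dD dC dE dCl) 1350 91 = true := by decide +kernel

set_option maxRecDepth 1000000 in
theorem cls_hclo_1351 : allC (cloChk dD dC dE dCl) 1351 91 = true := by decide +kernel

set_option maxRecDepth 1000000 in
theorem cls_hclo_1352 : allC (cloChk dD dC dE dCl) 1352 91 = true := by decide +kernel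

set_option maxRecDepth 1000000 in
theorem cls_hclo_1353 : allC (cloChk dD dC dE dCl) 1353 91 = true := by decide +kernel

set_option maxRecDepth 1000000 in
theorem cls_hclo_1354 : allC (cloChk dD dC dE dCl) 1354 91 = true := by decide +kernel

set_option maxRecDepth 1000000 in
theorem cls_hclo_1355 : allC (cloChk dD dC dE dCl) 1355 91 = true := by decide +kernel

set_option maxRecDepth 1000000 in
theorem cls_hclo_1356 : allC (cloChk dD dC dE dCl) 1356 91 = true := by decide +kernel

set_option maxRecDepth 1000000 in
theorem cls_hclo_1357 : allC (cloChk dD dC dE dCl) 1357 91 = true := by decide +kernel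

set_option maxRecDepth 1000000 in
theorem cls_hclo_1358 : allC (cloChk dD dC dE dCl) 1358 91 = true := by decide +kernel

set_option maxRecDepth 1000000 in
theorem cls_hclo_1359 : allC (cloChk dD dC dE dCl) 1359 91 = true := by decide +kernel

set_option maxRecDepth 1000000 in
theorem cls_hclo_1360 : allC (cloChk dD dC dE dCl) 1360 91 = true := by decide +kernel

set_option maxRecDepth 1000000 in
theorem cls_hclo_1361 : allC (cloChk dD dC dE dCl) 1361 91 = true := by decide +kernel

set_option maxRecDepth 1000000 in
theorem cls_hclo_1362 : allC (cloChk dD dC dE dCl) 1362 91 = true := by decide +kernel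

set_option maxRecDepth 1000000 in
theorem cls_hclo_1363 : allC (cloChk dD dC dE dCl) 1363 91 = true := by decide +kernel

set_option maxRecDepth 1000000 in
theorem cls_hclo_1364 : allC (cloChk dD dC dE dCl) 1364 91 = true := by decide +kernel

set_option maxRecDepth 1000000 in
theorem cls_hclo_1365 : allC (cloChk dD dC dE dCl) 1365 91 = true := by decide +kernel

set_option maxRecDepth 1000000 in
theorem cls_hclo_1366 : allC (cloChk dD dC dE dCl) 1366 91 = true := by decide +kernel

set_option maxRecDepth 1000000 in
theorem cls_hclo_1367 : allC (cloChk dD dC dE dCl) 1367 91 = true := by decide +kernel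

set_option maxRecDepth 1000000 in
theorem cls_hclo_1368 : allC (cloChk dD dC dE dCl) 1368 91 = true := by decide +kernel

set_option maxRecDepth 1000000 in
theorem cls_hclo_1369 : allC (cloChk dD dC dE dCl) 1369 91 = true := by decide +kernel

set_option maxRecDepth 1000000 in
theorem cls_hclo_1370 : allC (cloChk dD dC dE dCl) 1370 91 = true := by decide +kernel

set_option maxRecDepth 1000000 in
theorem cls_hclo_1371 : allC (cloChk dD dC dE dCl) 1371 91 = true := by decide +kernel

set_option maxRecDepth 1000000 in
theorem cls_hclo_1372 : allC (cloChk dD dC dE dCl) 1372 91 = true := by decide +kernel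

set_option maxRecDepth 1000000 in
theorem cls_hclo_1373 : allC (cloChk dD dC dE dCl) 1373 91 = true := by decide +kernel

set_option maxRecDepth 1000000 in
theorem cls_hclo_1374 : allC (cloChk dD dC dE dCl) 1374 91 = true := by decide +kernel

set_option maxRecDepth 1000000 in
theorem cls_hclo_1375 : allC (cloChk dD dC dE dCl) 1375 91 = true := by decide +kernel

set_option maxRecDepth 1000000 in
theorem cls_hclo_1376 : allC (cloChk dD dC dE dCl) 1376 91 = true := by decide +kernel

set_option maxRecDepth 1000000 in
theorem cls_hclo_1377 : allC (cloChk dD dC dE dCl) 1377 91 = true := by decide +kernel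

set_option maxRecDepth 1000000 in
theorem cls_hclo_1378 : allC (cloChk dD dC dE dCl) 1378 91 = true := by decide +kernel

set_option maxRecDepth 1000000 in
theorem cls_hclo_1379 : allC (cloChk dD dC dE dCl) 1379 91 = true := by decide +kernel

set_option maxRecDepth 1000000 in
theorem cls_hclo_1380 : allC (cloChk dD dC dE dCl) 1380 91 = true := by decide +kernel

set_option maxRecDepth 1000000 in
theorem cls_hclo_1381 : allC (cloChk dD dC dE dCl) 1381 91 = true := by decide +kernel

set_option maxRecDepth 1000000 in
theorem cls_hclo_1382 : allC (cloChk dD dC dE dCl) 1382 91 = true := by decide +kernel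

set_option maxRecDepth 1000000 in
theorem cls_hclo_1383 : allC (cloChk dD dC dE dCl) 1383 91 = true := by decide +kernel

set_option maxRecDepth 1000000 in
theorem cls_hclo_1384 : allC (cloChk dD dC dE dCl) 1384 91 = true := by decide +kernel

set_option maxRecDepth 1000000 in
theorem cls_hclo_1385 : allC (cloChk dD dC dE dCl) 1385 91 = true := by decide +kernel

set_option maxRecDepth 1000000 in
theorem cls_hclo_1386 : allC (cloChk dD dC dE dCl) 1386 91 = true := by decide +kernel

set_option maxRecDepth 1000000 in
theorem cls_hclo_1387 : allC (cloChk dD dC dE dCl) 1387 91 = true := by decide +kernel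

set_option maxRecDepth 1000000 in
theorem cls_hclo_1388 : allC (cloChk dD dC dE dCl) 1388 91 = true := by decide +kernel

set_option maxRecDepth 1000000 in
theorem cls_hclo_1389 : allC (cloChk dD dC dE dCl) 1389 91 = true := by decide +kernel

set_option maxRecDepth 1000000 in
theorem cls_hclo_1390 : allC (cloChk dD dC dE dCl) 1390 91 = true := by decide +kernel

set_option maxRecDepth 1000000 in
theorem cls_hclo_1391 : allC (cloChk dD dC dE dCl) 1391 91 = true := by decide +kernel

set_option maxRecDepth 1000000 in
theorem cls_hclo_1392 : allC (cloChk dD dC dE dCl) 1392 91 = true := by decide +kernel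

set_option maxRecDepth 1000000 in
theorem cls_hclo_1393 : allC (cloChk dD dC dE dCl) 1393 91 = true := by decide +kernel

set_option maxRecDepth 1000000 in
theorem cls_hclo_1394 : allC (cloChk dD dC dE dCl) 1394 91 = true := by decide +kernel

set_option maxRecDepth 1000000 in
theorem cls_hclo_1395 : allC (cloChk dD dC dE dCl) 1395 91 = true := by decide +kernel

set_option maxRecDepth 1000000 in
theorem cls_hclo_1396 : allC (cloChk dD dC dE dCl) 1396 91 = true := by decide +kernel

set_option maxRecDepth 1000000 in
theorem cls_hclo_1397 : allC (cloChk dD dC dE dCl) 1397 91 = true := by decide +kernel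

set_option maxRecDepth 1000000 in
theorem cls_hclo_1398 : allC (cloChk dD dC dE dCl) 1398 91 = true := by decide +kernel

set_option maxRecDepth 1000000 in
theorem cls_hclo_1399 : allC (cloChk dD dC dE dCl) 1399 91 = true := by decide +kernel

end Cfsg.Agent.Helper9.RuO

end
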