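import Mathlib
import Cfsg.Agent.Helper9.RuO.Data

set_option autoImplicit false

/-! Kernel checks of the certificates, a part. -/

noncomputable section

namespace Cfsg.Agent.Helper9.RuO

open Cfsg.Agent.Helper9.OutG Cfsg.Agent.Helper9.J3

set_option maxRecDepth 1000000 in
theorem cls_hclo_1400 : allC (cloChk dD dC dE dCl) 1400 91 = true := by decide +kernel

set_option maxRecDepth 1000000 in
theorem cls_hclo_1401 : allC (cloChk dD dC dE dCl) 1401 91 = true := by decide +kernel

set_option maxRecDepth 1000000 in
theorem cls_hclo_1402 : allC (cloChk dD dC dE dCl) 1402 91 = true := by decide +kernel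

set_option maxRecDepth 1000000 in
theorem cls_hclo_1403 : allC (cloChk dD dC dE dCl) 1403 91 = true := by decide +kernel

set_option maxRecDepth 1000000 in
theorem cls_hclo_1404 : allC (cloChk dD dC dE dCl) 1404 91 = true := by decide +kernel

set_option maxRecDepth 1000000 in
theorem cls_hclo_1405 : allC (cloChk dD dC dE dCl) 1405 91 = true := by decide +kernel

set_option maxRecDepth 1000000 in
theorem cls_hclo_1406 : allC (cloChk dD dC dE dCl) 1406 91 = true := by decide +kernel

set_option maxRecDepth 1000000 in
theorem cls_hclo_1407 : allC (cloChk dD dC dE dCl) 1407 91 = true := by decide +kernel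

set_option maxRecDepth 1000000 in
theorem cls_hclo_1408 : allC (cloChk dD dC dE dCl) 1408 91 = true := by decide +kernel

set_option maxRecDepth 1000000 in
theorem cls_hclo_1409 : allC (cloChk dD dC dE dCl) 1409 91 = true := by decide +kernel

set_option maxRecDepth 1000000 in
theorem cls_hclo_1410 : allC (cloChk dD dC dE dCl) 1410 91 = true := by decide +kernel

set_option maxRecDepth 1000000 in
theorem cls_hclo_1411 : allC (cloChk dD dC dE dCl) 1411 91 = true := by decide +kernel

set_option maxRecDepth 1000000 in
theorem cls_hclo_1412 : allC (cloChk dD dC dE dCl) 1412 91 = true := by decide +kernel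

set_option maxRecDepth 1000000 in
theorem cls_hclo_1413 : allC (cloChk dD dC dE dCl) 1413 91 = true := by decide +kernel

set_option maxRecDepth 1000000 in
theorem cls_hclo_1414 : allC (cloChk dD dC dE dCl) 1414 91 = true := by decide +kernel

set_option maxRecDepth 1000000 in
theorem cls_hclo_1415 : allC (cloChk dD dC dE dCl) 1415 91 = true := by decide +kernel

set_option maxRecDepth 1000000 in
theorem cls_hclo_1416 : allC (cloChk dD dC dE dCl) 1416 91 = true := by decide +kernel

set_option maxRecDepth 1000000 in
theorem cls_hclo_1417 : allC (cloChk dD dC dE dCl) 1417 91 = true := by decide +kernel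

set_option maxRecDepth 1000000 in
theorem cls_hclo_1418 : allC (cloChk dD dC dE dCl) 1418 91 = true := by decide +kernel

set_option maxRecDepth 1000000 in
theorem cls_hclo_1419 : allC (cloChk dD dC dE dCl) 1419 91 = true := by decide +kernel

set_option maxRecDepth 1000000 in
theorem cls_hclo_1420 : allC (cloChk dD dC dE dCl) 1420 91 = true := by decide +kernel

set_option maxRecDepth 1000000 in
theorem cls_hclo_1421 : allC (cloChk dD dC dE dCl) 1421 91 = true := by decide +kernel

set_option maxRecDepth 1000000 in
theorem cls_hclo_1422 : allC (cloChk dD dC dE dCl) 1422 91 = true := by decide +kernel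

set_option maxRecDepth 1000000 in
theorem cls_hclo_1423 : allC (cloChk dD dC dE dCl) 1423 91 = true := by decide +kernel

set_option maxRecDepth 1000000 in
theorem cls_hclo_1424 : allC (cloChk dD dC dE dCl) 1424 91 = true := by decide +kernel

set_option maxRecDepth 1000000 in
theorem cls_hclo_1425 : allC (cloChk dD dC dE dCl) 1425 91 = true := by decide +kernel

set_option maxRecDepth 1000000 in
theorem cls_hclo_1426 : allC (cloChk dD dC dE dCl) 1426 91 = true := by decide +kernel

set_option maxRecDepth 1000000 in
theorem cls_hclo_1427 : allC (cloChk dD dC dE dCl) 1427 91 = true := by decide +kernel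

set_option maxRecDepth 1000000 in
theorem cls_hclo_1428 : allC (cloChk dD dC dE dCl) 1428 91 = true := by decide +kernel

set_option maxRecDepth 1000000 in
theorem cls_hclo_1429 : allC (cloChk dD dC dE dCl) 1429 91 = true := by decide +kernel

set_option maxRecDepth 1000000 in
theorem cls_hclo_1430 : allC (cloChk dD dC dE dCl) 1430 91 = true := by decide +kernel

set_option maxRecDepth 1000000 in
theorem cls_hclo_1431 : allC (cloChk dD dC dE dCl) 1431 91 = true := by decide +kernel

set_option maxRecDepth 1000000 in
theorem cls_hclo_1432 : allC (cloChk dD dC dE dCl) 1432 91 = true := by decide +kernel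

set_option maxRecDepth 1000000 in
theorem cls_hclo_1433 : allC (cloChk dD dC dE dCl) 1433 91 = true := by decide +kernel

set_option maxRecDepth 1000000 in
theorem cls_hclo_1434 : allC (cloChk dD dC dE dCl) 1434 91 = true := by decide +kernel

set_option maxRecDepth 1000000 in
theorem cls_hclo_1435 : allC (cloChk dD dC dE dCl) 1435 91 = true := by decide +kernel

set_option maxRecDepth 1000000 in
theorem cls_hclo_1436 : allC (cloChk dD dC dE dCl) 1436 91 = true := by decide +kernel

set_option maxRecDepth 1000000 in
theorem cls_hclo_1437 : allC (cloChk dD dC dE dCl) 1437 91 = true := by decide +kernel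

set_option maxRecDepth 1000000 in
theorem cls_hclo_1438 : allC (cloChk dD dC dE dCl) 1438 91 = true := by decide +kernel

set_option maxRecDepth 1000000 in
theorem cls_hclo_1439 : allC (cloChk dD dC dE dCl) 1439 91 = true := by decide +kernel

set_option maxRecDepth 1000000 in
theorem cls_hclo_1440 : allC (cloChk dD dC dE dCl) 1440 91 = true := by decide +kernel

set_option maxRecDepth 1000000 in
theorem cls_hclo_1441 : allC (cloChk dD dC dE dCl) 1441 91 = true := by decide +kernel

set_option maxRecDepth 1000000 in
theorem cls_hclo_1442 : allC (cloChk dD dC dE dCl) 1442 91 = true := by decide +kernel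

set_option maxRecDepth 1000000 in
theorem cls_hclo_1443 : allC (cloChk dD dC dE dCl) 1443 91 = true := by decide +kernel

set_option maxRecDepth 1000000 in
theorem cls_hclo_1444 : allC (cloChk dD dC dE dCl) 1444 91 = true := by decide +kernel

set_option maxRecDepth 1000000 in
theorem cls_hclo_1445 : allC (cloChk dD dC dE dCl) 1445 91 = true := by decide +kernel

set_option maxRecDepth 1000000 in
theorem cls_hclo_1446 : allC (cloChk dD dC dE dCl) 1446 91 = true := by decide +kernel

set_option maxRecDepth 1000000 in
theorem cls_hclo_1447 : allC (cloChk dD dC dE dCl) 1447 91 = true := by decide +kernel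

set_option maxRecDepth 1000000 in
theorem cls_hclo_1448 : allC (cloChk dD dC dE dCl) 1448 91 = true := by decide +kernel

set_option maxRecDepth 1000000 in
theorem cls_hclo_1449 : allC (cloChk dD dC dE dCl) 1449 91 = true := by decide +kernel

set_option maxRecDepth 1000000 in
theorem cls_hclo_1450 : allC (cloChk dD dC dE dCl) 1450 91 = true := by decide +kernel

set_option maxRecDepth 1000000 in
theorem cls_hclo_1451 : allC (cloChk dD dC dE dCl) 1451 91 = true := by decide +kernel

set_option maxRecDepth 1000000 in
theorem cls_hclo_1452 : allC (cloChk dD dC dE dCl) 1452 91 = true := by decide +kernel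

set_option maxRecDepth 1000000 in
theorem cls_hclo_1453 : allC (cloChk dD dC dE dCl) 1453 91 = true := by decide +kernel

set_option maxRecDepth 1000000 in
theorem cls_hclo_1454 : allC (cloChk dD dC dE dCl) 1454 91 = true := by decide +kernel

set_option maxRecDepth 1000000 in
theorem cls_hclo_1455 : allC (cloChk dD dC dE dCl) 1455 91 = true := by decide +kernel

set_option maxRecDepth 1000000 in
theorem cls_hclo_1456 : allC (cloChk dD dC dE dCl) 1456 91 = true := by decide +kernel

set_option maxRecDepth 1000000 in
theorem cls_hclo_1457 : allC (cloChk dD dC dE dCl) 1457 91 = true := by decide +kernel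

set_option maxRecDepth 1000000 in
theorem cls_hclo_1458 : allC (cloChk dD dC dE dCl) 1458 91 = true := by decide +kernel

set_option maxRecDepth 1000000 in
theorem cls_hclo_1459 : allC (cloChk dD dC dE dCl) 1459 91 = true := by decide +kernel

set_option maxRecDepth 1000000 in
theorem cls_hclo_1460 : allC (cloChk dD dC dE dCl) 1460 91 = true := by decide +kernel

set_option maxRecDepth 1000000 in
theorem cls_hclo_1461 : allC (cloChk dD dC dE dCl) 1461 91 = true := by decide +kernel

set_option maxRecDepth 1000000 in
theorem cls_hclo_1462 : allC (cloChk dD dC dE dCl) 1462 91 = true := by decide +kernel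

set_option maxRecDepth 1000000 in
theorem cls_hclo_1463 : allC (cloChk dD dC dE dCl) 1463 91 = true := by decide +kernel

set_option maxRecDepth 1000000 in
theorem cls_hclo_1464 : allC (cloChk dD dC dE dCl) 1464 91 = true := by decide +kernel

set_option maxRecDepth 1000000 in
theorem cls_hclo_1465 : allC (cloChk dD dC dE dCl) 1465 91 = true := by decide +kernel

set_option maxRecDepth 1000000 in
theorem cls_hclo_1466 : allC (cloChk dD dC dE dCl) 1466 91 = true := by decide +kernel

set_option maxRecDepth 1000000 in
theorem cls_hclo_1467 : allC (cloChk dD dC dE dCl) 1467 91 = true := by decide +kernel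

set_option maxRecDepth 1000000 in
theorem cls_hclo_1468 : allC (cloChk dD dC dE dCl) 1468 91 = true := by decide +kernel

set_option maxRecDepth 1000000 in
theorem cls_hclo_1469 : allC (cloChk dD dC dE dCl) 1469 91 = true := by decide +kernel

set_option maxRecDepth 1000000 in
theorem cls_hclo_1470 : allC (cloChk dD dC dE dCl) 1470 91 = true := by decide +kernel

set_option maxRecDepth 1000000 in
theorem cls_hclo_1471 : allC (cloChk dD dC dE dCl) 1471 91 = true := by decide +kernel

set_option maxRecDepth 1000000 in
theorem cls_hclo_1472 : allC (cloChk dD dC dE dCl) 1472 91 = true := by decide +kernel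

set_option maxRecDepth 1000000 in
theorem cls_hclo_1473 : allC (cloChk dD dC dE dCl) 1473 91 = true := by decide +kernel

set_option maxRecDepth 1000000 in
theorem cls_hclo_1474 : allC (cloChk dD dC dE dCl) 1474 91 = true := by decide +kernel

set_option maxRecDepth 1000000 in
theorem cls_hclo_1475 : allC (cloChk dD dC dE dCl) 1475 91 = true := by decide +kernel

set_option maxRecDepth 1000000 in
theorem cls_hclo_1476 : allC (cloChk dD dC dE dCl) 1476 91 = true := by decide +kernel

set_option maxRecDepth 1000000 in
theorem cls_hclo_1477 : allC (cloChk dD dC dE dCl) 1477 91 = true := by decide +kernel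

set_option maxRecDepth 1000000 in
theorem cls_hclo_1478 : allC (cloChk dD dC dE dCl) 1478 91 = true := by decide +kernel

set_option maxRecDepth 1000000 in
theorem cls_hclo_1479 : allC (cloChk dD dC dE dCl) 1479 91 = true := by decide +kernel

set_option maxRecDepth 1000000 in
theorem cls_hclo_1480 : allC (cloChk dD dC dE dCl) 1480 91 = true := by decide +kernel

set_option maxRecDepth 1000000 in
theorem cls_hclo_1481 : allC (cloChk dD dC dE dCl) 1481 91 = true := by decide +kernel

set_option maxRecDepth 1000000 in
theorem cls_hclo_1482 : allC (cloChk dD dC dE dCl) 1482 91 = true := by decide +kernel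

set_option maxRecDepth 1000000 in
theorem cls_hclo_1483 : allC (cloChk dD dC dE dCl) 1483 91 = true := by decide +kernel

set_option maxRecDepth 1000000 in
theorem cls_hclo_1484 : allC (cloChk dD dC dE dCl) 1484 91 = true := by decide +kernel

set_option maxRecDepth 1000000 in
theorem cls_hclo_1485 : allC (cloChk dD dC dE dCl) 1485 91 = true := by decide +kernel

set_option maxRecDepth 1000000 in
theorem cls_hclo_1486 : allC (cloChk dD dC dE dCl) 1486 91 = true := by decide +kernel

set_option maxRecDepth 1000000 in
theorem cls_hclo_1487 : allC (cloChk dD dC dE dCl) 1487 91 = true := by decide +kernel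

set_option maxRecDepth 1000000 in
theorem cls_hclo_1488 : allC (cloChk dD dC dE dCl) 1488 91 = true := by decide +kernel

set_option maxRecDepth 1000000 in
theorem cls_hclo_1489 : allC (cloChk dD dC dE dCl) 1489 91 = true := by decide +kernel

set_option maxRecDepth 1000000 in
theorem cls_hclo_1490 : allC (cloChk dD dC dE dCl) 1490 91 = true := by decide +kernel

set_option maxRecDepth 1000000 in
theorem cls_hclo_1491 : allC (cloChk dD dC dE dCl) 1491 91 = true := by decide +kernel

set_option maxRecDepth 1000000 in
theorem cls_hclo_1492 : allC (cloChk dD dC dE dCl) 1492 91 = true := by decide +kernel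

set_option maxRecDepth 1000000 in
theorem cls_hclo_1493 : allC (cloChk dD dC dE dCl) 1493 91 = true := by decide +kernel

set_option maxRecDepth 1000000 in
theorem cls_hclo_1494 : allC (cloChk dD dC dE dCl) 1494 91 = true := by decide +kernel

set_option maxRecDepth 1000000 in
theorem cls_hclo_1495 : allC (cloChk dD dC dE dCl) 1495 91 = true := by decide +kernel

set_option maxRecDepth 1000000 in
theorem cls_hclo_1496 : allC (cloChk dD dC dE dCl) 1496 91 = true := by decide +kernel

set_option maxRecDepth 1000000 in
theorem cls_hclo_1497 : allC (cloChk dD dC dE dCl) 1497 91 = true := by decide +kernel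

set_option maxRecDepth 1000000 in
theorem cls_hclo_1498 : allC (cloChk dD dC dE dCl) 1498 91 = true := by decide +kernel

set_option maxRecDepth 1000000 in
theorem cls_hclo_1499 : allC (cloChk dD dC dE dCl) 1499 91 = true := by decide +kernel

end Cfsg.Agent.Helper9.RuO

end
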