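import Mathlib
import Cfsg.Agent.Helper9.RuO.Data

set_option autoImplicit false

/-! Kernel checks of the certificates, a part. -/

noncomputable section

namespace Cfsg.Agent.Helper9.RuO

open Cfsg.Agent.Helper9.OutG Cfsg.Agent.Helper9.J3

set_option maxRecDepth 1000000 in
theorem cls_hclo_1500 : allC (cloChk dD dC dE dCl) 1500 91 = true := by decide +kernel

set_option maxRecDepth 1000000 in
theorem cls_hclo_1501 : allC (cloChk dD dC dE dCl) 1501 91 = true := by decide +kernel

set_option maxRecDepth 1000000 in
theorem cls_hclo_1502 : allC (cloChk dD dC dE dCl) 1502 91 = true := by decide +kernel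

set_option maxRecDepth 1000000 in
theorem cls_hclo_1503 : allC (cloChk dD dC dE dCl) 1503 91 = true := by decide +kernel

set_option maxRecDepth 1000000 in
theorem cls_hclo_1504 : allC (cloChk dD dC dE dCl) 1504 91 = true := by decide +kernel

set_option maxRecDepth 1000000 in
theorem cls_hclo_1505 : allC (cloChk dD dC dE dCl) 1505 91 = true := by decide +kernel

set_option maxRecDepth 1000000 in
theorem cls_hclo_1506 : allC (cloChk dD dC dE dCl) 1506 91 = true := by decide +kernel

set_option maxRecDepth 1000000 in
theorem cls_hclo_1507 : allC (cloChk dD dC dE dCl) 1507 91 = true := by decide +kernel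

set_option maxRecDepth 1000000 in
theorem cls_hclo_1508 : allC (cloChk dD dC dE dCl) 1508 91 = true := by decide +kernel

set_option maxRecDepth 1000000 in
theorem cls_hclo_1509 : allC (cloChk dD dC dE dCl) 1509 91 = true := by decide +kernel

set_option maxRecDepth 1000000 in
theorem cls_hclo_1510 : allC (cloChk dD dC dE dCl) 1510 91 = true := by decide +kernel

set_option maxRecDepth 1000000 in
theorem cls_hclo_1511 : allC (cloChk dD dC dE dCl) 1511 91 = true := by decide +kernel

set_option maxRecDepth 1000000 in
theorem cls_hclo_1512 : allC (cloChk dD dC dE dCl) 1512 91 = true := by decide +kernel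

set_option maxRecDepth 1000000 in
theorem cls_hclo_1513 : allC (cloChk dD dC dE dCl) 1513 91 = true := by decide +kernel

set_option maxRecDepth 1000000 in
theorem cls_hclo_1514 : allC (cloChk dD dC dE dCl) 1514 91 = true := by decide +kernel

set_option maxRecDepth 1000000 in
theorem cls_hclo_1515 : allC (cloChk dD dC dE dCl) 1515 91 = true := by decide +kernel

set_option maxRecDepth 1000000 in
theorem cls_hclo_1516 : allC (cloChk dD dC dE dCl) 1516 91 = true := by decide +kernel

set_option maxRecDepth 1000000 in
theorem cls_hclo_1517 : allC (cloChk dD dC dE dCl) 1517 91 = true := by decide +kernel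

set_option maxRecDepth 1000000 in
theorem cls_hclo_1518 : allC (cloChk dD dC dE dCl) 1518 91 = true := by decide +kernel

set_option maxRecDepth 1000000 in
theorem cls_hclo_1519 : allC (cloChk dD dC dE dCl) 1519 91 = true := by decide +kernel

set_option maxRecDepth 1000000 in
theorem cls_hclo_1520 : allC (cloChk dD dC dE dCl) 1520 91 = true := by decide +kernel

set_option maxRecDepth 1000000 in
theorem cls_hclo_1521 : allC (cloChk dD dC dE dCl) 1521 91 = true := by decide +kernel

set_option maxRecDepth 1000000 in
theorem cls_hclo_1522 : allC (cloChk dD dC dE dCl) 1522 91 = true := by decide +kernel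

set_option maxRecDepth 1000000 in
theorem cls_hclo_1523 : allC (cloChk dD dC dE dCl) 1523 91 = true := by decide +kernel

set_option maxRecDepth 1000000 in
theorem cls_hclo_1524 : allC (cloChk dD dC dE dCl) 1524 91 = true := by decide +kernel

set_option maxRecDepth 1000000 in
theorem cls_hclo_1525 : allC (cloChk dD dC dE dCl) 1525 91 = true := by decide +kernel

set_option maxRecDepth 1000000 in
theorem cls_hclo_1526 : allC (cloChk dD dC dE dCl) 1526 91 = true := by decide +kernel

set_option maxRecDepth 1000000 in
theorem cls_hclo_1527 : allC (cloChk dD dC dE dCl) 1527 91 = true := by decide +kernel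

set_option maxRecDepth 1000000 in
theorem cls_hclo_1528 : allC (cloChk dD dC dE dCl) 1528 91 = true := by decide +kernel

set_option maxRecDepth 1000000 in
theorem cls_hclo_1529 : allC (cloChk dD dC dE dCl) 1529 91 = true := by decide +kernel

set_option maxRecDepth 1000000 in
theorem cls_hclo_1530 : allC (cloChk dD dC dE dCl) 1530 91 = true := by decide +kernel

set_option maxRecDepth 1000000 in
theorem cls_hclo_1531 : allC (cloChk dD dC dE dCl) 1531 91 = true := by decide +kernel

set_option maxRecDepth 1000000 in
theorem cls_hclo_1532 : allC (cloChk dD dC dE dCl) 1532 91 = true := by decide +kernel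

set_option maxRecDepth 1000000 in
theorem cls_hclo_1533 : allC (cloChk dD dC dE dCl) 1533 91 = true := by decide +kernel

set_option maxRecDepth 1000000 in
theorem cls_hclo_1534 : allC (cloChk dD dC dE dCl) 1534 91 = true := by decide +kernel

set_option maxRecDepth 1000000 in
theorem cls_hclo_1535 : allC (cloChk dD dC dE dCl) 1535 91 = true := by decide +kernel

set_option maxRecDepth 1000000 in
theorem cls_hclo_1536 : allC (cloChk dD dC dE dCl) 1536 91 = true := by decide +kernel

set_option maxRecDepth 1000000 in
theorem cls_hclo_1537 : allC (cloChk dD dC dE dCl) 1537 91 = true := by decide +kernel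

set_option maxRecDepth 1000000 in
theorem cls_hclo_1538 : allC (cloChk dD dC dE dCl) 1538 91 = true := by decide +kernel

set_option maxRecDepth 1000000 in
theorem cls_hclo_1539 : allC (cloChk dD dC dE dCl) 1539 91 = true := by decide +kernel

set_option maxRecDepth 1000000 in
theorem cls_hclo_1540 : allC (cloChk dD dC dE dCl) 1540 91 = true := by decide +kernel

set_option maxRecDepth 1000000 in
theorem cls_hclo_1541 : allC (cloChk dD dC dE dCl) 1541 91 = true := by decide +kernel

set_option maxRecDepth 1000000 in
theorem cls_hclo_1542 : allC (cloChk dD dC dE dCl) 1542 91 = true := by decide +kernel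

set_option maxRecDepth 1000000 in
theorem cls_hclo_1543 : allC (cloChk dD dC dE dCl) 1543 91 = true := by decide +kernel

set_option maxRecDepth 1000000 in
theorem cls_hclo_1544 : allC (cloChk dD dC dE dCl) 1544 91 = true := by decide +kernel

set_option maxRecDepth 1000000 in
theorem cls_hclo_1545 : allC (cloChk dD dC dE dCl) 1545 91 = true := by decide +kernel

set_option maxRecDepth 1000000 in
theorem cls_hclo_1546 : allC (cloChk dD dC dE dCl) 1546 91 = true := by decide +kernel

set_option maxRecDepth 1000000 in
theorem cls_hclo_1547 : allC (cloChk dD dC dE dCl) 1547 91 = true := by decide +kernel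

set_option maxRecDepth 1000000 in
theorem cls_hclo_1548 : allC (cloChk dD dC dE dCl) 1548 91 = true := by decide +kernel

set_option maxRecDepth 1000000 in
theorem cls_hclo_1549 : allC (cloChk dD dC dE dCl) 1549 91 = true := by decide +kernel

set_option maxRecDepth 1000000 in
theorem cls_hclo_1550 : allC (cloChk dD dC dE dCl) 1550 91 = true := by decide +kernel

set_option maxRecDepth 1000000 in
theorem cls_hclo_1551 : allC (cloChk dD dC dE dCl) 1551 91 = true := by decide +kernel

set_option maxRecDepth 1000000 in
theorem cls_hclo_1552 : allC (cloChk dD dC dE dCl) 1552 91 = true := by decide +kernel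

set_option maxRecDepth 1000000 in
theorem cls_hclo_1553 : allC (cloChk dD dC dE dCl) 1553 91 = true := by decide +kernel

set_option maxRecDepth 1000000 in
theorem cls_hclo_1554 : allC (cloChk dD dC dE dCl) 1554 91 = true := by decide +kernel

set_option maxRecDepth 1000000 in
theorem cls_hclo_1555 : allC (cloChk dD dC dE dCl) 1555 91 = true := by decide +kernel

set_option maxRecDepth 1000000 in
theorem cls_hclo_1556 : allC (cloChk dD dC dE dCl) 1556 91 = true := by decide +kernel

set_option maxRecDepth 1000000 in
theorem cls_hclo_1557 : allC (cloChk dD dC dE dCl) 1557 91 = true := by decide +kernel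

set_option maxRecDepth 1000000 in
theorem cls_hclo_1558 : allC (cloChk dD dC dE dCl) 1558 91 = true := by decide +kernel

set_option maxRecDepth 1000000 in
theorem cls_hclo_1559 : allC (cloChk dD dC dE dCl) 1559 91 = true := by decide +kernel

set_option maxRecDepth 1000000 in
theorem cls_hclo_1560 : allC (cloChk dD dC dE dCl) 1560 91 = true := by decide +kernel

set_option maxRecDepth 1000000 in
theorem cls_hclo_1561 : allC (cloChk dD dC dE dCl) 1561 91 = true := by decide +kernel

set_option maxRecDepth 1000000 in
theorem cls_hclo_1562 : allC (cloChk dD dC dE dCl) 1562 91 = true := by decide +kernel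

set_option maxRecDepth 1000000 in
theorem cls_hclo_1563 : allC (cloChk dD dC dE dCl) 1563 91 = true := by decide +kernel

set_option maxRecDepth 1000000 in
theorem cls_hclo_1564 : allC (cloChk dD dC dE dCl) 1564 91 = true := by decide +kernel

set_option maxRecDepth 1000000 in
theorem cls_hclo_1565 : allC (cloChk dD dC dE dCl) 1565 91 = true := by decide +kernel

set_option maxRecDepth 1000000 in
theorem cls_hclo_1566 : allC (cloChk dD dC dE dCl) 1566 91 = true := by decide +kernel

set_option maxRecDepth 1000000 in
theorem cls_hclo_1567 : allC (cloChk dD dC dE dCl) 1567 91 = true := by decide +kernel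

set_option maxRecDepth 1000000 in
theorem cls_hclo_1568 : allC (cloChk dD dC dE dCl) 1568 91 = true := by decide +kernel

set_option maxRecDepth 1000000 in
theorem cls_hclo_1569 : allC (cloChk dD dC dE dCl) 1569 91 = true := by decide +kernel

set_option maxRecDepth 1000000 in
theorem cls_hclo_1570 : allC (cloChk dD dC dE dCl) 1570 91 = true := by decide +kernel

set_option maxRecDepth 1000000 in
theorem cls_hclo_1571 : allC (cloChk dD dC dE dCl) 1571 91 = true := by decide +kernel

set_option maxRecDepth 1000000 in
theorem cls_hclo_1572 : allC (cloChk dD dC dE dCl) 1572 91 = true := by decide +kernel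

set_option maxRecDepth 1000000 in
theorem cls_hclo_1573 : allC (cloChk dD dC dE dCl) 1573 91 = true := by decide +kernel

set_option maxRecDepth 1000000 in
theorem cls_hclo_1574 : allC (cloChk dD dC dE dCl) 1574 91 = true := by decide +kernel

set_option maxRecDepth 1000000 in
theorem cls_hclo_1575 : allC (cloChk dD dC dE dCl) 1575 91 = true := by decide +kernel

set_option maxRecDepth 1000000 in
theorem cls_hclo_1576 : allC (cloChk dD dC dE dCl) 1576 91 = true := by decide +kernel

set_option maxRecDepth 1000000 in
theorem cls_hclo_1577 : allC (cloChk dD dC dE dCl) 1577 91 = true := by decide +kernel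

set_option maxRecDepth 1000000 in
theorem cls_hclo_1578 : allC (cloChk dD dC dE dCl) 1578 91 = true := by decide +kernel

set_option maxRecDepth 1000000 in
theorem cls_hclo_1579 : allC (cloChk dD dC dE dCl) 1579 91 = true := by decide +kernel

set_option maxRecDepth 1000000 in
theorem cls_hclo_1580 : allC (cloChk dD dC dE dCl) 1580 91 = true := by decide +kernel

set_option maxRecDepth 1000000 in
theorem cls_hclo_1581 : allC (cloChk dD dC dE dCl) 1581 91 = true := by decide +kernel

set_option maxRecDepth 1000000 in
theorem cls_hclo_1582 : allC (cloChk dD dC dE dCl) 1582 91 = true := by decide +kernel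

set_option maxRecDepth 1000000 in
theorem cls_hclo_1583 : allC (cloChk dD dC dE dCl) 1583 91 = true := by decide +kernel

set_option maxRecDepth 1000000 in
theorem cls_hclo_1584 : allC (cloChk dD dC dE dCl) 1584 91 = true := by decide +kernel

set_option maxRecDepth 1000000 in
theorem cls_hclo_1585 : allC (cloChk dD dC dE dCl) 1585 91 = true := by decide +kernel

set_option maxRecDepth 1000000 in
theorem cls_hclo_1586 : allC (cloChk dD dC dE dCl) 1586 91 = true := by decide +kernel

set_option maxRecDepth 1000000 in
theorem cls_hclo_1587 : allC (cloChk dD dC dE dCl) 1587 91 = true := by decide +kernel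

set_option maxRecDepth 1000000 in
theorem cls_hclo_1588 : allC (cloChk dD dC dE dCl) 1588 91 = true := by decide +kernel

set_option maxRecDepth 1000000 in
theorem cls_hclo_1589 : allC (cloChk dD dC dE dCl) 1589 91 = true := by decide +kernel

set_option maxRecDepth 1000000 in
theorem cls_hclo_1590 : allC (cloChk dD dC dE dCl) 1590 91 = true := by decide +kernel

set_option maxRecDepth 1000000 in
theorem cls_hclo_1591 : allC (cloChk dD dC dE dCl) 1591 91 = true := by decide +kernel

set_option maxRecDepth 1000000 in
theorem cls_hclo_1592 : allC (cloChk dD dC dE dCl) 1592 91 = true := by decide +kernel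

set_option maxRecDepth 1000000 in
theorem cls_hclo_1593 : allC (cloChk dD dC dE dCl) 1593 91 = true := by decide +kernel

set_option maxRecDepth 1000000 in
theorem cls_hclo_1594 : allC (cloChk dD dC dE dCl) 1594 91 = true := by decide +kernel

set_option maxRecDepth 1000000 in
theorem cls_hclo_1595 : allC (cloChk dD dC dE dCl) 1595 91 = true := by decide +kernel

set_option maxRecDepth 1000000 in
theorem cls_hclo_1596 : allC (cloChk dD dC dE dCl) 1596 91 = true := by decide +kernel

set_option maxRecDepth 1000000 in
theorem cls_hclo_1597 : allC (cloChk dD dC dE dCl) 1597 91 = true := by decide +kernel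

set_option maxRecDepth 1000000 in
theorem cls_hclo_1598 : allC (cloChk dD dC dE dCl) 1598 91 = true := by decide +kernel

set_option maxRecDepth 1000000 in
theorem cls_hclo_1599 : allC (cloChk dD dC dE dCl) 1599 91 = true := by decide +kernel

end Cfsg.Agent.Helper9.RuO

end
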