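import Mathlib
import Cfsg.Agent.Helper9.RuO.Data

set_option autoImplicit false

/-! Kernel checks of the certificates, a part. -/

noncomputable section

namespace Cfsg.Agent.Helper9.RuO

open Cfsg.Agent.Helper9.OutG Cfsg.Agent.Helper9.J3

set_option maxRecDepth 1000000 in
theorem cls_hclo_1600 : allC (cloChk dD dC dE dCl) 1600 91 = true := by decide +kernel

set_option maxRecDepth 1000000 in
theorem cls_hclo_1601 : allC (cloChk dD dC dE dCl) 1601 91 = true := by decide +kernel

set_option maxRecDepth 1000000 in
theorem cls_hclo_1602 : allC (cloChk dD dC dE dCl) 1602 91 = true := by decide +kernel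

set_option maxRecDepth 1000000 in
theorem cls_hclo_1603 : allC (cloChk dD dC dE dCl) 1603 91 = true := by decide +kernel

set_option maxRecDepth 1000000 in
theorem cls_hclo_1604 : allC (cloChk dD dC dE dCl) 1604 91 = true := by decide +kernel

set_option maxRecDepth 1000000 in
theorem cls_hclo_1605 : allC (cloChk dD dC dE dCl) 1605 91 = true := by decide +kernel

set_option maxRecDepth 1000000 in
theorem cls_hclo_1606 : allC (cloChk dD dC dE dCl) 1606 91 = true := by decide +kernel

set_option maxRecDepth 1000000 in
theorem cls_hclo_1607 : allC (cloChk dD dC dE dCl) 1607 91 = true := by decide +kernel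

set_option maxRecDepth 1000000 in
theorem cls_hclo_1608 : allC (cloChk dD dC dE dCl) 1608 91 = true := by decide +kernel

set_option maxRecDepth 1000000 in
theorem cls_hclo_1609 : allC (cloChk dD dC dE dCl) 1609 91 = true := by decide +kernel

set_option maxRecDepth 1000000 in
theorem cls_hclo_1610 : allC (cloChk dD dC dE dCl) 1610 91 = true := by decide +kernel

set_option maxRecDepth 1000000 in
theorem cls_hclo_1611 : allC (cloChk dD dC dE dCl) 1611 91 = true := by decide +kernel

set_option maxRecDepth 1000000 in
theorem cls_hclo_1612 : allC (cloChk dD dC dE dCl) 1612 91 = true := by decide +kernel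

set_option maxRecDepth 1000000 in
theorem cls_hclo_1613 : allC (cloChk dD dC dE dCl) 1613 91 = true := by decide +kernel

set_option maxRecDepth 1000000 in
theorem cls_hclo_1614 : allC (cloChk dD dC dE dCl) 1614 91 = true := by decide +kernel

set_option maxRecDepth 1000000 in
theorem cls_hclo_1615 : allC (cloChk dD dC dE dCl) 1615 91 = true := by decide +kernel

set_option maxRecDepth 1000000 in
theorem cls_hclo_1616 : allC (cloChk dD dC dE dCl) 1616 91 = true := by decide +kernel

set_option maxRecDepth 1000000 in
theorem cls_hclo_1617 : allC (cloChk dD dC dE dCl) 1617 91 = true := by decide +kernel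

set_option maxRecDepth 1000000 in
theorem cls_hclo_1618 : allC (cloChk dD dC dE dCl) 1618 91 = true := by decide +kernel

set_option maxRecDepth 1000000 in
theorem cls_hclo_1619 : allC (cloChk dD dC dE dCl) 1619 91 = true := by decide +kernel

set_option maxRecDepth 1000000 in
theorem cls_hclo_1620 : allC (cloChk dD dC dE dCl) 1620 91 = true := by decide +kernel

set_option maxRecDepth 1000000 in
theorem cls_hclo_1621 : allC (cloChk dD dC dE dCl) 1621 91 = true := by decide +kernel

set_option maxRecDepth 1000000 in
theorem cls_hclo_1622 : allC (cloChk dD dC dE dCl) 1622 91 = true := by decide +kernel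

set_option maxRecDepth 1000000 in
theorem cls_hclo_1623 : allC (cloChk dD dC dE dCl) 1623 91 = true := by decide +kernel

set_option maxRecDepth 1000000 in
theorem cls_hclo_1624 : allC (cloChk dD dC dE dCl) 1624 91 = true := by decide +kernel

set_option maxRecDepth 1000000 in
theorem cls_hclo_1625 : allC (cloChk dD dC dE dCl) 1625 91 = true := by decide +kernel

set_option maxRecDepth 1000000 in
theorem cls_hclo_1626 : allC (cloChk dD dC dE dCl) 1626 91 = true := by decide +kernel

set_option maxRecDepth 1000000 in
theorem cls_hclo_1627 : allC (cloChk dD dC dE dCl) 1627 91 = true := by decide +kernel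

set_option maxRecDepth 1000000 in
theorem cls_hclo_1628 : allC (cloChk dD dC dE dCl) 1628 91 = true := by decide +kernel

set_option maxRecDepth 1000000 in
theorem cls_hclo_1629 : allC (cloChk dD dC dE dCl) 1629 91 = true := by decide +kernel

set_option maxRecDepth 1000000 in
theorem cls_hclo_1630 : allC (cloChk dD dC dE dCl) 1630 91 = true := by decide +kernel

set_option maxRecDepth 1000000 in
theorem cls_hclo_1631 : allC (cloChk dD dC dE dCl) 1631 91 = true := by decide +kernel

set_option maxRecDepth 1000000 in
theorem cls_hclo_1632 : allC (cloChk dD dC dE dCl) 1632 91 = true := by decide +kernel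

set_option maxRecDepth 1000000 in
theorem cls_hclo_1633 : allC (cloChk dD dC dE dCl) 1633 91 = true := by decide +kernel

set_option maxRecDepth 1000000 in
theorem cls_hclo_1634 : allC (cloChk dD dC dE dCl) 1634 91 = true := by decide +kernel

set_option maxRecDepth 1000000 in
theorem cls_hclo_1635 : allC (cloChk dD dC dE dCl) 1635 91 = true := by decide +kernel

set_option maxRecDepth 1000000 in
theorem cls_hclo_1636 : allC (cloChk dD dC dE dCl) 1636 91 = true := by decide +kernel

set_option maxRecDepth 1000000 in
theorem cls_hclo_1637 : allC (cloChk dD dC dE dCl) 1637 91 = true := by decide +kernel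

set_option maxRecDepth 1000000 in
theorem cls_hclo_1638 : allC (cloChk dD dC dE dCl) 1638 91 = true := by decide +kernel

set_option maxRecDepth 1000000 in
theorem cls_hclo_1639 : allC (cloChk dD dC dE dCl) 1639 91 = true := by decide +kernel

set_option maxRecDepth 1000000 in
theorem cls_hclo_1640 : allC (cloChk dD dC dE dCl) 1640 91 = true := by decide +kernel

set_option maxRecDepth 1000000 in
theorem cls_hclo_1641 : allC (cloChk dD dC dE dCl) 1641 91 = true := by decide +kernel

set_option maxRecDepth 1000000 in
theorem cls_hclo_1642 : allC (cloChk dD dC dE dCl) 1642 91 = true := by decide +kernel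

set_option maxRecDepth 1000000 in
theorem cls_hclo_1643 : allC (cloChk dD dC dE dCl) 1643 91 = true := by decide +kernel

set_option maxRecDepth 1000000 in
theorem cls_hclo_1644 : allC (cloChk dD dC dE dCl) 1644 91 = true := by decide +kernel

set_option maxRecDepth 1000000 in
theorem cls_hclo_1645 : allC (cloChk dD dC dE dCl) 1645 91 = true := by decide +kernel

set_option maxRecDepth 1000000 in
theorem cls_hclo_1646 : allC (cloChk dD dC dE dCl) 1646 91 = true := by decide +kernel

set_option maxRecDepth 1000000 in
theorem cls_hclo_1647 : allC (cloChk dD dC dE dCl) 1647 91 = true := by decide +kernel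

set_option maxRecDepth 1000000 in
theorem cls_hclo_1648 : allC (cloChk dD dC dE dCl) 1648 91 = true := by decide +kernel

set_option maxRecDepth 1000000 in
theorem cls_hclo_1649 : allC (cloChk dD dC dE dCl) 1649 91 = true := by decide +kernel

set_option maxRecDepth 1000000 in
theorem cls_hclo_1650 : allC (cloChk dD dC dE dCl) 1650 91 = true := by decide +kernel

set_option maxRecDepth 1000000 in
theorem cls_hclo_1651 : allC (cloChk dD dC dE dCl) 1651 91 = true := by decide +kernel

set_option maxRecDepth 1000000 in
theorem cls_hclo_1652 : allC (cloChk dD dC dE dCl) 1652 91 = true := by decide +kernel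

set_option maxRecDepth 1000000 in
theorem cls_hclo_1653 : allC (cloChk dD dC dE dCl) 1653 91 = true := by decide +kernel

set_option maxRecDepth 1000000 in
theorem cls_hclo_1654 : allC (cloChk dD dC dE dCl) 1654 91 = true := by decide +kernel

set_option maxRecDepth 1000000 in
theorem cls_hclo_1655 : allC (cloChk dD dC dE dCl) 1655 91 = true := by decide +kernel

set_option maxRecDepth 1000000 in
theorem cls_hclo_1656 : allC (cloChk dD dC dE dCl) 1656 91 = true := by decide +kernel

set_option maxRecDepth 1000000 in
theorem cls_hclo_1657 : allC (cloChk dD dC dE dCl) 1657 91 = true := by decide +kernel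

set_option maxRecDepth 1000000 in
theorem cls_hclo_1658 : allC (cloChk dD dC dE dCl) 1658 91 = true := by decide +kernel

set_option maxRecDepth 1000000 in
theorem cls_hclo_1659 : allC (cloChk dD dC dE dCl) 1659 91 = true := by decide +kernel

set_option maxRecDepth 1000000 in
theorem cls_hclo_1660 : allC (cloChk dD dC dE dCl) 1660 91 = true := by decide +kernel

set_option maxRecDepth 1000000 in
theorem cls_hclo_1661 : allC (cloChk dD dC dE dCl) 1661 91 = true := by decide +kernel

set_option maxRecDepth 1000000 in
theorem cls_hclo_1662 : allC (cloChk dD dC dE dCl) 1662 91 = true := by decide +kernel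

set_option maxRecDepth 1000000 in
theorem cls_hclo_1663 : allC (cloChk dD dC dE dCl) 1663 91 = true := by decide +kernel

set_option maxRecDepth 1000000 in
theorem cls_hclo_1664 : allC (cloChk dD dC dE dCl) 1664 91 = true := by decide +kernel

set_option maxRecDepth 1000000 in
theorem cls_hclo_1665 : allC (cloChk dD dC dE dCl) 1665 91 = true := by decide +kernel

set_option maxRecDepth 1000000 in
theorem cls_hclo_1666 : allC (cloChk dD dC dE dCl) 1666 91 = true := by decide +kernel

set_option maxRecDepth 1000000 in
theorem cls_hclo_1667 : allC (cloChk dD dC dE dCl) 1667 91 = true := by decide +kernel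

set_option maxRecDepth 1000000 in
theorem cls_hclo_1668 : allC (cloChk dD dC dE dCl) 1668 91 = true := by decide +kernel

set_option maxRecDepth 1000000 in
theorem cls_hclo_1669 : allC (cloChk dD dC dE dCl) 1669 91 = true := by decide +kernel

set_option maxRecDepth 1000000 in
theorem cls_hclo_1670 : allC (cloChk dD dC dE dCl) 1670 91 = true := by decide +kernel

set_option maxRecDepth 1000000 in
theorem cls_hclo_1671 : allC (cloChk dD dC dE dCl) 1671 91 = true := by decide +kernel

set_option maxRecDepth 1000000 in
theorem cls_hclo_1672 : allC (cloChk dD dC dE dCl) 1672 91 = true := by decide +kernel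

set_option maxRecDepth 1000000 in
theorem cls_hclo_1673 : allC (cloChk dD dC dE dCl) 1673 91 = true := by decide +kernel

set_option maxRecDepth 1000000 in
theorem cls_hclo_1674 : allC (cloChk dD dC dE dCl) 1674 91 = true := by decide +kernel

set_option maxRecDepth 1000000 in
theorem cls_hclo_1675 : allC (cloChk dD dC dE dCl) 1675 91 = true := by decide +kernel

set_option maxRecDepth 1000000 in
theorem cls_hclo_1676 : allC (cloChk dD dC dE dCl) 1676 91 = true := by decide +kernel

set_option maxRecDepth 1000000 in
theorem cls_hclo_1677 : allC (cloChk dD dC dE dCl) 1677 91 = true := by decide +kernel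

set_option maxRecDepth 1000000 in
theorem cls_hclo_1678 : allC (cloChk dD dC dE dCl) 1678 91 = true := by decide +kernel

set_option maxRecDepth 1000000 in
theorem cls_hclo_1679 : allC (cloChk dD dC dE dCl) 1679 91 = true := by decide +kernel

set_option maxRecDepth 1000000 in
theorem cls_hclo_1680 : allC (cloChk dD dC dE dCl) 1680 91 = true := by decide +kernel

set_option maxRecDepth 1000000 in
theorem cls_hclo_1681 : allC (cloChk dD dC dE dCl) 1681 91 = true := by decide +kernel

set_option maxRecDepth 1000000 in
theorem cls_hclo_1682 : allC (cloChk dD dC dE dCl) 1682 91 = true := by decide +kernel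

set_option maxRecDepth 1000000 in
theorem cls_hclo_1683 : allC (cloChk dD dC dE dCl) 1683 91 = true := by decide +kernel

set_option maxRecDepth 1000000 in
theorem cls_hclo_1684 : allC (cloChk dD dC dE dCl) 1684 91 = true := by decide +kernel

set_option maxRecDepth 1000000 in
theorem cls_hclo_1685 : allC (cloChk dD dC dE dCl) 1685 91 = true := by decide +kernel

set_option maxRecDepth 1000000 in
theorem cls_hclo_1686 : allC (cloChk dD dC dE dCl) 1686 91 = true := by decide +kernel

set_option maxRecDepth 1000000 in
theorem cls_hclo_1687 : allC (cloChk dD dC dE dCl) 1687 91 = true := by decide +kernel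

set_option maxRecDepth 1000000 in
theorem cls_hclo_1688 : allC (cloChk dD dC dE dCl) 1688 91 = true := by decide +kernel

set_option maxRecDepth 1000000 in
theorem cls_hclo_1689 : allC (cloChk dD dC dE dCl) 1689 91 = true := by decide +kernel

set_option maxRecDepth 1000000 in
theorem cls_hclo_1690 : allC (cloChk dD dC dE dCl) 1690 91 = true := by decide +kernel

set_option maxRecDepth 1000000 in
theorem cls_hclo_1691 : allC (cloChk dD dC dE dCl) 1691 91 = true := by decide +kernel

set_option maxRecDepth 1000000 in
theorem cls_hclo_1692 : allC (cloChk dD dC dE dCl) 1692 91 = true := by decide +kernel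

set_option maxRecDepth 1000000 in
theorem cls_hclo_1693 : allC (cloChk dD dC dE dCl) 1693 91 = true := by decide +kernel

set_option maxRecDepth 1000000 in
theorem cls_hclo_1694 : allC (cloChk dD dC dE dCl) 1694 91 = true := by decide +kernel

set_option maxRecDepth 1000000 in
theorem cls_hclo_1695 : allC (cloChk dD dC dE dCl) 1695 91 = true := by decide +kernel

set_option maxRecDepth 1000000 in
theorem cls_hclo_1696 : allC (cloChk dD dC dE dCl) 1696 91 = true := by decide +kernel

set_option maxRecDepth 1000000 in
theorem cls_hclo_1697 : allC (cloChk dD dC dE dCl) 1697 91 = true := by decide +kernel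

set_option maxRecDepth 1000000 in
theorem cls_hclo_1698 : allC (cloChk dD dC dE dCl) 1698 91 = true := by decide +kernel

set_option maxRecDepth 1000000 in
theorem cls_hclo_1699 : allC (cloChk dD dC dE dCl) 1699 91 = true := by decide +kernel

end Cfsg.Agent.Helper9.RuO

end
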