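import Mathlib
import Cfsg.Agent.Helper9.RuO.Data

set_option autoImplicit false

/-! Kernel checks of the certificates, a part. -/

noncomputable section

namespace Cfsg.Agent.Helper9.RuO

open Cfsg.Agent.Helper9.OutG Cfsg.Agent.Helper9.J3

set_option maxRecDepth 1000000 in
theorem cls_hclo_1700 : allC (cloChk dD dC dE dCl) 1700 91 = true := by decide +kernel

set_option maxRecDepth 1000000 in
theorem cls_hclo_1701 : allC (cloChk dD dC dE dCl) 1701 91 = true := by decide +kernel

set_option maxRecDepth 1000000 in
theorem cls_hclo_1702 : allC (cloChk dD dC dE dCl) 1702 91 = true := by decide +kernel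

set_option maxRecDepth 1000000 in
theorem cls_hclo_1703 : allC (cloChk dD dC dE dCl) 1703 91 = true := by decide +kernel

set_option maxRecDepth 1000000 in
theorem cls_hclo_1704 : allC (cloChk dD dC dE dCl) 1704 91 = true := by decide +kernel

set_option maxRecDepth 1000000 in
theorem cls_hclo_1705 : allC (cloChk dD dC dE dCl) 1705 91 = true := by decide +kernel

set_option maxRecDepth 1000000 in
theorem cls_hclo_1706 : allC (cloChk dD dC dE dCl) 1706 91 = true := by decide +kernel

set_option maxRecDepth 1000000 in
theorem cls_hclo_1707 : allC (cloChk dD dC dE dCl) 1707 91 = true := by decide +kernel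

set_option maxRecDepth 1000000 in
theorem cls_hclo_1708 : allC (cloChk dD dC dE dCl) 1708 91 = true := by decide +kernel

set_option maxRecDepth 1000000 in
theorem cls_hclo_1709 : allC (cloChk dD dC dE dCl) 1709 91 = true := by decide +kernel

set_option maxRecDepth 1000000 in
theorem cls_hclo_1710 : allC (cloChk dD dC dE dCl) 1710 91 = true := by decide +kernel

set_option maxRecDepth 1000000 in
theorem cls_hclo_1711 : allC (cloChk dD dC dE dCl) 1711 91 = true := by decide +kernel

set_option maxRecDepth 1000000 in
theorem cls_hclo_1712 : allC (cloChk dD dC dE dCl) 1712 91 = true := by decide +kernel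

set_option maxRecDepth 1000000 in
theorem cls_hclo_1713 : allC (cloChk dD dC dE dCl) 1713 91 = true := by decide +kernel

set_option maxRecDepth 1000000 in
theorem cls_hclo_1714 : allC (cloChk dD dC dE dCl) 1714 91 = true := by decide +kernel

set_option maxRecDepth 1000000 in
theorem cls_hclo_1715 : allC (cloChk dD dC dE dCl) 1715 91 = true := by decide +kernel

set_option maxRecDepth 1000000 in
theorem cls_hclo_1716 : allC (cloChk dD dC dE dCl) 1716 91 = true := by decide +kernel

set_option maxRecDepth 1000000 in
theorem cls_hclo_1717 : allC (cloChk dD dC dE dCl) 1717 91 = true := by decide +kernel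

set_option maxRecDepth 1000000 in
theorem cls_hclo_1718 : allC (cloChk dD dC dE dCl) 1718 91 = true := by decide +kernel

set_option maxRecDepth 1000000 in
theorem cls_hclo_1719 : allC (cloChk dD dC dE dCl) 1719 91 = true := by decide +kernel

set_option maxRecDepth 1000000 in
theorem cls_hclo_1720 : allC (cloChk dD dC dE dCl) 1720 91 = true := by decide +kernel

set_option maxRecDepth 1000000 in
theorem cls_hclo_1721 : allC (cloChk dD dC dE dCl) 1721 91 = true := by decide +kernel

set_option maxRecDepth 1000000 in
theorem cls_hclo_1722 : allC (cloChk dD dC dE dCl) 1722 91 = true := by decide +kernel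

set_option maxRecDepth 1000000 in
theorem cls_hclo_1723 : allC (cloChk dD dC dE dCl) 1723 91 = true := by decide +kernel

set_option maxRecDepth 1000000 in
theorem cls_hclo_1724 : allC (cloChk dD dC dE dCl) 1724 91 = true := by decide +kernel

set_option maxRecDepth 1000000 in
theorem cls_hclo_1725 : allC (cloChk dD dC dE dCl) 1725 91 = true := by decide +kernel

set_option maxRecDepth 1000000 in
theorem cls_hclo_1726 : allC (cloChk dD dC dE dCl) 1726 91 = true := by decide +kernel

set_option maxRecDepth 1000000 in
theorem cls_hclo_1727 : allC (cloChk dD dC dE dCl) 1727 91 = true := by decide +kernel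

set_option maxRecDepth 1000000 in
theorem cls_hclo_1728 : allC (cloChk dD dC dE dCl) 1728 91 = true := by decide +kernel

set_option maxRecDepth 1000000 in
theorem cls_hclo_1729 : allC (cloChk dD dC dE dCl) 1729 91 = true := by decide +kernel

set_option maxRecDepth 1000000 in
theorem cls_hclo_1730 : allC (cloChk dD dC dE dCl) 1730 91 = true := by decide +kernel

set_option maxRecDepth 1000000 in
theorem cls_hclo_1731 : allC (cloChk dD dC dE dCl) 1731 91 = true := by decide +kernel

set_option maxRecDepth 1000000 in
theorem cls_hclo_1732 : allC (cloChk dD dC dE dCl) 1732 91 = true := by decide +kernel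

set_option maxRecDepth 1000000 in
theorem cls_hclo_1733 : allC (cloChk dD dC dE dCl) 1733 91 = true := by decide +kernel

set_option maxRecDepth 1000000 in
theorem cls_hclo_1734 : allC (cloChk dD dC dE dCl) 1734 91 = true := by decide +kernel

set_option maxRecDepth 1000000 in
theorem cls_hclo_1735 : allC (cloChk dD dC dE dCl) 1735 91 = true := by decide +kernel

set_option maxRecDepth 1000000 in
theorem cls_hclo_1736 : allC (cloChk dD dC dE dCl) 1736 91 = true := by decide +kernel

set_option maxRecDepth 1000000 in
theorem cls_hclo_1737 : allC (cloChk dD dC dE dCl) 1737 91 = true := by decide +kernel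

set_option maxRecDepth 1000000 in
theorem cls_hclo_1738 : allC (cloChk dD dC dE dCl) 1738 91 = true := by decide +kernel

set_option maxRecDepth 1000000 in
theorem cls_hclo_1739 : allC (cloChk dD dC dE dCl) 1739 91 = true := by decide +kernel

set_option maxRecDepth 1000000 in
theorem cls_hclo_1740 : allC (cloChk dD dC dE dCl) 1740 91 = true := by decide +kernel

set_option maxRecDepth 1000000 in
theorem cls_hclo_1741 : allC (cloChk dD dC dE dCl) 1741 91 = true := by decide +kernel

set_option maxRecDepth 1000000 in
theorem cls_hclo_1742 : allC (cloChk dD dC dE dCl) 1742 91 = true := by decide +kernel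

set_option maxRecDepth 1000000 in
theorem cls_hclo_1743 : allC (cloChk dD dC dE dCl) 1743 91 = true := by decide +kernel

set_option maxRecDepth 1000000 in
theorem cls_hclo_1744 : allC (cloChk dD dC dE dCl) 1744 91 = true := by decide +kernel

set_option maxRecDepth 1000000 in
theorem cls_hclo_1745 : allC (cloChk dD dC dE dCl) 1745 91 = true := by decide +kernel

set_option maxRecDepth 1000000 in
theorem cls_hclo_1746 : allC (cloChk dD dC dE dCl) 1746 91 = true := by decide +kernel

set_option maxRecDepth 1000000 in
theorem cls_hclo_1747 : allC (cloChk dD dC dE dCl) 1747 91 = true := by decide +kernel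

set_option maxRecDepth 1000000 in
theorem cls_hclo_1748 : allC (cloChk dD dC dE dCl) 1748 91 = true := by decide +kernel

set_option maxRecDepth 1000000 in
theorem cls_hclo_1749 : allC (cloChk dD dC dE dCl) 1749 91 = true := by decide +kernel

set_option maxRecDepth 1000000 in
theorem cls_hclo_1750 : allC (cloChk dD dC dE dCl) 1750 91 = true := by decide +kernel

set_option maxRecDepth 1000000 in
theorem cls_hclo_1751 : allC (cloChk dD dC dE dCl) 1751 91 = true := by decide +kernel

set_option maxRecDepth 1000000 in
theorem cls_hclo_1752 : allC (cloChk dD dC dE dCl) 1752 91 = true := by decide +kernel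

set_option maxRecDepth 1000000 in
theorem cls_hclo_1753 : allC (cloChk dD dC dE dCl) 1753 91 = true := by decide +kernel

set_option maxRecDepth 1000000 in
theorem cls_hclo_1754 : allC (cloChk dD dC dE dCl) 1754 91 = true := by decide +kernel

set_option maxRecDepth 1000000 in
theorem cls_hclo_1755 : allC (cloChk dD dC dE dCl) 1755 91 = true := by decide +kernel

set_option maxRecDepth 1000000 in
theorem cls_hclo_1756 : allC (cloChk dD dC dE dCl) 1756 91 = true := by decide +kernel

set_option maxRecDepth 1000000 in
theorem cls_hclo_1757 : allC (cloChk dD dC dE dCl) 1757 91 = true := by decide +kernel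

set_option maxRecDepth 1000000 in
theorem cls_hclo_1758 : allC (cloChk dD dC dE dCl) 1758 91 = true := by decide +kernel

set_option maxRecDepth 1000000 in
theorem cls_hclo_1759 : allC (cloChk dD dC dE dCl) 1759 91 = true := by decide +kernel

set_option maxRecDepth 1000000 in
theorem cls_hclo_1760 : allC (cloChk dD dC dE dCl) 1760 91 = true := by decide +kernel

set_option maxRecDepth 1000000 in
theorem cls_hclo_1761 : allC (cloChk dD dC dE dCl) 1761 91 = true := by decide +kernel

set_option maxRecDepth 1000000 in
theorem cls_hclo_1762 : allC (cloChk dD dC dE dCl) 1762 91 = true := by decide +kernel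

set_option maxRecDepth 1000000 in
theorem cls_hclo_1763 : allC (cloChk dD dC dE dCl) 1763 91 = true := by decide +kernel

set_option maxRecDepth 1000000 in
theorem cls_hclo_1764 : allC (cloChk dD dC dE dCl) 1764 91 = true := by decide +kernel

set_option maxRecDepth 1000000 in
theorem cls_hclo_1765 : allC (cloChk dD dC dE dCl) 1765 91 = true := by decide +kernel

set_option maxRecDepth 1000000 in
theorem cls_hclo_1766 : allC (cloChk dD dC dE dCl) 1766 91 = true := by decide +kernel

set_option maxRecDepth 1000000 in
theorem cls_hclo_1767 : allC (cloChk dD dC dE dCl) 1767 91 = true := by decide +kernel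

set_option maxRecDepth 1000000 in
theorem cls_hclo_1768 : allC (cloChk dD dC dE dCl) 1768 91 = true := by decide +kernel

set_option maxRecDepth 1000000 in
theorem cls_hclo_1769 : allC (cloChk dD dC dE dCl) 1769 91 = true := by decide +kernel

set_option maxRecDepth 1000000 in
theorem cls_hclo_1770 : allC (cloChk dD dC dE dCl) 1770 91 = true := by decide +kernel

set_option maxRecDepth 1000000 in
theorem cls_hclo_1771 : allC (cloChk dD dC dE dCl) 1771 91 = true := by decide +kernel

set_option maxRecDepth 1000000 in
theorem cls_hclo_1772 : allC (cloChk dD dC dE dCl) 1772 91 = true := by decide +kernel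

set_option maxRecDepth 1000000 in
theorem cls_hclo_1773 : allC (cloChk dD dC dE dCl) 1773 91 = true := by decide +kernel

set_option maxRecDepth 1000000 in
theorem cls_hclo_1774 : allC (cloChk dD dC dE dCl) 1774 91 = true := by decide +kernel

set_option maxRecDepth 1000000 in
theorem cls_hclo_1775 : allC (cloChk dD dC dE dCl) 1775 91 = true := by decide +kernel

set_option maxRecDepth 1000000 in
theorem cls_hclo_1776 : allC (cloChk dD dC dE dCl) 1776 91 = true := by decide +kernel

set_option maxRecDepth 1000000 in
theorem cls_hclo_1777 : allC (cloChk dD dC dE dCl) 1777 91 = true := by decide +kernel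

set_option maxRecDepth 1000000 in
theorem cls_hclo_1778 : allC (cloChk dD dC dE dCl) 1778 91 = true := by decide +kernel

set_option maxRecDepth 1000000 in
theorem cls_hclo_1779 : allC (cloChk dD dC dE dCl) 1779 91 = true := by decide +kernel

set_option maxRecDepth 1000000 in
theorem cls_hclo_1780 : allC (cloChk dD dC dE dCl) 1780 91 = true := by decide +kernel

set_option maxRecDepth 1000000 in
theorem cls_hclo_1781 : allC (cloChk dD dC dE dCl) 1781 91 = true := by decide +kernel

set_option maxRecDepth 1000000 in
theorem cls_hclo_1782 : allC (cloChk dD dC dE dCl) 1782 91 = true := by decide +kernel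

set_option maxRecDepth 1000000 in
theorem cls_hclo_1783 : allC (cloChk dD dC dE dCl) 1783 91 = true := by decide +kernel

set_option maxRecDepth 1000000 in
theorem cls_hclo_1784 : allC (cloChk dD dC dE dCl) 1784 91 = true := by decide +kernel

set_option maxRecDepth 1000000 in
theorem cls_hclo_1785 : allC (cloChk dD dC dE dCl) 1785 91 = true := by decide +kernel

set_option maxRecDepth 1000000 in
theorem cls_hclo_1786 : allC (cloChk dD dC dE dCl) 1786 91 = true := by decide +kernel

set_option maxRecDepth 1000000 in
theorem cls_hclo_1787 : allC (cloChk dD dC dE dCl) 1787 91 = true := by decide +kernel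

set_option maxRecDepth 1000000 in
theorem cls_hclo_1788 : allC (cloChk dD dC dE dCl) 1788 91 = true := by decide +kernel

set_option maxRecDepth 1000000 in
theorem cls_hclo_1789 : allC (cloChk dD dC dE dCl) 1789 91 = true := by decide +kernel

set_option maxRecDepth 1000000 in
theorem cls_hclo_1790 : allC (cloChk dD dC dE dCl) 1790 91 = true := by decide +kernel

set_option maxRecDepth 1000000 in
theorem cls_hclo_1791 : allC (cloChk dD dC dE dCl) 1791 91 = true := by decide +kernel

set_option maxRecDepth 1000000 in
theorem cls_hclo_1792 : allC (cloChk dD dC dE dCl) 1792 91 = true := by decide +kernel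

set_option maxRecDepth 1000000 in
theorem cls_hclo_1793 : allC (cloChk dD dC dE dCl) 1793 91 = true := by decide +kernel

set_option maxRecDepth 1000000 in
theorem cls_hclo_1794 : allC (cloChk dD dC dE dCl) 1794 91 = true := by decide +kernel

set_option maxRecDepth 1000000 in
theorem cls_hclo_1795 : allC (cloChk dD dC dE dCl) 1795 91 = true := by decide +kernel

set_option maxRecDepth 1000000 in
theorem cls_hclo_1796 : allC (cloChk dD dC dE dCl) 1796 91 = true := by decide +kernel

set_option maxRecDepth 1000000 in
theorem cls_hclo_1797 : allC (cloChk dD dC dE dCl) 1797 91 = true := by decide +kernel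

set_option maxRecDepth 1000000 in
theorem cls_hclo_1798 : allC (cloChk dD dC dE dCl) 1798 91 = true := by decide +kernel

set_option maxRecDepth 1000000 in
theorem cls_hclo_1799 : allC (cloChk dD dC dE dCl) 1799 91 = true := by decide +kernel

end Cfsg.Agent.Helper9.RuO

end
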