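import Mathlib
import Cfsg.Agent.Helper9.RuO.Data

set_option autoImplicit false

/-! Kernel checks of the certificates, a part. -/

noncomputable section

namespace Cfsg.Agent.Helper9.RuO

open Cfsg.Agent.Helper9.OutG Cfsg.Agent.Helper9.J3

set_option maxRecDepth 1000000 in
theorem cls_hclo_1800 : allC (cloChk dD dC dE dCl) 1800 91 = true := by decide +kernel

set_option maxRecDepth 1000000 in
theorem cls_hclo_1801 : allC (cloChk dD dC dE dCl) 1801 91 = true := by decide +kernel

set_option maxRecDepth 1000000 in
theorem cls_hclo_1802 : allC (cloChk dD dC dE dCl) 1802 91 = true := by decide +kernel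

set_option maxRecDepth 1000000 in
theorem cls_hclo_1803 : allC (cloChk dD dC dE dCl) 1803 91 = true := by decide +kernel

set_option maxRecDepth 1000000 in
theorem cls_hclo_1804 : allC (cloChk dD dC dE dCl) 1804 91 = true := by decide +kernel

set_option maxRecDepth 1000000 in
theorem cls_hclo_1805 : allC (cloChk dD dC dE dCl) 1805 91 = true := by decide +kernel

set_option maxRecDepth 1000000 in
theorem cls_hclo_1806 : allC (cloChk dD dC dE dCl) 1806 91 = true := by decide +kernel

set_option maxRecDepth 1000000 in
theorem cls_hclo_1807 : allC (cloChk dD dC dE dCl) 1807 91 = true := by decide +kernel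

set_option maxRecDepth 1000000 in
theorem cls_hclo_1808 : allC (cloChk dD dC dE dCl) 1808 91 = true := by decide +kernel

set_option maxRecDepth 1000000 in
theorem cls_hclo_1809 : allC (cloChk dD dC dE dCl) 1809 91 = true := by decide +kernel

set_option maxRecDepth 1000000 in
theorem cls_hclo_1810 : allC (cloChk dD dC dE dCl) 1810 91 = true := by decide +kernel

set_option maxRecDepth 1000000 in
theorem cls_hclo_1811 : allC (cloChk dD dC dE dCl) 1811 91 = true := by decide +kernel

set_option maxRecDepth 1000000 in
theorem cls_hclo_1812 : allC (cloChk dD dC dE dCl) 1812 91 = true := by decide +kernel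

set_option maxRecDepth 1000000 in
theorem cls_hclo_1813 : allC (cloChk dD dC dE dCl) 1813 91 = true := by decide +kernel

set_option maxRecDepth 1000000 in
theorem cls_hclo_1814 : allC (cloChk dD dC dE dCl) 1814 91 = true := by decide +kernel

set_option maxRecDepth 1000000 in
theorem cls_hclo_1815 : allC (cloChk dD dC dE dCl) 1815 91 = true := by decide +kernel

set_option maxRecDepth 1000000 in
theorem cls_hclo_1816 : allC (cloChk dD dC dE dCl) 1816 91 = true := by decide +kernel

set_option maxRecDepth 1000000 in
theorem cls_hclo_1817 : allC (cloChk dD dC dE dCl) 1817 91 = true := by decide +kernel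

set_option maxRecDepth 1000000 in
theorem cls_hclo_1818 : allC (cloChk dD dC dE dCl) 1818 91 = true := by decide +kernel

set_option maxRecDepth 1000000 in
theorem cls_hclo_1819 : allC (cloChk dD dC dE dCl) 1819 91 = true := by decide +kernel

set_option maxRecDepth 1000000 in
theorem cls_hclo_1820 : allC (cloChk dD dC dE dCl) 1820 91 = true := by decide +kernel

set_option maxRecDepth 1000000 in
theorem cls_hclo_1821 : allC (cloChk dD dC dE dCl) 1821 91 = true := by decide +kernel

set_option maxRecDepth 1000000 in
theorem cls_hclo_1822 : allC (cloChk dD dC dE dCl) 1822 91 = true := by decide +kernel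

set_option maxRecDepth 1000000 in
theorem cls_hclo_1823 : allC (cloChk dD dC dE dCl) 1823 91 = true := by decide +kernel

set_option maxRecDepth 1000000 in
theorem cls_hclo_1824 : allC (cloChk dD dC dE dCl) 1824 91 = true := by decide +kernel

set_option maxRecDepth 1000000 in
theorem cls_hclo_1825 : allC (cloChk dD dC dE dCl) 1825 91 = true := by decide +kernel

set_option maxRecDepth 1000000 in
theorem cls_hclo_1826 : allC (cloChk dD dC dE dCl) 1826 91 = true := by decide +kernel

set_option maxRecDepth 1000000 in
theorem cls_hclo_1827 : allC (cloChk dD dC dE dCl) 1827 91 = true := by decide +kernel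

set_option maxRecDepth 1000000 in
theorem cls_hclo_1828 : allC (cloChk dD dC dE dCl) 1828 91 = true := by decide +kernel

set_option maxRecDepth 1000000 in
theorem cls_hclo_1829 : allC (cloChk dD dC dE dCl) 1829 91 = true := by decide +kernel

set_option maxRecDepth 1000000 in
theorem cls_hclo_1830 : allC (cloChk dD dC dE dCl) 1830 91 = true := by decide +kernel

set_option maxRecDepth 1000000 in
theorem cls_hclo_1831 : allC (cloChk dD dC dE dCl) 1831 91 = true := by decide +kernel

set_option maxRecDepth 1000000 in
theorem cls_hclo_1832 : allC (cloChk dD dC dE dCl) 1832 91 = true := by decide +kernel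

set_option maxRecDepth 1000000 in
theorem cls_hclo_1833 : allC (cloChk dD dC dE dCl) 1833 91 = true := by decide +kernel

set_option maxRecDepth 1000000 in
theorem cls_hclo_1834 : allC (cloChk dD dC dE dCl) 1834 91 = true := by decide +kernel

set_option maxRecDepth 1000000 in
theorem cls_hclo_1835 : allC (cloChk dD dC dE dCl) 1835 91 = true := by decide +kernel

set_option maxRecDepth 1000000 in
theorem cls_hclo_1836 : allC (cloChk dD dC dE dCl) 1836 91 = true := by decide +kernel

set_option maxRecDepth 1000000 in
theorem cls_hclo_1837 : allC (cloChk dD dC dE dCl) 1837 91 = true := by decide +kernel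

set_option maxRecDepth 1000000 in
theorem cls_hclo_1838 : allC (cloChk dD dC dE dCl) 1838 91 = true := by decide +kernel

set_option maxRecDepth 1000000 in
theorem cls_hclo_1839 : allC (cloChk dD dC dE dCl) 1839 91 = true := by decide +kernel

set_option maxRecDepth 1000000 in
theorem cls_hclo_1840 : allC (cloChk dD dC dE dCl) 1840 91 = true := by decide +kernel

set_option maxRecDepth 1000000 in
theorem cls_hclo_1841 : allC (cloChk dD dC dE dCl) 1841 91 = true := by decide +kernel

set_option maxRecDepth 1000000 in
theorem cls_hclo_1842 : allC (cloChk dD dC dE dCl) 1842 91 = true := by decide +kernel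

set_option maxRecDepth 1000000 in
theorem cls_hclo_1843 : allC (cloChk dD dC dE dCl) 1843 91 = true := by decide +kernel

set_option maxRecDepth 1000000 in
theorem cls_hclo_1844 : allC (cloChk dD dC dE dCl) 1844 91 = true := by decide +kernel

set_option maxRecDepth 1000000 in
theorem cls_hclo_1845 : allC (cloChk dD dC dE dCl) 1845 91 = true := by decide +kernel

set_option maxRecDepth 1000000 in
theorem cls_hclo_1846 : allC (cloChk dD dC dE dCl) 1846 91 = true := by decide +kernel

set_option maxRecDepth 1000000 in
theorem cls_hclo_1847 : allC (cloChk dD dC dE dCl) 1847 91 = true := by decide +kernel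

set_option maxRecDepth 1000000 in
theorem cls_hclo_1848 : allC (cloChk dD dC dE dCl) 1848 91 = true := by decide +kernel

set_option maxRecDepth 1000000 in
theorem cls_hclo_1849 : allC (cloChk dD dC dE dCl) 1849 91 = true := by decide +kernel

set_option maxRecDepth 1000000 in
theorem cls_hclo_1850 : allC (cloChk dD dC dE dCl) 1850 91 = true := by decide +kernel

set_option maxRecDepth 1000000 in
theorem cls_hclo_1851 : allC (cloChk dD dC dE dCl) 1851 91 = true := by decide +kernel

set_option maxRecDepth 1000000 in
theorem cls_hclo_1852 : allC (cloChk dD dC dE dCl) 1852 91 = true := by decide +kernel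

set_option maxRecDepth 1000000 in
theorem cls_hclo_1853 : allC (cloChk dD dC dE dCl) 1853 91 = true := by decide +kernel

set_option maxRecDepth 1000000 in
theorem cls_hclo_1854 : allC (cloChk dD dC dE dCl) 1854 91 = true := by decide +kernel

set_option maxRecDepth 1000000 in
theorem cls_hclo_1855 : allC (cloChk dD dC dE dCl) 1855 91 = true := by decide +kernel

set_option maxRecDepth 1000000 in
theorem cls_hclo_1856 : allC (cloChk dD dC dE dCl) 1856 91 = true := by decide +kernel

set_option maxRecDepth 1000000 in
theorem cls_hclo_1857 : allC (cloChk dD dC dE dCl) 1857 91 = true := by decide +kernel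

set_option maxRecDepth 1000000 in
theorem cls_hclo_1858 : allC (cloChk dD dC dE dCl) 1858 91 = true := by decide +kernel

set_option maxRecDepth 1000000 in
theorem cls_hclo_1859 : allC (cloChk dD dC dE dCl) 1859 91 = true := by decide +kernel

set_option maxRecDepth 1000000 in
theorem cls_hclo_1860 : allC (cloChk dD dC dE dCl) 1860 91 = true := by decide +kernel

set_option maxRecDepth 1000000 in
theorem cls_hclo_1861 : allC (cloChk dD dC dE dCl) 1861 91 = true := by decide +kernel

set_option maxRecDepth 1000000 in
theorem cls_hclo_1862 : allC (cloChk dD dC dE dCl) 1862 91 = true := by decide +kernel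

set_option maxRecDepth 1000000 in
theorem cls_hclo_1863 : allC (cloChk dD dC dE dCl) 1863 91 = true := by decide +kernel

set_option maxRecDepth 1000000 in
theorem cls_hclo_1864 : allC (cloChk dD dC dE dCl) 1864 91 = true := by decide +kernel

set_option maxRecDepth 1000000 in
theorem cls_hclo_1865 : allC (cloChk dD dC dE dCl) 1865 91 = true := by decide +kernel

set_option maxRecDepth 1000000 in
theorem cls_hclo_1866 : allC (cloChk dD dC dE dCl) 1866 91 = true := by decide +kernel

set_option maxRecDepth 1000000 in
theorem cls_hclo_1867 : allC (cloChk dD dC dE dCl) 1867 91 = true := by decide +kernel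

set_option maxRecDepth 1000000 in
theorem cls_hclo_1868 : allC (cloChk dD dC dE dCl) 1868 91 = true := by decide +kernel

set_option maxRecDepth 1000000 in
theorem cls_hclo_1869 : allC (cloChk dD dC dE dCl) 1869 91 = true := by decide +kernel

set_option maxRecDepth 1000000 in
theorem cls_hclo_1870 : allC (cloChk dD dC dE dCl) 1870 91 = true := by decide +kernel

set_option maxRecDepth 1000000 in
theorem cls_hclo_1871 : allC (cloChk dD dC dE dCl) 1871 91 = true := by decide +kernel

set_option maxRecDepth 1000000 in
theorem cls_hclo_1872 : allC (cloChk dD dC dE dCl) 1872 91 = true := by decide +kernel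

set_option maxRecDepth 1000000 in
theorem cls_hclo_1873 : allC (cloChk dD dC dE dCl) 1873 91 = true := by decide +kernel

set_option maxRecDepth 1000000 in
theorem cls_hclo_1874 : allC (cloChk dD dC dE dCl) 1874 91 = true := by decide +kernel

set_option maxRecDepth 1000000 in
theorem cls_hclo_1875 : allC (cloChk dD dC dE dCl) 1875 91 = true := by decide +kernel

set_option maxRecDepth 1000000 in
theorem cls_hclo_1876 : allC (cloChk dD dC dE dCl) 1876 91 = true := by decide +kernel

set_option maxRecDepth 1000000 in
theorem cls_hclo_1877 : allC (cloChk dD dC dE dCl) 1877 91 = true := by decide +kernel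

set_option maxRecDepth 1000000 in
theorem cls_hclo_1878 : allC (cloChk dD dC dE dCl) 1878 91 = true := by decide +kernel

set_option maxRecDepth 1000000 in
theorem cls_hclo_1879 : allC (cloChk dD dC dE dCl) 1879 91 = true := by decide +kernel

set_option maxRecDepth 1000000 in
theorem cls_hclo_1880 : allC (cloChk dD dC dE dCl) 1880 91 = true := by decide +kernel

set_option maxRecDepth 1000000 in
theorem cls_hclo_1881 : allC (cloChk dD dC dE dCl) 1881 91 = true := by decide +kernel

set_option maxRecDepth 1000000 in
theorem cls_hclo_1882 : allC (cloChk dD dC dE dCl) 1882 91 = true := by decide +kernel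

set_option maxRecDepth 1000000 in
theorem cls_hclo_1883 : allC (cloChk dD dC dE dCl) 1883 91 = true := by decide +kernel

set_option maxRecDepth 1000000 in
theorem cls_hclo_1884 : allC (cloChk dD dC dE dCl) 1884 91 = true := by decide +kernel

set_option maxRecDepth 1000000 in
theorem cls_hclo_1885 : allC (cloChk dD dC dE dCl) 1885 91 = true := by decide +kernel

set_option maxRecDepth 1000000 in
theorem cls_hclo_1886 : allC (cloChk dD dC dE dCl) 1886 91 = true := by decide +kernel

set_option maxRecDepth 1000000 in
theorem cls_hclo_1887 : allC (cloChk dD dC dE dCl) 1887 91 = true := by decide +kernel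

set_option maxRecDepth 1000000 in
theorem cls_hclo_1888 : allC (cloChk dD dC dE dCl) 1888 91 = true := by decide +kernel

set_option maxRecDepth 1000000 in
theorem cls_hclo_1889 : allC (cloChk dD dC dE dCl) 1889 91 = true := by decide +kernel

set_option maxRecDepth 1000000 in
theorem cls_hclo_1890 : allC (cloChk dD dC dE dCl) 1890 91 = true := by decide +kernel

set_option maxRecDepth 1000000 in
theorem cls_hclo_1891 : allC (cloChk dD dC dE dCl) 1891 91 = true := by decide +kernel

set_option maxRecDepth 1000000 in
theorem cls_hclo_1892 : allC (cloChk dD dC dE dCl) 1892 91 = true := by decide +kernel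

set_option maxRecDepth 1000000 in
theorem cls_hclo_1893 : allC (cloChk dD dC dE dCl) 1893 91 = true := by decide +kernel

set_option maxRecDepth 1000000 in
theorem cls_hclo_1894 : allC (cloChk dD dC dE dCl) 1894 91 = true := by decide +kernel

set_option maxRecDepth 1000000 in
theorem cls_hclo_1895 : allC (cloChk dD dC dE dCl) 1895 91 = true := by decide +kernel

set_option maxRecDepth 1000000 in
theorem cls_hclo_1896 : allC (cloChk dD dC dE dCl) 1896 91 = true := by decide +kernel

set_option maxRecDepth 1000000 in
theorem cls_hclo_1897 : allC (cloChk dD dC dE dCl) 1897 91 = true := by decide +kernel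

set_option maxRecDepth 1000000 in
theorem cls_hclo_1898 : allC (cloChk dD dC dE dCl) 1898 91 = true := by decide +kernel

set_option maxRecDepth 1000000 in
theorem cls_hclo_1899 : allC (cloChk dD dC dE dCl) 1899 91 = true := by decide +kernel

end Cfsg.Agent.Helper9.RuO

end
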