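import Mathlib
import Cfsg.Agent.Helper9.RuO.Data

set_option autoImplicit false

/-! Kernel checks of the certificates, a part. -/

noncomputable section

namespace Cfsg.Agent.Helper9.RuO

open Cfsg.Agent.Helper9.OutG Cfsg.Agent.Helper9.J3

set_option maxRecDepth 1000000 in
theorem cls_hclo_1900 : allC (cloChk dD dC dE dCl) 1900 91 = true := by decide +kernel

set_option maxRecDepth 1000000 in
theorem cls_hclo_1901 : allC (cloChk dD dC dE dCl) 1901 91 = true := by decide +kernel

set_option maxRecDepth 1000000 in
theorem cls_hclo_1902 : allC (cloChk dD dC dE dCl) 1902 91 = true := by decide +kernel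

set_option maxRecDepth 1000000 in
theorem cls_hclo_1903 : allC (cloChk dD dC dE dCl) 1903 91 = true := by decide +kernel

set_option maxRecDepth 1000000 in
theorem cls_hclo_1904 : allC (cloChk dD dC dE dCl) 1904 91 = true := by decide +kernel

set_option maxRecDepth 1000000 in
theorem cls_hclo_1905 : allC (cloChk dD dC dE dCl) 1905 91 = true := by decide +kernel

set_option maxRecDepth 1000000 in
theorem cls_hclo_1906 : allC (cloChk dD dC dE dCl) 1906 91 = true := by decide +kernel

set_option maxRecDepth 1000000 in
theorem cls_hclo_1907 : allC (cloChk dD dC dE dCl) 1907 91 = true := by decide +kernel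

set_option maxRecDepth 1000000 in
theorem cls_hclo_1908 : allC (cloChk dD dC dE dCl) 1908 91 = true := by decide +kernel

set_option maxRecDepth 1000000 in
theorem cls_hclo_1909 : allC (cloChk dD dC dE dCl) 1909 91 = true := by decide +kernel

set_option maxRecDepth 1000000 in
theorem cls_hclo_1910 : allC (cloChk dD dC dE dCl) 1910 91 = true := by decide +kernel

set_option maxRecDepth 1000000 in
theorem cls_hclo_1911 : allC (cloChk dD dC dE dCl) 1911 91 = true := by decide +kernel

set_option maxRecDepth 1000000 in
theorem cls_hclo_1912 : allC (cloChk dD dC dE dCl) 1912 91 = true := by decide +kernel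

set_option maxRecDepth 1000000 in
theorem cls_hclo_1913 : allC (cloChk dD dC dE dCl) 1913 91 = true := by decide +kernel

set_option maxRecDepth 1000000 in
theorem cls_hclo_1914 : allC (cloChk dD dC dE dCl) 1914 91 = true := by decide +kernel

set_option maxRecDepth 1000000 in
theorem cls_hclo_1915 : allC (cloChk dD dC dE dCl) 1915 91 = true := by decide +kernel

set_option maxRecDepth 1000000 in
theorem cls_hclo_1916 : allC (cloChk dD dC dE dCl) 1916 91 = true := by decide +kernel

set_option maxRecDepth 1000000 in
theorem cls_hclo_1917 : allC (cloChk dD dC dE dCl) 1917 91 = true := by decide +kernel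

set_option maxRecDepth 1000000 in
theorem cls_hclo_1918 : allC (cloChk dD dC dE dCl) 1918 91 = true := by decide +kernel

set_option maxRecDepth 1000000 in
theorem cls_hclo_1919 : allC (cloChk dD dC dE dCl) 1919 91 = true := by decide +kernel

set_option maxRecDepth 1000000 in
theorem cls_hclo_1920 : allC (cloChk dD dC dE dCl) 1920 91 = true := by decide +kernel

set_option maxRecDepth 1000000 in
theorem cls_hclo_1921 : allC (cloChk dD dC dE dCl) 1921 91 = true := by decide +kernel

set_option maxRecDepth 1000000 in
theorem cls_hclo_1922 : allC (cloChk dD dC dE dCl) 1922 91 = true := by decide +kernel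

set_option maxRecDepth 1000000 in
theorem cls_hclo_1923 : allC (cloChk dD dC dE dCl) 1923 91 = true := by decide +kernel

set_option maxRecDepth 1000000 in
theorem cls_hclo_1924 : allC (cloChk dD dC dE dCl) 1924 91 = true := by decide +kernel

set_option maxRecDepth 1000000 in
theorem cls_hclo_1925 : allC (cloChk dD dC dE dCl) 1925 91 = true := by decide +kernel

set_option maxRecDepth 1000000 in
theorem cls_hclo_1926 : allC (cloChk dD dC dE dCl) 1926 91 = true := by decide +kernel

set_option maxRecDepth 1000000 in
theorem cls_hclo_1927 : allC (cloChk dD dC dE dCl) 1927 91 = true := by decide +kernel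

set_option maxRecDepth 1000000 in
theorem cls_hclo_1928 : allC (cloChk dD dC dE dCl) 1928 91 = true := by decide +kernel

set_option maxRecDepth 1000000 in
theorem cls_hclo_1929 : allC (cloChk dD dC dE dCl) 1929 91 = true := by decide +kernel

set_option maxRecDepth 1000000 in
theorem cls_hclo_1930 : allC (cloChk dD dC dE dCl) 1930 91 = true := by decide +kernel

set_option maxRecDepth 1000000 in
theorem cls_hclo_1931 : allC (cloChk dD dC dE dCl) 1931 91 = true := by decide +kernel

set_option maxRecDepth 1000000 in
theorem cls_hclo_1932 : allC (cloChk dD dC dE dCl) 1932 91 = true := by decide +kernel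

set_option maxRecDepth 1000000 in
theorem cls_hclo_1933 : allC (cloChk dD dC dE dCl) 1933 91 = true := by decide +kernel

set_option maxRecDepth 1000000 in
theorem cls_hclo_1934 : allC (cloChk dD dC dE dCl) 1934 91 = true := by decide +kernel

set_option maxRecDepth 1000000 in
theorem cls_hclo_1935 : allC (cloChk dD dC dE dCl) 1935 91 = true := by decide +kernel

set_option maxRecDepth 1000000 in
theorem cls_hclo_1936 : allC (cloChk dD dC dE dCl) 1936 91 = true := by decide +kernel

set_option maxRecDepth 1000000 in
theorem cls_hclo_1937 : allC (cloChk dD dC dE dCl) 1937 91 = true := by decide +kernel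

set_option maxRecDepth 1000000 in
theorem cls_hclo_1938 : allC (cloChk dD dC dE dCl) 1938 91 = true := by decide +kernel

set_option maxRecDepth 1000000 in
theorem cls_hclo_1939 : allC (cloChk dD dC dE dCl) 1939 91 = true := by decide +kernel

set_option maxRecDepth 1000000 in
theorem cls_hclo_1940 : allC (cloChk dD dC dE dCl) 1940 91 = true := by decide +kernel

set_option maxRecDepth 1000000 in
theorem cls_hclo_1941 : allC (cloChk dD dC dE dCl) 1941 91 = true := by decide +kernel

set_option maxRecDepth 1000000 in
theorem cls_hclo_1942 : allC (cloChk dD dC dE dCl) 1942 91 = true := by decide +kernel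

set_option maxRecDepth 1000000 in
theorem cls_hclo_1943 : allC (cloChk dD dC dE dCl) 1943 91 = true := by decide +kernel

set_option maxRecDepth 1000000 in
theorem cls_hclo_1944 : allC (cloChk dD dC dE dCl) 1944 91 = true := by decide +kernel

set_option maxRecDepth 1000000 in
theorem cls_hclo_1945 : allC (cloChk dD dC dE dCl) 1945 91 = true := by decide +kernel

set_option maxRecDepth 1000000 in
theorem cls_hclo_1946 : allC (cloChk dD dC dE dCl) 1946 91 = true := by decide +kernel

set_option maxRecDepth 1000000 in
theorem cls_hclo_1947 : allC (cloChk dD dC dE dCl) 1947 91 = true := by decide +kernel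

set_option maxRecDepth 1000000 in
theorem cls_hclo_1948 : allC (cloChk dD dC dE dCl) 1948 91 = true := by decide +kernel

set_option maxRecDepth 1000000 in
theorem cls_hclo_1949 : allC (cloChk dD dC dE dCl) 1949 91 = true := by decide +kernel

set_option maxRecDepth 1000000 in
theorem cls_hclo_1950 : allC (cloChk dD dC dE dCl) 1950 91 = true := by decide +kernel

set_option maxRecDepth 1000000 in
theorem cls_hclo_1951 : allC (cloChk dD dC dE dCl) 1951 91 = true := by decide +kernel

set_option maxRecDepth 1000000 in
theorem cls_hclo_1952 : allC (cloChk dD dC dE dCl) 1952 91 = true := by decide +kernel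

set_option maxRecDepth 1000000 in
theorem cls_hclo_1953 : allC (cloChk dD dC dE dCl) 1953 91 = true := by decide +kernel

set_option maxRecDepth 1000000 in
theorem cls_hclo_1954 : allC (cloChk dD dC dE dCl) 1954 91 = true := by decide +kernel

set_option maxRecDepth 1000000 in
theorem cls_hclo_1955 : allC (cloChk dD dC dE dCl) 1955 91 = true := by decide +kernel

set_option maxRecDepth 1000000 in
theorem cls_hclo_1956 : allC (cloChk dD dC dE dCl) 1956 91 = true := by decide +kernel

set_option maxRecDepth 1000000 in
theorem cls_hclo_1957 : allC (cloChk dD dC dE dCl) 1957 91 = true := by decide +kernel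

set_option maxRecDepth 1000000 in
theorem cls_hclo_1958 : allC (cloChk dD dC dE dCl) 1958 91 = true := by decide +kernel

set_option maxRecDepth 1000000 in
theorem cls_hclo_1959 : allC (cloChk dD dC dE dCl) 1959 91 = true := by decide +kernel

set_option maxRecDepth 1000000 in
theorem cls_hclo_1960 : allC (cloChk dD dC dE dCl) 1960 91 = true := by decide +kernel

set_option maxRecDepth 1000000 in
theorem cls_hclo_1961 : allC (cloChk dD dC dE dCl) 1961 91 = true := by decide +kernel

set_option maxRecDepth 1000000 in
theorem cls_hclo_1962 : allC (cloChk dD dC dE dCl) 1962 91 = true := by decide +kernel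

set_option maxRecDepth 1000000 in
theorem cls_hclo_1963 : allC (cloChk dD dC dE dCl) 1963 91 = true := by decide +kernel

set_option maxRecDepth 1000000 in
theorem cls_hclo_1964 : allC (cloChk dD dC dE dCl) 1964 91 = true := by decide +kernel

set_option maxRecDepth 1000000 in
theorem cls_hclo_1965 : allC (cloChk dD dC dE dCl) 1965 91 = true := by decide +kernel

set_option maxRecDepth 1000000 in
theorem cls_hclo_1966 : allC (cloChk dD dC dE dCl) 1966 91 = true := by decide +kernel

set_option maxRecDepth 1000000 in
theorem cls_hclo_1967 : allC (cloChk dD dC dE dCl) 1967 91 = true := by decide +kernel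

set_option maxRecDepth 1000000 in
theorem cls_hclo_1968 : allC (cloChk dD dC dE dCl) 1968 91 = true := by decide +kernel

set_option maxRecDepth 1000000 in
theorem cls_hclo_1969 : allC (cloChk dD dC dE dCl) 1969 91 = true := by decide +kernel

set_option maxRecDepth 1000000 in
theorem cls_hclo_1970 : allC (cloChk dD dC dE dCl) 1970 91 = true := by decide +kernel

set_option maxRecDepth 1000000 in
theorem cls_hclo_1971 : allC (cloChk dD dC dE dCl) 1971 91 = true := by decide +kernel

set_option maxRecDepth 1000000 in
theorem cls_hclo_1972 : allC (cloChk dD dC dE dCl) 1972 91 = true := by decide +kernel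

set_option maxRecDepth 1000000 in
theorem cls_hclo_1973 : allC (cloChk dD dC dE dCl) 1973 91 = true := by decide +kernel

set_option maxRecDepth 1000000 in
theorem cls_hclo_1974 : allC (cloChk dD dC dE dCl) 1974 91 = true := by decide +kernel

set_option maxRecDepth 1000000 in
theorem cls_hclo_1975 : allC (cloChk dD dC dE dCl) 1975 91 = true := by decide +kernel

set_option maxRecDepth 1000000 in
theorem cls_hclo_1976 : allC (cloChk dD dC dE dCl) 1976 91 = true := by decide +kernel

set_option maxRecDepth 1000000 in
theorem cls_hclo_1977 : allC (cloChk dD dC dE dCl) 1977 91 = true := by decide +kernel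

set_option maxRecDepth 1000000 in
theorem cls_hclo_1978 : allC (cloChk dD dC dE dCl) 1978 91 = true := by decide +kernel

set_option maxRecDepth 1000000 in
theorem cls_hclo_1979 : allC (cloChk dD dC dE dCl) 1979 91 = true := by decide +kernel

set_option maxRecDepth 1000000 in
theorem cls_hclo_1980 : allC (cloChk dD dC dE dCl) 1980 91 = true := by decide +kernel

set_option maxRecDepth 1000000 in
theorem cls_hclo_1981 : allC (cloChk dD dC dE dCl) 1981 91 = true := by decide +kernel

set_option maxRecDepth 1000000 in
theorem cls_hclo_1982 : allC (cloChk dD dC dE dCl) 1982 91 = true := by decide +kernel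

set_option maxRecDepth 1000000 in
theorem cls_hclo_1983 : allC (cloChk dD dC dE dCl) 1983 91 = true := by decide +kernel

set_option maxRecDepth 1000000 in
theorem cls_hclo_1984 : allC (cloChk dD dC dE dCl) 1984 91 = true := by decide +kernel

set_option maxRecDepth 1000000 in
theorem cls_hclo_1985 : allC (cloChk dD dC dE dCl) 1985 91 = true := by decide +kernel

set_option maxRecDepth 1000000 in
theorem cls_hclo_1986 : allC (cloChk dD dC dE dCl) 1986 91 = true := by decide +kernel

set_option maxRecDepth 1000000 in
theorem cls_hclo_1987 : allC (cloChk dD dC dE dCl) 1987 91 = true := by decide +kernel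

set_option maxRecDepth 1000000 in
theorem cls_hclo_1988 : allC (cloChk dD dC dE dCl) 1988 91 = true := by decide +kernel

set_option maxRecDepth 1000000 in
theorem cls_hclo_1989 : allC (cloChk dD dC dE dCl) 1989 91 = true := by decide +kernel

set_option maxRecDepth 1000000 in
theorem cls_hclo_1990 : allC (cloChk dD dC dE dCl) 1990 91 = true := by decide +kernel

set_option maxRecDepth 1000000 in
theorem cls_hclo_1991 : allC (cloChk dD dC dE dCl) 1991 91 = true := by decide +kernel

set_option maxRecDepth 1000000 in
theorem cls_hclo_1992 : allC (cloChk dD dC dE dCl) 1992 91 = true := by decide +kernel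

set_option maxRecDepth 1000000 in
theorem cls_hclo_1993 : allC (cloChk dD dC dE dCl) 1993 91 = true := by decide +kernel

set_option maxRecDepth 1000000 in
theorem cls_hclo_1994 : allC (cloChk dD dC dE dCl) 1994 91 = true := by decide +kernel

set_option maxRecDepth 1000000 in
theorem cls_hclo_1995 : allC (cloChk dD dC dE dCl) 1995 91 = true := by decide +kernel

set_option maxRecDepth 1000000 in
theorem cls_hclo_1996 : allC (cloChk dD dC dE dCl) 1996 91 = true := by decide +kernel

set_option maxRecDepth 1000000 in
theorem cls_hclo_1997 : allC (cloChk dD dC dE dCl) 1997 91 = true := by decide +kernel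

set_option maxRecDepth 1000000 in
theorem cls_hclo_1998 : allC (cloChk dD dC dE dCl) 1998 91 = true := by decide +kernel

set_option maxRecDepth 1000000 in
theorem cls_hclo_1999 : allC (cloChk dD dC dE dCl) 1999 91 = true := by decide +kernel

end Cfsg.Agent.Helper9.RuO

end
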