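import Mathlib
import Cfsg.Agent.Helper9.RuO.Data

set_option autoImplicit false

/-! Kernel checks of the certificates, a part. -/

noncomputable section

namespace Cfsg.Agent.Helper9.RuO

open Cfsg.Agent.Helper9.OutG Cfsg.Agent.Helper9.J3

set_option maxRecDepth 1000000 in
theorem cls_hclo_200 : allC (cloChk dD dC dE dCl) 200 91 = true := by decide +kernel

set_option maxRecDepth 1000000 in
theorem cls_hclo_201 : allC (cloChk dD dC dE dCl) 201 91 = true := by decide +kernel

set_option maxRecDepth 1000000 in
theorem cls_hclo_202 : allC (cloChk dD dC dE dCl) 202 91 = true := by decide +kernel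

set_option maxRecDepth 1000000 in
theorem cls_hclo_203 : allC (cloChk dD dC dE dCl) 203 91 = true := by decide +kernel

set_option maxRecDepth 1000000 in
theorem cls_hclo_204 : allC (cloChk dD dC dE dCl) 204 91 = true := by decide +kernel

set_option maxRecDepth 1000000 in
theorem cls_hclo_205 : allC (cloChk dD dC dE dCl) 205 91 = true := by decide +kernel

set_option maxRecDepth 1000000 in
theorem cls_hclo_206 : allC (cloChk dD dC dE dCl) 206 91 = true := by decide +kernel

set_option maxRecDepth 1000000 in
theorem cls_hclo_207 : allC (cloChk dD dC dE dCl) 207 91 = true := by decide +kernel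

set_option maxRecDepth 1000000 in
theorem cls_hclo_208 : allC (cloChk dD dC dE dCl) 208 91 = true := by decide +kernel

set_option maxRecDepth 1000000 in
theorem cls_hclo_209 : allC (cloChk dD dC dE dCl) 209 91 = true := by decide +kernel

set_option maxRecDepth 1000000 in
theorem cls_hclo_210 : allC (cloChk dD dC dE dCl) 210 91 = true := by decide +kernel

set_option maxRecDepth 1000000 in
theorem cls_hclo_211 : allC (cloChk dD dC dE dCl) 211 91 = true := by decide +kernel

set_option maxRecDepth 1000000 in
theorem cls_hclo_212 : allC (cloChk dD dC dE dCl) 212 91 = true := by decide +kernel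

set_option maxRecDepth 1000000 in
theorem cls_hclo_213 : allC (cloChk dD dC dE dCl) 213 91 = true := by decide +kernel

set_option maxRecDepth 1000000 in
theorem cls_hclo_214 : allC (cloChk dD dC dE dCl) 214 91 = true := by decide +kernel

set_option maxRecDepth 1000000 in
theorem cls_hclo_215 : allC (cloChk dD dC dE dCl) 215 91 = true := by decide +kernel

set_option maxRecDepth 1000000 in
theorem cls_hclo_216 : allC (cloChk dD dC dE dCl) 216 91 = true := by decide +kernel

set_option maxRecDepth 1000000 in
theorem cls_hclo_217 : allC (cloChk dD dC dE dCl) 217 91 = true := by decide +kernel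

set_option maxRecDepth 1000000 in
theorem cls_hclo_218 : allC (cloChk dD dC dE dCl) 218 91 = true := by decide +kernel

set_option maxRecDepth 1000000 in
theorem cls_hclo_219 : allC (cloChk dD dC dE dCl) 219 91 = true := by decide +kernel

set_option maxRecDepth 1000000 in
theorem cls_hclo_220 : allC (cloChk dD dC dE dCl) 220 91 = true := by decide +kernel

set_option maxRecDepth 1000000 in
theorem cls_hclo_221 : allC (cloChk dD dC dE dCl) 221 91 = true := by decide +kernel

set_option maxRecDepth 1000000 in
theorem cls_hclo_222 : allC (cloChk dD dC dE dCl) 222 91 = true := by decide +kernel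

set_option maxRecDepth 1000000 in
theorem cls_hclo_223 : allC (cloChk dD dC dE dCl) 223 91 = true := by decide +kernel

set_option maxRecDepth 1000000 in
theorem cls_hclo_224 : allC (cloChk dD dC dE dCl) 224 91 = true := by decide +kernel

set_option maxRecDepth 1000000 in
theorem cls_hclo_225 : allC (cloChk dD dC dE dCl) 225 91 = true := by decide +kernel

set_option maxRecDepth 1000000 in
theorem cls_hclo_226 : allC (cloChk dD dC dE dCl) 226 91 = true := by decide +kernel

set_option maxRecDepth 1000000 in
theorem cls_hclo_227 : allC (cloChk dD dC dE dCl) 227 91 = true := by decide +kernel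

set_option maxRecDepth 1000000 in
theorem cls_hclo_228 : allC (cloChk dD dC dE dCl) 228 91 = true := by decide +kernel

set_option maxRecDepth 1000000 in
theorem cls_hclo_229 : allC (cloChk dD dC dE dCl) 229 91 = true := by decide +kernel

set_option maxRecDepth 1000000 in
theorem cls_hclo_230 : allC (cloChk dD dC dE dCl) 230 91 = true := by decide +kernel

set_option maxRecDepth 1000000 in
theorem cls_hclo_231 : allC (cloChk dD dC dE dCl) 231 91 = true := by decide +kernel

set_option maxRecDepth 1000000 in
theorem cls_hclo_232 : allC (cloChk dD dC dE dCl) 232 91 = true := by decide +kernel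

set_option maxRecDepth 1000000 in
theorem cls_hclo_233 : allC (cloChk dD dC dE dCl) 233 91 = true := by decide +kernel

set_option maxRecDepth 1000000 in
theorem cls_hclo_234 : allC (cloChk dD dC dE dCl) 234 91 = true := by decide +kernel

set_option maxRecDepth 1000000 in
theorem cls_hclo_235 : allC (cloChk dD dC dE dCl) 235 91 = true := by decide +kernel

set_option maxRecDepth 1000000 in
theorem cls_hclo_236 : allC (cloChk dD dC dE dCl) 236 91 = true := by decide +kernel

set_option maxRecDepth 1000000 in
theorem cls_hclo_237 : allC (cloChk dD dC dE dCl) 237 91 = true := by decide +kernel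

set_option maxRecDepth 1000000 in
theorem cls_hclo_238 : allC (cloChk dD dC dE dCl) 238 91 = true := by decide +kernel

set_option maxRecDepth 1000000 in
theorem cls_hclo_239 : allC (cloChk dD dC dE dCl) 239 91 = true := by decide +kernel

set_option maxRecDepth 1000000 in
theorem cls_hclo_240 : allC (cloChk dD dC dE dCl) 240 91 = true := by decide +kernel

set_option maxRecDepth 1000000 in
theorem cls_hclo_241 : allC (cloChk dD dC dE dCl) 241 91 = true := by decide +kernel

set_option maxRecDepth 1000000 in
theorem cls_hclo_242 : allC (cloChk dD dC dE dCl) 242 91 = true := by decide +kernel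

set_option maxRecDepth 1000000 in
theorem cls_hclo_243 : allC (cloChk dD dC dE dCl) 243 91 = true := by decide +kernel

set_option maxRecDepth 1000000 in
theorem cls_hclo_244 : allC (cloChk dD dC dE dCl) 244 91 = true := by decide +kernel

set_option maxRecDepth 1000000 in
theorem cls_hclo_245 : allC (cloChk dD dC dE dCl) 245 91 = true := by decide +kernel

set_option maxRecDepth 1000000 in
theorem cls_hclo_246 : allC (cloChk dD dC dE dCl) 246 91 = true := by decide +kernel

set_option maxRecDepth 1000000 in
theorem cls_hclo_247 : allC (cloChk dD dC dE dCl) 247 91 = true := by decide +kernel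

set_option maxRecDepth 1000000 in
theorem cls_hclo_248 : allC (cloChk dD dC dE dCl) 248 91 = true := by decide +kernel

set_option maxRecDepth 1000000 in
theorem cls_hclo_249 : allC (cloChk dD dC dE dCl) 249 91 = true := by decide +kernel

set_option maxRecDepth 1000000 in
theorem cls_hclo_250 : allC (cloChk dD dC dE dCl) 250 91 = true := by decide +kernel

set_option maxRecDepth 1000000 in
theorem cls_hclo_251 : allC (cloChk dD dC dE dCl) 251 91 = true := by decide +kernel

set_option maxRecDepth 1000000 in
theorem cls_hclo_252 : allC (cloChk dD dC dE dCl) 252 91 = true := by decide +kernel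

set_option maxRecDepth 1000000 in
theorem cls_hclo_253 : allC (cloChk dD dC dE dCl) 253 91 = true := by decide +kernel

set_option maxRecDepth 1000000 in
theorem cls_hclo_254 : allC (cloChk dD dC dE dCl) 254 91 = true := by decide +kernel

set_option maxRecDepth 1000000 in
theorem cls_hclo_255 : allC (cloChk dD dC dE dCl) 255 91 = true := by decide +kernel

set_option maxRecDepth 1000000 in
theorem cls_hclo_256 : allC (cloChk dD dC dE dCl) 256 91 = true := by decide +kernel

set_option maxRecDepth 1000000 in
theorem cls_hclo_257 : allC (cloChk dD dC dE dCl) 257 91 = true := by decide +kernel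

set_option maxRecDepth 1000000 in
theorem cls_hclo_258 : allC (cloChk dD dC dE dCl) 258 91 = true := by decide +kernel

set_option maxRecDepth 1000000 in
theorem cls_hclo_259 : allC (cloChk dD dC dE dCl) 259 91 = true := by decide +kernel

set_option maxRecDepth 1000000 in
theorem cls_hclo_260 : allC (cloChk dD dC dE dCl) 260 91 = true := by decide +kernel

set_option maxRecDepth 1000000 in
theorem cls_hclo_261 : allC (cloChk dD dC dE dCl) 261 91 = true := by decide +kernel

set_option maxRecDepth 1000000 in
theorem cls_hclo_262 : allC (cloChk dD dC dE dCl) 262 91 = true := by decide +kernel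

set_option maxRecDepth 1000000 in
theorem cls_hclo_263 : allC (cloChk dD dC dE dCl) 263 91 = true := by decide +kernel

set_option maxRecDepth 1000000 in
theorem cls_hclo_264 : allC (cloChk dD dC dE dCl) 264 91 = true := by decide +kernel

set_option maxRecDepth 1000000 in
theorem cls_hclo_265 : allC (cloChk dD dC dE dCl) 265 91 = true := by decide +kernel

set_option maxRecDepth 1000000 in
theorem cls_hclo_266 : allC (cloChk dD dC dE dCl) 266 91 = true := by decide +kernel

set_option maxRecDepth 1000000 in
theorem cls_hclo_267 : allC (cloChk dD dC dE dCl) 267 91 = true := by decide +kernel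

set_option maxRecDepth 1000000 in
theorem cls_hclo_268 : allC (cloChk dD dC dE dCl) 268 91 = true := by decide +kernel

set_option maxRecDepth 1000000 in
theorem cls_hclo_269 : allC (cloChk dD dC dE dCl) 269 91 = true := by decide +kernel

set_option maxRecDepth 1000000 in
theorem cls_hclo_270 : allC (cloChk dD dC dE dCl) 270 91 = true := by decide +kernel

set_option maxRecDepth 1000000 in
theorem cls_hclo_271 : allC (cloChk dD dC dE dCl) 271 91 = true := by decide +kernel

set_option maxRecDepth 1000000 in
theorem cls_hclo_272 : allC (cloChk dD dC dE dCl) 272 91 = true := by decide +kernel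

set_option maxRecDepth 1000000 in
theorem cls_hclo_273 : allC (cloChk dD dC dE dCl) 273 91 = true := by decide +kernel

set_option maxRecDepth 1000000 in
theorem cls_hclo_274 : allC (cloChk dD dC dE dCl) 274 91 = true := by decide +kernel

set_option maxRecDepth 1000000 in
theorem cls_hclo_275 : allC (cloChk dD dC dE dCl) 275 91 = true := by decide +kernel

set_option maxRecDepth 1000000 in
theorem cls_hclo_276 : allC (cloChk dD dC dE dCl) 276 91 = true := by decide +kernel

set_option maxRecDepth 1000000 in
theorem cls_hclo_277 : allC (cloChk dD dC dE dCl) 277 91 = true := by decide +kernel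

set_option maxRecDepth 1000000 in
theorem cls_hclo_278 : allC (cloChk dD dC dE dCl) 278 91 = true := by decide +kernel

set_option maxRecDepth 1000000 in
theorem cls_hclo_279 : allC (cloChk dD dC dE dCl) 279 91 = true := by decide +kernel

set_option maxRecDepth 1000000 in
theorem cls_hclo_280 : allC (cloChk dD dC dE dCl) 280 91 = true := by decide +kernel

set_option maxRecDepth 1000000 in
theorem cls_hclo_281 : allC (cloChk dD dC dE dCl) 281 91 = true := by decide +kernel

set_option maxRecDepth 1000000 in
theorem cls_hclo_282 : allC (cloChk dD dC dE dCl) 282 91 = true := by decide +kernel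

set_option maxRecDepth 1000000 in
theorem cls_hclo_283 : allC (cloChk dD dC dE dCl) 283 91 = true := by decide +kernel

set_option maxRecDepth 1000000 in
theorem cls_hclo_284 : allC (cloChk dD dC dE dCl) 284 91 = true := by decide +kernel

set_option maxRecDepth 1000000 in
theorem cls_hclo_285 : allC (cloChk dD dC dE dCl) 285 91 = true := by decide +kernel

set_option maxRecDepth 1000000 in
theorem cls_hclo_286 : allC (cloChk dD dC dE dCl) 286 91 = true := by decide +kernel

set_option maxRecDepth 1000000 in
theorem cls_hclo_287 : allC (cloChk dD dC dE dCl) 287 91 = true := by decide +kernel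

set_option maxRecDepth 1000000 in
theorem cls_hclo_288 : allC (cloChk dD dC dE dCl) 288 91 = true := by decide +kernel

set_option maxRecDepth 1000000 in
theorem cls_hclo_289 : allC (cloChk dD dC dE dCl) 289 91 = true := by decide +kernel

set_option maxRecDepth 1000000 in
theorem cls_hclo_290 : allC (cloChk dD dC dE dCl) 290 91 = true := by decide +kernel

set_option maxRecDepth 1000000 in
theorem cls_hclo_291 : allC (cloChk dD dC dE dCl) 291 91 = true := by decide +kernel

set_option maxRecDepth 1000000 in
theorem cls_hclo_292 : allC (cloChk dD dC dE dCl) 292 91 = true := by decide +kernel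

set_option maxRecDepth 1000000 in
theorem cls_hclo_293 : allC (cloChk dD dC dE dCl) 293 91 = true := by decide +kernel

set_option maxRecDepth 1000000 in
theorem cls_hclo_294 : allC (cloChk dD dC dE dCl) 294 91 = true := by decide +kernel

set_option maxRecDepth 1000000 in
theorem cls_hclo_295 : allC (cloChk dD dC dE dCl) 295 91 = true := by decide +kernel

set_option maxRecDepth 1000000 in
theorem cls_hclo_296 : allC (cloChk dD dC dE dCl) 296 91 = true := by decide +kernel

set_option maxRecDepth 1000000 in
theorem cls_hclo_297 : allC (cloChk dD dC dE dCl) 297 91 = true := by decide +kernel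

set_option maxRecDepth 1000000 in
theorem cls_hclo_298 : allC (cloChk dD dC dE dCl) 298 91 = true := by decide +kernel

set_option maxRecDepth 1000000 in
theorem cls_hclo_299 : allC (cloChk dD dC dE dCl) 299 91 = true := by decide +kernel

end Cfsg.Agent.Helper9.RuO

end
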