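import Mathlib
import Cfsg.Agent.Helper9.RuO.Data

set_option autoImplicit false

/-! Kernel checks of the certificates, a part. -/

noncomputable section

namespace Cfsg.Agent.Helper9.RuO

open Cfsg.Agent.Helper9.OutG Cfsg.Agent.Helper9.J3

set_option maxRecDepth 1000000 in
theorem cls_hclo_2000 : allC (cloChk dD dC dE dCl) 2000 91 = true := by decide +kernel

set_option maxRecDepth 1000000 in
theorem cls_hclo_2001 : allC (cloChk dD dC dE dCl) 2001 91 = true := by decide +kernel

set_option maxRecDepth 1000000 in
theorem cls_hclo_2002 : allC (cloChk dD dC dE dCl) 2002 91 = true := by decide +kernel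

set_option maxRecDepth 1000000 in
theorem cls_hclo_2003 : allC (cloChk dD dC dE dCl) 2003 91 = true := by decide +kernel

set_option maxRecDepth 1000000 in
theorem cls_hclo_2004 : allC (cloChk dD dC dE dCl) 2004 91 = true := by decide +kernel

set_option maxRecDepth 1000000 in
theorem cls_hclo_2005 : allC (cloChk dD dC dE dCl) 2005 91 = true := by decide +kernel

set_option maxRecDepth 1000000 in
theorem cls_hclo_2006 : allC (cloChk dD dC dE dCl) 2006 91 = true := by decide +kernel

set_option maxRecDepth 1000000 in
theorem cls_hclo_2007 : allC (cloChk dD dC dE dCl) 2007 91 = true := by decide +kernel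

set_option maxRecDepth 1000000 in
theorem cls_hclo_2008 : allC (cloChk dD dC dE dCl) 2008 91 = true := by decide +kernel

set_option maxRecDepth 1000000 in
theorem cls_hclo_2009 : allC (cloChk dD dC dE dCl) 2009 91 = true := by decide +kernel

set_option maxRecDepth 1000000 in
theorem cls_hclo_2010 : allC (cloChk dD dC dE dCl) 2010 91 = true := by decide +kernel

set_option maxRecDepth 1000000 in
theorem cls_hclo_2011 : allC (cloChk dD dC dE dCl) 2011 91 = true := by decide +kernel

set_option maxRecDepth 1000000 in
theorem cls_hclo_2012 : allC (cloChk dD dC dE dCl) 2012 91 = true := by decide +kernel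

set_option maxRecDepth 1000000 in
theorem cls_hclo_2013 : allC (cloChk dD dC dE dCl) 2013 91 = true := by decide +kernel

set_option maxRecDepth 1000000 in
theorem cls_hclo_2014 : allC (cloChk dD dC dE dCl) 2014 91 = true := by decide +kernel

set_option maxRecDepth 1000000 in
theorem cls_hclo_2015 : allC (cloChk dD dC dE dCl) 2015 91 = true := by decide +kernel

set_option maxRecDepth 1000000 in
theorem cls_hclo_2016 : allC (cloChk dD dC dE dCl) 2016 91 = true := by decide +kernel

set_option maxRecDepth 1000000 in
theorem cls_hclo_2017 : allC (cloChk dD dC dE dCl) 2017 91 = true := by decide +kernel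

set_option maxRecDepth 1000000 in
theorem cls_hclo_2018 : allC (cloChk dD dC dE dCl) 2018 91 = true := by decide +kernel

set_option maxRecDepth 1000000 in
theorem cls_hclo_2019 : allC (cloChk dD dC dE dCl) 2019 91 = true := by decide +kernel

set_option maxRecDepth 1000000 in
theorem cls_hclo_2020 : allC (cloChk dD dC dE dCl) 2020 91 = true := by decide +kernel

set_option maxRecDepth 1000000 in
theorem cls_hclo_2021 : allC (cloChk dD dC dE dCl) 2021 91 = true := by decide +kernel

set_option maxRecDepth 1000000 in
theorem cls_hclo_2022 : allC (cloChk dD dC dE dCl) 2022 91 = true := by decide +kernel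

set_option maxRecDepth 1000000 in
theorem cls_hclo_2023 : allC (cloChk dD dC dE dCl) 2023 91 = true := by decide +kernel

set_option maxRecDepth 1000000 in
theorem cls_hclo_2024 : allC (cloChk dD dC dE dCl) 2024 91 = true := by decide +kernel

set_option maxRecDepth 1000000 in
theorem cls_hclo_2025 : allC (cloChk dD dC dE dCl) 2025 91 = true := by decide +kernel

set_option maxRecDepth 1000000 in
theorem cls_hclo_2026 : allC (cloChk dD dC dE dCl) 2026 91 = true := by decide +kernel

set_option maxRecDepth 1000000 in
theorem cls_hclo_2027 : allC (cloChk dD dC dE dCl) 2027 91 = true := by decide +kernel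

set_option maxRecDepth 1000000 in
theorem cls_hclo_2028 : allC (cloChk dD dC dE dCl) 2028 91 = true := by decide +kernel

set_option maxRecDepth 1000000 in
theorem cls_hclo_2029 : allC (cloChk dD dC dE dCl) 2029 91 = true := by decide +kernel

set_option maxRecDepth 1000000 in
theorem cls_hclo_2030 : allC (cloChk dD dC dE dCl) 2030 91 = true := by decide +kernel

set_option maxRecDepth 1000000 in
theorem cls_hclo_2031 : allC (cloChk dD dC dE dCl) 2031 91 = true := by decide +kernel

set_option maxRecDepth 1000000 in
theorem cls_hclo_2032 : allC (cloChk dD dC dE dCl) 2032 91 = true := by decide +kernel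

set_option maxRecDepth 1000000 in
theorem cls_hclo_2033 : allC (cloChk dD dC dE dCl) 2033 91 = true := by decide +kernel

set_option maxRecDepth 1000000 in
theorem cls_hclo_2034 : allC (cloChk dD dC dE dCl) 2034 91 = true := by decide +kernel

set_option maxRecDepth 1000000 in
theorem cls_hclo_2035 : allC (cloChk dD dC dE dCl) 2035 91 = true := by decide +kernel

set_option maxRecDepth 1000000 in
theorem cls_hclo_2036 : allC (cloChk dD dC dE dCl) 2036 91 = true := by decide +kernel

set_option maxRecDepth 1000000 in
theorem cls_hclo_2037 : allC (cloChk dD dC dE dCl) 2037 91 = true := by decide +kernel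

set_option maxRecDepth 1000000 in
theorem cls_hclo_2038 : allC (cloChk dD dC dE dCl) 2038 91 = true := by decide +kernel

set_option maxRecDepth 1000000 in
theorem cls_hclo_2039 : allC (cloChk dD dC dE dCl) 2039 91 = true := by decide +kernel

set_option maxRecDepth 1000000 in
theorem cls_hclo_2040 : allC (cloChk dD dC dE dCl) 2040 91 = true := by decide +kernel

set_option maxRecDepth 1000000 in
theorem cls_hclo_2041 : allC (cloChk dD dC dE dCl) 2041 91 = true := by decide +kernel

set_option maxRecDepth 1000000 in
theorem cls_hclo_2042 : allC (cloChk dD dC dE dCl) 2042 91 = true := by decide +kernel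

set_option maxRecDepth 1000000 in
theorem cls_hclo_2043 : allC (cloChk dD dC dE dCl) 2043 91 = true := by decide +kernel

set_option maxRecDepth 1000000 in
theorem cls_hclo_2044 : allC (cloChk dD dC dE dCl) 2044 91 = true := by decide +kernel

set_option maxRecDepth 1000000 in
theorem cls_hclo_2045 : allC (cloChk dD dC dE dCl) 2045 91 = true := by decide +kernel

set_option maxRecDepth 1000000 in
theorem cls_hclo_2046 : allC (cloChk dD dC dE dCl) 2046 91 = true := by decide +kernel

set_option maxRecDepth 1000000 in
theorem cls_hclo_2047 : allC (cloChk dD dC dE dCl) 2047 91 = true := by decide +kernel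

set_option maxRecDepth 1000000 in
theorem cls_hclo_2048 : allC (cloChk dD dC dE dCl) 2048 91 = true := by decide +kernel

set_option maxRecDepth 1000000 in
theorem cls_hclo_2049 : allC (cloChk dD dC dE dCl) 2049 91 = true := by decide +kernel

set_option maxRecDepth 1000000 in
theorem cls_hclo_2050 : allC (cloChk dD dC dE dCl) 2050 91 = true := by decide +kernel

set_option maxRecDepth 1000000 in
theorem cls_hclo_2051 : allC (cloChk dD dC dE dCl) 2051 91 = true := by decide +kernel

set_option maxRecDepth 1000000 in
theorem cls_hclo_2052 : allC (cloChk dD dC dE dCl) 2052 91 = true := by decide +kernel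

set_option maxRecDepth 1000000 in
theorem cls_hclo_2053 : allC (cloChk dD dC dE dCl) 2053 91 = true := by decide +kernel

set_option maxRecDepth 1000000 in
theorem cls_hclo_2054 : allC (cloChk dD dC dE dCl) 2054 91 = true := by decide +kernel

set_option maxRecDepth 1000000 in
theorem cls_hclo_2055 : allC (cloChk dD dC dE dCl) 2055 91 = true := by decide +kernel

set_option maxRecDepth 1000000 in
theorem cls_hclo_2056 : allC (cloChk dD dC dE dCl) 2056 91 = true := by decide +kernel

set_option maxRecDepth 1000000 in
theorem cls_hclo_2057 : allC (cloChk dD dC dE dCl) 2057 91 = true := by decide +kernel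

set_option maxRecDepth 1000000 in
theorem cls_hclo_2058 : allC (cloChk dD dC dE dCl) 2058 91 = true := by decide +kernel

set_option maxRecDepth 1000000 in
theorem cls_hclo_2059 : allC (cloChk dD dC dE dCl) 2059 91 = true := by decide +kernel

set_option maxRecDepth 1000000 in
theorem cls_hclo_2060 : allC (cloChk dD dC dE dCl) 2060 91 = true := by decide +kernel

set_option maxRecDepth 1000000 in
theorem cls_hclo_2061 : allC (cloChk dD dC dE dCl) 2061 91 = true := by decide +kernel

set_option maxRecDepth 1000000 in
theorem cls_hclo_2062 : allC (cloChk dD dC dE dCl) 2062 91 = true := by decide +kernel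

set_option maxRecDepth 1000000 in
theorem cls_hclo_2063 : allC (cloChk dD dC dE dCl) 2063 91 = true := by decide +kernel

set_option maxRecDepth 1000000 in
theorem cls_hclo_2064 : allC (cloChk dD dC dE dCl) 2064 91 = true := by decide +kernel

set_option maxRecDepth 1000000 in
theorem cls_hclo_2065 : allC (cloChk dD dC dE dCl) 2065 91 = true := by decide +kernel

set_option maxRecDepth 1000000 in
theorem cls_hclo_2066 : allC (cloChk dD dC dE dCl) 2066 91 = true := by decide +kernel

set_option maxRecDepth 1000000 in
theorem cls_hclo_2067 : allC (cloChk dD dC dE dCl) 2067 91 = true := by decide +kernel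

set_option maxRecDepth 1000000 in
theorem cls_hclo_2068 : allC (cloChk dD dC dE dCl) 2068 91 = true := by decide +kernel

set_option maxRecDepth 1000000 in
theorem cls_hclo_2069 : allC (cloChk dD dC dE dCl) 2069 91 = true := by decide +kernel

set_option maxRecDepth 1000000 in
theorem cls_hclo_2070 : allC (cloChk dD dC dE dCl) 2070 91 = true := by decide +kernel

set_option maxRecDepth 1000000 in
theorem cls_hclo_2071 : allC (cloChk dD dC dE dCl) 2071 91 = true := by decide +kernel

set_option maxRecDepth 1000000 in
theorem cls_hclo_2072 : allC (cloChk dD dC dE dCl) 2072 91 = true := by decide +kernel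

set_option maxRecDepth 1000000 in
theorem cls_hclo_2073 : allC (cloChk dD dC dE dCl) 2073 91 = true := by decide +kernel

set_option maxRecDepth 1000000 in
theorem cls_hclo_2074 : allC (cloChk dD dC dE dCl) 2074 91 = true := by decide +kernel

set_option maxRecDepth 1000000 in
theorem cls_hclo_2075 : allC (cloChk dD dC dE dCl) 2075 91 = true := by decide +kernel

set_option maxRecDepth 1000000 in
theorem cls_hclo_2076 : allC (cloChk dD dC dE dCl) 2076 91 = true := by decide +kernel

set_option maxRecDepth 1000000 in
theorem cls_hclo_2077 : allC (cloChk dD dC dE dCl) 2077 91 = true := by decide +kernel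

set_option maxRecDepth 1000000 in
theorem cls_hclo_2078 : allC (cloChk dD dC dE dCl) 2078 91 = true := by decide +kernel

set_option maxRecDepth 1000000 in
theorem cls_hclo_2079 : allC (cloChk dD dC dE dCl) 2079 91 = true := by decide +kernel

set_option maxRecDepth 1000000 in
theorem cls_hclo_2080 : allC (cloChk dD dC dE dCl) 2080 91 = true := by decide +kernel

set_option maxRecDepth 1000000 in
theorem cls_hclo_2081 : allC (cloChk dD dC dE dCl) 2081 91 = true := by decide +kernel

set_option maxRecDepth 1000000 in
theorem cls_hclo_2082 : allC (cloChk dD dC dE dCl) 2082 91 = true := by decide +kernel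

set_option maxRecDepth 1000000 in
theorem cls_hclo_2083 : allC (cloChk dD dC dE dCl) 2083 91 = true := by decide +kernel

set_option maxRecDepth 1000000 in
theorem cls_hclo_2084 : allC (cloChk dD dC dE dCl) 2084 91 = true := by decide +kernel

set_option maxRecDepth 1000000 in
theorem cls_hclo_2085 : allC (cloChk dD dC dE dCl) 2085 91 = true := by decide +kernel

set_option maxRecDepth 1000000 in
theorem cls_hclo_2086 : allC (cloChk dD dC dE dCl) 2086 91 = true := by decide +kernel

set_option maxRecDepth 1000000 in
theorem cls_hclo_2087 : allC (cloChk dD dC dE dCl) 2087 91 = true := by decide +kernel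

set_option maxRecDepth 1000000 in
theorem cls_hclo_2088 : allC (cloChk dD dC dE dCl) 2088 91 = true := by decide +kernel

set_option maxRecDepth 1000000 in
theorem cls_hclo_2089 : allC (cloChk dD dC dE dCl) 2089 91 = true := by decide +kernel

set_option maxRecDepth 1000000 in
theorem cls_hclo_2090 : allC (cloChk dD dC dE dCl) 2090 91 = true := by decide +kernel

set_option maxRecDepth 1000000 in
theorem cls_hclo_2091 : allC (cloChk dD dC dE dCl) 2091 91 = true := by decide +kernel

set_option maxRecDepth 1000000 in
theorem cls_hclo_2092 : allC (cloChk dD dC dE dCl) 2092 91 = true := by decide +kernel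

set_option maxRecDepth 1000000 in
theorem cls_hclo_2093 : allC (cloChk dD dC dE dCl) 2093 91 = true := by decide +kernel

set_option maxRecDepth 1000000 in
theorem cls_hclo_2094 : allC (cloChk dD dC dE dCl) 2094 91 = true := by decide +kernel

set_option maxRecDepth 1000000 in
theorem cls_hclo_2095 : allC (cloChk dD dC dE dCl) 2095 91 = true := by decide +kernel

set_option maxRecDepth 1000000 in
theorem cls_hclo_2096 : allC (cloChk dD dC dE dCl) 2096 91 = true := by decide +kernel

set_option maxRecDepth 1000000 in
theorem cls_hclo_2097 : allC (cloChk dD dC dE dCl) 2097 91 = true := by decide +kernel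

set_option maxRecDepth 1000000 in
theorem cls_hclo_2098 : allC (cloChk dD dC dE dCl) 2098 91 = true := by decide +kernel

set_option maxRecDepth 1000000 in
theorem cls_hclo_2099 : allC (cloChk dD dC dE dCl) 2099 91 = true := by decide +kernel

end Cfsg.Agent.Helper9.RuO

end
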