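import Mathlib
import Cfsg.Agent.Helper9.RuO.Data

set_option autoImplicit false

/-! Kernel checks of the certificates, a part. -/

noncomputable section

namespace Cfsg.Agent.Helper9.RuO

open Cfsg.Agent.Helper9.OutG Cfsg.Agent.Helper9.J3

set_option maxRecDepth 1000000 in
theorem cls_hclo_2100 : allC (cloChk dD dC dE dCl) 2100 91 = true := by decide +kernel

set_option maxRecDepth 1000000 in
theorem cls_hclo_2101 : allC (cloChk dD dC dE dCl) 2101 91 = true := by decide +kernel

set_option maxRecDepth 1000000 in
theorem cls_hclo_2102 : allC (cloChk dD dC dE dCl) 2102 91 = true := by decide +kernel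

set_option maxRecDepth 1000000 in
theorem cls_hclo_2103 : allC (cloChk dD dC dE dCl) 2103 91 = true := by decide +kernel

set_option maxRecDepth 1000000 in
theorem cls_hclo_2104 : allC (cloChk dD dC dE dCl) 2104 91 = true := by decide +kernel

set_option maxRecDepth 1000000 in
theorem cls_hclo_2105 : allC (cloChk dD dC dE dCl) 2105 91 = true := by decide +kernel

set_option maxRecDepth 1000000 in
theorem cls_hclo_2106 : allC (cloChk dD dC dE dCl) 2106 91 = true := by decide +kernel

set_option maxRecDepth 1000000 in
theorem cls_hclo_2107 : allC (cloChk dD dC dE dCl) 2107 91 = true := by decide +kernel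

set_option maxRecDepth 1000000 in
theorem cls_hclo_2108 : allC (cloChk dD dC dE dCl) 2108 91 = true := by decide +kernel

set_option maxRecDepth 1000000 in
theorem cls_hclo_2109 : allC (cloChk dD dC dE dCl) 2109 91 = true := by decide +kernel

set_option maxRecDepth 1000000 in
theorem cls_hclo_2110 : allC (cloChk dD dC dE dCl) 2110 91 = true := by decide +kernel

set_option maxRecDepth 1000000 in
theorem cls_hclo_2111 : allC (cloChk dD dC dE dCl) 2111 91 = true := by decide +kernel

set_option maxRecDepth 1000000 in
theorem cls_hclo_2112 : allC (cloChk dD dC dE dCl) 2112 91 = true := by decide +kernel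

set_option maxRecDepth 1000000 in
theorem cls_hclo_2113 : allC (cloChk dD dC dE dCl) 2113 91 = true := by decide +kernel

set_option maxRecDepth 1000000 in
theorem cls_hclo_2114 : allC (cloChk dD dC dE dCl) 2114 91 = true := by decide +kernel

set_option maxRecDepth 1000000 in
theorem cls_hclo_2115 : allC (cloChk dD dC dE dCl) 2115 91 = true := by decide +kernel

set_option maxRecDepth 1000000 in
theorem cls_hclo_2116 : allC (cloChk dD dC dE dCl) 2116 91 = true := by decide +kernel

set_option maxRecDepth 1000000 in
theorem cls_hclo_2117 : allC (cloChk dD dC dE dCl) 2117 91 = true := by decide +kernel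

set_option maxRecDepth 1000000 in
theorem cls_hclo_2118 : allC (cloChk dD dC dE dCl) 2118 91 = true := by decide +kernel

set_option maxRecDepth 1000000 in
theorem cls_hclo_2119 : allC (cloChk dD dC dE dCl) 2119 91 = true := by decide +kernel

set_option maxRecDepth 1000000 in
theorem cls_hclo_2120 : allC (cloChk dD dC dE dCl) 2120 91 = true := by decide +kernel

set_option maxRecDepth 1000000 in
theorem cls_hclo_2121 : allC (cloChk dD dC dE dCl) 2121 91 = true := by decide +kernel

set_option maxRecDepth 1000000 in
theorem cls_hclo_2122 : allC (cloChk dD dC dE dCl) 2122 91 = true := by decide +kernel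

set_option maxRecDepth 1000000 in
theorem cls_hclo_2123 : allC (cloChk dD dC dE dCl) 2123 91 = true := by decide +kernel

set_option maxRecDepth 1000000 in
theorem cls_hclo_2124 : allC (cloChk dD dC dE dCl) 2124 91 = true := by decide +kernel

set_option maxRecDepth 1000000 in
theorem cls_hclo_2125 : allC (cloChk dD dC dE dCl) 2125 91 = true := by decide +kernel

set_option maxRecDepth 1000000 in
theorem cls_hclo_2126 : allC (cloChk dD dC dE dCl) 2126 91 = true := by decide +kernel

set_option maxRecDepth 1000000 in
theorem cls_hclo_2127 : allC (cloChk dD dC dE dCl) 2127 91 = true := by decide +kernel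

set_option maxRecDepth 1000000 in
theorem cls_hclo_2128 : allC (cloChk dD dC dE dCl) 2128 91 = true := by decide +kernel

set_option maxRecDepth 1000000 in
theorem cls_hclo_2129 : allC (cloChk dD dC dE dCl) 2129 91 = true := by decide +kernel

set_option maxRecDepth 1000000 in
theorem cls_hclo_2130 : allC (cloChk dD dC dE dCl) 2130 91 = true := by decide +kernel

set_option maxRecDepth 1000000 in
theorem cls_hclo_2131 : allC (cloChk dD dC dE dCl) 2131 91 = true := by decide +kernel

set_option maxRecDepth 1000000 in
theorem cls_hclo_2132 : allC (cloChk dD dC dE dCl) 2132 91 = true := by decide +kernel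

set_option maxRecDepth 1000000 in
theorem cls_hclo_2133 : allC (cloChk dD dC dE dCl) 2133 91 = true := by decide +kernel

set_option maxRecDepth 1000000 in
theorem cls_hclo_2134 : allC (cloChk dD dC dE dCl) 2134 91 = true := by decide +kernel

set_option maxRecDepth 1000000 in
theorem cls_hclo_2135 : allC (cloChk dD dC dE dCl) 2135 91 = true := by decide +kernel

set_option maxRecDepth 1000000 in
theorem cls_hclo_2136 : allC (cloChk dD dC dE dCl) 2136 91 = true := by decide +kernel

set_option maxRecDepth 1000000 in
theorem cls_hclo_2137 : allC (cloChk dD dC dE dCl) 2137 91 = true := by decide +kernel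

set_option maxRecDepth 1000000 in
theorem cls_hclo_2138 : allC (cloChk dD dC dE dCl) 2138 91 = true := by decide +kernel

set_option maxRecDepth 1000000 in
theorem cls_hclo_2139 : allC (cloChk dD dC dE dCl) 2139 91 = true := by decide +kernel

set_option maxRecDepth 1000000 in
theorem cls_hclo_2140 : allC (cloChk dD dC dE dCl) 2140 91 = true := by decide +kernel

set_option maxRecDepth 1000000 in
theorem cls_hclo_2141 : allC (cloChk dD dC dE dCl) 2141 91 = true := by decide +kernel

set_option maxRecDepth 1000000 in
theorem cls_hclo_2142 : allC (cloChk dD dC dE dCl) 2142 91 = true := by decide +kernel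

set_option maxRecDepth 1000000 in
theorem cls_hclo_2143 : allC (cloChk dD dC dE dCl) 2143 91 = true := by decide +kernel

set_option maxRecDepth 1000000 in
theorem cls_hclo_2144 : allC (cloChk dD dC dE dCl) 2144 91 = true := by decide +kernel

set_option maxRecDepth 1000000 in
theorem cls_hclo_2145 : allC (cloChk dD dC dE dCl) 2145 91 = true := by decide +kernel

set_option maxRecDepth 1000000 in
theorem cls_hclo_2146 : allC (cloChk dD dC dE dCl) 2146 91 = true := by decide +kernel

set_option maxRecDepth 1000000 in
theorem cls_hclo_2147 : allC (cloChk dD dC dE dCl) 2147 91 = true := by decide +kernel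

set_option maxRecDepth 1000000 in
theorem cls_hclo_2148 : allC (cloChk dD dC dE dCl) 2148 91 = true := by decide +kernel

set_option maxRecDepth 1000000 in
theorem cls_hclo_2149 : allC (cloChk dD dC dE dCl) 2149 91 = true := by decide +kernel

set_option maxRecDepth 1000000 in
theorem cls_hclo_2150 : allC (cloChk dD dC dE dCl) 2150 91 = true := by decide +kernel

set_option maxRecDepth 1000000 in
theorem cls_hclo_2151 : allC (cloChk dD dC dE dCl) 2151 91 = true := by decide +kernel

set_option maxRecDepth 1000000 in
theorem cls_hclo_2152 : allC (cloChk dD dC dE dCl) 2152 91 = true := by decide +kernel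

set_option maxRecDepth 1000000 in
theorem cls_hclo_2153 : allC (cloChk dD dC dE dCl) 2153 91 = true := by decide +kernel

set_option maxRecDepth 1000000 in
theorem cls_hclo_2154 : allC (cloChk dD dC dE dCl) 2154 91 = true := by decide +kernel

set_option maxRecDepth 1000000 in
theorem cls_hclo_2155 : allC (cloChk dD dC dE dCl) 2155 91 = true := by decide +kernel

set_option maxRecDepth 1000000 in
theorem cls_hclo_2156 : allC (cloChk dD dC dE dCl) 2156 91 = true := by decide +kernel

set_option maxRecDepth 1000000 in
theorem cls_hclo_2157 : allC (cloChk dD dC dE dCl) 2157 91 = true := by decide +kernel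

set_option maxRecDepth 1000000 in
theorem cls_hclo_2158 : allC (cloChk dD dC dE dCl) 2158 91 = true := by decide +kernel

set_option maxRecDepth 1000000 in
theorem cls_hclo_2159 : allC (cloChk dD dC dE dCl) 2159 91 = true := by decide +kernel

set_option maxRecDepth 1000000 in
theorem cls_hclo_2160 : allC (cloChk dD dC dE dCl) 2160 91 = true := by decide +kernel

set_option maxRecDepth 1000000 in
theorem cls_hclo_2161 : allC (cloChk dD dC dE dCl) 2161 91 = true := by decide +kernel

set_option maxRecDepth 1000000 in
theorem cls_hclo_2162 : allC (cloChk dD dC dE dCl) 2162 91 = true := by decide +kernel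

set_option maxRecDepth 1000000 in
theorem cls_hclo_2163 : allC (cloChk dD dC dE dCl) 2163 91 = true := by decide +kernel

set_option maxRecDepth 1000000 in
theorem cls_hclo_2164 : allC (cloChk dD dC dE dCl) 2164 91 = true := by decide +kernel

set_option maxRecDepth 1000000 in
theorem cls_hclo_2165 : allC (cloChk dD dC dE dCl) 2165 91 = true := by decide +kernel

set_option maxRecDepth 1000000 in
theorem cls_hclo_2166 : allC (cloChk dD dC dE dCl) 2166 91 = true := by decide +kernel

set_option maxRecDepth 1000000 in
theorem cls_hclo_2167 : allC (cloChk dD dC dE dCl) 2167 91 = true := by decide +kernel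

set_option maxRecDepth 1000000 in
theorem cls_hclo_2168 : allC (cloChk dD dC dE dCl) 2168 91 = true := by decide +kernel

set_option maxRecDepth 1000000 in
theorem cls_hclo_2169 : allC (cloChk dD dC dE dCl) 2169 91 = true := by decide +kernel

set_option maxRecDepth 1000000 in
theorem cls_hclo_2170 : allC (cloChk dD dC dE dCl) 2170 91 = true := by decide +kernel

set_option maxRecDepth 1000000 in
theorem cls_hclo_2171 : allC (cloChk dD dC dE dCl) 2171 91 = true := by decide +kernel

set_option maxRecDepth 1000000 in
theorem cls_hclo_2172 : allC (cloChk dD dC dE dCl) 2172 91 = true := by decide +kernel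

set_option maxRecDepth 1000000 in
theorem cls_hclo_2173 : allC (cloChk dD dC dE dCl) 2173 91 = true := by decide +kernel

set_option maxRecDepth 1000000 in
theorem cls_hclo_2174 : allC (cloChk dD dC dE dCl) 2174 91 = true := by decide +kernel

set_option maxRecDepth 1000000 in
theorem cls_hclo_2175 : allC (cloChk dD dC dE dCl) 2175 91 = true := by decide +kernel

set_option maxRecDepth 1000000 in
theorem cls_hclo_2176 : allC (cloChk dD dC dE dCl) 2176 91 = true := by decide +kernel

set_option maxRecDepth 1000000 in
theorem cls_hclo_2177 : allC (cloChk dD dC dE dCl) 2177 91 = true := by decide +kernel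

set_option maxRecDepth 1000000 in
theorem cls_hclo_2178 : allC (cloChk dD dC dE dCl) 2178 91 = true := by decide +kernel

set_option maxRecDepth 1000000 in
theorem cls_hclo_2179 : allC (cloChk dD dC dE dCl) 2179 91 = true := by decide +kernel

set_option maxRecDepth 1000000 in
theorem cls_hclo_2180 : allC (cloChk dD dC dE dCl) 2180 91 = true := by decide +kernel

set_option maxRecDepth 1000000 in
theorem cls_hclo_2181 : allC (cloChk dD dC dE dCl) 2181 91 = true := by decide +kernel

set_option maxRecDepth 1000000 in
theorem cls_hclo_2182 : allC (cloChk dD dC dE dCl) 2182 91 = true := by decide +kernel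

set_option maxRecDepth 1000000 in
theorem cls_hclo_2183 : allC (cloChk dD dC dE dCl) 2183 91 = true := by decide +kernel

set_option maxRecDepth 1000000 in
theorem cls_hclo_2184 : allC (cloChk dD dC dE dCl) 2184 91 = true := by decide +kernel

set_option maxRecDepth 1000000 in
theorem cls_hclo_2185 : allC (cloChk dD dC dE dCl) 2185 91 = true := by decide +kernel

set_option maxRecDepth 1000000 in
theorem cls_hclo_2186 : allC (cloChk dD dC dE dCl) 2186 91 = true := by decide +kernel

set_option maxRecDepth 1000000 in
theorem cls_hclo_2187 : allC (cloChk dD dC dE dCl) 2187 91 = true := by decide +kernel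

set_option maxRecDepth 1000000 in
theorem cls_hclo_2188 : allC (cloChk dD dC dE dCl) 2188 91 = true := by decide +kernel

set_option maxRecDepth 1000000 in
theorem cls_hclo_2189 : allC (cloChk dD dC dE dCl) 2189 91 = true := by decide +kernel

set_option maxRecDepth 1000000 in
theorem cls_hclo_2190 : allC (cloChk dD dC dE dCl) 2190 91 = true := by decide +kernel

set_option maxRecDepth 1000000 in
theorem cls_hclo_2191 : allC (cloChk dD dC dE dCl) 2191 91 = true := by decide +kernel

set_option maxRecDepth 1000000 in
theorem cls_hclo_2192 : allC (cloChk dD dC dE dCl) 2192 91 = true := by decide +kernel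

set_option maxRecDepth 1000000 in
theorem cls_hclo_2193 : allC (cloChk dD dC dE dCl) 2193 91 = true := by decide +kernel

set_option maxRecDepth 1000000 in
theorem cls_hclo_2194 : allC (cloChk dD dC dE dCl) 2194 91 = true := by decide +kernel

set_option maxRecDepth 1000000 in
theorem cls_hclo_2195 : allC (cloChk dD dC dE dCl) 2195 91 = true := by decide +kernel

set_option maxRecDepth 1000000 in
theorem cls_hclo_2196 : allC (cloChk dD dC dE dCl) 2196 91 = true := by decide +kernel

set_option maxRecDepth 1000000 in
theorem cls_hclo_2197 : allC (cloChk dD dC dE dCl) 2197 91 = true := by decide +kernel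

set_option maxRecDepth 1000000 in
theorem cls_hclo_2198 : allC (cloChk dD dC dE dCl) 2198 91 = true := by decide +kernel

set_option maxRecDepth 1000000 in
theorem cls_hclo_2199 : allC (cloChk dD dC dE dCl) 2199 91 = true := by decide +kernel

end Cfsg.Agent.Helper9.RuO

end
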