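import Mathlib
import Cfsg.Agent.Helper9.RuO.Data

set_option autoImplicit false

/-! Kernel checks of the certificates, a part. -/

noncomputable section

namespace Cfsg.Agent.Helper9.RuO

open Cfsg.Agent.Helper9.OutG Cfsg.Agent.Helper9.J3

set_option maxRecDepth 1000000 in
theorem cls_hclo_2200 : allC (cloChk dD dC dE dCl) 2200 91 = true := by decide +kernel

set_option maxRecDepth 1000000 in
theorem cls_hclo_2201 : allC (cloChk dD dC dE dCl) 2201 91 = true := by decide +kernel

set_option maxRecDepth 1000000 in
theorem cls_hclo_2202 : allC (cloChk dD dC dE dCl) 2202 91 = true := by decide +kernel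

set_option maxRecDepth 1000000 in
theorem cls_hclo_2203 : allC (cloChk dD dC dE dCl) 2203 91 = true := by decide +kernel

set_option maxRecDepth 1000000 in
theorem cls_hclo_2204 : allC (cloChk dD dC dE dCl) 2204 91 = true := by decide +kernel

set_option maxRecDepth 1000000 in
theorem cls_hclo_2205 : allC (cloChk dD dC dE dCl) 2205 91 = true := by decide +kernel

set_option maxRecDepth 1000000 in
theorem cls_hclo_2206 : allC (cloChk dD dC dE dCl) 2206 91 = true := by decide +kernel

set_option maxRecDepth 1000000 in
theorem cls_hclo_2207 : allC (cloChk dD dC dE dCl) 2207 91 = true := by decide +kernel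

set_option maxRecDepth 1000000 in
theorem cls_hclo_2208 : allC (cloChk dD dC dE dCl) 2208 91 = true := by decide +kernel

set_option maxRecDepth 1000000 in
theorem cls_hclo_2209 : allC (cloChk dD dC dE dCl) 2209 91 = true := by decide +kernel

set_option maxRecDepth 1000000 in
theorem cls_hclo_2210 : allC (cloChk dD dC dE dCl) 2210 91 = true := by decide +kernel

set_option maxRecDepth 1000000 in
theorem cls_hclo_2211 : allC (cloChk dD dC dE dCl) 2211 91 = true := by decide +kernel

set_option maxRecDepth 1000000 in
theorem cls_hclo_2212 : allC (cloChk dD dC dE dCl) 2212 91 = true := by decide +kernel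

set_option maxRecDepth 1000000 in
theorem cls_hclo_2213 : allC (cloChk dD dC dE dCl) 2213 91 = true := by decide +kernel

set_option maxRecDepth 1000000 in
theorem cls_hclo_2214 : allC (cloChk dD dC dE dCl) 2214 91 = true := by decide +kernel

set_option maxRecDepth 1000000 in
theorem cls_hclo_2215 : allC (cloChk dD dC dE dCl) 2215 91 = true := by decide +kernel

set_option maxRecDepth 1000000 in
theorem cls_hclo_2216 : allC (cloChk dD dC dE dCl) 2216 91 = true := by decide +kernel

set_option maxRecDepth 1000000 in
theorem cls_hclo_2217 : allC (cloChk dD dC dE dCl) 2217 91 = true := by decide +kernel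

set_option maxRecDepth 1000000 in
theorem cls_hclo_2218 : allC (cloChk dD dC dE dCl) 2218 91 = true := by decide +kernel

set_option maxRecDepth 1000000 in
theorem cls_hclo_2219 : allC (cloChk dD dC dE dCl) 2219 91 = true := by decide +kernel

set_option maxRecDepth 1000000 in
theorem cls_hclo_2220 : allC (cloChk dD dC dE dCl) 2220 91 = true := by decide +kernel

set_option maxRecDepth 1000000 in
theorem cls_hclo_2221 : allC (cloChk dD dC dE dCl) 2221 91 = true := by decide +kernel

set_option maxRecDepth 1000000 in
theorem cls_hclo_2222 : allC (cloChk dD dC dE dCl) 2222 91 = true := by decide +kernel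

set_option maxRecDepth 1000000 in
theorem cls_hclo_2223 : allC (cloChk dD dC dE dCl) 2223 91 = true := by decide +kernel

set_option maxRecDepth 1000000 in
theorem cls_hclo_2224 : allC (cloChk dD dC dE dCl) 2224 91 = true := by decide +kernel

set_option maxRecDepth 1000000 in
theorem cls_hclo_2225 : allC (cloChk dD dC dE dCl) 2225 91 = true := by decide +kernel

set_option maxRecDepth 1000000 in
theorem cls_hclo_2226 : allC (cloChk dD dC dE dCl) 2226 91 = true := by decide +kernel

set_option maxRecDepth 1000000 in
theorem cls_hclo_2227 : allC (cloChk dD dC dE dCl) 2227 91 = true := by decide +kernel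

set_option maxRecDepth 1000000 in
theorem cls_hclo_2228 : allC (cloChk dD dC dE dCl) 2228 91 = true := by decide +kernel

set_option maxRecDepth 1000000 in
theorem cls_hclo_2229 : allC (cloChk dD dC dE dCl) 2229 91 = true := by decide +kernel

set_option maxRecDepth 1000000 in
theorem cls_hclo_2230 : allC (cloChk dD dC dE dCl) 2230 91 = true := by decide +kernel

set_option maxRecDepth 1000000 in
theorem cls_hclo_2231 : allC (cloChk dD dC dE dCl) 2231 91 = true := by decide +kernel

set_option maxRecDepth 1000000 in
theorem cls_hclo_2232 : allC (cloChk dD dC dE dCl) 2232 91 = true := by decide +kernel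

set_option maxRecDepth 1000000 in
theorem cls_hclo_2233 : allC (cloChk dD dC dE dCl) 2233 91 = true := by decide +kernel

set_option maxRecDepth 1000000 in
theorem cls_hclo_2234 : allC (cloChk dD dC dE dCl) 2234 91 = true := by decide +kernel

set_option maxRecDepth 1000000 in
theorem cls_hclo_2235 : allC (cloChk dD dC dE dCl) 2235 91 = true := by decide +kernel

set_option maxRecDepth 1000000 in
theorem cls_hclo_2236 : allC (cloChk dD dC dE dCl) 2236 91 = true := by decide +kernel

set_option maxRecDepth 1000000 in
theorem cls_hclo_2237 : allC (cloChk dD dC dE dCl) 2237 91 = true := by decide +kernel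

set_option maxRecDepth 1000000 in
theorem cls_hclo_2238 : allC (cloChk dD dC dE dCl) 2238 91 = true := by decide +kernel

set_option maxRecDepth 1000000 in
theorem cls_hclo_2239 : allC (cloChk dD dC dE dCl) 2239 91 = true := by decide +kernel

set_option maxRecDepth 1000000 in
theorem cls_hclo_2240 : allC (cloChk dD dC dE dCl) 2240 91 = true := by decide +kernel

set_option maxRecDepth 1000000 in
theorem cls_hclo_2241 : allC (cloChk dD dC dE dCl) 2241 91 = true := by decide +kernel

set_option maxRecDepth 1000000 in
theorem cls_hclo_2242 : allC (cloChk dD dC dE dCl) 2242 91 = true := by decide +kernel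

set_option maxRecDepth 1000000 in
theorem cls_hclo_2243 : allC (cloChk dD dC dE dCl) 2243 91 = true := by decide +kernel

set_option maxRecDepth 1000000 in
theorem cls_hclo_2244 : allC (cloChk dD dC dE dCl) 2244 91 = true := by decide +kernel

set_option maxRecDepth 1000000 in
theorem cls_hclo_2245 : allC (cloChk dD dC dE dCl) 2245 91 = true := by decide +kernel

set_option maxRecDepth 1000000 in
theorem cls_hclo_2246 : allC (cloChk dD dC dE dCl) 2246 91 = true := by decide +kernel

set_option maxRecDepth 1000000 in
theorem cls_hclo_2247 : allC (cloChk dD dC dE dCl) 2247 91 = true := by decide +kernel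

set_option maxRecDepth 1000000 in
theorem cls_hclo_2248 : allC (cloChk dD dC dE dCl) 2248 91 = true := by decide +kernel

set_option maxRecDepth 1000000 in
theorem cls_hclo_2249 : allC (cloChk dD dC dE dCl) 2249 91 = true := by decide +kernel

set_option maxRecDepth 1000000 in
theorem cls_hclo_2250 : allC (cloChk dD dC dE dCl) 2250 91 = true := by decide +kernel

set_option maxRecDepth 1000000 in
theorem cls_hclo_2251 : allC (cloChk dD dC dE dCl) 2251 91 = true := by decide +kernel

set_option maxRecDepth 1000000 in
theorem cls_hclo_2252 : allC (cloChk dD dC dE dCl) 2252 91 = true := by decide +kernel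

set_option maxRecDepth 1000000 in
theorem cls_hclo_2253 : allC (cloChk dD dC dE dCl) 2253 91 = true := by decide +kernel

set_option maxRecDepth 1000000 in
theorem cls_hclo_2254 : allC (cloChk dD dC dE dCl) 2254 91 = true := by decide +kernel

set_option maxRecDepth 1000000 in
theorem cls_hclo_2255 : allC (cloChk dD dC dE dCl) 2255 91 = true := by decide +kernel

set_option maxRecDepth 1000000 in
theorem cls_hclo_2256 : allC (cloChk dD dC dE dCl) 2256 91 = true := by decide +kernel

set_option maxRecDepth 1000000 in
theorem cls_hclo_2257 : allC (cloChk dD dC dE dCl) 2257 91 = true := by decide +kernel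

set_option maxRecDepth 1000000 in
theorem cls_hclo_2258 : allC (cloChk dD dC dE dCl) 2258 91 = true := by decide +kernel

set_option maxRecDepth 1000000 in
theorem cls_hclo_2259 : allC (cloChk dD dC dE dCl) 2259 91 = true := by decide +kernel

set_option maxRecDepth 1000000 in
theorem cls_hclo_2260 : allC (cloChk dD dC dE dCl) 2260 91 = true := by decide +kernel

set_option maxRecDepth 1000000 in
theorem cls_hclo_2261 : allC (cloChk dD dC dE dCl) 2261 91 = true := by decide +kernel

set_option maxRecDepth 1000000 in
theorem cls_hclo_2262 : allC (cloChk dD dC dE dCl) 2262 91 = true := by decide +kernel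

set_option maxRecDepth 1000000 in
theorem cls_hclo_2263 : allC (cloChk dD dC dE dCl) 2263 91 = true := by decide +kernel

set_option maxRecDepth 1000000 in
theorem cls_hclo_2264 : allC (cloChk dD dC dE dCl) 2264 91 = true := by decide +kernel

set_option maxRecDepth 1000000 in
theorem cls_hclo_2265 : allC (cloChk dD dC dE dCl) 2265 91 = true := by decide +kernel

set_option maxRecDepth 1000000 in
theorem cls_hclo_2266 : allC (cloChk dD dC dE dCl) 2266 91 = true := by decide +kernel

set_option maxRecDepth 1000000 in
theorem cls_hclo_2267 : allC (cloChk dD dC dE dCl) 2267 91 = true := by decide +kernel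

set_option maxRecDepth 1000000 in
theorem cls_hclo_2268 : allC (cloChk dD dC dE dCl) 2268 91 = true := by decide +kernel

set_option maxRecDepth 1000000 in
theorem cls_hclo_2269 : allC (cloChk dD dC dE dCl) 2269 91 = true := by decide +kernel

set_option maxRecDepth 1000000 in
theorem cls_hclo_2270 : allC (cloChk dD dC dE dCl) 2270 91 = true := by decide +kernel

set_option maxRecDepth 1000000 in
theorem cls_hclo_2271 : allC (cloChk dD dC dE dCl) 2271 91 = true := by decide +kernel

set_option maxRecDepth 1000000 in
theorem cls_hclo_2272 : allC (cloChk dD dC dE dCl) 2272 91 = true := by decide +kernel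

set_option maxRecDepth 1000000 in
theorem cls_hclo_2273 : allC (cloChk dD dC dE dCl) 2273 91 = true := by decide +kernel

set_option maxRecDepth 1000000 in
theorem cls_hclo_2274 : allC (cloChk dD dC dE dCl) 2274 91 = true := by decide +kernel

set_option maxRecDepth 1000000 in
theorem cls_hclo_2275 : allC (cloChk dD dC dE dCl) 2275 91 = true := by decide +kernel

set_option maxRecDepth 1000000 in
theorem cls_hclo_2276 : allC (cloChk dD dC dE dCl) 2276 91 = true := by decide +kernel

set_option maxRecDepth 1000000 in
theorem cls_hclo_2277 : allC (cloChk dD dC dE dCl) 2277 91 = true := by decide +kernel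

set_option maxRecDepth 1000000 in
theorem cls_hclo_2278 : allC (cloChk dD dC dE dCl) 2278 91 = true := by decide +kernel

set_option maxRecDepth 1000000 in
theorem cls_hclo_2279 : allC (cloChk dD dC dE dCl) 2279 91 = true := by decide +kernel

set_option maxRecDepth 1000000 in
theorem cls_hclo_2280 : allC (cloChk dD dC dE dCl) 2280 91 = true := by decide +kernel

set_option maxRecDepth 1000000 in
theorem cls_hclo_2281 : allC (cloChk dD dC dE dCl) 2281 91 = true := by decide +kernel

set_option maxRecDepth 1000000 in
theorem cls_hclo_2282 : allC (cloChk dD dC dE dCl) 2282 91 = true := by decide +kernel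

set_option maxRecDepth 1000000 in
theorem cls_hclo_2283 : allC (cloChk dD dC dE dCl) 2283 91 = true := by decide +kernel

set_option maxRecDepth 1000000 in
theorem cls_hclo_2284 : allC (cloChk dD dC dE dCl) 2284 91 = true := by decide +kernel

set_option maxRecDepth 1000000 in
theorem cls_hclo_2285 : allC (cloChk dD dC dE dCl) 2285 91 = true := by decide +kernel

set_option maxRecDepth 1000000 in
theorem cls_hclo_2286 : allC (cloChk dD dC dE dCl) 2286 91 = true := by decide +kernel

set_option maxRecDepth 1000000 in
theorem cls_hclo_2287 : allC (cloChk dD dC dE dCl) 2287 91 = true := by decide +kernel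

set_option maxRecDepth 1000000 in
theorem cls_hclo_2288 : allC (cloChk dD dC dE dCl) 2288 91 = true := by decide +kernel

set_option maxRecDepth 1000000 in
theorem cls_hclo_2289 : allC (cloChk dD dC dE dCl) 2289 91 = true := by decide +kernel

set_option maxRecDepth 1000000 in
theorem cls_hclo_2290 : allC (cloChk dD dC dE dCl) 2290 91 = true := by decide +kernel

set_option maxRecDepth 1000000 in
theorem cls_hclo_2291 : allC (cloChk dD dC dE dCl) 2291 91 = true := by decide +kernel

set_option maxRecDepth 1000000 in
theorem cls_hclo_2292 : allC (cloChk dD dC dE dCl) 2292 91 = true := by decide +kernel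

set_option maxRecDepth 1000000 in
theorem cls_hclo_2293 : allC (cloChk dD dC dE dCl) 2293 91 = true := by decide +kernel

set_option maxRecDepth 1000000 in
theorem cls_hclo_2294 : allC (cloChk dD dC dE dCl) 2294 91 = true := by decide +kernel

set_option maxRecDepth 1000000 in
theorem cls_hclo_2295 : allC (cloChk dD dC dE dCl) 2295 91 = true := by decide +kernel

set_option maxRecDepth 1000000 in
theorem cls_hclo_2296 : allC (cloChk dD dC dE dCl) 2296 91 = true := by decide +kernel

set_option maxRecDepth 1000000 in
theorem cls_hclo_2297 : allC (cloChk dD dC dE dCl) 2297 91 = true := by decide +kernel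

set_option maxRecDepth 1000000 in
theorem cls_hclo_2298 : allC (cloChk dD dC dE dCl) 2298 91 = true := by decide +kernel

set_option maxRecDepth 1000000 in
theorem cls_hclo_2299 : allC (cloChk dD dC dE dCl) 2299 91 = true := by decide +kernel

end Cfsg.Agent.Helper9.RuO

end
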