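import Mathlib
import Cfsg.Agent.Helper9.RuO.Data

set_option autoImplicit false

/-! Kernel checks of the certificates, a part. -/

noncomputable section

namespace Cfsg.Agent.Helper9.RuO

open Cfsg.Agent.Helper9.OutG Cfsg.Agent.Helper9.J3

set_option maxRecDepth 1000000 in
theorem cls_hclo_2400 : allC (cloChk dD dC dE dCl) 2400 91 = true := by decide +kernel

set_option maxRecDepth 1000000 in
theorem cls_hclo_2401 : allC (cloChk dD dC dE dCl) 2401 91 = true := by decide +kernel

set_option maxRecDepth 1000000 in
theorem cls_hclo_2402 : allC (cloChk dD dC dE dCl) 2402 91 = true := by decide +kernel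

set_option maxRecDepth 1000000 in
theorem cls_hclo_2403 : allC (cloChk dD dC dE dCl) 2403 91 = true := by decide +kernel

set_option maxRecDepth 1000000 in
theorem cls_hclo_2404 : allC (cloChk dD dC dE dCl) 2404 91 = true := by decide +kernel

set_option maxRecDepth 1000000 in
theorem cls_hclo_2405 : allC (cloChk dD dC dE dCl) 2405 91 = true := by decide +kernel

set_option maxRecDepth 1000000 in
theorem cls_hclo_2406 : allC (cloChk dD dC dE dCl) 2406 91 = true := by decide +kernel

set_option maxRecDepth 1000000 in
theorem cls_hclo_2407 : allC (cloChk dD dC dE dCl) 2407 91 = true := by decide +kernel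

set_option maxRecDepth 1000000 in
theorem cls_hclo_2408 : allC (cloChk dD dC dE dCl) 2408 91 = true := by decide +kernel

set_option maxRecDepth 1000000 in
theorem cls_hclo_2409 : allC (cloChk dD dC dE dCl) 2409 91 = true := by decide +kernel

set_option maxRecDepth 1000000 in
theorem cls_hclo_2410 : allC (cloChk dD dC dE dCl) 2410 91 = true := by decide +kernel

set_option maxRecDepth 1000000 in
theorem cls_hclo_2411 : allC (cloChk dD dC dE dCl) 2411 91 = true := by decide +kernel

set_option maxRecDepth 1000000 in
theorem cls_hclo_2412 : allC (cloChk dD dC dE dCl) 2412 91 = true := by decide +kernel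

set_option maxRecDepth 1000000 in
theorem cls_hclo_2413 : allC (cloChk dD dC dE dCl) 2413 91 = true := by decide +kernel

set_option maxRecDepth 1000000 in
theorem cls_hclo_2414 : allC (cloChk dD dC dE dCl) 2414 91 = true := by decide +kernel

set_option maxRecDepth 1000000 in
theorem cls_hclo_2415 : allC (cloChk dD dC dE dCl) 2415 91 = true := by decide +kernel

set_option maxRecDepth 1000000 in
theorem cls_hclo_2416 : allC (cloChk dD dC dE dCl) 2416 91 = true := by decide +kernel

set_option maxRecDepth 1000000 in
theorem cls_hclo_2417 : allC (cloChk dD dC dE dCl) 2417 91 = true := by decide +kernel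

set_option maxRecDepth 1000000 in
theorem cls_hclo_2418 : allC (cloChk dD dC dE dCl) 2418 91 = true := by decide +kernel

set_option maxRecDepth 1000000 in
theorem cls_hclo_2419 : allC (cloChk dD dC dE dCl) 2419 91 = true := by decide +kernel

set_option maxRecDepth 1000000 in
theorem cls_hclo_2420 : allC (cloChk dD dC dE dCl) 2420 91 = true := by decide +kernel

set_option maxRecDepth 1000000 in
theorem cls_hclo_2421 : allC (cloChk dD dC dE dCl) 2421 91 = true := by decide +kernel

set_option maxRecDepth 1000000 in
theorem cls_hclo_2422 : allC (cloChk dD dC dE dCl) 2422 91 = true := by decide +kernel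

set_option maxRecDepth 1000000 in
theorem cls_hclo_2423 : allC (cloChk dD dC dE dCl) 2423 91 = true := by decide +kernel

set_option maxRecDepth 1000000 in
theorem cls_hclo_2424 : allC (cloChk dD dC dE dCl) 2424 91 = true := by decide +kernel

set_option maxRecDepth 1000000 in
theorem cls_hclo_2425 : allC (cloChk dD dC dE dCl) 2425 91 = true := by decide +kernel

set_option maxRecDepth 1000000 in
theorem cls_hclo_2426 : allC (cloChk dD dC dE dCl) 2426 91 = true := by decide +kernel

set_option maxRecDepth 1000000 in
theorem cls_hclo_2427 : allC (cloChk dD dC dE dCl) 2427 91 = true := by decide +kernel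

set_option maxRecDepth 1000000 in
theorem cls_hclo_2428 : allC (cloChk dD dC dE dCl) 2428 91 = true := by decide +kernel

set_option maxRecDepth 1000000 in
theorem cls_hclo_2429 : allC (cloChk dD dC dE dCl) 2429 91 = true := by decide +kernel

set_option maxRecDepth 1000000 in
theorem cls_hclo_2430 : allC (cloChk dD dC dE dCl) 2430 91 = true := by decide +kernel

set_option maxRecDepth 1000000 in
theorem cls_hclo_2431 : allC (cloChk dD dC dE dCl) 2431 91 = true := by decide +kernel

set_option maxRecDepth 1000000 in
theorem cls_hclo_2432 : allC (cloChk dD dC dE dCl) 2432 91 = true := by decide +kernel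

set_option maxRecDepth 1000000 in
theorem cls_hclo_2433 : allC (cloChk dD dC dE dCl) 2433 91 = true := by decide +kernel

set_option maxRecDepth 1000000 in
theorem cls_hclo_2434 : allC (cloChk dD dC dE dCl) 2434 91 = true := by decide +kernel

set_option maxRecDepth 1000000 in
theorem cls_hclo_2435 : allC (cloChk dD dC dE dCl) 2435 91 = true := by decide +kernel

set_option maxRecDepth 1000000 in
theorem cls_hclo_2436 : allC (cloChk dD dC dE dCl) 2436 91 = true := by decide +kernel

set_option maxRecDepth 1000000 in
theorem cls_hclo_2437 : allC (cloChk dD dC dE dCl) 2437 91 = true := by decide +kernel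

set_option maxRecDepth 1000000 in
theorem cls_hclo_2438 : allC (cloChk dD dC dE dCl) 2438 91 = true := by decide +kernel

set_option maxRecDepth 1000000 in
theorem cls_hclo_2439 : allC (cloChk dD dC dE dCl) 2439 91 = true := by decide +kernel

set_option maxRecDepth 1000000 in
theorem cls_hclo_2440 : allC (cloChk dD dC dE dCl) 2440 91 = true := by decide +kernel

set_option maxRecDepth 1000000 in
theorem cls_hclo_2441 : allC (cloChk dD dC dE dCl) 2441 91 = true := by decide +kernel

set_option maxRecDepth 1000000 in
theorem cls_hclo_2442 : allC (cloChk dD dC dE dCl) 2442 91 = true := by decide +kernel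

set_option maxRecDepth 1000000 in
theorem cls_hclo_2443 : allC (cloChk dD dC dE dCl) 2443 91 = true := by decide +kernel

set_option maxRecDepth 1000000 in
theorem cls_hclo_2444 : allC (cloChk dD dC dE dCl) 2444 91 = true := by decide +kernel

set_option maxRecDepth 1000000 in
theorem cls_hclo_2445 : allC (cloChk dD dC dE dCl) 2445 91 = true := by decide +kernel

set_option maxRecDepth 1000000 in
theorem cls_hclo_2446 : allC (cloChk dD dC dE dCl) 2446 91 = true := by decide +kernel

set_option maxRecDepth 1000000 in
theorem cls_hclo_2447 : allC (cloChk dD dC dE dCl) 2447 91 = true := by decide +kernel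

set_option maxRecDepth 1000000 in
theorem cls_hclo_2448 : allC (cloChk dD dC dE dCl) 2448 91 = true := by decide +kernel

set_option maxRecDepth 1000000 in
theorem cls_hclo_2449 : allC (cloChk dD dC dE dCl) 2449 91 = true := by decide +kernel

set_option maxRecDepth 1000000 in
theorem cls_hclo_2450 : allC (cloChk dD dC dE dCl) 2450 91 = true := by decide +kernel

set_option maxRecDepth 1000000 in
theorem cls_hclo_2451 : allC (cloChk dD dC dE dCl) 2451 91 = true := by decide +kernel

set_option maxRecDepth 1000000 in
theorem cls_hclo_2452 : allC (cloChk dD dC dE dCl) 2452 91 = true := by decide +kernel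

set_option maxRecDepth 1000000 in
theorem cls_hclo_2453 : allC (cloChk dD dC dE dCl) 2453 91 = true := by decide +kernel

set_option maxRecDepth 1000000 in
theorem cls_hclo_2454 : allC (cloChk dD dC dE dCl) 2454 91 = true := by decide +kernel

set_option maxRecDepth 1000000 in
theorem cls_hclo_2455 : allC (cloChk dD dC dE dCl) 2455 91 = true := by decide +kernel

set_option maxRecDepth 1000000 in
theorem cls_hclo_2456 : allC (cloChk dD dC dE dCl) 2456 91 = true := by decide +kernel

set_option maxRecDepth 1000000 in
theorem cls_hclo_2457 : allC (cloChk dD dC dE dCl) 2457 91 = true := by decide +kernel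

set_option maxRecDepth 1000000 in
theorem cls_hclo_2458 : allC (cloChk dD dC dE dCl) 2458 91 = true := by decide +kernel

set_option maxRecDepth 1000000 in
theorem cls_hclo_2459 : allC (cloChk dD dC dE dCl) 2459 91 = true := by decide +kernel

set_option maxRecDepth 1000000 in
theorem cls_hclo_2460 : allC (cloChk dD dC dE dCl) 2460 91 = true := by decide +kernel

set_option maxRecDepth 1000000 in
theorem cls_hclo_2461 : allC (cloChk dD dC dE dCl) 2461 91 = true := by decide +kernel

set_option maxRecDepth 1000000 in
theorem cls_hclo_2462 : allC (cloChk dD dC dE dCl) 2462 91 = true := by decide +kernel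

set_option maxRecDepth 1000000 in
theorem cls_hclo_2463 : allC (cloChk dD dC dE dCl) 2463 91 = true := by decide +kernel

set_option maxRecDepth 1000000 in
theorem cls_hclo_2464 : allC (cloChk dD dC dE dCl) 2464 91 = true := by decide +kernel

set_option maxRecDepth 1000000 in
theorem cls_hclo_2465 : allC (cloChk dD dC dE dCl) 2465 91 = true := by decide +kernel

set_option maxRecDepth 1000000 in
theorem cls_hclo_2466 : allC (cloChk dD dC dE dCl) 2466 91 = true := by decide +kernel

set_option maxRecDepth 1000000 in
theorem cls_hclo_2467 : allC (cloChk dD dC dE dCl) 2467 91 = true := by decide +kernel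

set_option maxRecDepth 1000000 in
theorem cls_hclo_2468 : allC (cloChk dD dC dE dCl) 2468 91 = true := by decide +kernel

set_option maxRecDepth 1000000 in
theorem cls_hclo_2469 : allC (cloChk dD dC dE dCl) 2469 91 = true := by decide +kernel

set_option maxRecDepth 1000000 in
theorem cls_hclo_2470 : allC (cloChk dD dC dE dCl) 2470 91 = true := by decide +kernel

set_option maxRecDepth 1000000 in
theorem cls_hclo_2471 : allC (cloChk dD dC dE dCl) 2471 91 = true := by decide +kernel

set_option maxRecDepth 1000000 in
theorem cls_hclo_2472 : allC (cloChk dD dC dE dCl) 2472 91 = true := by decide +kernel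

set_option maxRecDepth 1000000 in
theorem cls_hclo_2473 : allC (cloChk dD dC dE dCl) 2473 91 = true := by decide +kernel

set_option maxRecDepth 1000000 in
theorem cls_hclo_2474 : allC (cloChk dD dC dE dCl) 2474 91 = true := by decide +kernel

set_option maxRecDepth 1000000 in
theorem cls_hclo_2475 : allC (cloChk dD dC dE dCl) 2475 91 = true := by decide +kernel

set_option maxRecDepth 1000000 in
theorem cls_hclo_2476 : allC (cloChk dD dC dE dCl) 2476 91 = true := by decide +kernel

set_option maxRecDepth 1000000 in
theorem cls_hclo_2477 : allC (cloChk dD dC dE dCl) 2477 91 = true := by decide +kernel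

set_option maxRecDepth 1000000 in
theorem cls_hclo_2478 : allC (cloChk dD dC dE dCl) 2478 91 = true := by decide +kernel

set_option maxRecDepth 1000000 in
theorem cls_hclo_2479 : allC (cloChk dD dC dE dCl) 2479 91 = true := by decide +kernel

set_option maxRecDepth 1000000 in
theorem cls_hclo_2480 : allC (cloChk dD dC dE dCl) 2480 91 = true := by decide +kernel

set_option maxRecDepth 1000000 in
theorem cls_hclo_2481 : allC (cloChk dD dC dE dCl) 2481 91 = true := by decide +kernel

set_option maxRecDepth 1000000 in
theorem cls_hclo_2482 : allC (cloChk dD dC dE dCl) 2482 91 = true := by decide +kernel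

set_option maxRecDepth 1000000 in
theorem cls_hclo_2483 : allC (cloChk dD dC dE dCl) 2483 91 = true := by decide +kernel

set_option maxRecDepth 1000000 in
theorem cls_hclo_2484 : allC (cloChk dD dC dE dCl) 2484 91 = true := by decide +kernel

set_option maxRecDepth 1000000 in
theorem cls_hclo_2485 : allC (cloChk dD dC dE dCl) 2485 91 = true := by decide +kernel

set_option maxRecDepth 1000000 in
theorem cls_hclo_2486 : allC (cloChk dD dC dE dCl) 2486 91 = true := by decide +kernel

set_option maxRecDepth 1000000 in
theorem cls_hclo_2487 : allC (cloChk dD dC dE dCl) 2487 91 = true := by decide +kernel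

set_option maxRecDepth 1000000 in
theorem cls_hclo_2488 : allC (cloChk dD dC dE dCl) 2488 91 = true := by decide +kernel

set_option maxRecDepth 1000000 in
theorem cls_hclo_2489 : allC (cloChk dD dC dE dCl) 2489 91 = true := by decide +kernel

set_option maxRecDepth 1000000 in
theorem cls_hclo_2490 : allC (cloChk dD dC dE dCl) 2490 91 = true := by decide +kernel

set_option maxRecDepth 1000000 in
theorem cls_hclo_2491 : allC (cloChk dD dC dE dCl) 2491 91 = true := by decide +kernel

set_option maxRecDepth 1000000 in
theorem cls_hclo_2492 : allC (cloChk dD dC dE dCl) 2492 91 = true := by decide +kernel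

set_option maxRecDepth 1000000 in
theorem cls_hclo_2493 : allC (cloChk dD dC dE dCl) 2493 91 = true := by decide +kernel

set_option maxRecDepth 1000000 in
theorem cls_hclo_2494 : allC (cloChk dD dC dE dCl) 2494 91 = true := by decide +kernel

set_option maxRecDepth 1000000 in
theorem cls_hclo_2495 : allC (cloChk dD dC dE dCl) 2495 91 = true := by decide +kernel

set_option maxRecDepth 1000000 in
theorem cls_hclo_2496 : allC (cloChk dD dC dE dCl) 2496 91 = true := by decide +kernel

set_option maxRecDepth 1000000 in
theorem cls_hclo_2497 : allC (cloChk dD dC dE dCl) 2497 91 = true := by decide +kernel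

set_option maxRecDepth 1000000 in
theorem cls_hclo_2498 : allC (cloChk dD dC dE dCl) 2498 91 = true := by decide +kernel

set_option maxRecDepth 1000000 in
theorem cls_hclo_2499 : allC (cloChk dD dC dE dCl) 2499 91 = true := by decide +kernel

end Cfsg.Agent.Helper9.RuO

end
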