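import Mathlib
import Cfsg.Agent.Helper9.RuO.Data

set_option autoImplicit false

/-! Kernel checks of the certificates, a part. -/

noncomputable section

namespace Cfsg.Agent.Helper9.RuO

open Cfsg.Agent.Helper9.OutG Cfsg.Agent.Helper9.J3

set_option maxRecDepth 1000000 in
theorem cls_hclo_2500 : allC (cloChk dD dC dE dCl) 2500 91 = true := by decide +kernel

set_option maxRecDepth 1000000 in
theorem cls_hclo_2501 : allC (cloChk dD dC dE dCl) 2501 91 = true := by decide +kernel

set_option maxRecDepth 1000000 in
theorem cls_hclo_2502 : allC (cloChk dD dC dE dCl) 2502 91 = true := by decide +kernel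

set_option maxRecDepth 1000000 in
theorem cls_hclo_2503 : allC (cloChk dD dC dE dCl) 2503 91 = true := by decide +kernel

set_option maxRecDepth 1000000 in
theorem cls_hclo_2504 : allC (cloChk dD dC dE dCl) 2504 91 = true := by decide +kernel

set_option maxRecDepth 1000000 in
theorem cls_hclo_2505 : allC (cloChk dD dC dE dCl) 2505 91 = true := by decide +kernel

set_option maxRecDepth 1000000 in
theorem cls_hclo_2506 : allC (cloChk dD dC dE dCl) 2506 91 = true := by decide +kernel

set_option maxRecDepth 1000000 in
theorem cls_hclo_2507 : allC (cloChk dD dC dE dCl) 2507 91 = true := by decide +kernel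

set_option maxRecDepth 1000000 in
theorem cls_hclo_2508 : allC (cloChk dD dC dE dCl) 2508 91 = true := by decide +kernel

set_option maxRecDepth 1000000 in
theorem cls_hclo_2509 : allC (cloChk dD dC dE dCl) 2509 91 = true := by decide +kernel

set_option maxRecDepth 1000000 in
theorem cls_hclo_2510 : allC (cloChk dD dC dE dCl) 2510 91 = true := by decide +kernel

set_option maxRecDepth 1000000 in
theorem cls_hclo_2511 : allC (cloChk dD dC dE dCl) 2511 91 = true := by decide +kernel

set_option maxRecDepth 1000000 in
theorem cls_hclo_2512 : allC (cloChk dD dC dE dCl) 2512 91 = true := by decide +kernel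

set_option maxRecDepth 1000000 in
theorem cls_hclo_2513 : allC (cloChk dD dC dE dCl) 2513 91 = true := by decide +kernel

set_option maxRecDepth 1000000 in
theorem cls_hclo_2514 : allC (cloChk dD dC dE dCl) 2514 91 = true := by decide +kernel

set_option maxRecDepth 1000000 in
theorem cls_hclo_2515 : allC (cloChk dD dC dE dCl) 2515 91 = true := by decide +kernel

set_option maxRecDepth 1000000 in
theorem cls_hclo_2516 : allC (cloChk dD dC dE dCl) 2516 91 = true := by decide +kernel

set_option maxRecDepth 1000000 in
theorem cls_hclo_2517 : allC (cloChk dD dC dE dCl) 2517 91 = true := by decide +kernel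

set_option maxRecDepth 1000000 in
theorem cls_hclo_2518 : allC (cloChk dD dC dE dCl) 2518 91 = true := by decide +kernel

set_option maxRecDepth 1000000 in
theorem cls_hclo_2519 : allC (cloChk dD dC dE dCl) 2519 91 = true := by decide +kernel

set_option maxRecDepth 1000000 in
theorem cls_hclo_2520 : allC (cloChk dD dC dE dCl) 2520 91 = true := by decide +kernel

set_option maxRecDepth 1000000 in
theorem cls_hclo_2521 : allC (cloChk dD dC dE dCl) 2521 91 = true := by decide +kernel

set_option maxRecDepth 1000000 in
theorem cls_hclo_2522 : allC (cloChk dD dC dE dCl) 2522 91 = true := by decide +kernel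

set_option maxRecDepth 1000000 in
theorem cls_hclo_2523 : allC (cloChk dD dC dE dCl) 2523 91 = true := by decide +kernel

set_option maxRecDepth 1000000 in
theorem cls_hclo_2524 : allC (cloChk dD dC dE dCl) 2524 91 = true := by decide +kernel

set_option maxRecDepth 1000000 in
theorem cls_hclo_2525 : allC (cloChk dD dC dE dCl) 2525 91 = true := by decide +kernel

set_option maxRecDepth 1000000 in
theorem cls_hclo_2526 : allC (cloChk dD dC dE dCl) 2526 91 = true := by decide +kernel

set_option maxRecDepth 1000000 in
theorem cls_hclo_2527 : allC (cloChk dD dC dE dCl) 2527 91 = true := by decide +kernel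

set_option maxRecDepth 1000000 in
theorem cls_hclo_2528 : allC (cloChk dD dC dE dCl) 2528 91 = true := by decide +kernel

set_option maxRecDepth 1000000 in
theorem cls_hclo_2529 : allC (cloChk dD dC dE dCl) 2529 91 = true := by decide +kernel

set_option maxRecDepth 1000000 in
theorem cls_hclo_2530 : allC (cloChk dD dC dE dCl) 2530 91 = true := by decide +kernel

set_option maxRecDepth 1000000 in
theorem cls_hclo_2531 : allC (cloChk dD dC dE dCl) 2531 91 = true := by decide +kernel

set_option maxRecDepth 1000000 in
theorem cls_hclo_2532 : allC (cloChk dD dC dE dCl) 2532 91 = true := by decide +kernel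

set_option maxRecDepth 1000000 in
theorem cls_hclo_2533 : allC (cloChk dD dC dE dCl) 2533 91 = true := by decide +kernel

set_option maxRecDepth 1000000 in
theorem cls_hclo_2534 : allC (cloChk dD dC dE dCl) 2534 91 = true := by decide +kernel

set_option maxRecDepth 1000000 in
theorem cls_hclo_2535 : allC (cloChk dD dC dE dCl) 2535 91 = true := by decide +kernel

set_option maxRecDepth 1000000 in
theorem cls_hclo_2536 : allC (cloChk dD dC dE dCl) 2536 91 = true := by decide +kernel

set_option maxRecDepth 1000000 in
theorem cls_hclo_2537 : allC (cloChk dD dC dE dCl) 2537 91 = true := by decide +kernel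

set_option maxRecDepth 1000000 in
theorem cls_hclo_2538 : allC (cloChk dD dC dE dCl) 2538 91 = true := by decide +kernel

set_option maxRecDepth 1000000 in
theorem cls_hclo_2539 : allC (cloChk dD dC dE dCl) 2539 91 = true := by decide +kernel

set_option maxRecDepth 1000000 in
theorem cls_hclo_2540 : allC (cloChk dD dC dE dCl) 2540 91 = true := by decide +kernel

set_option maxRecDepth 1000000 in
theorem cls_hclo_2541 : allC (cloChk dD dC dE dCl) 2541 91 = true := by decide +kernel

set_option maxRecDepth 1000000 in
theorem cls_hclo_2542 : allC (cloChk dD dC dE dCl) 2542 91 = true := by decide +kernel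

set_option maxRecDepth 1000000 in
theorem cls_hclo_2543 : allC (cloChk dD dC dE dCl) 2543 91 = true := by decide +kernel

set_option maxRecDepth 1000000 in
theorem cls_hclo_2544 : allC (cloChk dD dC dE dCl) 2544 91 = true := by decide +kernel

set_option maxRecDepth 1000000 in
theorem cls_hclo_2545 : allC (cloChk dD dC dE dCl) 2545 91 = true := by decide +kernel

set_option maxRecDepth 1000000 in
theorem cls_hclo_2546 : allC (cloChk dD dC dE dCl) 2546 91 = true := by decide +kernel

set_option maxRecDepth 1000000 in
theorem cls_hclo_2547 : allC (cloChk dD dC dE dCl) 2547 91 = true := by decide +kernel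

set_option maxRecDepth 1000000 in
theorem cls_hclo_2548 : allC (cloChk dD dC dE dCl) 2548 91 = true := by decide +kernel

set_option maxRecDepth 1000000 in
theorem cls_hclo_2549 : allC (cloChk dD dC dE dCl) 2549 91 = true := by decide +kernel

set_option maxRecDepth 1000000 in
theorem cls_hclo_2550 : allC (cloChk dD dC dE dCl) 2550 91 = true := by decide +kernel

set_option maxRecDepth 1000000 in
theorem cls_hclo_2551 : allC (cloChk dD dC dE dCl) 2551 91 = true := by decide +kernel

set_option maxRecDepth 1000000 in
theorem cls_hclo_2552 : allC (cloChk dD dC dE dCl) 2552 91 = true := by decide +kernel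

set_option maxRecDepth 1000000 in
theorem cls_hclo_2553 : allC (cloChk dD dC dE dCl) 2553 91 = true := by decide +kernel

set_option maxRecDepth 1000000 in
theorem cls_hclo_2554 : allC (cloChk dD dC dE dCl) 2554 91 = true := by decide +kernel

set_option maxRecDepth 1000000 in
theorem cls_hclo_2555 : allC (cloChk dD dC dE dCl) 2555 91 = true := by decide +kernel

set_option maxRecDepth 1000000 in
theorem cls_hclo_2556 : allC (cloChk dD dC dE dCl) 2556 91 = true := by decide +kernel

set_option maxRecDepth 1000000 in
theorem cls_hclo_2557 : allC (cloChk dD dC dE dCl) 2557 91 = true := by decide +kernel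

set_option maxRecDepth 1000000 in
theorem cls_hclo_2558 : allC (cloChk dD dC dE dCl) 2558 91 = true := by decide +kernel

set_option maxRecDepth 1000000 in
theorem cls_hclo_2559 : allC (cloChk dD dC dE dCl) 2559 91 = true := by decide +kernel

set_option maxRecDepth 1000000 in
theorem cls_hclo_2560 : allC (cloChk dD dC dE dCl) 2560 91 = true := by decide +kernel

set_option maxRecDepth 1000000 in
theorem cls_hclo_2561 : allC (cloChk dD dC dE dCl) 2561 91 = true := by decide +kernel

set_option maxRecDepth 1000000 in
theorem cls_hclo_2562 : allC (cloChk dD dC dE dCl) 2562 91 = true := by decide +kernel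

set_option maxRecDepth 1000000 in
theorem cls_hclo_2563 : allC (cloChk dD dC dE dCl) 2563 91 = true := by decide +kernel

set_option maxRecDepth 1000000 in
theorem cls_hclo_2564 : allC (cloChk dD dC dE dCl) 2564 91 = true := by decide +kernel

set_option maxRecDepth 1000000 in
theorem cls_hclo_2565 : allC (cloChk dD dC dE dCl) 2565 91 = true := by decide +kernel

set_option maxRecDepth 1000000 in
theorem cls_hclo_2566 : allC (cloChk dD dC dE dCl) 2566 91 = true := by decide +kernel

set_option maxRecDepth 1000000 in
theorem cls_hclo_2567 : allC (cloChk dD dC dE dCl) 2567 91 = true := by decide +kernel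

set_option maxRecDepth 1000000 in
theorem cls_hclo_2568 : allC (cloChk dD dC dE dCl) 2568 91 = true := by decide +kernel

set_option maxRecDepth 1000000 in
theorem cls_hclo_2569 : allC (cloChk dD dC dE dCl) 2569 91 = true := by decide +kernel

set_option maxRecDepth 1000000 in
theorem cls_hclo_2570 : allC (cloChk dD dC dE dCl) 2570 91 = true := by decide +kernel

set_option maxRecDepth 1000000 in
theorem cls_hclo_2571 : allC (cloChk dD dC dE dCl) 2571 91 = true := by decide +kernel

set_option maxRecDepth 1000000 in
theorem cls_hclo_2572 : allC (cloChk dD dC dE dCl) 2572 91 = true := by decide +kernel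

set_option maxRecDepth 1000000 in
theorem cls_hclo_2573 : allC (cloChk dD dC dE dCl) 2573 91 = true := by decide +kernel

set_option maxRecDepth 1000000 in
theorem cls_hclo_2574 : allC (cloChk dD dC dE dCl) 2574 91 = true := by decide +kernel

set_option maxRecDepth 1000000 in
theorem cls_hclo_2575 : allC (cloChk dD dC dE dCl) 2575 91 = true := by decide +kernel

set_option maxRecDepth 1000000 in
theorem cls_hclo_2576 : allC (cloChk dD dC dE dCl) 2576 91 = true := by decide +kernel

set_option maxRecDepth 1000000 in
theorem cls_hclo_2577 : allC (cloChk dD dC dE dCl) 2577 91 = true := by decide +kernel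

set_option maxRecDepth 1000000 in
theorem cls_hclo_2578 : allC (cloChk dD dC dE dCl) 2578 91 = true := by decide +kernel

set_option maxRecDepth 1000000 in
theorem cls_hclo_2579 : allC (cloChk dD dC dE dCl) 2579 91 = true := by decide +kernel

set_option maxRecDepth 1000000 in
theorem cls_hclo_2580 : allC (cloChk dD dC dE dCl) 2580 91 = true := by decide +kernel

set_option maxRecDepth 1000000 in
theorem cls_hclo_2581 : allC (cloChk dD dC dE dCl) 2581 91 = true := by decide +kernel

set_option maxRecDepth 1000000 in
theorem cls_hclo_2582 : allC (cloChk dD dC dE dCl) 2582 91 = true := by decide +kernel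

set_option maxRecDepth 1000000 in
theorem cls_hclo_2583 : allC (cloChk dD dC dE dCl) 2583 91 = true := by decide +kernel

set_option maxRecDepth 1000000 in
theorem cls_hclo_2584 : allC (cloChk dD dC dE dCl) 2584 91 = true := by decide +kernel

set_option maxRecDepth 1000000 in
theorem cls_hclo_2585 : allC (cloChk dD dC dE dCl) 2585 91 = true := by decide +kernel

set_option maxRecDepth 1000000 in
theorem cls_hclo_2586 : allC (cloChk dD dC dE dCl) 2586 91 = true := by decide +kernel

set_option maxRecDepth 1000000 in
theorem cls_hclo_2587 : allC (cloChk dD dC dE dCl) 2587 91 = true := by decide +kernel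

set_option maxRecDepth 1000000 in
theorem cls_hclo_2588 : allC (cloChk dD dC dE dCl) 2588 91 = true := by decide +kernel

set_option maxRecDepth 1000000 in
theorem cls_hclo_2589 : allC (cloChk dD dC dE dCl) 2589 91 = true := by decide +kernel

set_option maxRecDepth 1000000 in
theorem cls_hclo_2590 : allC (cloChk dD dC dE dCl) 2590 91 = true := by decide +kernel

set_option maxRecDepth 1000000 in
theorem cls_hclo_2591 : allC (cloChk dD dC dE dCl) 2591 91 = true := by decide +kernel

set_option maxRecDepth 1000000 in
theorem cls_hclo_2592 : allC (cloChk dD dC dE dCl) 2592 91 = true := by decide +kernel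

set_option maxRecDepth 1000000 in
theorem cls_hclo_2593 : allC (cloChk dD dC dE dCl) 2593 91 = true := by decide +kernel

set_option maxRecDepth 1000000 in
theorem cls_hclo_2594 : allC (cloChk dD dC dE dCl) 2594 91 = true := by decide +kernel

set_option maxRecDepth 1000000 in
theorem cls_hclo_2595 : allC (cloChk dD dC dE dCl) 2595 91 = true := by decide +kernel

set_option maxRecDepth 1000000 in
theorem cls_hclo_2596 : allC (cloChk dD dC dE dCl) 2596 91 = true := by decide +kernel

set_option maxRecDepth 1000000 in
theorem cls_hclo_2597 : allC (cloChk dD dC dE dCl) 2597 91 = true := by decide +kernel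

set_option maxRecDepth 1000000 in
theorem cls_hclo_2598 : allC (cloChk dD dC dE dCl) 2598 91 = true := by decide +kernel

set_option maxRecDepth 1000000 in
theorem cls_hclo_2599 : allC (cloChk dD dC dE dCl) 2599 91 = true := by decide +kernel

end Cfsg.Agent.Helper9.RuO

end
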