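import Mathlib
import Cfsg.Agent.Helper9.RuO.Data

set_option autoImplicit false

/-! Kernel checks of the certificates, a part. -/

noncomputable section

namespace Cfsg.Agent.Helper9.RuO

open Cfsg.Agent.Helper9.OutG Cfsg.Agent.Helper9.J3

set_option maxRecDepth 1000000 in
theorem cls_hclo_2600 : allC (cloChk dD dC dE dCl) 2600 91 = true := by decide +kernel

set_option maxRecDepth 1000000 in
theorem cls_hclo_2601 : allC (cloChk dD dC dE dCl) 2601 91 = true := by decide +kernel

set_option maxRecDepth 1000000 in
theorem cls_hclo_2602 : allC (cloChk dD dC dE dCl) 2602 91 = true := by decide +kernel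

set_option maxRecDepth 1000000 in
theorem cls_hclo_2603 : allC (cloChk dD dC dE dCl) 2603 91 = true := by decide +kernel

set_option maxRecDepth 1000000 in
theorem cls_hclo_2604 : allC (cloChk dD dC dE dCl) 2604 91 = true := by decide +kernel

set_option maxRecDepth 1000000 in
theorem cls_hclo_2605 : allC (cloChk dD dC dE dCl) 2605 91 = true := by decide +kernel

set_option maxRecDepth 1000000 in
theorem cls_hclo_2606 : allC (cloChk dD dC dE dCl) 2606 91 = true := by decide +kernel

set_option maxRecDepth 1000000 in
theorem cls_hclo_2607 : allC (cloChk dD dC dE dCl) 2607 91 = true := by decide +kernel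

set_option maxRecDepth 1000000 in
theorem cls_hclo_2608 : allC (cloChk dD dC dE dCl) 2608 91 = true := by decide +kernel

set_option maxRecDepth 1000000 in
theorem cls_hclo_2609 : allC (cloChk dD dC dE dCl) 2609 91 = true := by decide +kernel

set_option maxRecDepth 1000000 in
theorem cls_hclo_2610 : allC (cloChk dD dC dE dCl) 2610 91 = true := by decide +kernel

set_option maxRecDepth 1000000 in
theorem cls_hclo_2611 : allC (cloChk dD dC dE dCl) 2611 91 = true := by decide +kernel

set_option maxRecDepth 1000000 in
theorem cls_hclo_2612 : allC (cloChk dD dC dE dCl) 2612 91 = true := by decide +kernel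

set_option maxRecDepth 1000000 in
theorem cls_hclo_2613 : allC (cloChk dD dC dE dCl) 2613 91 = true := by decide +kernel

set_option maxRecDepth 1000000 in
theorem cls_hclo_2614 : allC (cloChk dD dC dE dCl) 2614 91 = true := by decide +kernel

set_option maxRecDepth 1000000 in
theorem cls_hclo_2615 : allC (cloChk dD dC dE dCl) 2615 91 = true := by decide +kernel

set_option maxRecDepth 1000000 in
theorem cls_hclo_2616 : allC (cloChk dD dC dE dCl) 2616 91 = true := by decide +kernel

set_option maxRecDepth 1000000 in
theorem cls_hclo_2617 : allC (cloChk dD dC dE dCl) 2617 91 = true := by decide +kernel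

set_option maxRecDepth 1000000 in
theorem cls_hclo_2618 : allC (cloChk dD dC dE dCl) 2618 91 = true := by decide +kernel

set_option maxRecDepth 1000000 in
theorem cls_hclo_2619 : allC (cloChk dD dC dE dCl) 2619 91 = true := by decide +kernel

set_option maxRecDepth 1000000 in
theorem cls_hclo_2620 : allC (cloChk dD dC dE dCl) 2620 91 = true := by decide +kernel

set_option maxRecDepth 1000000 in
theorem cls_hclo_2621 : allC (cloChk dD dC dE dCl) 2621 91 = true := by decide +kernel

set_option maxRecDepth 1000000 in
theorem cls_hclo_2622 : allC (cloChk dD dC dE dCl) 2622 91 = true := by decide +kernel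

set_option maxRecDepth 1000000 in
theorem cls_hclo_2623 : allC (cloChk dD dC dE dCl) 2623 91 = true := by decide +kernel

set_option maxRecDepth 1000000 in
theorem cls_hclo_2624 : allC (cloChk dD dC dE dCl) 2624 91 = true := by decide +kernel

set_option maxRecDepth 1000000 in
theorem cls_hclo_2625 : allC (cloChk dD dC dE dCl) 2625 91 = true := by decide +kernel

set_option maxRecDepth 1000000 in
theorem cls_hclo_2626 : allC (cloChk dD dC dE dCl) 2626 91 = true := by decide +kernel

set_option maxRecDepth 1000000 in
theorem cls_hclo_2627 : allC (cloChk dD dC dE dCl) 2627 91 = true := by decide +kernel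

set_option maxRecDepth 1000000 in
theorem cls_hclo_2628 : allC (cloChk dD dC dE dCl) 2628 91 = true := by decide +kernel

set_option maxRecDepth 1000000 in
theorem cls_hclo_2629 : allC (cloChk dD dC dE dCl) 2629 91 = true := by decide +kernel

set_option maxRecDepth 1000000 in
theorem cls_hclo_2630 : allC (cloChk dD dC dE dCl) 2630 91 = true := by decide +kernel

set_option maxRecDepth 1000000 in
theorem cls_hclo_2631 : allC (cloChk dD dC dE dCl) 2631 91 = true := by decide +kernel

set_option maxRecDepth 1000000 in
theorem cls_hclo_2632 : allC (cloChk dD dC dE dCl) 2632 91 = true := by decide +kernel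

set_option maxRecDepth 1000000 in
theorem cls_hclo_2633 : allC (cloChk dD dC dE dCl) 2633 91 = true := by decide +kernel

set_option maxRecDepth 1000000 in
theorem cls_hclo_2634 : allC (cloChk dD dC dE dCl) 2634 91 = true := by decide +kernel

set_option maxRecDepth 1000000 in
theorem cls_hclo_2635 : allC (cloChk dD dC dE dCl) 2635 91 = true := by decide +kernel

set_option maxRecDepth 1000000 in
theorem cls_hclo_2636 : allC (cloChk dD dC dE dCl) 2636 91 = true := by decide +kernel

set_option maxRecDepth 1000000 in
theorem cls_hclo_2637 : allC (cloChk dD dC dE dCl) 2637 91 = true := by decide +kernel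

set_option maxRecDepth 1000000 in
theorem cls_hclo_2638 : allC (cloChk dD dC dE dCl) 2638 91 = true := by decide +kernel

set_option maxRecDepth 1000000 in
theorem cls_hclo_2639 : allC (cloChk dD dC dE dCl) 2639 91 = true := by decide +kernel

set_option maxRecDepth 1000000 in
theorem cls_hclo_2640 : allC (cloChk dD dC dE dCl) 2640 91 = true := by decide +kernel

set_option maxRecDepth 1000000 in
theorem cls_hclo_2641 : allC (cloChk dD dC dE dCl) 2641 91 = true := by decide +kernel

set_option maxRecDepth 1000000 in
theorem cls_hclo_2642 : allC (cloChk dD dC dE dCl) 2642 91 = true := by decide +kernel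

set_option maxRecDepth 1000000 in
theorem cls_hclo_2643 : allC (cloChk dD dC dE dCl) 2643 91 = true := by decide +kernel

set_option maxRecDepth 1000000 in
theorem cls_hclo_2644 : allC (cloChk dD dC dE dCl) 2644 91 = true := by decide +kernel

set_option maxRecDepth 1000000 in
theorem cls_hclo_2645 : allC (cloChk dD dC dE dCl) 2645 91 = true := by decide +kernel

set_option maxRecDepth 1000000 in
theorem cls_hclo_2646 : allC (cloChk dD dC dE dCl) 2646 91 = true := by decide +kernel

set_option maxRecDepth 1000000 in
theorem cls_hclo_2647 : allC (cloChk dD dC dE dCl) 2647 91 = true := by decide +kernel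

set_option maxRecDepth 1000000 in
theorem cls_hclo_2648 : allC (cloChk dD dC dE dCl) 2648 91 = true := by decide +kernel

set_option maxRecDepth 1000000 in
theorem cls_hclo_2649 : allC (cloChk dD dC dE dCl) 2649 91 = true := by decide +kernel

set_option maxRecDepth 1000000 in
theorem cls_hclo_2650 : allC (cloChk dD dC dE dCl) 2650 91 = true := by decide +kernel

set_option maxRecDepth 1000000 in
theorem cls_hclo_2651 : allC (cloChk dD dC dE dCl) 2651 91 = true := by decide +kernel

set_option maxRecDepth 1000000 in
theorem cls_hclo_2652 : allC (cloChk dD dC dE dCl) 2652 91 = true := by decide +kernel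

set_option maxRecDepth 1000000 in
theorem cls_hclo_2653 : allC (cloChk dD dC dE dCl) 2653 91 = true := by decide +kernel

set_option maxRecDepth 1000000 in
theorem cls_hclo_2654 : allC (cloChk dD dC dE dCl) 2654 91 = true := by decide +kernel

set_option maxRecDepth 1000000 in
theorem cls_hclo_2655 : allC (cloChk dD dC dE dCl) 2655 91 = true := by decide +kernel

set_option maxRecDepth 1000000 in
theorem cls_hclo_2656 : allC (cloChk dD dC dE dCl) 2656 91 = true := by decide +kernel

set_option maxRecDepth 1000000 in
theorem cls_hclo_2657 : allC (cloChk dD dC dE dCl) 2657 91 = true := by decide +kernel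

set_option maxRecDepth 1000000 in
theorem cls_hclo_2658 : allC (cloChk dD dC dE dCl) 2658 91 = true := by decide +kernel

set_option maxRecDepth 1000000 in
theorem cls_hclo_2659 : allC (cloChk dD dC dE dCl) 2659 91 = true := by decide +kernel

set_option maxRecDepth 1000000 in
theorem cls_hclo_2660 : allC (cloChk dD dC dE dCl) 2660 91 = true := by decide +kernel

set_option maxRecDepth 1000000 in
theorem cls_hclo_2661 : allC (cloChk dD dC dE dCl) 2661 91 = true := by decide +kernel

set_option maxRecDepth 1000000 in
theorem cls_hclo_2662 : allC (cloChk dD dC dE dCl) 2662 91 = true := by decide +kernel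

set_option maxRecDepth 1000000 in
theorem cls_hclo_2663 : allC (cloChk dD dC dE dCl) 2663 91 = true := by decide +kernel

set_option maxRecDepth 1000000 in
theorem cls_hclo_2664 : allC (cloChk dD dC dE dCl) 2664 91 = true := by decide +kernel

set_option maxRecDepth 1000000 in
theorem cls_hclo_2665 : allC (cloChk dD dC dE dCl) 2665 91 = true := by decide +kernel

set_option maxRecDepth 1000000 in
theorem cls_hclo_2666 : allC (cloChk dD dC dE dCl) 2666 91 = true := by decide +kernel

set_option maxRecDepth 1000000 in
theorem cls_hclo_2667 : allC (cloChk dD dC dE dCl) 2667 91 = true := by decide +kernel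

set_option maxRecDepth 1000000 in
theorem cls_hclo_2668 : allC (cloChk dD dC dE dCl) 2668 91 = true := by decide +kernel

set_option maxRecDepth 1000000 in
theorem cls_hclo_2669 : allC (cloChk dD dC dE dCl) 2669 91 = true := by decide +kernel

set_option maxRecDepth 1000000 in
theorem cls_hclo_2670 : allC (cloChk dD dC dE dCl) 2670 91 = true := by decide +kernel

set_option maxRecDepth 1000000 in
theorem cls_hclo_2671 : allC (cloChk dD dC dE dCl) 2671 91 = true := by decide +kernel

set_option maxRecDepth 1000000 in
theorem cls_hclo_2672 : allC (cloChk dD dC dE dCl) 2672 91 = true := by decide +kernel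

set_option maxRecDepth 1000000 in
theorem cls_hclo_2673 : allC (cloChk dD dC dE dCl) 2673 91 = true := by decide +kernel

set_option maxRecDepth 1000000 in
theorem cls_hclo_2674 : allC (cloChk dD dC dE dCl) 2674 91 = true := by decide +kernel

set_option maxRecDepth 1000000 in
theorem cls_hclo_2675 : allC (cloChk dD dC dE dCl) 2675 91 = true := by decide +kernel

set_option maxRecDepth 1000000 in
theorem cls_hclo_2676 : allC (cloChk dD dC dE dCl) 2676 91 = true := by decide +kernel

set_option maxRecDepth 1000000 in
theorem cls_hclo_2677 : allC (cloChk dD dC dE dCl) 2677 91 = true := by decide +kernel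

set_option maxRecDepth 1000000 in
theorem cls_hclo_2678 : allC (cloChk dD dC dE dCl) 2678 91 = true := by decide +kernel

set_option maxRecDepth 1000000 in
theorem cls_hclo_2679 : allC (cloChk dD dC dE dCl) 2679 91 = true := by decide +kernel

set_option maxRecDepth 1000000 in
theorem cls_hclo_2680 : allC (cloChk dD dC dE dCl) 2680 91 = true := by decide +kernel

set_option maxRecDepth 1000000 in
theorem cls_hclo_2681 : allC (cloChk dD dC dE dCl) 2681 91 = true := by decide +kernel

set_option maxRecDepth 1000000 in
theorem cls_hclo_2682 : allC (cloChk dD dC dE dCl) 2682 91 = true := by decide +kernel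

set_option maxRecDepth 1000000 in
theorem cls_hclo_2683 : allC (cloChk dD dC dE dCl) 2683 91 = true := by decide +kernel

set_option maxRecDepth 1000000 in
theorem cls_hclo_2684 : allC (cloChk dD dC dE dCl) 2684 91 = true := by decide +kernel

set_option maxRecDepth 1000000 in
theorem cls_hclo_2685 : allC (cloChk dD dC dE dCl) 2685 91 = true := by decide +kernel

set_option maxRecDepth 1000000 in
theorem cls_hclo_2686 : allC (cloChk dD dC dE dCl) 2686 91 = true := by decide +kernel

set_option maxRecDepth 1000000 in
theorem cls_hclo_2687 : allC (cloChk dD dC dE dCl) 2687 91 = true := by decide +kernel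

set_option maxRecDepth 1000000 in
theorem cls_hclo_2688 : allC (cloChk dD dC dE dCl) 2688 91 = true := by decide +kernel

set_option maxRecDepth 1000000 in
theorem cls_hclo_2689 : allC (cloChk dD dC dE dCl) 2689 91 = true := by decide +kernel

set_option maxRecDepth 1000000 in
theorem cls_hclo_2690 : allC (cloChk dD dC dE dCl) 2690 91 = true := by decide +kernel

set_option maxRecDepth 1000000 in
theorem cls_hclo_2691 : allC (cloChk dD dC dE dCl) 2691 91 = true := by decide +kernel

set_option maxRecDepth 1000000 in
theorem cls_hclo_2692 : allC (cloChk dD dC dE dCl) 2692 91 = true := by decide +kernel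

set_option maxRecDepth 1000000 in
theorem cls_hclo_2693 : allC (cloChk dD dC dE dCl) 2693 91 = true := by decide +kernel

set_option maxRecDepth 1000000 in
theorem cls_hclo_2694 : allC (cloChk dD dC dE dCl) 2694 91 = true := by decide +kernel

set_option maxRecDepth 1000000 in
theorem cls_hclo_2695 : allC (cloChk dD dC dE dCl) 2695 91 = true := by decide +kernel

set_option maxRecDepth 1000000 in
theorem cls_hclo_2696 : allC (cloChk dD dC dE dCl) 2696 91 = true := by decide +kernel

set_option maxRecDepth 1000000 in
theorem cls_hclo_2697 : allC (cloChk dD dC dE dCl) 2697 91 = true := by decide +kernel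

set_option maxRecDepth 1000000 in
theorem cls_hclo_2698 : allC (cloChk dD dC dE dCl) 2698 91 = true := by decide +kernel

set_option maxRecDepth 1000000 in
theorem cls_hclo_2699 : allC (cloChk dD dC dE dCl) 2699 91 = true := by decide +kernel

end Cfsg.Agent.Helper9.RuO

end
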