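import Mathlib
import Cfsg.Agent.Helper9.RuO.Data

set_option autoImplicit false

/-! Kernel checks of the certificates, a part. -/

noncomputable section

namespace Cfsg.Agent.Helper9.RuO

open Cfsg.Agent.Helper9.OutG Cfsg.Agent.Helper9.J3

set_option maxRecDepth 1000000 in
theorem cls_hclo_2700 : allC (cloChk dD dC dE dCl) 2700 91 = true := by decide +kernel

set_option maxRecDepth 1000000 in
theorem cls_hclo_2701 : allC (cloChk dD dC dE dCl) 2701 91 = true := by decide +kernel

set_option maxRecDepth 1000000 in
theorem cls_hclo_2702 : allC (cloChk dD dC dE dCl) 2702 91 = true := by decide +kernel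

set_option maxRecDepth 1000000 in
theorem cls_hclo_2703 : allC (cloChk dD dC dE dCl) 2703 91 = true := by decide +kernel

set_option maxRecDepth 1000000 in
theorem cls_hclo_2704 : allC (cloChk dD dC dE dCl) 2704 91 = true := by decide +kernel

set_option maxRecDepth 1000000 in
theorem cls_hclo_2705 : allC (cloChk dD dC dE dCl) 2705 91 = true := by decide +kernel

set_option maxRecDepth 1000000 in
theorem cls_hclo_2706 : allC (cloChk dD dC dE dCl) 2706 91 = true := by decide +kernel

set_option maxRecDepth 1000000 in
theorem cls_hclo_2707 : allC (cloChk dD dC dE dCl) 2707 91 = true := by decide +kernel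

set_option maxRecDepth 1000000 in
theorem cls_hclo_2708 : allC (cloChk dD dC dE dCl) 2708 91 = true := by decide +kernel

set_option maxRecDepth 1000000 in
theorem cls_hclo_2709 : allC (cloChk dD dC dE dCl) 2709 91 = true := by decide +kernel

set_option maxRecDepth 1000000 in
theorem cls_hclo_2710 : allC (cloChk dD dC dE dCl) 2710 91 = true := by decide +kernel

set_option maxRecDepth 1000000 in
theorem cls_hclo_2711 : allC (cloChk dD dC dE dCl) 2711 91 = true := by decide +kernel

set_option maxRecDepth 1000000 in
theorem cls_hclo_2712 : allC (cloChk dD dC dE dCl) 2712 91 = true := by decide +kernel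

set_option maxRecDepth 1000000 in
theorem cls_hclo_2713 : allC (cloChk dD dC dE dCl) 2713 91 = true := by decide +kernel

set_option maxRecDepth 1000000 in
theorem cls_hclo_2714 : allC (cloChk dD dC dE dCl) 2714 91 = true := by decide +kernel

set_option maxRecDepth 1000000 in
theorem cls_hclo_2715 : allC (cloChk dD dC dE dCl) 2715 91 = true := by decide +kernel

set_option maxRecDepth 1000000 in
theorem cls_hclo_2716 : allC (cloChk dD dC dE dCl) 2716 91 = true := by decide +kernel

set_option maxRecDepth 1000000 in
theorem cls_hclo_2717 : allC (cloChk dD dC dE dCl) 2717 91 = true := by decide +kernel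

set_option maxRecDepth 1000000 in
theorem cls_hclo_2718 : allC (cloChk dD dC dE dCl) 2718 91 = true := by decide +kernel

set_option maxRecDepth 1000000 in
theorem cls_hclo_2719 : allC (cloChk dD dC dE dCl) 2719 91 = true := by decide +kernel

set_option maxRecDepth 1000000 in
theorem cls_hclo_2720 : allC (cloChk dD dC dE dCl) 2720 91 = true := by decide +kernel

set_option maxRecDepth 1000000 in
theorem cls_hclo_2721 : allC (cloChk dD dC dE dCl) 2721 91 = true := by decide +kernel

set_option maxRecDepth 1000000 in
theorem cls_hclo_2722 : allC (cloChk dD dC dE dCl) 2722 91 = true := by decide +kernel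

set_option maxRecDepth 1000000 in
theorem cls_hclo_2723 : allC (cloChk dD dC dE dCl) 2723 91 = true := by decide +kernel

set_option maxRecDepth 1000000 in
theorem cls_hclo_2724 : allC (cloChk dD dC dE dCl) 2724 91 = true := by decide +kernel

set_option maxRecDepth 1000000 in
theorem cls_hclo_2725 : allC (cloChk dD dC dE dCl) 2725 91 = true := by decide +kernel

set_option maxRecDepth 1000000 in
theorem cls_hclo_2726 : allC (cloChk dD dC dE dCl) 2726 91 = true := by decide +kernel

set_option maxRecDepth 1000000 in
theorem cls_hclo_2727 : allC (cloChk dD dC dE dCl) 2727 91 = true := by decide +kernel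

set_option maxRecDepth 1000000 in
theorem cls_hclo_2728 : allC (cloChk dD dC dE dCl) 2728 91 = true := by decide +kernel

set_option maxRecDepth 1000000 in
theorem cls_hclo_2729 : allC (cloChk dD dC dE dCl) 2729 91 = true := by decide +kernel

set_option maxRecDepth 1000000 in
theorem cls_hclo_2730 : allC (cloChk dD dC dE dCl) 2730 91 = true := by decide +kernel

set_option maxRecDepth 1000000 in
theorem cls_hclo_2731 : allC (cloChk dD dC dE dCl) 2731 91 = true := by decide +kernel

set_option maxRecDepth 1000000 in
theorem cls_hclo_2732 : allC (cloChk dD dC dE dCl) 2732 91 = true := by decide +kernel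

set_option maxRecDepth 1000000 in
theorem cls_hclo_2733 : allC (cloChk dD dC dE dCl) 2733 91 = true := by decide +kernel

set_option maxRecDepth 1000000 in
theorem cls_hclo_2734 : allC (cloChk dD dC dE dCl) 2734 91 = true := by decide +kernel

set_option maxRecDepth 1000000 in
theorem cls_hclo_2735 : allC (cloChk dD dC dE dCl) 2735 91 = true := by decide +kernel

set_option maxRecDepth 1000000 in
theorem cls_hclo_2736 : allC (cloChk dD dC dE dCl) 2736 91 = true := by decide +kernel

set_option maxRecDepth 1000000 in
theorem cls_hclo_2737 : allC (cloChk dD dC dE dCl) 2737 91 = true := by decide +kernel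

set_option maxRecDepth 1000000 in
theorem cls_hclo_2738 : allC (cloChk dD dC dE dCl) 2738 91 = true := by decide +kernel

set_option maxRecDepth 1000000 in
theorem cls_hclo_2739 : allC (cloChk dD dC dE dCl) 2739 91 = true := by decide +kernel

set_option maxRecDepth 1000000 in
theorem cls_hclo_2740 : allC (cloChk dD dC dE dCl) 2740 91 = true := by decide +kernel

set_option maxRecDepth 1000000 in
theorem cls_hclo_2741 : allC (cloChk dD dC dE dCl) 2741 91 = true := by decide +kernel

set_option maxRecDepth 1000000 in
theorem cls_hclo_2742 : allC (cloChk dD dC dE dCl) 2742 91 = true := by decide +kernel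

set_option maxRecDepth 1000000 in
theorem cls_hclo_2743 : allC (cloChk dD dC dE dCl) 2743 91 = true := by decide +kernel

set_option maxRecDepth 1000000 in
theorem cls_hclo_2744 : allC (cloChk dD dC dE dCl) 2744 91 = true := by decide +kernel

set_option maxRecDepth 1000000 in
theorem cls_hclo_2745 : allC (cloChk dD dC dE dCl) 2745 91 = true := by decide +kernel

set_option maxRecDepth 1000000 in
theorem cls_hclo_2746 : allC (cloChk dD dC dE dCl) 2746 91 = true := by decide +kernel

set_option maxRecDepth 1000000 in
theorem cls_hclo_2747 : allC (cloChk dD dC dE dCl) 2747 91 = true := by decide +kernel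

set_option maxRecDepth 1000000 in
theorem cls_hclo_2748 : allC (cloChk dD dC dE dCl) 2748 91 = true := by decide +kernel

set_option maxRecDepth 1000000 in
theorem cls_hclo_2749 : allC (cloChk dD dC dE dCl) 2749 91 = true := by decide +kernel

set_option maxRecDepth 1000000 in
theorem cls_hclo_2750 : allC (cloChk dD dC dE dCl) 2750 91 = true := by decide +kernel

set_option maxRecDepth 1000000 in
theorem cls_hclo_2751 : allC (cloChk dD dC dE dCl) 2751 91 = true := by decide +kernel

set_option maxRecDepth 1000000 in
theorem cls_hclo_2752 : allC (cloChk dD dC dE dCl) 2752 91 = true := by decide +kernel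

set_option maxRecDepth 1000000 in
theorem cls_hclo_2753 : allC (cloChk dD dC dE dCl) 2753 91 = true := by decide +kernel

set_option maxRecDepth 1000000 in
theorem cls_hclo_2754 : allC (cloChk dD dC dE dCl) 2754 91 = true := by decide +kernel

set_option maxRecDepth 1000000 in
theorem cls_hclo_2755 : allC (cloChk dD dC dE dCl) 2755 91 = true := by decide +kernel

set_option maxRecDepth 1000000 in
theorem cls_hclo_2756 : allC (cloChk dD dC dE dCl) 2756 91 = true := by decide +kernel

set_option maxRecDepth 1000000 in
theorem cls_hclo_2757 : allC (cloChk dD dC dE dCl) 2757 91 = true := by decide +kernel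

set_option maxRecDepth 1000000 in
theorem cls_hclo_2758 : allC (cloChk dD dC dE dCl) 2758 91 = true := by decide +kernel

set_option maxRecDepth 1000000 in
theorem cls_hclo_2759 : allC (cloChk dD dC dE dCl) 2759 91 = true := by decide +kernel

set_option maxRecDepth 1000000 in
theorem cls_hclo_2760 : allC (cloChk dD dC dE dCl) 2760 91 = true := by decide +kernel

set_option maxRecDepth 1000000 in
theorem cls_hclo_2761 : allC (cloChk dD dC dE dCl) 2761 91 = true := by decide +kernel

set_option maxRecDepth 1000000 in
theorem cls_hclo_2762 : allC (cloChk dD dC dE dCl) 2762 91 = true := by decide +kernel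

set_option maxRecDepth 1000000 in
theorem cls_hclo_2763 : allC (cloChk dD dC dE dCl) 2763 91 = true := by decide +kernel

set_option maxRecDepth 1000000 in
theorem cls_hclo_2764 : allC (cloChk dD dC dE dCl) 2764 91 = true := by decide +kernel

set_option maxRecDepth 1000000 in
theorem cls_hclo_2765 : allC (cloChk dD dC dE dCl) 2765 91 = true := by decide +kernel

set_option maxRecDepth 1000000 in
theorem cls_hclo_2766 : allC (cloChk dD dC dE dCl) 2766 91 = true := by decide +kernel

set_option maxRecDepth 1000000 in
theorem cls_hclo_2767 : allC (cloChk dD dC dE dCl) 2767 91 = true := by decide +kernel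

set_option maxRecDepth 1000000 in
theorem cls_hclo_2768 : allC (cloChk dD dC dE dCl) 2768 91 = true := by decide +kernel

set_option maxRecDepth 1000000 in
theorem cls_hclo_2769 : allC (cloChk dD dC dE dCl) 2769 91 = true := by decide +kernel

set_option maxRecDepth 1000000 in
theorem cls_hclo_2770 : allC (cloChk dD dC dE dCl) 2770 91 = true := by decide +kernel

set_option maxRecDepth 1000000 in
theorem cls_hclo_2771 : allC (cloChk dD dC dE dCl) 2771 91 = true := by decide +kernel

set_option maxRecDepth 1000000 in
theorem cls_hclo_2772 : allC (cloChk dD dC dE dCl) 2772 91 = true := by decide +kernel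

set_option maxRecDepth 1000000 in
theorem cls_hclo_2773 : allC (cloChk dD dC dE dCl) 2773 91 = true := by decide +kernel

set_option maxRecDepth 1000000 in
theorem cls_hclo_2774 : allC (cloChk dD dC dE dCl) 2774 91 = true := by decide +kernel

set_option maxRecDepth 1000000 in
theorem cls_hclo_2775 : allC (cloChk dD dC dE dCl) 2775 91 = true := by decide +kernel

set_option maxRecDepth 1000000 in
theorem cls_hclo_2776 : allC (cloChk dD dC dE dCl) 2776 91 = true := by decide +kernel

set_option maxRecDepth 1000000 in
theorem cls_hclo_2777 : allC (cloChk dD dC dE dCl) 2777 91 = true := by decide +kernel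

set_option maxRecDepth 1000000 in
theorem cls_hclo_2778 : allC (cloChk dD dC dE dCl) 2778 91 = true := by decide +kernel

set_option maxRecDepth 1000000 in
theorem cls_hclo_2779 : allC (cloChk dD dC dE dCl) 2779 91 = true := by decide +kernel

set_option maxRecDepth 1000000 in
theorem cls_hclo_2780 : allC (cloChk dD dC dE dCl) 2780 91 = true := by decide +kernel

set_option maxRecDepth 1000000 in
theorem cls_hclo_2781 : allC (cloChk dD dC dE dCl) 2781 91 = true := by decide +kernel

set_option maxRecDepth 1000000 in
theorem cls_hclo_2782 : allC (cloChk dD dC dE dCl) 2782 91 = true := by decide +kernel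

set_option maxRecDepth 1000000 in
theorem cls_hclo_2783 : allC (cloChk dD dC dE dCl) 2783 91 = true := by decide +kernel

set_option maxRecDepth 1000000 in
theorem cls_hclo_2784 : allC (cloChk dD dC dE dCl) 2784 91 = true := by decide +kernel

set_option maxRecDepth 1000000 in
theorem cls_hclo_2785 : allC (cloChk dD dC dE dCl) 2785 91 = true := by decide +kernel

set_option maxRecDepth 1000000 in
theorem cls_hclo_2786 : allC (cloChk dD dC dE dCl) 2786 91 = true := by decide +kernel

set_option maxRecDepth 1000000 in
theorem cls_hclo_2787 : allC (cloChk dD dC dE dCl) 2787 91 = true := by decide +kernel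

set_option maxRecDepth 1000000 in
theorem cls_hclo_2788 : allC (cloChk dD dC dE dCl) 2788 91 = true := by decide +kernel

set_option maxRecDepth 1000000 in
theorem cls_hclo_2789 : allC (cloChk dD dC dE dCl) 2789 91 = true := by decide +kernel

set_option maxRecDepth 1000000 in
theorem cls_hclo_2790 : allC (cloChk dD dC dE dCl) 2790 91 = true := by decide +kernel

set_option maxRecDepth 1000000 in
theorem cls_hclo_2791 : allC (cloChk dD dC dE dCl) 2791 91 = true := by decide +kernel

set_option maxRecDepth 1000000 in
theorem cls_hclo_2792 : allC (cloChk dD dC dE dCl) 2792 91 = true := by decide +kernel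

set_option maxRecDepth 1000000 in
theorem cls_hclo_2793 : allC (cloChk dD dC dE dCl) 2793 91 = true := by decide +kernel

set_option maxRecDepth 1000000 in
theorem cls_hclo_2794 : allC (cloChk dD dC dE dCl) 2794 91 = true := by decide +kernel

set_option maxRecDepth 1000000 in
theorem cls_hclo_2795 : allC (cloChk dD dC dE dCl) 2795 91 = true := by decide +kernel

set_option maxRecDepth 1000000 in
theorem cls_hclo_2796 : allC (cloChk dD dC dE dCl) 2796 91 = true := by decide +kernel

set_option maxRecDepth 1000000 in
theorem cls_hclo_2797 : allC (cloChk dD dC dE dCl) 2797 91 = true := by decide +kernel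

set_option maxRecDepth 1000000 in
theorem cls_hclo_2798 : allC (cloChk dD dC dE dCl) 2798 91 = true := by decide +kernel

set_option maxRecDepth 1000000 in
theorem cls_hclo_2799 : allC (cloChk dD dC dE dCl) 2799 91 = true := by decide +kernel

end Cfsg.Agent.Helper9.RuO

end
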