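import Mathlib
import Cfsg.Agent.Helper9.RuO.Data

set_option autoImplicit false

/-! Kernel checks of the certificates, a part. -/

noncomputable section

namespace Cfsg.Agent.Helper9.RuO

open Cfsg.Agent.Helper9.OutG Cfsg.Agent.Helper9.J3

set_option maxRecDepth 1000000 in
theorem cls_hclo_2800 : allC (cloChk dD dC dE dCl) 2800 91 = true := by decide +kernel

set_option maxRecDepth 1000000 in
theorem cls_hclo_2801 : allC (cloChk dD dC dE dCl) 2801 91 = true := by decide +kernel

set_option maxRecDepth 1000000 in
theorem cls_hclo_2802 : allC (cloChk dD dC dE dCl) 2802 91 = true := by decide +kernel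

set_option maxRecDepth 1000000 in
theorem cls_hclo_2803 : allC (cloChk dD dC dE dCl) 2803 91 = true := by decide +kernel

set_option maxRecDepth 1000000 in
theorem cls_hclo_2804 : allC (cloChk dD dC dE dCl) 2804 91 = true := by decide +kernel

set_option maxRecDepth 1000000 in
theorem cls_hclo_2805 : allC (cloChk dD dC dE dCl) 2805 91 = true := by decide +kernel

set_option maxRecDepth 1000000 in
theorem cls_hclo_2806 : allC (cloChk dD dC dE dCl) 2806 91 = true := by decide +kernel

set_option maxRecDepth 1000000 in
theorem cls_hclo_2807 : allC (cloChk dD dC dE dCl) 2807 91 = true := by decide +kernel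

set_option maxRecDepth 1000000 in
theorem cls_hclo_2808 : allC (cloChk dD dC dE dCl) 2808 91 = true := by decide +kernel

set_option maxRecDepth 1000000 in
theorem cls_hclo_2809 : allC (cloChk dD dC dE dCl) 2809 91 = true := by decide +kernel

set_option maxRecDepth 1000000 in
theorem cls_hclo_2810 : allC (cloChk dD dC dE dCl) 2810 91 = true := by decide +kernel

set_option maxRecDepth 1000000 in
theorem cls_hclo_2811 : allC (cloChk dD dC dE dCl) 2811 91 = true := by decide +kernel

set_option maxRecDepth 1000000 in
theorem cls_hclo_2812 : allC (cloChk dD dC dE dCl) 2812 91 = true := by decide +kernel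

set_option maxRecDepth 1000000 in
theorem cls_hclo_2813 : allC (cloChk dD dC dE dCl) 2813 91 = true := by decide +kernel

set_option maxRecDepth 1000000 in
theorem cls_hclo_2814 : allC (cloChk dD dC dE dCl) 2814 91 = true := by decide +kernel

set_option maxRecDepth 1000000 in
theorem cls_hclo_2815 : allC (cloChk dD dC dE dCl) 2815 91 = true := by decide +kernel

set_option maxRecDepth 1000000 in
theorem cls_hclo_2816 : allC (cloChk dD dC dE dCl) 2816 91 = true := by decide +kernel

set_option maxRecDepth 1000000 in
theorem cls_hclo_2817 : allC (cloChk dD dC dE dCl) 2817 91 = true := by decide +kernel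

set_option maxRecDepth 1000000 in
theorem cls_hclo_2818 : allC (cloChk dD dC dE dCl) 2818 91 = true := by decide +kernel

set_option maxRecDepth 1000000 in
theorem cls_hclo_2819 : allC (cloChk dD dC dE dCl) 2819 91 = true := by decide +kernel

set_option maxRecDepth 1000000 in
theorem cls_hclo_2820 : allC (cloChk dD dC dE dCl) 2820 91 = true := by decide +kernel

set_option maxRecDepth 1000000 in
theorem cls_hclo_2821 : allC (cloChk dD dC dE dCl) 2821 91 = true := by decide +kernel

set_option maxRecDepth 1000000 in
theorem cls_hclo_2822 : allC (cloChk dD dC dE dCl) 2822 91 = true := by decide +kernel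

set_option maxRecDepth 1000000 in
theorem cls_hclo_2823 : allC (cloChk dD dC dE dCl) 2823 91 = true := by decide +kernel

set_option maxRecDepth 1000000 in
theorem cls_hclo_2824 : allC (cloChk dD dC dE dCl) 2824 91 = true := by decide +kernel

set_option maxRecDepth 1000000 in
theorem cls_hclo_2825 : allC (cloChk dD dC dE dCl) 2825 91 = true := by decide +kernel

set_option maxRecDepth 1000000 in
theorem cls_hclo_2826 : allC (cloChk dD dC dE dCl) 2826 91 = true := by decide +kernel

set_option maxRecDepth 1000000 in
theorem cls_hclo_2827 : allC (cloChk dD dC dE dCl) 2827 91 = true := by decide +kernel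

set_option maxRecDepth 1000000 in
theorem cls_hclo_2828 : allC (cloChk dD dC dE dCl) 2828 91 = true := by decide +kernel

set_option maxRecDepth 1000000 in
theorem cls_hclo_2829 : allC (cloChk dD dC dE dCl) 2829 91 = true := by decide +kernel

set_option maxRecDepth 1000000 in
theorem cls_hclo_2830 : allC (cloChk dD dC dE dCl) 2830 91 = true := by decide +kernel

set_option maxRecDepth 1000000 in
theorem cls_hclo_2831 : allC (cloChk dD dC dE dCl) 2831 91 = true := by decide +kernel

set_option maxRecDepth 1000000 in
theorem cls_hclo_2832 : allC (cloChk dD dC dE dCl) 2832 91 = true := by decide +kernel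

set_option maxRecDepth 1000000 in
theorem cls_hclo_2833 : allC (cloChk dD dC dE dCl) 2833 91 = true := by decide +kernel

set_option maxRecDepth 1000000 in
theorem cls_hclo_2834 : allC (cloChk dD dC dE dCl) 2834 91 = true := by decide +kernel

set_option maxRecDepth 1000000 in
theorem cls_hclo_2835 : allC (cloChk dD dC dE dCl) 2835 91 = true := by decide +kernel

set_option maxRecDepth 1000000 in
theorem cls_hclo_2836 : allC (cloChk dD dC dE dCl) 2836 91 = true := by decide +kernel

set_option maxRecDepth 1000000 in
theorem cls_hclo_2837 : allC (cloChk dD dC dE dCl) 2837 91 = true := by decide +kernel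

set_option maxRecDepth 1000000 in
theorem cls_hclo_2838 : allC (cloChk dD dC dE dCl) 2838 91 = true := by decide +kernel

set_option maxRecDepth 1000000 in
theorem cls_hclo_2839 : allC (cloChk dD dC dE dCl) 2839 91 = true := by decide +kernel

set_option maxRecDepth 1000000 in
theorem cls_hclo_2840 : allC (cloChk dD dC dE dCl) 2840 91 = true := by decide +kernel

set_option maxRecDepth 1000000 in
theorem cls_hclo_2841 : allC (cloChk dD dC dE dCl) 2841 91 = true := by decide +kernel

set_option maxRecDepth 1000000 in
theorem cls_hclo_2842 : allC (cloChk dD dC dE dCl) 2842 91 = true := by decide +kernel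

set_option maxRecDepth 1000000 in
theorem cls_hclo_2843 : allC (cloChk dD dC dE dCl) 2843 91 = true := by decide +kernel

set_option maxRecDepth 1000000 in
theorem cls_hclo_2844 : allC (cloChk dD dC dE dCl) 2844 91 = true := by decide +kernel

set_option maxRecDepth 1000000 in
theorem cls_hclo_2845 : allC (cloChk dD dC dE dCl) 2845 91 = true := by decide +kernel

set_option maxRecDepth 1000000 in
theorem cls_hclo_2846 : allC (cloChk dD dC dE dCl) 2846 91 = true := by decide +kernel

set_option maxRecDepth 1000000 in
theorem cls_hclo_2847 : allC (cloChk dD dC dE dCl) 2847 91 = true := by decide +kernel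

set_option maxRecDepth 1000000 in
theorem cls_hclo_2848 : allC (cloChk dD dC dE dCl) 2848 91 = true := by decide +kernel

set_option maxRecDepth 1000000 in
theorem cls_hclo_2849 : allC (cloChk dD dC dE dCl) 2849 91 = true := by decide +kernel

set_option maxRecDepth 1000000 in
theorem cls_hclo_2850 : allC (cloChk dD dC dE dCl) 2850 91 = true := by decide +kernel

set_option maxRecDepth 1000000 in
theorem cls_hclo_2851 : allC (cloChk dD dC dE dCl) 2851 91 = true := by decide +kernel

set_option maxRecDepth 1000000 in
theorem cls_hclo_2852 : allC (cloChk dD dC dE dCl) 2852 91 = true := by decide +kernel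

set_option maxRecDepth 1000000 in
theorem cls_hclo_2853 : allC (cloChk dD dC dE dCl) 2853 91 = true := by decide +kernel

set_option maxRecDepth 1000000 in
theorem cls_hclo_2854 : allC (cloChk dD dC dE dCl) 2854 91 = true := by decide +kernel

set_option maxRecDepth 1000000 in
theorem cls_hclo_2855 : allC (cloChk dD dC dE dCl) 2855 91 = true := by decide +kernel

set_option maxRecDepth 1000000 in
theorem cls_hclo_2856 : allC (cloChk dD dC dE dCl) 2856 91 = true := by decide +kernel

set_option maxRecDepth 1000000 in
theorem cls_hclo_2857 : allC (cloChk dD dC dE dCl) 2857 91 = true := by decide +kernel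

set_option maxRecDepth 1000000 in
theorem cls_hclo_2858 : allC (cloChk dD dC dE dCl) 2858 91 = true := by decide +kernel

set_option maxRecDepth 1000000 in
theorem cls_hclo_2859 : allC (cloChk dD dC dE dCl) 2859 91 = true := by decide +kernel

set_option maxRecDepth 1000000 in
theorem cls_hclo_2860 : allC (cloChk dD dC dE dCl) 2860 91 = true := by decide +kernel

set_option maxRecDepth 1000000 in
theorem cls_hclo_2861 : allC (cloChk dD dC dE dCl) 2861 91 = true := by decide +kernel

set_option maxRecDepth 1000000 in
theorem cls_hclo_2862 : allC (cloChk dD dC dE dCl) 2862 91 = true := by decide +kernel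

set_option maxRecDepth 1000000 in
theorem cls_hclo_2863 : allC (cloChk dD dC dE dCl) 2863 91 = true := by decide +kernel

set_option maxRecDepth 1000000 in
theorem cls_hclo_2864 : allC (cloChk dD dC dE dCl) 2864 91 = true := by decide +kernel

set_option maxRecDepth 1000000 in
theorem cls_hclo_2865 : allC (cloChk dD dC dE dCl) 2865 91 = true := by decide +kernel

set_option maxRecDepth 1000000 in
theorem cls_hclo_2866 : allC (cloChk dD dC dE dCl) 2866 91 = true := by decide +kernel

set_option maxRecDepth 1000000 in
theorem cls_hclo_2867 : allC (cloChk dD dC dE dCl) 2867 91 = true := by decide +kernel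

set_option maxRecDepth 1000000 in
theorem cls_hclo_2868 : allC (cloChk dD dC dE dCl) 2868 91 = true := by decide +kernel

set_option maxRecDepth 1000000 in
theorem cls_hclo_2869 : allC (cloChk dD dC dE dCl) 2869 91 = true := by decide +kernel

set_option maxRecDepth 1000000 in
theorem cls_hclo_2870 : allC (cloChk dD dC dE dCl) 2870 91 = true := by decide +kernel

set_option maxRecDepth 1000000 in
theorem cls_hclo_2871 : allC (cloChk dD dC dE dCl) 2871 91 = true := by decide +kernel

set_option maxRecDepth 1000000 in
theorem cls_hclo_2872 : allC (cloChk dD dC dE dCl) 2872 91 = true := by decide +kernel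

set_option maxRecDepth 1000000 in
theorem cls_hclo_2873 : allC (cloChk dD dC dE dCl) 2873 91 = true := by decide +kernel

set_option maxRecDepth 1000000 in
theorem cls_hclo_2874 : allC (cloChk dD dC dE dCl) 2874 91 = true := by decide +kernel

set_option maxRecDepth 1000000 in
theorem cls_hclo_2875 : allC (cloChk dD dC dE dCl) 2875 91 = true := by decide +kernel

set_option maxRecDepth 1000000 in
theorem cls_hclo_2876 : allC (cloChk dD dC dE dCl) 2876 91 = true := by decide +kernel

set_option maxRecDepth 1000000 in
theorem cls_hclo_2877 : allC (cloChk dD dC dE dCl) 2877 91 = true := by decide +kernel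

set_option maxRecDepth 1000000 in
theorem cls_hclo_2878 : allC (cloChk dD dC dE dCl) 2878 91 = true := by decide +kernel

set_option maxRecDepth 1000000 in
theorem cls_hclo_2879 : allC (cloChk dD dC dE dCl) 2879 91 = true := by decide +kernel

set_option maxRecDepth 1000000 in
theorem cls_hclo_2880 : allC (cloChk dD dC dE dCl) 2880 91 = true := by decide +kernel

set_option maxRecDepth 1000000 in
theorem cls_hclo_2881 : allC (cloChk dD dC dE dCl) 2881 91 = true := by decide +kernel

set_option maxRecDepth 1000000 in
theorem cls_hclo_2882 : allC (cloChk dD dC dE dCl) 2882 91 = true := by decide +kernel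

set_option maxRecDepth 1000000 in
theorem cls_hclo_2883 : allC (cloChk dD dC dE dCl) 2883 91 = true := by decide +kernel

set_option maxRecDepth 1000000 in
theorem cls_hclo_2884 : allC (cloChk dD dC dE dCl) 2884 91 = true := by decide +kernel

set_option maxRecDepth 1000000 in
theorem cls_hclo_2885 : allC (cloChk dD dC dE dCl) 2885 91 = true := by decide +kernel

set_option maxRecDepth 1000000 in
theorem cls_hclo_2886 : allC (cloChk dD dC dE dCl) 2886 91 = true := by decide +kernel

set_option maxRecDepth 1000000 in
theorem cls_hclo_2887 : allC (cloChk dD dC dE dCl) 2887 91 = true := by decide +kernel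

set_option maxRecDepth 1000000 in
theorem cls_hclo_2888 : allC (cloChk dD dC dE dCl) 2888 91 = true := by decide +kernel

set_option maxRecDepth 1000000 in
theorem cls_hclo_2889 : allC (cloChk dD dC dE dCl) 2889 91 = true := by decide +kernel

set_option maxRecDepth 1000000 in
theorem cls_hclo_2890 : allC (cloChk dD dC dE dCl) 2890 91 = true := by decide +kernel

set_option maxRecDepth 1000000 in
theorem cls_hclo_2891 : allC (cloChk dD dC dE dCl) 2891 91 = true := by decide +kernel

set_option maxRecDepth 1000000 in
theorem cls_hclo_2892 : allC (cloChk dD dC dE dCl) 2892 91 = true := by decide +kernel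

set_option maxRecDepth 1000000 in
theorem cls_hclo_2893 : allC (cloChk dD dC dE dCl) 2893 91 = true := by decide +kernel

set_option maxRecDepth 1000000 in
theorem cls_hclo_2894 : allC (cloChk dD dC dE dCl) 2894 91 = true := by decide +kernel

set_option maxRecDepth 1000000 in
theorem cls_hclo_2895 : allC (cloChk dD dC dE dCl) 2895 91 = true := by decide +kernel

set_option maxRecDepth 1000000 in
theorem cls_hclo_2896 : allC (cloChk dD dC dE dCl) 2896 91 = true := by decide +kernel

set_option maxRecDepth 1000000 in
theorem cls_hclo_2897 : allC (cloChk dD dC dE dCl) 2897 91 = true := by decide +kernel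

set_option maxRecDepth 1000000 in
theorem cls_hclo_2898 : allC (cloChk dD dC dE dCl) 2898 91 = true := by decide +kernel

set_option maxRecDepth 1000000 in
theorem cls_hclo_2899 : allC (cloChk dD dC dE dCl) 2899 91 = true := by decide +kernel

end Cfsg.Agent.Helper9.RuO

end
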