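import Mathlib
import Cfsg.Agent.Helper9.RuO.Data

set_option autoImplicit false

/-! Kernel checks of the certificates, a part. -/

noncomputable section

namespace Cfsg.Agent.Helper9.RuO

open Cfsg.Agent.Helper9.OutG Cfsg.Agent.Helper9.J3

set_option maxRecDepth 1000000 in
theorem cls_hclo_2900 : allC (cloChk dD dC dE dCl) 2900 91 = true := by decide +kernel

set_option maxRecDepth 1000000 in
theorem cls_hclo_2901 : allC (cloChk dD dC dE dCl) 2901 91 = true := by decide +kernel

set_option maxRecDepth 1000000 in
theorem cls_hclo_2902 : allC (cloChk dD dC dE dCl) 2902 91 = true := by decide +kernel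

set_option maxRecDepth 1000000 in
theorem cls_hclo_2903 : allC (cloChk dD dC dE dCl) 2903 91 = true := by decide +kernel

set_option maxRecDepth 1000000 in
theorem cls_hclo_2904 : allC (cloChk dD dC dE dCl) 2904 91 = true := by decide +kernel

set_option maxRecDepth 1000000 in
theorem cls_hclo_2905 : allC (cloChk dD dC dE dCl) 2905 91 = true := by decide +kernel

set_option maxRecDepth 1000000 in
theorem cls_hclo_2906 : allC (cloChk dD dC dE dCl) 2906 91 = true := by decide +kernel

set_option maxRecDepth 1000000 in
theorem cls_hclo_2907 : allC (cloChk dD dC dE dCl) 2907 91 = true := by decide +kernel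

set_option maxRecDepth 1000000 in
theorem cls_hclo_2908 : allC (cloChk dD dC dE dCl) 2908 91 = true := by decide +kernel

set_option maxRecDepth 1000000 in
theorem cls_hclo_2909 : allC (cloChk dD dC dE dCl) 2909 91 = true := by decide +kernel

set_option maxRecDepth 1000000 in
theorem cls_hclo_2910 : allC (cloChk dD dC dE dCl) 2910 91 = true := by decide +kernel

set_option maxRecDepth 1000000 in
theorem cls_hclo_2911 : allC (cloChk dD dC dE dCl) 2911 91 = true := by decide +kernel

set_option maxRecDepth 1000000 in
theorem cls_hclo_2912 : allC (cloChk dD dC dE dCl) 2912 91 = true := by decide +kernel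

set_option maxRecDepth 1000000 in
theorem cls_hclo_2913 : allC (cloChk dD dC dE dCl) 2913 91 = true := by decide +kernel

set_option maxRecDepth 1000000 in
theorem cls_hclo_2914 : allC (cloChk dD dC dE dCl) 2914 91 = true := by decide +kernel

set_option maxRecDepth 1000000 in
theorem cls_hclo_2915 : allC (cloChk dD dC dE dCl) 2915 91 = true := by decide +kernel

set_option maxRecDepth 1000000 in
theorem cls_hclo_2916 : allC (cloChk dD dC dE dCl) 2916 91 = true := by decide +kernel

set_option maxRecDepth 1000000 in
theorem cls_hclo_2917 : allC (cloChk dD dC dE dCl) 2917 91 = true := by decide +kernel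

set_option maxRecDepth 1000000 in
theorem cls_hclo_2918 : allC (cloChk dD dC dE dCl) 2918 91 = true := by decide +kernel

set_option maxRecDepth 1000000 in
theorem cls_hclo_2919 : allC (cloChk dD dC dE dCl) 2919 91 = true := by decide +kernel

set_option maxRecDepth 1000000 in
theorem cls_hclo_2920 : allC (cloChk dD dC dE dCl) 2920 91 = true := by decide +kernel

set_option maxRecDepth 1000000 in
theorem cls_hclo_2921 : allC (cloChk dD dC dE dCl) 2921 91 = true := by decide +kernel

set_option maxRecDepth 1000000 in
theorem cls_hclo_2922 : allC (cloChk dD dC dE dCl) 2922 91 = true := by decide +kernel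

set_option maxRecDepth 1000000 in
theorem cls_hclo_2923 : allC (cloChk dD dC dE dCl) 2923 91 = true := by decide +kernel

set_option maxRecDepth 1000000 in
theorem cls_hclo_2924 : allC (cloChk dD dC dE dCl) 2924 91 = true := by decide +kernel

set_option maxRecDepth 1000000 in
theorem cls_hclo_2925 : allC (cloChk dD dC dE dCl) 2925 91 = true := by decide +kernel

set_option maxRecDepth 1000000 in
theorem cls_hclo_2926 : allC (cloChk dD dC dE dCl) 2926 91 = true := by decide +kernel

set_option maxRecDepth 1000000 in
theorem cls_hclo_2927 : allC (cloChk dD dC dE dCl) 2927 91 = true := by decide +kernel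

set_option maxRecDepth 1000000 in
theorem cls_hclo_2928 : allC (cloChk dD dC dE dCl) 2928 91 = true := by decide +kernel

set_option maxRecDepth 1000000 in
theorem cls_hclo_2929 : allC (cloChk dD dC dE dCl) 2929 91 = true := by decide +kernel

set_option maxRecDepth 1000000 in
theorem cls_hclo_2930 : allC (cloChk dD dC dE dCl) 2930 91 = true := by decide +kernel

set_option maxRecDepth 1000000 in
theorem cls_hclo_2931 : allC (cloChk dD dC dE dCl) 2931 91 = true := by decide +kernel

set_option maxRecDepth 1000000 in
theorem cls_hclo_2932 : allC (cloChk dD dC dE dCl) 2932 91 = true := by decide +kernel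

set_option maxRecDepth 1000000 in
theorem cls_hclo_2933 : allC (cloChk dD dC dE dCl) 2933 91 = true := by decide +kernel

set_option maxRecDepth 1000000 in
theorem cls_hclo_2934 : allC (cloChk dD dC dE dCl) 2934 91 = true := by decide +kernel

set_option maxRecDepth 1000000 in
theorem cls_hclo_2935 : allC (cloChk dD dC dE dCl) 2935 91 = true := by decide +kernel

set_option maxRecDepth 1000000 in
theorem cls_hclo_2936 : allC (cloChk dD dC dE dCl) 2936 91 = true := by decide +kernel

set_option maxRecDepth 1000000 in
theorem cls_hclo_2937 : allC (cloChk dD dC dE dCl) 2937 91 = true := by decide +kernel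

set_option maxRecDepth 1000000 in
theorem cls_hclo_2938 : allC (cloChk dD dC dE dCl) 2938 91 = true := by decide +kernel

set_option maxRecDepth 1000000 in
theorem cls_hclo_2939 : allC (cloChk dD dC dE dCl) 2939 91 = true := by decide +kernel

set_option maxRecDepth 1000000 in
theorem cls_hclo_2940 : allC (cloChk dD dC dE dCl) 2940 91 = true := by decide +kernel

set_option maxRecDepth 1000000 in
theorem cls_hclo_2941 : allC (cloChk dD dC dE dCl) 2941 91 = true := by decide +kernel

set_option maxRecDepth 1000000 in
theorem cls_hclo_2942 : allC (cloChk dD dC dE dCl) 2942 91 = true := by decide +kernel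

set_option maxRecDepth 1000000 in
theorem cls_hclo_2943 : allC (cloChk dD dC dE dCl) 2943 91 = true := by decide +kernel

set_option maxRecDepth 1000000 in
theorem cls_hclo_2944 : allC (cloChk dD dC dE dCl) 2944 91 = true := by decide +kernel

set_option maxRecDepth 1000000 in
theorem cls_hclo_2945 : allC (cloChk dD dC dE dCl) 2945 91 = true := by decide +kernel

set_option maxRecDepth 1000000 in
theorem cls_hclo_2946 : allC (cloChk dD dC dE dCl) 2946 91 = true := by decide +kernel

set_option maxRecDepth 1000000 in
theorem cls_hclo_2947 : allC (cloChk dD dC dE dCl) 2947 91 = true := by decide +kernel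

set_option maxRecDepth 1000000 in
theorem cls_hclo_2948 : allC (cloChk dD dC dE dCl) 2948 91 = true := by decide +kernel

set_option maxRecDepth 1000000 in
theorem cls_hclo_2949 : allC (cloChk dD dC dE dCl) 2949 91 = true := by decide +kernel

set_option maxRecDepth 1000000 in
theorem cls_hclo_2950 : allC (cloChk dD dC dE dCl) 2950 91 = true := by decide +kernel

set_option maxRecDepth 1000000 in
theorem cls_hclo_2951 : allC (cloChk dD dC dE dCl) 2951 91 = true := by decide +kernel

set_option maxRecDepth 1000000 in
theorem cls_hclo_2952 : allC (cloChk dD dC dE dCl) 2952 91 = true := by decide +kernel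

set_option maxRecDepth 1000000 in
theorem cls_hclo_2953 : allC (cloChk dD dC dE dCl) 2953 91 = true := by decide +kernel

set_option maxRecDepth 1000000 in
theorem cls_hclo_2954 : allC (cloChk dD dC dE dCl) 2954 91 = true := by decide +kernel

set_option maxRecDepth 1000000 in
theorem cls_hclo_2955 : allC (cloChk dD dC dE dCl) 2955 91 = true := by decide +kernel

set_option maxRecDepth 1000000 in
theorem cls_hclo_2956 : allC (cloChk dD dC dE dCl) 2956 91 = true := by decide +kernel

set_option maxRecDepth 1000000 in
theorem cls_hclo_2957 : allC (cloChk dD dC dE dCl) 2957 91 = true := by decide +kernel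

set_option maxRecDepth 1000000 in
theorem cls_hclo_2958 : allC (cloChk dD dC dE dCl) 2958 91 = true := by decide +kernel

set_option maxRecDepth 1000000 in
theorem cls_hclo_2959 : allC (cloChk dD dC dE dCl) 2959 91 = true := by decide +kernel

set_option maxRecDepth 1000000 in
theorem cls_hclo_2960 : allC (cloChk dD dC dE dCl) 2960 91 = true := by decide +kernel

set_option maxRecDepth 1000000 in
theorem cls_hclo_2961 : allC (cloChk dD dC dE dCl) 2961 91 = true := by decide +kernel

set_option maxRecDepth 1000000 in
theorem cls_hclo_2962 : allC (cloChk dD dC dE dCl) 2962 91 = true := by decide +kernel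

set_option maxRecDepth 1000000 in
theorem cls_hclo_2963 : allC (cloChk dD dC dE dCl) 2963 91 = true := by decide +kernel

set_option maxRecDepth 1000000 in
theorem cls_hclo_2964 : allC (cloChk dD dC dE dCl) 2964 91 = true := by decide +kernel

set_option maxRecDepth 1000000 in
theorem cls_hclo_2965 : allC (cloChk dD dC dE dCl) 2965 91 = true := by decide +kernel

set_option maxRecDepth 1000000 in
theorem cls_hclo_2966 : allC (cloChk dD dC dE dCl) 2966 91 = true := by decide +kernel

set_option maxRecDepth 1000000 in
theorem cls_hclo_2967 : allC (cloChk dD dC dE dCl) 2967 91 = true := by decide +kernel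

set_option maxRecDepth 1000000 in
theorem cls_hclo_2968 : allC (cloChk dD dC dE dCl) 2968 91 = true := by decide +kernel

set_option maxRecDepth 1000000 in
theorem cls_hclo_2969 : allC (cloChk dD dC dE dCl) 2969 91 = true := by decide +kernel

set_option maxRecDepth 1000000 in
theorem cls_hclo_2970 : allC (cloChk dD dC dE dCl) 2970 91 = true := by decide +kernel

set_option maxRecDepth 1000000 in
theorem cls_hclo_2971 : allC (cloChk dD dC dE dCl) 2971 91 = true := by decide +kernel

set_option maxRecDepth 1000000 in
theorem cls_hclo_2972 : allC (cloChk dD dC dE dCl) 2972 91 = true := by decide +kernel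

set_option maxRecDepth 1000000 in
theorem cls_hclo_2973 : allC (cloChk dD dC dE dCl) 2973 91 = true := by decide +kernel

set_option maxRecDepth 1000000 in
theorem cls_hclo_2974 : allC (cloChk dD dC dE dCl) 2974 91 = true := by decide +kernel

set_option maxRecDepth 1000000 in
theorem cls_hclo_2975 : allC (cloChk dD dC dE dCl) 2975 91 = true := by decide +kernel

set_option maxRecDepth 1000000 in
theorem cls_hclo_2976 : allC (cloChk dD dC dE dCl) 2976 91 = true := by decide +kernel

set_option maxRecDepth 1000000 in
theorem cls_hclo_2977 : allC (cloChk dD dC dE dCl) 2977 91 = true := by decide +kernel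

set_option maxRecDepth 1000000 in
theorem cls_hclo_2978 : allC (cloChk dD dC dE dCl) 2978 91 = true := by decide +kernel

set_option maxRecDepth 1000000 in
theorem cls_hclo_2979 : allC (cloChk dD dC dE dCl) 2979 91 = true := by decide +kernel

set_option maxRecDepth 1000000 in
theorem cls_hclo_2980 : allC (cloChk dD dC dE dCl) 2980 91 = true := by decide +kernel

set_option maxRecDepth 1000000 in
theorem cls_hclo_2981 : allC (cloChk dD dC dE dCl) 2981 91 = true := by decide +kernel

set_option maxRecDepth 1000000 in
theorem cls_hclo_2982 : allC (cloChk dD dC dE dCl) 2982 91 = true := by decide +kernel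

set_option maxRecDepth 1000000 in
theorem cls_hclo_2983 : allC (cloChk dD dC dE dCl) 2983 91 = true := by decide +kernel

set_option maxRecDepth 1000000 in
theorem cls_hclo_2984 : allC (cloChk dD dC dE dCl) 2984 91 = true := by decide +kernel

set_option maxRecDepth 1000000 in
theorem cls_hclo_2985 : allC (cloChk dD dC dE dCl) 2985 91 = true := by decide +kernel

set_option maxRecDepth 1000000 in
theorem cls_hclo_2986 : allC (cloChk dD dC dE dCl) 2986 91 = true := by decide +kernel

set_option maxRecDepth 1000000 in
theorem cls_hclo_2987 : allC (cloChk dD dC dE dCl) 2987 91 = true := by decide +kernel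

set_option maxRecDepth 1000000 in
theorem cls_hclo_2988 : allC (cloChk dD dC dE dCl) 2988 91 = true := by decide +kernel

set_option maxRecDepth 1000000 in
theorem cls_hclo_2989 : allC (cloChk dD dC dE dCl) 2989 91 = true := by decide +kernel

set_option maxRecDepth 1000000 in
theorem cls_hclo_2990 : allC (cloChk dD dC dE dCl) 2990 91 = true := by decide +kernel

set_option maxRecDepth 1000000 in
theorem cls_hclo_2991 : allC (cloChk dD dC dE dCl) 2991 91 = true := by decide +kernel

set_option maxRecDepth 1000000 in
theorem cls_hclo_2992 : allC (cloChk dD dC dE dCl) 2992 91 = true := by decide +kernel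

set_option maxRecDepth 1000000 in
theorem cls_hclo_2993 : allC (cloChk dD dC dE dCl) 2993 91 = true := by decide +kernel

set_option maxRecDepth 1000000 in
theorem cls_hclo_2994 : allC (cloChk dD dC dE dCl) 2994 91 = true := by decide +kernel

set_option maxRecDepth 1000000 in
theorem cls_hclo_2995 : allC (cloChk dD dC dE dCl) 2995 91 = true := by decide +kernel

set_option maxRecDepth 1000000 in
theorem cls_hclo_2996 : allC (cloChk dD dC dE dCl) 2996 91 = true := by decide +kernel

set_option maxRecDepth 1000000 in
theorem cls_hclo_2997 : allC (cloChk dD dC dE dCl) 2997 91 = true := by decide +kernel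

set_option maxRecDepth 1000000 in
theorem cls_hclo_2998 : allC (cloChk dD dC dE dCl) 2998 91 = true := by decide +kernel

set_option maxRecDepth 1000000 in
theorem cls_hclo_2999 : allC (cloChk dD dC dE dCl) 2999 91 = true := by decide +kernel

end Cfsg.Agent.Helper9.RuO

end
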