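import Mathlib
import Cfsg.Agent.Helper9.RuO.Data

set_option autoImplicit false

/-! Kernel checks of the certificates, a part. -/

noncomputable section

namespace Cfsg.Agent.Helper9.RuO

open Cfsg.Agent.Helper9.OutG Cfsg.Agent.Helper9.J3

set_option maxRecDepth 1000000 in
theorem cls_hclo_300 : allC (cloChk dD dC dE dCl) 300 91 = true := by decide +kernel

set_option maxRecDepth 1000000 in
theorem cls_hclo_301 : allC (cloChk dD dC dE dCl) 301 91 = true := by decide +kernel

set_option maxRecDepth 1000000 in
theorem cls_hclo_302 : allC (cloChk dD dC dE dCl) 302 91 = true := by decide +kernel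

set_option maxRecDepth 1000000 in
theorem cls_hclo_303 : allC (cloChk dD dC dE dCl) 303 91 = true := by decide +kernel

set_option maxRecDepth 1000000 in
theorem cls_hclo_304 : allC (cloChk dD dC dE dCl) 304 91 = true := by decide +kernel

set_option maxRecDepth 1000000 in
theorem cls_hclo_305 : allC (cloChk dD dC dE dCl) 305 91 = true := by decide +kernel

set_option maxRecDepth 1000000 in
theorem cls_hclo_306 : allC (cloChk dD dC dE dCl) 306 91 = true := by decide +kernel

set_option maxRecDepth 1000000 in
theorem cls_hclo_307 : allC (cloChk dD dC dE dCl) 307 91 = true := by decide +kernel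

set_option maxRecDepth 1000000 in
theorem cls_hclo_308 : allC (cloChk dD dC dE dCl) 308 91 = true := by decide +kernel

set_option maxRecDepth 1000000 in
theorem cls_hclo_309 : allC (cloChk dD dC dE dCl) 309 91 = true := by decide +kernel

set_option maxRecDepth 1000000 in
theorem cls_hclo_310 : allC (cloChk dD dC dE dCl) 310 91 = true := by decide +kernel

set_option maxRecDepth 1000000 in
theorem cls_hclo_311 : allC (cloChk dD dC dE dCl) 311 91 = true := by decide +kernel

set_option maxRecDepth 1000000 in
theorem cls_hclo_312 : allC (cloChk dD dC dE dCl) 312 91 = true := by decide +kernel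

set_option maxRecDepth 1000000 in
theorem cls_hclo_313 : allC (cloChk dD dC dE dCl) 313 91 = true := by decide +kernel

set_option maxRecDepth 1000000 in
theorem cls_hclo_314 : allC (cloChk dD dC dE dCl) 314 91 = true := by decide +kernel

set_option maxRecDepth 1000000 in
theorem cls_hclo_315 : allC (cloChk dD dC dE dCl) 315 91 = true := by decide +kernel

set_option maxRecDepth 1000000 in
theorem cls_hclo_316 : allC (cloChk dD dC dE dCl) 316 91 = true := by decide +kernel

set_option maxRecDepth 1000000 in
theorem cls_hclo_317 : allC (cloChk dD dC dE dCl) 317 91 = true := by decide +kernel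

set_option maxRecDepth 1000000 in
theorem cls_hclo_318 : allC (cloChk dD dC dE dCl) 318 91 = true := by decide +kernel

set_option maxRecDepth 1000000 in
theorem cls_hclo_319 : allC (cloChk dD dC dE dCl) 319 91 = true := by decide +kernel

set_option maxRecDepth 1000000 in
theorem cls_hclo_320 : allC (cloChk dD dC dE dCl) 320 91 = true := by decide +kernel

set_option maxRecDepth 1000000 in
theorem cls_hclo_321 : allC (cloChk dD dC dE dCl) 321 91 = true := by decide +kernel

set_option maxRecDepth 1000000 in
theorem cls_hclo_322 : allC (cloChk dD dC dE dCl) 322 91 = true := by decide +kernel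

set_option maxRecDepth 1000000 in
theorem cls_hclo_323 : allC (cloChk dD dC dE dCl) 323 91 = true := by decide +kernel

set_option maxRecDepth 1000000 in
theorem cls_hclo_324 : allC (cloChk dD dC dE dCl) 324 91 = true := by decide +kernel

set_option maxRecDepth 1000000 in
theorem cls_hclo_325 : allC (cloChk dD dC dE dCl) 325 91 = true := by decide +kernel

set_option maxRecDepth 1000000 in
theorem cls_hclo_326 : allC (cloChk dD dC dE dCl) 326 91 = true := by decide +kernel

set_option maxRecDepth 1000000 in
theorem cls_hclo_327 : allC (cloChk dD dC dE dCl) 327 91 = true := by decide +kernel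

set_option maxRecDepth 1000000 in
theorem cls_hclo_328 : allC (cloChk dD dC dE dCl) 328 91 = true := by decide +kernel

set_option maxRecDepth 1000000 in
theorem cls_hclo_329 : allC (cloChk dD dC dE dCl) 329 91 = true := by decide +kernel

set_option maxRecDepth 1000000 in
theorem cls_hclo_330 : allC (cloChk dD dC dE dCl) 330 91 = true := by decide +kernel

set_option maxRecDepth 1000000 in
theorem cls_hclo_331 : allC (cloChk dD dC dE dCl) 331 91 = true := by decide +kernel

set_option maxRecDepth 1000000 in
theorem cls_hclo_332 : allC (cloChk dD dC dE dCl) 332 91 = true := by decide +kernel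

set_option maxRecDepth 1000000 in
theorem cls_hclo_333 : allC (cloChk dD dC dE dCl) 333 91 = true := by decide +kernel

set_option maxRecDepth 1000000 in
theorem cls_hclo_334 : allC (cloChk dD dC dE dCl) 334 91 = true := by decide +kernel

set_option maxRecDepth 1000000 in
theorem cls_hclo_335 : allC (cloChk dD dC dE dCl) 335 91 = true := by decide +kernel

set_option maxRecDepth 1000000 in
theorem cls_hclo_336 : allC (cloChk dD dC dE dCl) 336 91 = true := by decide +kernel

set_option maxRecDepth 1000000 in
theorem cls_hclo_337 : allC (cloChk dD dC dE dCl) 337 91 = true := by decide +kernel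

set_option maxRecDepth 1000000 in
theorem cls_hclo_338 : allC (cloChk dD dC dE dCl) 338 91 = true := by decide +kernel

set_option maxRecDepth 1000000 in
theorem cls_hclo_339 : allC (cloChk dD dC dE dCl) 339 91 = true := by decide +kernel

set_option maxRecDepth 1000000 in
theorem cls_hclo_340 : allC (cloChk dD dC dE dCl) 340 91 = true := by decide +kernel

set_option maxRecDepth 1000000 in
theorem cls_hclo_341 : allC (cloChk dD dC dE dCl) 341 91 = true := by decide +kernel

set_option maxRecDepth 1000000 in
theorem cls_hclo_342 : allC (cloChk dD dC dE dCl) 342 91 = true := by decide +kernel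

set_option maxRecDepth 1000000 in
theorem cls_hclo_343 : allC (cloChk dD dC dE dCl) 343 91 = true := by decide +kernel

set_option maxRecDepth 1000000 in
theorem cls_hclo_344 : allC (cloChk dD dC dE dCl) 344 91 = true := by decide +kernel

set_option maxRecDepth 1000000 in
theorem cls_hclo_345 : allC (cloChk dD dC dE dCl) 345 91 = true := by decide +kernel

set_option maxRecDepth 1000000 in
theorem cls_hclo_346 : allC (cloChk dD dC dE dCl) 346 91 = true := by decide +kernel

set_option maxRecDepth 1000000 in
theorem cls_hclo_347 : allC (cloChk dD dC dE dCl) 347 91 = true := by decide +kernel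

set_option maxRecDepth 1000000 in
theorem cls_hclo_348 : allC (cloChk dD dC dE dCl) 348 91 = true := by decide +kernel

set_option maxRecDepth 1000000 in
theorem cls_hclo_349 : allC (cloChk dD dC dE dCl) 349 91 = true := by decide +kernel

set_option maxRecDepth 1000000 in
theorem cls_hclo_350 : allC (cloChk dD dC dE dCl) 350 91 = true := by decide +kernel

set_option maxRecDepth 1000000 in
theorem cls_hclo_351 : allC (cloChk dD dC dE dCl) 351 91 = true := by decide +kernel

set_option maxRecDepth 1000000 in
theorem cls_hclo_352 : allC (cloChk dD dC dE dCl) 352 91 = true := by decide +kernel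

set_option maxRecDepth 1000000 in
theorem cls_hclo_353 : allC (cloChk dD dC dE dCl) 353 91 = true := by decide +kernel

set_option maxRecDepth 1000000 in
theorem cls_hclo_354 : allC (cloChk dD dC dE dCl) 354 91 = true := by decide +kernel

set_option maxRecDepth 1000000 in
theorem cls_hclo_355 : allC (cloChk dD dC dE dCl) 355 91 = true := by decide +kernel

set_option maxRecDepth 1000000 in
theorem cls_hclo_356 : allC (cloChk dD dC dE dCl) 356 91 = true := by decide +kernel

set_option maxRecDepth 1000000 in
theorem cls_hclo_357 : allC (cloChk dD dC dE dCl) 357 91 = true := by decide +kernel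

set_option maxRecDepth 1000000 in
theorem cls_hclo_358 : allC (cloChk dD dC dE dCl) 358 91 = true := by decide +kernel

set_option maxRecDepth 1000000 in
theorem cls_hclo_359 : allC (cloChk dD dC dE dCl) 359 91 = true := by decide +kernel

set_option maxRecDepth 1000000 in
theorem cls_hclo_360 : allC (cloChk dD dC dE dCl) 360 91 = true := by decide +kernel

set_option maxRecDepth 1000000 in
theorem cls_hclo_361 : allC (cloChk dD dC dE dCl) 361 91 = true := by decide +kernel

set_option maxRecDepth 1000000 in
theorem cls_hclo_362 : allC (cloChk dD dC dE dCl) 362 91 = true := by decide +kernel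

set_option maxRecDepth 1000000 in
theorem cls_hclo_363 : allC (cloChk dD dC dE dCl) 363 91 = true := by decide +kernel

set_option maxRecDepth 1000000 in
theorem cls_hclo_364 : allC (cloChk dD dC dE dCl) 364 91 = true := by decide +kernel

set_option maxRecDepth 1000000 in
theorem cls_hclo_365 : allC (cloChk dD dC dE dCl) 365 91 = true := by decide +kernel

set_option maxRecDepth 1000000 in
theorem cls_hclo_366 : allC (cloChk dD dC dE dCl) 366 91 = true := by decide +kernel

set_option maxRecDepth 1000000 in
theorem cls_hclo_367 : allC (cloChk dD dC dE dCl) 367 91 = true := by decide +kernel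

set_option maxRecDepth 1000000 in
theorem cls_hclo_368 : allC (cloChk dD dC dE dCl) 368 91 = true := by decide +kernel

set_option maxRecDepth 1000000 in
theorem cls_hclo_369 : allC (cloChk dD dC dE dCl) 369 91 = true := by decide +kernel

set_option maxRecDepth 1000000 in
theorem cls_hclo_370 : allC (cloChk dD dC dE dCl) 370 91 = true := by decide +kernel

set_option maxRecDepth 1000000 in
theorem cls_hclo_371 : allC (cloChk dD dC dE dCl) 371 91 = true := by decide +kernel

set_option maxRecDepth 1000000 in
theorem cls_hclo_372 : allC (cloChk dD dC dE dCl) 372 91 = true := by decide +kernel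

set_option maxRecDepth 1000000 in
theorem cls_hclo_373 : allC (cloChk dD dC dE dCl) 373 91 = true := by decide +kernel

set_option maxRecDepth 1000000 in
theorem cls_hclo_374 : allC (cloChk dD dC dE dCl) 374 91 = true := by decide +kernel

set_option maxRecDepth 1000000 in
theorem cls_hclo_375 : allC (cloChk dD dC dE dCl) 375 91 = true := by decide +kernel

set_option maxRecDepth 1000000 in
theorem cls_hclo_376 : allC (cloChk dD dC dE dCl) 376 91 = true := by decide +kernel

set_option maxRecDepth 1000000 in
theorem cls_hclo_377 : allC (cloChk dD dC dE dCl) 377 91 = true := by decide +kernel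

set_option maxRecDepth 1000000 in
theorem cls_hclo_378 : allC (cloChk dD dC dE dCl) 378 91 = true := by decide +kernel

set_option maxRecDepth 1000000 in
theorem cls_hclo_379 : allC (cloChk dD dC dE dCl) 379 91 = true := by decide +kernel

set_option maxRecDepth 1000000 in
theorem cls_hclo_380 : allC (cloChk dD dC dE dCl) 380 91 = true := by decide +kernel

set_option maxRecDepth 1000000 in
theorem cls_hclo_381 : allC (cloChk dD dC dE dCl) 381 91 = true := by decide +kernel

set_option maxRecDepth 1000000 in
theorem cls_hclo_382 : allC (cloChk dD dC dE dCl) 382 91 = true := by decide +kernel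

set_option maxRecDepth 1000000 in
theorem cls_hclo_383 : allC (cloChk dD dC dE dCl) 383 91 = true := by decide +kernel

set_option maxRecDepth 1000000 in
theorem cls_hclo_384 : allC (cloChk dD dC dE dCl) 384 91 = true := by decide +kernel

set_option maxRecDepth 1000000 in
theorem cls_hclo_385 : allC (cloChk dD dC dE dCl) 385 91 = true := by decide +kernel

set_option maxRecDepth 1000000 in
theorem cls_hclo_386 : allC (cloChk dD dC dE dCl) 386 91 = true := by decide +kernel

set_option maxRecDepth 1000000 in
theorem cls_hclo_387 : allC (cloChk dD dC dE dCl) 387 91 = true := by decide +kernel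

set_option maxRecDepth 1000000 in
theorem cls_hclo_388 : allC (cloChk dD dC dE dCl) 388 91 = true := by decide +kernel

set_option maxRecDepth 1000000 in
theorem cls_hclo_389 : allC (cloChk dD dC dE dCl) 389 91 = true := by decide +kernel

set_option maxRecDepth 1000000 in
theorem cls_hclo_390 : allC (cloChk dD dC dE dCl) 390 91 = true := by decide +kernel

set_option maxRecDepth 1000000 in
theorem cls_hclo_391 : allC (cloChk dD dC dE dCl) 391 91 = true := by decide +kernel

set_option maxRecDepth 1000000 in
theorem cls_hclo_392 : allC (cloChk dD dC dE dCl) 392 91 = true := by decide +kernel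

set_option maxRecDepth 1000000 in
theorem cls_hclo_393 : allC (cloChk dD dC dE dCl) 393 91 = true := by decide +kernel

set_option maxRecDepth 1000000 in
theorem cls_hclo_394 : allC (cloChk dD dC dE dCl) 394 91 = true := by decide +kernel

set_option maxRecDepth 1000000 in
theorem cls_hclo_395 : allC (cloChk dD dC dE dCl) 395 91 = true := by decide +kernel

set_option maxRecDepth 1000000 in
theorem cls_hclo_396 : allC (cloChk dD dC dE dCl) 396 91 = true := by decide +kernel

set_option maxRecDepth 1000000 in
theorem cls_hclo_397 : allC (cloChk dD dC dE dCl) 397 91 = true := by decide +kernel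

set_option maxRecDepth 1000000 in
theorem cls_hclo_398 : allC (cloChk dD dC dE dCl) 398 91 = true := by decide +kernel

set_option maxRecDepth 1000000 in
theorem cls_hclo_399 : allC (cloChk dD dC dE dCl) 399 91 = true := by decide +kernel

end Cfsg.Agent.Helper9.RuO

end
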