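import Mathlib
import Cfsg.Agent.Helper9.RuO.Data

set_option autoImplicit false

/-! Kernel checks of the certificates, a part. -/

noncomputable section

namespace Cfsg.Agent.Helper9.RuO

open Cfsg.Agent.Helper9.OutG Cfsg.Agent.Helper9.J3

set_option maxRecDepth 1000000 in
theorem cls_hclo_3000 : allC (cloChk dD dC dE dCl) 3000 91 = true := by decide +kernel

set_option maxRecDepth 1000000 in
theorem cls_hclo_3001 : allC (cloChk dD dC dE dCl) 3001 91 = true := by decide +kernel

set_option maxRecDepth 1000000 in
theorem cls_hclo_3002 : allC (cloChk dD dC dE dCl) 3002 91 = true := by decide +kernel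

set_option maxRecDepth 1000000 in
theorem cls_hclo_3003 : allC (cloChk dD dC dE dCl) 3003 91 = true := by decide +kernel

set_option maxRecDepth 1000000 in
theorem cls_hclo_3004 : allC (cloChk dD dC dE dCl) 3004 91 = true := by decide +kernel

set_option maxRecDepth 1000000 in
theorem cls_hclo_3005 : allC (cloChk dD dC dE dCl) 3005 91 = true := by decide +kernel

set_option maxRecDepth 1000000 in
theorem cls_hclo_3006 : allC (cloChk dD dC dE dCl) 3006 91 = true := by decide +kernel

set_option maxRecDepth 1000000 in
theorem cls_hclo_3007 : allC (cloChk dD dC dE dCl) 3007 91 = true := by decide +kernel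

set_option maxRecDepth 1000000 in
theorem cls_hclo_3008 : allC (cloChk dD dC dE dCl) 3008 91 = true := by decide +kernel

set_option maxRecDepth 1000000 in
theorem cls_hclo_3009 : allC (cloChk dD dC dE dCl) 3009 91 = true := by decide +kernel

set_option maxRecDepth 1000000 in
theorem cls_hclo_3010 : allC (cloChk dD dC dE dCl) 3010 91 = true := by decide +kernel

set_option maxRecDepth 1000000 in
theorem cls_hclo_3011 : allC (cloChk dD dC dE dCl) 3011 91 = true := by decide +kernel

set_option maxRecDepth 1000000 in
theorem cls_hclo_3012 : allC (cloChk dD dC dE dCl) 3012 91 = true := by decide +kernel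

set_option maxRecDepth 1000000 in
theorem cls_hclo_3013 : allC (cloChk dD dC dE dCl) 3013 91 = true := by decide +kernel

set_option maxRecDepth 1000000 in
theorem cls_hclo_3014 : allC (cloChk dD dC dE dCl) 3014 91 = true := by decide +kernel

set_option maxRecDepth 1000000 in
theorem cls_hclo_3015 : allC (cloChk dD dC dE dCl) 3015 91 = true := by decide +kernel

set_option maxRecDepth 1000000 in
theorem cls_hclo_3016 : allC (cloChk dD dC dE dCl) 3016 91 = true := by decide +kernel

set_option maxRecDepth 1000000 in
theorem cls_hclo_3017 : allC (cloChk dD dC dE dCl) 3017 91 = true := by decide +kernel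

set_option maxRecDepth 1000000 in
theorem cls_hclo_3018 : allC (cloChk dD dC dE dCl) 3018 91 = true := by decide +kernel

set_option maxRecDepth 1000000 in
theorem cls_hclo_3019 : allC (cloChk dD dC dE dCl) 3019 91 = true := by decide +kernel

set_option maxRecDepth 1000000 in
theorem cls_hclo_3020 : allC (cloChk dD dC dE dCl) 3020 91 = true := by decide +kernel

set_option maxRecDepth 1000000 in
theorem cls_hclo_3021 : allC (cloChk dD dC dE dCl) 3021 91 = true := by decide +kernel

set_option maxRecDepth 1000000 in
theorem cls_hclo_3022 : allC (cloChk dD dC dE dCl) 3022 91 = true := by decide +kernel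

set_option maxRecDepth 1000000 in
theorem cls_hclo_3023 : allC (cloChk dD dC dE dCl) 3023 91 = true := by decide +kernel

set_option maxRecDepth 1000000 in
theorem cls_hclo_3024 : allC (cloChk dD dC dE dCl) 3024 91 = true := by decide +kernel

set_option maxRecDepth 1000000 in
theorem cls_hclo_3025 : allC (cloChk dD dC dE dCl) 3025 91 = true := by decide +kernel

set_option maxRecDepth 1000000 in
theorem cls_hclo_3026 : allC (cloChk dD dC dE dCl) 3026 91 = true := by decide +kernel

set_option maxRecDepth 1000000 in
theorem cls_hclo_3027 : allC (cloChk dD dC dE dCl) 3027 91 = true := by decide +kernel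

set_option maxRecDepth 1000000 in
theorem cls_hclo_3028 : allC (cloChk dD dC dE dCl) 3028 91 = true := by decide +kernel

set_option maxRecDepth 1000000 in
theorem cls_hclo_3029 : allC (cloChk dD dC dE dCl) 3029 91 = true := by decide +kernel

set_option maxRecDepth 1000000 in
theorem cls_hclo_3030 : allC (cloChk dD dC dE dCl) 3030 91 = true := by decide +kernel

set_option maxRecDepth 1000000 in
theorem cls_hclo_3031 : allC (cloChk dD dC dE dCl) 3031 91 = true := by decide +kernel

set_option maxRecDepth 1000000 in
theorem cls_hclo_3032 : allC (cloChk dD dC dE dCl) 3032 91 = true := by decide +kernel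

set_option maxRecDepth 1000000 in
theorem cls_hclo_3033 : allC (cloChk dD dC dE dCl) 3033 91 = true := by decide +kernel

set_option maxRecDepth 1000000 in
theorem cls_hclo_3034 : allC (cloChk dD dC dE dCl) 3034 91 = true := by decide +kernel

set_option maxRecDepth 1000000 in
theorem cls_hclo_3035 : allC (cloChk dD dC dE dCl) 3035 91 = true := by decide +kernel

set_option maxRecDepth 1000000 in
theorem cls_hclo_3036 : allC (cloChk dD dC dE dCl) 3036 91 = true := by decide +kernel

set_option maxRecDepth 1000000 in
theorem cls_hclo_3037 : allC (cloChk dD dC dE dCl) 3037 91 = true := by decide +kernel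

set_option maxRecDepth 1000000 in
theorem cls_hclo_3038 : allC (cloChk dD dC dE dCl) 3038 91 = true := by decide +kernel

set_option maxRecDepth 1000000 in
theorem cls_hclo_3039 : allC (cloChk dD dC dE dCl) 3039 91 = true := by decide +kernel

set_option maxRecDepth 1000000 in
theorem cls_hclo_3040 : allC (cloChk dD dC dE dCl) 3040 91 = true := by decide +kernel

set_option maxRecDepth 1000000 in
theorem cls_hclo_3041 : allC (cloChk dD dC dE dCl) 3041 91 = true := by decide +kernel

set_option maxRecDepth 1000000 in
theorem cls_hclo_3042 : allC (cloChk dD dC dE dCl) 3042 91 = true := by decide +kernel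

set_option maxRecDepth 1000000 in
theorem cls_hclo_3043 : allC (cloChk dD dC dE dCl) 3043 91 = true := by decide +kernel

set_option maxRecDepth 1000000 in
theorem cls_hclo_3044 : allC (cloChk dD dC dE dCl) 3044 91 = true := by decide +kernel

set_option maxRecDepth 1000000 in
theorem cls_hclo_3045 : allC (cloChk dD dC dE dCl) 3045 91 = true := by decide +kernel

set_option maxRecDepth 1000000 in
theorem cls_hclo_3046 : allC (cloChk dD dC dE dCl) 3046 91 = true := by decide +kernel

set_option maxRecDepth 1000000 in
theorem cls_hclo_3047 : allC (cloChk dD dC dE dCl) 3047 91 = true := by decide +kernel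

set_option maxRecDepth 1000000 in
theorem cls_hclo_3048 : allC (cloChk dD dC dE dCl) 3048 91 = true := by decide +kernel

set_option maxRecDepth 1000000 in
theorem cls_hclo_3049 : allC (cloChk dD dC dE dCl) 3049 91 = true := by decide +kernel

set_option maxRecDepth 1000000 in
theorem cls_hclo_3050 : allC (cloChk dD dC dE dCl) 3050 91 = true := by decide +kernel

set_option maxRecDepth 1000000 in
theorem cls_hclo_3051 : allC (cloChk dD dC dE dCl) 3051 91 = true := by decide +kernel

set_option maxRecDepth 1000000 in
theorem cls_hclo_3052 : allC (cloChk dD dC dE dCl) 3052 91 = true := by decide +kernel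

set_option maxRecDepth 1000000 in
theorem cls_hclo_3053 : allC (cloChk dD dC dE dCl) 3053 91 = true := by decide +kernel

set_option maxRecDepth 1000000 in
theorem cls_hclo_3054 : allC (cloChk dD dC dE dCl) 3054 91 = true := by decide +kernel

set_option maxRecDepth 1000000 in
theorem cls_hclo_3055 : allC (cloChk dD dC dE dCl) 3055 91 = true := by decide +kernel

set_option maxRecDepth 1000000 in
theorem cls_hclo_3056 : allC (cloChk dD dC dE dCl) 3056 91 = true := by decide +kernel

set_option maxRecDepth 1000000 in
theorem cls_hclo_3057 : allC (cloChk dD dC dE dCl) 3057 91 = true := by decide +kernel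

set_option maxRecDepth 1000000 in
theorem cls_hclo_3058 : allC (cloChk dD dC dE dCl) 3058 91 = true := by decide +kernel

set_option maxRecDepth 1000000 in
theorem cls_hclo_3059 : allC (cloChk dD dC dE dCl) 3059 91 = true := by decide +kernel

set_option maxRecDepth 1000000 in
theorem cls_hclo_3060 : allC (cloChk dD dC dE dCl) 3060 91 = true := by decide +kernel

set_option maxRecDepth 1000000 in
theorem cls_hclo_3061 : allC (cloChk dD dC dE dCl) 3061 91 = true := by decide +kernel

set_option maxRecDepth 1000000 in
theorem cls_hclo_3062 : allC (cloChk dD dC dE dCl) 3062 91 = true := by decide +kernel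

set_option maxRecDepth 1000000 in
theorem cls_hclo_3063 : allC (cloChk dD dC dE dCl) 3063 91 = true := by decide +kernel

set_option maxRecDepth 1000000 in
theorem cls_hclo_3064 : allC (cloChk dD dC dE dCl) 3064 91 = true := by decide +kernel

set_option maxRecDepth 1000000 in
theorem cls_hclo_3065 : allC (cloChk dD dC dE dCl) 3065 91 = true := by decide +kernel

set_option maxRecDepth 1000000 in
theorem cls_hclo_3066 : allC (cloChk dD dC dE dCl) 3066 91 = true := by decide +kernel

set_option maxRecDepth 1000000 in
theorem cls_hclo_3067 : allC (cloChk dD dC dE dCl) 3067 91 = true := by decide +kernel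

set_option maxRecDepth 1000000 in
theorem cls_hclo_3068 : allC (cloChk dD dC dE dCl) 3068 91 = true := by decide +kernel

set_option maxRecDepth 1000000 in
theorem cls_hclo_3069 : allC (cloChk dD dC dE dCl) 3069 91 = true := by decide +kernel

set_option maxRecDepth 1000000 in
theorem cls_hclo_3070 : allC (cloChk dD dC dE dCl) 3070 91 = true := by decide +kernel

set_option maxRecDepth 1000000 in
theorem cls_hclo_3071 : allC (cloChk dD dC dE dCl) 3071 91 = true := by decide +kernel

set_option maxRecDepth 1000000 in
theorem cls_hclo_3072 : allC (cloChk dD dC dE dCl) 3072 91 = true := by decide +kernel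

set_option maxRecDepth 1000000 in
theorem cls_hclo_3073 : allC (cloChk dD dC dE dCl) 3073 91 = true := by decide +kernel

set_option maxRecDepth 1000000 in
theorem cls_hclo_3074 : allC (cloChk dD dC dE dCl) 3074 91 = true := by decide +kernel

set_option maxRecDepth 1000000 in
theorem cls_hclo_3075 : allC (cloChk dD dC dE dCl) 3075 91 = true := by decide +kernel

set_option maxRecDepth 1000000 in
theorem cls_hclo_3076 : allC (cloChk dD dC dE dCl) 3076 91 = true := by decide +kernel

set_option maxRecDepth 1000000 in
theorem cls_hclo_3077 : allC (cloChk dD dC dE dCl) 3077 91 = true := by decide +kernel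

set_option maxRecDepth 1000000 in
theorem cls_hclo_3078 : allC (cloChk dD dC dE dCl) 3078 91 = true := by decide +kernel

set_option maxRecDepth 1000000 in
theorem cls_hclo_3079 : allC (cloChk dD dC dE dCl) 3079 91 = true := by decide +kernel

set_option maxRecDepth 1000000 in
theorem cls_hclo_3080 : allC (cloChk dD dC dE dCl) 3080 91 = true := by decide +kernel

set_option maxRecDepth 1000000 in
theorem cls_hclo_3081 : allC (cloChk dD dC dE dCl) 3081 91 = true := by decide +kernel

set_option maxRecDepth 1000000 in
theorem cls_hclo_3082 : allC (cloChk dD dC dE dCl) 3082 91 = true := by decide +kernel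

set_option maxRecDepth 1000000 in
theorem cls_hclo_3083 : allC (cloChk dD dC dE dCl) 3083 91 = true := by decide +kernel

set_option maxRecDepth 1000000 in
theorem cls_hclo_3084 : allC (cloChk dD dC dE dCl) 3084 91 = true := by decide +kernel

set_option maxRecDepth 1000000 in
theorem cls_hclo_3085 : allC (cloChk dD dC dE dCl) 3085 91 = true := by decide +kernel

set_option maxRecDepth 1000000 in
theorem cls_hclo_3086 : allC (cloChk dD dC dE dCl) 3086 91 = true := by decide +kernel

set_option maxRecDepth 1000000 in
theorem cls_hclo_3087 : allC (cloChk dD dC dE dCl) 3087 91 = true := by decide +kernel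

set_option maxRecDepth 1000000 in
theorem cls_hclo_3088 : allC (cloChk dD dC dE dCl) 3088 91 = true := by decide +kernel

set_option maxRecDepth 1000000 in
theorem cls_hclo_3089 : allC (cloChk dD dC dE dCl) 3089 91 = true := by decide +kernel

set_option maxRecDepth 1000000 in
theorem cls_hclo_3090 : allC (cloChk dD dC dE dCl) 3090 91 = true := by decide +kernel

set_option maxRecDepth 1000000 in
theorem cls_hclo_3091 : allC (cloChk dD dC dE dCl) 3091 91 = true := by decide +kernel

set_option maxRecDepth 1000000 in
theorem cls_hclo_3092 : allC (cloChk dD dC dE dCl) 3092 91 = true := by decide +kernel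

set_option maxRecDepth 1000000 in
theorem cls_hclo_3093 : allC (cloChk dD dC dE dCl) 3093 91 = true := by decide +kernel

set_option maxRecDepth 1000000 in
theorem cls_hclo_3094 : allC (cloChk dD dC dE dCl) 3094 91 = true := by decide +kernel

set_option maxRecDepth 1000000 in
theorem cls_hclo_3095 : allC (cloChk dD dC dE dCl) 3095 91 = true := by decide +kernel

set_option maxRecDepth 1000000 in
theorem cls_hclo_3096 : allC (cloChk dD dC dE dCl) 3096 91 = true := by decide +kernel

set_option maxRecDepth 1000000 in
theorem cls_hclo_3097 : allC (cloChk dD dC dE dCl) 3097 91 = true := by decide +kernel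

set_option maxRecDepth 1000000 in
theorem cls_hclo_3098 : allC (cloChk dD dC dE dCl) 3098 91 = true := by decide +kernel

set_option maxRecDepth 1000000 in
theorem cls_hclo_3099 : allC (cloChk dD dC dE dCl) 3099 91 = true := by decide +kernel

end Cfsg.Agent.Helper9.RuO

end
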