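import Mathlib
import Cfsg.Agent.Helper9.RuO.Data

set_option autoImplicit false

/-! Kernel checks of the certificates, a part. -/

noncomputable section

namespace Cfsg.Agent.Helper9.RuO

open Cfsg.Agent.Helper9.OutG Cfsg.Agent.Helper9.J3

set_option maxRecDepth 1000000 in
theorem cls_hclo_3100 : allC (cloChk dD dC dE dCl) 3100 91 = true := by decide +kernel

set_option maxRecDepth 1000000 in
theorem cls_hclo_3101 : allC (cloChk dD dC dE dCl) 3101 91 = true := by decide +kernel

set_option maxRecDepth 1000000 in
theorem cls_hclo_3102 : allC (cloChk dD dC dE dCl) 3102 91 = true := by decide +kernel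

set_option maxRecDepth 1000000 in
theorem cls_hclo_3103 : allC (cloChk dD dC dE dCl) 3103 91 = true := by decide +kernel

set_option maxRecDepth 1000000 in
theorem cls_hclo_3104 : allC (cloChk dD dC dE dCl) 3104 91 = true := by decide +kernel

set_option maxRecDepth 1000000 in
theorem cls_hclo_3105 : allC (cloChk dD dC dE dCl) 3105 91 = true := by decide +kernel

set_option maxRecDepth 1000000 in
theorem cls_hclo_3106 : allC (cloChk dD dC dE dCl) 3106 91 = true := by decide +kernel

set_option maxRecDepth 1000000 in
theorem cls_hclo_3107 : allC (cloChk dD dC dE dCl) 3107 91 = true := by decide +kernel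

set_option maxRecDepth 1000000 in
theorem cls_hclo_3108 : allC (cloChk dD dC dE dCl) 3108 91 = true := by decide +kernel

set_option maxRecDepth 1000000 in
theorem cls_hclo_3109 : allC (cloChk dD dC dE dCl) 3109 91 = true := by decide +kernel

set_option maxRecDepth 1000000 in
theorem cls_hclo_3110 : allC (cloChk dD dC dE dCl) 3110 91 = true := by decide +kernel

set_option maxRecDepth 1000000 in
theorem cls_hclo_3111 : allC (cloChk dD dC dE dCl) 3111 91 = true := by decide +kernel

set_option maxRecDepth 1000000 in
theorem cls_hclo_3112 : allC (cloChk dD dC dE dCl) 3112 91 = true := by decide +kernel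

set_option maxRecDepth 1000000 in
theorem cls_hclo_3113 : allC (cloChk dD dC dE dCl) 3113 91 = true := by decide +kernel

set_option maxRecDepth 1000000 in
theorem cls_hclo_3114 : allC (cloChk dD dC dE dCl) 3114 91 = true := by decide +kernel

set_option maxRecDepth 1000000 in
theorem cls_hclo_3115 : allC (cloChk dD dC dE dCl) 3115 91 = true := by decide +kernel

set_option maxRecDepth 1000000 in
theorem cls_hclo_3116 : allC (cloChk dD dC dE dCl) 3116 91 = true := by decide +kernel

set_option maxRecDepth 1000000 in
theorem cls_hclo_3117 : allC (cloChk dD dC dE dCl) 3117 91 = true := by decide +kernel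

set_option maxRecDepth 1000000 in
theorem cls_hclo_3118 : allC (cloChk dD dC dE dCl) 3118 91 = true := by decide +kernel

set_option maxRecDepth 1000000 in
theorem cls_hclo_3119 : allC (cloChk dD dC dE dCl) 3119 91 = true := by decide +kernel

set_option maxRecDepth 1000000 in
theorem cls_hclo_3120 : allC (cloChk dD dC dE dCl) 3120 91 = true := by decide +kernel

set_option maxRecDepth 1000000 in
theorem cls_hclo_3121 : allC (cloChk dD dC dE dCl) 3121 91 = true := by decide +kernel

set_option maxRecDepth 1000000 in
theorem cls_hclo_3122 : allC (cloChk dD dC dE dCl) 3122 91 = true := by decide +kernel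

set_option maxRecDepth 1000000 in
theorem cls_hclo_3123 : allC (cloChk dD dC dE dCl) 3123 91 = true := by decide +kernel

set_option maxRecDepth 1000000 in
theorem cls_hclo_3124 : allC (cloChk dD dC dE dCl) 3124 91 = true := by decide +kernel

set_option maxRecDepth 1000000 in
theorem cls_hclo_3125 : allC (cloChk dD dC dE dCl) 3125 91 = true := by decide +kernel

set_option maxRecDepth 1000000 in
theorem cls_hclo_3126 : allC (cloChk dD dC dE dCl) 3126 91 = true := by decide +kernel

set_option maxRecDepth 1000000 in
theorem cls_hclo_3127 : allC (cloChk dD dC dE dCl) 3127 91 = true := by decide +kernel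

set_option maxRecDepth 1000000 in
theorem cls_hclo_3128 : allC (cloChk dD dC dE dCl) 3128 91 = true := by decide +kernel

set_option maxRecDepth 1000000 in
theorem cls_hclo_3129 : allC (cloChk dD dC dE dCl) 3129 91 = true := by decide +kernel

set_option maxRecDepth 1000000 in
theorem cls_hclo_3130 : allC (cloChk dD dC dE dCl) 3130 91 = true := by decide +kernel

set_option maxRecDepth 1000000 in
theorem cls_hclo_3131 : allC (cloChk dD dC dE dCl) 3131 91 = true := by decide +kernel

set_option maxRecDepth 1000000 in
theorem cls_hclo_3132 : allC (cloChk dD dC dE dCl) 3132 91 = true := by decide +kernel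

set_option maxRecDepth 1000000 in
theorem cls_hclo_3133 : allC (cloChk dD dC dE dCl) 3133 91 = true := by decide +kernel

set_option maxRecDepth 1000000 in
theorem cls_hclo_3134 : allC (cloChk dD dC dE dCl) 3134 91 = true := by decide +kernel

set_option maxRecDepth 1000000 in
theorem cls_hclo_3135 : allC (cloChk dD dC dE dCl) 3135 91 = true := by decide +kernel

set_option maxRecDepth 1000000 in
theorem cls_hclo_3136 : allC (cloChk dD dC dE dCl) 3136 91 = true := by decide +kernel

set_option maxRecDepth 1000000 in
theorem cls_hclo_3137 : allC (cloChk dD dC dE dCl) 3137 91 = true := by decide +kernel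

set_option maxRecDepth 1000000 in
theorem cls_hclo_3138 : allC (cloChk dD dC dE dCl) 3138 91 = true := by decide +kernel

set_option maxRecDepth 1000000 in
theorem cls_hclo_3139 : allC (cloChk dD dC dE dCl) 3139 91 = true := by decide +kernel

set_option maxRecDepth 1000000 in
theorem cls_hclo_3140 : allC (cloChk dD dC dE dCl) 3140 91 = true := by decide +kernel

set_option maxRecDepth 1000000 in
theorem cls_hclo_3141 : allC (cloChk dD dC dE dCl) 3141 91 = true := by decide +kernel

set_option maxRecDepth 1000000 in
theorem cls_hclo_3142 : allC (cloChk dD dC dE dCl) 3142 91 = true := by decide +kernel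

set_option maxRecDepth 1000000 in
theorem cls_hclo_3143 : allC (cloChk dD dC dE dCl) 3143 91 = true := by decide +kernel

set_option maxRecDepth 1000000 in
theorem cls_hclo_3144 : allC (cloChk dD dC dE dCl) 3144 91 = true := by decide +kernel

set_option maxRecDepth 1000000 in
theorem cls_hclo_3145 : allC (cloChk dD dC dE dCl) 3145 91 = true := by decide +kernel

set_option maxRecDepth 1000000 in
theorem cls_hclo_3146 : allC (cloChk dD dC dE dCl) 3146 91 = true := by decide +kernel

set_option maxRecDepth 1000000 in
theorem cls_hclo_3147 : allC (cloChk dD dC dE dCl) 3147 91 = true := by decide +kernel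

set_option maxRecDepth 1000000 in
theorem cls_hclo_3148 : allC (cloChk dD dC dE dCl) 3148 91 = true := by decide +kernel

set_option maxRecDepth 1000000 in
theorem cls_hclo_3149 : allC (cloChk dD dC dE dCl) 3149 91 = true := by decide +kernel

set_option maxRecDepth 1000000 in
theorem cls_hclo_3150 : allC (cloChk dD dC dE dCl) 3150 91 = true := by decide +kernel

set_option maxRecDepth 1000000 in
theorem cls_hclo_3151 : allC (cloChk dD dC dE dCl) 3151 91 = true := by decide +kernel

set_option maxRecDepth 1000000 in
theorem cls_hclo_3152 : allC (cloChk dD dC dE dCl) 3152 91 = true := by decide +kernel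

set_option maxRecDepth 1000000 in
theorem cls_hclo_3153 : allC (cloChk dD dC dE dCl) 3153 91 = true := by decide +kernel

set_option maxRecDepth 1000000 in
theorem cls_hclo_3154 : allC (cloChk dD dC dE dCl) 3154 91 = true := by decide +kernel

set_option maxRecDepth 1000000 in
theorem cls_hclo_3155 : allC (cloChk dD dC dE dCl) 3155 91 = true := by decide +kernel

set_option maxRecDepth 1000000 in
theorem cls_hclo_3156 : allC (cloChk dD dC dE dCl) 3156 91 = true := by decide +kernel

set_option maxRecDepth 1000000 in
theorem cls_hclo_3157 : allC (cloChk dD dC dE dCl) 3157 91 = true := by decide +kernel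

set_option maxRecDepth 1000000 in
theorem cls_hclo_3158 : allC (cloChk dD dC dE dCl) 3158 91 = true := by decide +kernel

set_option maxRecDepth 1000000 in
theorem cls_hclo_3159 : allC (cloChk dD dC dE dCl) 3159 91 = true := by decide +kernel

set_option maxRecDepth 1000000 in
theorem cls_hclo_3160 : allC (cloChk dD dC dE dCl) 3160 91 = true := by decide +kernel

set_option maxRecDepth 1000000 in
theorem cls_hclo_3161 : allC (cloChk dD dC dE dCl) 3161 91 = true := by decide +kernel

set_option maxRecDepth 1000000 in
theorem cls_hclo_3162 : allC (cloChk dD dC dE dCl) 3162 91 = true := by decide +kernel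

set_option maxRecDepth 1000000 in
theorem cls_hclo_3163 : allC (cloChk dD dC dE dCl) 3163 91 = true := by decide +kernel

set_option maxRecDepth 1000000 in
theorem cls_hclo_3164 : allC (cloChk dD dC dE dCl) 3164 91 = true := by decide +kernel

set_option maxRecDepth 1000000 in
theorem cls_hclo_3165 : allC (cloChk dD dC dE dCl) 3165 91 = true := by decide +kernel

set_option maxRecDepth 1000000 in
theorem cls_hclo_3166 : allC (cloChk dD dC dE dCl) 3166 91 = true := by decide +kernel

set_option maxRecDepth 1000000 in
theorem cls_hclo_3167 : allC (cloChk dD dC dE dCl) 3167 91 = true := by decide +kernel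

set_option maxRecDepth 1000000 in
theorem cls_hclo_3168 : allC (cloChk dD dC dE dCl) 3168 91 = true := by decide +kernel

set_option maxRecDepth 1000000 in
theorem cls_hclo_3169 : allC (cloChk dD dC dE dCl) 3169 91 = true := by decide +kernel

set_option maxRecDepth 1000000 in
theorem cls_hclo_3170 : allC (cloChk dD dC dE dCl) 3170 91 = true := by decide +kernel

set_option maxRecDepth 1000000 in
theorem cls_hclo_3171 : allC (cloChk dD dC dE dCl) 3171 91 = true := by decide +kernel

set_option maxRecDepth 1000000 in
theorem cls_hclo_3172 : allC (cloChk dD dC dE dCl) 3172 91 = true := by decide +kernel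

set_option maxRecDepth 1000000 in
theorem cls_hclo_3173 : allC (cloChk dD dC dE dCl) 3173 91 = true := by decide +kernel

set_option maxRecDepth 1000000 in
theorem cls_hclo_3174 : allC (cloChk dD dC dE dCl) 3174 91 = true := by decide +kernel

set_option maxRecDepth 1000000 in
theorem cls_hclo_3175 : allC (cloChk dD dC dE dCl) 3175 91 = true := by decide +kernel

set_option maxRecDepth 1000000 in
theorem cls_hclo_3176 : allC (cloChk dD dC dE dCl) 3176 91 = true := by decide +kernel

set_option maxRecDepth 1000000 in
theorem cls_hclo_3177 : allC (cloChk dD dC dE dCl) 3177 91 = true := by decide +kernel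

set_option maxRecDepth 1000000 in
theorem cls_hclo_3178 : allC (cloChk dD dC dE dCl) 3178 91 = true := by decide +kernel

set_option maxRecDepth 1000000 in
theorem cls_hclo_3179 : allC (cloChk dD dC dE dCl) 3179 91 = true := by decide +kernel

set_option maxRecDepth 1000000 in
theorem cls_hclo_3180 : allC (cloChk dD dC dE dCl) 3180 91 = true := by decide +kernel

set_option maxRecDepth 1000000 in
theorem cls_hclo_3181 : allC (cloChk dD dC dE dCl) 3181 91 = true := by decide +kernel

set_option maxRecDepth 1000000 in
theorem cls_hclo_3182 : allC (cloChk dD dC dE dCl) 3182 91 = true := by decide +kernel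

set_option maxRecDepth 1000000 in
theorem cls_hclo_3183 : allC (cloChk dD dC dE dCl) 3183 91 = true := by decide +kernel

set_option maxRecDepth 1000000 in
theorem cls_hclo_3184 : allC (cloChk dD dC dE dCl) 3184 91 = true := by decide +kernel

set_option maxRecDepth 1000000 in
theorem cls_hclo_3185 : allC (cloChk dD dC dE dCl) 3185 91 = true := by decide +kernel

set_option maxRecDepth 1000000 in
theorem cls_hclo_3186 : allC (cloChk dD dC dE dCl) 3186 91 = true := by decide +kernel

set_option maxRecDepth 1000000 in
theorem cls_hclo_3187 : allC (cloChk dD dC dE dCl) 3187 91 = true := by decide +kernel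

set_option maxRecDepth 1000000 in
theorem cls_hclo_3188 : allC (cloChk dD dC dE dCl) 3188 91 = true := by decide +kernel

set_option maxRecDepth 1000000 in
theorem cls_hclo_3189 : allC (cloChk dD dC dE dCl) 3189 91 = true := by decide +kernel

set_option maxRecDepth 1000000 in
theorem cls_hclo_3190 : allC (cloChk dD dC dE dCl) 3190 91 = true := by decide +kernel

set_option maxRecDepth 1000000 in
theorem cls_hclo_3191 : allC (cloChk dD dC dE dCl) 3191 91 = true := by decide +kernel

set_option maxRecDepth 1000000 in
theorem cls_hclo_3192 : allC (cloChk dD dC dE dCl) 3192 91 = true := by decide +kernel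

set_option maxRecDepth 1000000 in
theorem cls_hclo_3193 : allC (cloChk dD dC dE dCl) 3193 91 = true := by decide +kernel

set_option maxRecDepth 1000000 in
theorem cls_hclo_3194 : allC (cloChk dD dC dE dCl) 3194 91 = true := by decide +kernel

set_option maxRecDepth 1000000 in
theorem cls_hclo_3195 : allC (cloChk dD dC dE dCl) 3195 91 = true := by decide +kernel

set_option maxRecDepth 1000000 in
theorem cls_hclo_3196 : allC (cloChk dD dC dE dCl) 3196 91 = true := by decide +kernel

set_option maxRecDepth 1000000 in
theorem cls_hclo_3197 : allC (cloChk dD dC dE dCl) 3197 91 = true := by decide +kernel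

set_option maxRecDepth 1000000 in
theorem cls_hclo_3198 : allC (cloChk dD dC dE dCl) 3198 91 = true := by decide +kernel

set_option maxRecDepth 1000000 in
theorem cls_hclo_3199 : allC (cloChk dD dC dE dCl) 3199 91 = true := by decide +kernel

end Cfsg.Agent.Helper9.RuO

end
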