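import Mathlib
import Cfsg.Agent.Helper9.RuO.Data

set_option autoImplicit false

/-! Kernel checks of the certificates, a part. -/

noncomputable section

namespace Cfsg.Agent.Helper9.RuO

open Cfsg.Agent.Helper9.OutG Cfsg.Agent.Helper9.J3

set_option maxRecDepth 1000000 in
theorem cls_hclo_3200 : allC (cloChk dD dC dE dCl) 3200 91 = true := by decide +kernel

set_option maxRecDepth 1000000 in
theorem cls_hclo_3201 : allC (cloChk dD dC dE dCl) 3201 91 = true := by decide +kernel

set_option maxRecDepth 1000000 in
theorem cls_hclo_3202 : allC (cloChk dD dC dE dCl) 3202 91 = true := by decide +kernel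

set_option maxRecDepth 1000000 in
theorem cls_hclo_3203 : allC (cloChk dD dC dE dCl) 3203 91 = true := by decide +kernel

set_option maxRecDepth 1000000 in
theorem cls_hclo_3204 : allC (cloChk dD dC dE dCl) 3204 91 = true := by decide +kernel

set_option maxRecDepth 1000000 in
theorem cls_hclo_3205 : allC (cloChk dD dC dE dCl) 3205 91 = true := by decide +kernel

set_option maxRecDepth 1000000 in
theorem cls_hclo_3206 : allC (cloChk dD dC dE dCl) 3206 91 = true := by decide +kernel

set_option maxRecDepth 1000000 in
theorem cls_hclo_3207 : allC (cloChk dD dC dE dCl) 3207 91 = true := by decide +kernel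

set_option maxRecDepth 1000000 in
theorem cls_hclo_3208 : allC (cloChk dD dC dE dCl) 3208 91 = true := by decide +kernel

set_option maxRecDepth 1000000 in
theorem cls_hclo_3209 : allC (cloChk dD dC dE dCl) 3209 91 = true := by decide +kernel

set_option maxRecDepth 1000000 in
theorem cls_hclo_3210 : allC (cloChk dD dC dE dCl) 3210 91 = true := by decide +kernel

set_option maxRecDepth 1000000 in
theorem cls_hclo_3211 : allC (cloChk dD dC dE dCl) 3211 91 = true := by decide +kernel

set_option maxRecDepth 1000000 in
theorem cls_hclo_3212 : allC (cloChk dD dC dE dCl) 3212 91 = true := by decide +kernel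

set_option maxRecDepth 1000000 in
theorem cls_hclo_3213 : allC (cloChk dD dC dE dCl) 3213 91 = true := by decide +kernel

set_option maxRecDepth 1000000 in
theorem cls_hclo_3214 : allC (cloChk dD dC dE dCl) 3214 91 = true := by decide +kernel

set_option maxRecDepth 1000000 in
theorem cls_hclo_3215 : allC (cloChk dD dC dE dCl) 3215 91 = true := by decide +kernel

set_option maxRecDepth 1000000 in
theorem cls_hclo_3216 : allC (cloChk dD dC dE dCl) 3216 91 = true := by decide +kernel

set_option maxRecDepth 1000000 in
theorem cls_hclo_3217 : allC (cloChk dD dC dE dCl) 3217 91 = true := by decide +kernel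

set_option maxRecDepth 1000000 in
theorem cls_hclo_3218 : allC (cloChk dD dC dE dCl) 3218 91 = true := by decide +kernel

set_option maxRecDepth 1000000 in
theorem cls_hclo_3219 : allC (cloChk dD dC dE dCl) 3219 91 = true := by decide +kernel

set_option maxRecDepth 1000000 in
theorem cls_hclo_3220 : allC (cloChk dD dC dE dCl) 3220 91 = true := by decide +kernel

set_option maxRecDepth 1000000 in
theorem cls_hclo_3221 : allC (cloChk dD dC dE dCl) 3221 91 = true := by decide +kernel

set_option maxRecDepth 1000000 in
theorem cls_hclo_3222 : allC (cloChk dD dC dE dCl) 3222 91 = true := by decide +kernel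

set_option maxRecDepth 1000000 in
theorem cls_hclo_3223 : allC (cloChk dD dC dE dCl) 3223 91 = true := by decide +kernel

set_option maxRecDepth 1000000 in
theorem cls_hclo_3224 : allC (cloChk dD dC dE dCl) 3224 91 = true := by decide +kernel

set_option maxRecDepth 1000000 in
theorem cls_hclo_3225 : allC (cloChk dD dC dE dCl) 3225 91 = true := by decide +kernel

set_option maxRecDepth 1000000 in
theorem cls_hclo_3226 : allC (cloChk dD dC dE dCl) 3226 91 = true := by decide +kernel

set_option maxRecDepth 1000000 in
theorem cls_hclo_3227 : allC (cloChk dD dC dE dCl) 3227 91 = true := by decide +kernel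

set_option maxRecDepth 1000000 in
theorem cls_hclo_3228 : allC (cloChk dD dC dE dCl) 3228 91 = true := by decide +kernel

set_option maxRecDepth 1000000 in
theorem cls_hclo_3229 : allC (cloChk dD dC dE dCl) 3229 91 = true := by decide +kernel

set_option maxRecDepth 1000000 in
theorem cls_hclo_3230 : allC (cloChk dD dC dE dCl) 3230 91 = true := by decide +kernel

set_option maxRecDepth 1000000 in
theorem cls_hclo_3231 : allC (cloChk dD dC dE dCl) 3231 91 = true := by decide +kernel

set_option maxRecDepth 1000000 in
theorem cls_hclo_3232 : allC (cloChk dD dC dE dCl) 3232 91 = true := by decide +kernel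

set_option maxRecDepth 1000000 in
theorem cls_hclo_3233 : allC (cloChk dD dC dE dCl) 3233 91 = true := by decide +kernel

set_option maxRecDepth 1000000 in
theorem cls_hclo_3234 : allC (cloChk dD dC dE dCl) 3234 91 = true := by decide +kernel

set_option maxRecDepth 1000000 in
theorem cls_hclo_3235 : allC (cloChk dD dC dE dCl) 3235 91 = true := by decide +kernel

set_option maxRecDepth 1000000 in
theorem cls_hclo_3236 : allC (cloChk dD dC dE dCl) 3236 91 = true := by decide +kernel

set_option maxRecDepth 1000000 in
theorem cls_hclo_3237 : allC (cloChk dD dC dE dCl) 3237 91 = true := by decide +kernel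

set_option maxRecDepth 1000000 in
theorem cls_hclo_3238 : allC (cloChk dD dC dE dCl) 3238 91 = true := by decide +kernel

set_option maxRecDepth 1000000 in
theorem cls_hclo_3239 : allC (cloChk dD dC dE dCl) 3239 91 = true := by decide +kernel

set_option maxRecDepth 1000000 in
theorem cls_hclo_3240 : allC (cloChk dD dC dE dCl) 3240 91 = true := by decide +kernel

set_option maxRecDepth 1000000 in
theorem cls_hclo_3241 : allC (cloChk dD dC dE dCl) 3241 91 = true := by decide +kernel

set_option maxRecDepth 1000000 in
theorem cls_hclo_3242 : allC (cloChk dD dC dE dCl) 3242 91 = true := by decide +kernel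

set_option maxRecDepth 1000000 in
theorem cls_hclo_3243 : allC (cloChk dD dC dE dCl) 3243 91 = true := by decide +kernel

set_option maxRecDepth 1000000 in
theorem cls_hclo_3244 : allC (cloChk dD dC dE dCl) 3244 91 = true := by decide +kernel

set_option maxRecDepth 1000000 in
theorem cls_hclo_3245 : allC (cloChk dD dC dE dCl) 3245 91 = true := by decide +kernel

set_option maxRecDepth 1000000 in
theorem cls_hclo_3246 : allC (cloChk dD dC dE dCl) 3246 91 = true := by decide +kernel

set_option maxRecDepth 1000000 in
theorem cls_hclo_3247 : allC (cloChk dD dC dE dCl) 3247 91 = true := by decide +kernel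

set_option maxRecDepth 1000000 in
theorem cls_hclo_3248 : allC (cloChk dD dC dE dCl) 3248 91 = true := by decide +kernel

set_option maxRecDepth 1000000 in
theorem cls_hclo_3249 : allC (cloChk dD dC dE dCl) 3249 91 = true := by decide +kernel

set_option maxRecDepth 1000000 in
theorem cls_hclo_3250 : allC (cloChk dD dC dE dCl) 3250 91 = true := by decide +kernel

set_option maxRecDepth 1000000 in
theorem cls_hclo_3251 : allC (cloChk dD dC dE dCl) 3251 91 = true := by decide +kernel

set_option maxRecDepth 1000000 in
theorem cls_hclo_3252 : allC (cloChk dD dC dE dCl) 3252 91 = true := by decide +kernel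

set_option maxRecDepth 1000000 in
theorem cls_hclo_3253 : allC (cloChk dD dC dE dCl) 3253 91 = true := by decide +kernel

set_option maxRecDepth 1000000 in
theorem cls_hclo_3254 : allC (cloChk dD dC dE dCl) 3254 91 = true := by decide +kernel

set_option maxRecDepth 1000000 in
theorem cls_hclo_3255 : allC (cloChk dD dC dE dCl) 3255 91 = true := by decide +kernel

set_option maxRecDepth 1000000 in
theorem cls_hclo_3256 : allC (cloChk dD dC dE dCl) 3256 91 = true := by decide +kernel

set_option maxRecDepth 1000000 in
theorem cls_hclo_3257 : allC (cloChk dD dC dE dCl) 3257 91 = true := by decide +kernel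

set_option maxRecDepth 1000000 in
theorem cls_hclo_3258 : allC (cloChk dD dC dE dCl) 3258 91 = true := by decide +kernel

set_option maxRecDepth 1000000 in
theorem cls_hclo_3259 : allC (cloChk dD dC dE dCl) 3259 91 = true := by decide +kernel

set_option maxRecDepth 1000000 in
theorem cls_hclo_3260 : allC (cloChk dD dC dE dCl) 3260 91 = true := by decide +kernel

set_option maxRecDepth 1000000 in
theorem cls_hclo_3261 : allC (cloChk dD dC dE dCl) 3261 91 = true := by decide +kernel

set_option maxRecDepth 1000000 in
theorem cls_hclo_3262 : allC (cloChk dD dC dE dCl) 3262 91 = true := by decide +kernel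

set_option maxRecDepth 1000000 in
theorem cls_hclo_3263 : allC (cloChk dD dC dE dCl) 3263 91 = true := by decide +kernel

set_option maxRecDepth 1000000 in
theorem cls_hclo_3264 : allC (cloChk dD dC dE dCl) 3264 91 = true := by decide +kernel

set_option maxRecDepth 1000000 in
theorem cls_hclo_3265 : allC (cloChk dD dC dE dCl) 3265 91 = true := by decide +kernel

set_option maxRecDepth 1000000 in
theorem cls_hclo_3266 : allC (cloChk dD dC dE dCl) 3266 91 = true := by decide +kernel

set_option maxRecDepth 1000000 in
theorem cls_hclo_3267 : allC (cloChk dD dC dE dCl) 3267 91 = true := by decide +kernel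

set_option maxRecDepth 1000000 in
theorem cls_hclo_3268 : allC (cloChk dD dC dE dCl) 3268 91 = true := by decide +kernel

set_option maxRecDepth 1000000 in
theorem cls_hclo_3269 : allC (cloChk dD dC dE dCl) 3269 91 = true := by decide +kernel

set_option maxRecDepth 1000000 in
theorem cls_hclo_3270 : allC (cloChk dD dC dE dCl) 3270 91 = true := by decide +kernel

set_option maxRecDepth 1000000 in
theorem cls_hclo_3271 : allC (cloChk dD dC dE dCl) 3271 91 = true := by decide +kernel

set_option maxRecDepth 1000000 in
theorem cls_hclo_3272 : allC (cloChk dD dC dE dCl) 3272 91 = true := by decide +kernel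

set_option maxRecDepth 1000000 in
theorem cls_hclo_3273 : allC (cloChk dD dC dE dCl) 3273 91 = true := by decide +kernel

set_option maxRecDepth 1000000 in
theorem cls_hclo_3274 : allC (cloChk dD dC dE dCl) 3274 91 = true := by decide +kernel

set_option maxRecDepth 1000000 in
theorem cls_hclo_3275 : allC (cloChk dD dC dE dCl) 3275 91 = true := by decide +kernel

set_option maxRecDepth 1000000 in
theorem cls_hclo_3276 : allC (cloChk dD dC dE dCl) 3276 91 = true := by decide +kernel

set_option maxRecDepth 1000000 in
theorem cls_hclo_3277 : allC (cloChk dD dC dE dCl) 3277 91 = true := by decide +kernel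

set_option maxRecDepth 1000000 in
theorem cls_hclo_3278 : allC (cloChk dD dC dE dCl) 3278 91 = true := by decide +kernel

set_option maxRecDepth 1000000 in
theorem cls_hclo_3279 : allC (cloChk dD dC dE dCl) 3279 91 = true := by decide +kernel

set_option maxRecDepth 1000000 in
theorem cls_hclo_3280 : allC (cloChk dD dC dE dCl) 3280 91 = true := by decide +kernel

set_option maxRecDepth 1000000 in
theorem cls_hclo_3281 : allC (cloChk dD dC dE dCl) 3281 91 = true := by decide +kernel

set_option maxRecDepth 1000000 in
theorem cls_hclo_3282 : allC (cloChk dD dC dE dCl) 3282 91 = true := by decide +kernel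

set_option maxRecDepth 1000000 in
theorem cls_hclo_3283 : allC (cloChk dD dC dE dCl) 3283 91 = true := by decide +kernel

set_option maxRecDepth 1000000 in
theorem cls_hclo_3284 : allC (cloChk dD dC dE dCl) 3284 91 = true := by decide +kernel

set_option maxRecDepth 1000000 in
theorem cls_hclo_3285 : allC (cloChk dD dC dE dCl) 3285 91 = true := by decide +kernel

set_option maxRecDepth 1000000 in
theorem cls_hclo_3286 : allC (cloChk dD dC dE dCl) 3286 91 = true := by decide +kernel

set_option maxRecDepth 1000000 in
theorem cls_hclo_3287 : allC (cloChk dD dC dE dCl) 3287 91 = true := by decide +kernel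

set_option maxRecDepth 1000000 in
theorem cls_hclo_3288 : allC (cloChk dD dC dE dCl) 3288 91 = true := by decide +kernel

set_option maxRecDepth 1000000 in
theorem cls_hclo_3289 : allC (cloChk dD dC dE dCl) 3289 91 = true := by decide +kernel

set_option maxRecDepth 1000000 in
theorem cls_hclo_3290 : allC (cloChk dD dC dE dCl) 3290 91 = true := by decide +kernel

set_option maxRecDepth 1000000 in
theorem cls_hclo_3291 : allC (cloChk dD dC dE dCl) 3291 91 = true := by decide +kernel

set_option maxRecDepth 1000000 in
theorem cls_hclo_3292 : allC (cloChk dD dC dE dCl) 3292 91 = true := by decide +kernel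

set_option maxRecDepth 1000000 in
theorem cls_hclo_3293 : allC (cloChk dD dC dE dCl) 3293 91 = true := by decide +kernel

set_option maxRecDepth 1000000 in
theorem cls_hclo_3294 : allC (cloChk dD dC dE dCl) 3294 91 = true := by decide +kernel

set_option maxRecDepth 1000000 in
theorem cls_hclo_3295 : allC (cloChk dD dC dE dCl) 3295 91 = true := by decide +kernel

set_option maxRecDepth 1000000 in
theorem cls_hclo_3296 : allC (cloChk dD dC dE dCl) 3296 91 = true := by decide +kernel

set_option maxRecDepth 1000000 in
theorem cls_hclo_3297 : allC (cloChk dD dC dE dCl) 3297 91 = true := by decide +kernel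

set_option maxRecDepth 1000000 in
theorem cls_hclo_3298 : allC (cloChk dD dC dE dCl) 3298 91 = true := by decide +kernel

set_option maxRecDepth 1000000 in
theorem cls_hclo_3299 : allC (cloChk dD dC dE dCl) 3299 91 = true := by decide +kernel

end Cfsg.Agent.Helper9.RuO

end
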