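import Mathlib
import Cfsg.Agent.Helper9.RuO.Data

set_option autoImplicit false

/-! Kernel checks of the certificates, a part. -/

noncomputable section

namespace Cfsg.Agent.Helper9.RuO

open Cfsg.Agent.Helper9.OutG Cfsg.Agent.Helper9.J3

set_option maxRecDepth 1000000 in
theorem cls_hclo_3300 : allC (cloChk dD dC dE dCl) 3300 91 = true := by decide +kernel

set_option maxRecDepth 1000000 in
theorem cls_hclo_3301 : allC (cloChk dD dC dE dCl) 3301 91 = true := by decide +kernel

set_option maxRecDepth 1000000 in
theorem cls_hclo_3302 : allC (cloChk dD dC dE dCl) 3302 91 = true := by decide +kernel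

set_option maxRecDepth 1000000 in
theorem cls_hclo_3303 : allC (cloChk dD dC dE dCl) 3303 91 = true := by decide +kernel

set_option maxRecDepth 1000000 in
theorem cls_hclo_3304 : allC (cloChk dD dC dE dCl) 3304 91 = true := by decide +kernel

set_option maxRecDepth 1000000 in
theorem cls_hclo_3305 : allC (cloChk dD dC dE dCl) 3305 91 = true := by decide +kernel

set_option maxRecDepth 1000000 in
theorem cls_hclo_3306 : allC (cloChk dD dC dE dCl) 3306 91 = true := by decide +kernel

set_option maxRecDepth 1000000 in
theorem cls_hclo_3307 : allC (cloChk dD dC dE dCl) 3307 91 = true := by decide +kernel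

set_option maxRecDepth 1000000 in
theorem cls_hclo_3308 : allC (cloChk dD dC dE dCl) 3308 91 = true := by decide +kernel

set_option maxRecDepth 1000000 in
theorem cls_hclo_3309 : allC (cloChk dD dC dE dCl) 3309 91 = true := by decide +kernel

set_option maxRecDepth 1000000 in
theorem cls_hclo_3310 : allC (cloChk dD dC dE dCl) 3310 91 = true := by decide +kernel

set_option maxRecDepth 1000000 in
theorem cls_hclo_3311 : allC (cloChk dD dC dE dCl) 3311 91 = true := by decide +kernel

set_option maxRecDepth 1000000 in
theorem cls_hclo_3312 : allC (cloChk dD dC dE dCl) 3312 91 = true := by decide +kernel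

set_option maxRecDepth 1000000 in
theorem cls_hclo_3313 : allC (cloChk dD dC dE dCl) 3313 91 = true := by decide +kernel

set_option maxRecDepth 1000000 in
theorem cls_hclo_3314 : allC (cloChk dD dC dE dCl) 3314 91 = true := by decide +kernel

set_option maxRecDepth 1000000 in
theorem cls_hclo_3315 : allC (cloChk dD dC dE dCl) 3315 91 = true := by decide +kernel

set_option maxRecDepth 1000000 in
theorem cls_hclo_3316 : allC (cloChk dD dC dE dCl) 3316 91 = true := by decide +kernel

set_option maxRecDepth 1000000 in
theorem cls_hclo_3317 : allC (cloChk dD dC dE dCl) 3317 91 = true := by decide +kernel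

set_option maxRecDepth 1000000 in
theorem cls_hclo_3318 : allC (cloChk dD dC dE dCl) 3318 91 = true := by decide +kernel

set_option maxRecDepth 1000000 in
theorem cls_hclo_3319 : allC (cloChk dD dC dE dCl) 3319 91 = true := by decide +kernel

set_option maxRecDepth 1000000 in
theorem cls_hclo_3320 : allC (cloChk dD dC dE dCl) 3320 91 = true := by decide +kernel

set_option maxRecDepth 1000000 in
theorem cls_hclo_3321 : allC (cloChk dD dC dE dCl) 3321 91 = true := by decide +kernel

set_option maxRecDepth 1000000 in
theorem cls_hclo_3322 : allC (cloChk dD dC dE dCl) 3322 91 = true := by decide +kernel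

set_option maxRecDepth 1000000 in
theorem cls_hclo_3323 : allC (cloChk dD dC dE dCl) 3323 91 = true := by decide +kernel

set_option maxRecDepth 1000000 in
theorem cls_hclo_3324 : allC (cloChk dD dC dE dCl) 3324 91 = true := by decide +kernel

set_option maxRecDepth 1000000 in
theorem cls_hclo_3325 : allC (cloChk dD dC dE dCl) 3325 91 = true := by decide +kernel

set_option maxRecDepth 1000000 in
theorem cls_hclo_3326 : allC (cloChk dD dC dE dCl) 3326 91 = true := by decide +kernel

set_option maxRecDepth 1000000 in
theorem cls_hclo_3327 : allC (cloChk dD dC dE dCl) 3327 91 = true := by decide +kernel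

set_option maxRecDepth 1000000 in
theorem cls_hclo_3328 : allC (cloChk dD dC dE dCl) 3328 91 = true := by decide +kernel

set_option maxRecDepth 1000000 in
theorem cls_hclo_3329 : allC (cloChk dD dC dE dCl) 3329 91 = true := by decide +kernel

set_option maxRecDepth 1000000 in
theorem cls_hclo_3330 : allC (cloChk dD dC dE dCl) 3330 91 = true := by decide +kernel

set_option maxRecDepth 1000000 in
theorem cls_hclo_3331 : allC (cloChk dD dC dE dCl) 3331 91 = true := by decide +kernel

set_option maxRecDepth 1000000 in
theorem cls_hclo_3332 : allC (cloChk dD dC dE dCl) 3332 91 = true := by decide +kernel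

set_option maxRecDepth 1000000 in
theorem cls_hclo_3333 : allC (cloChk dD dC dE dCl) 3333 91 = true := by decide +kernel

set_option maxRecDepth 1000000 in
theorem cls_hclo_3334 : allC (cloChk dD dC dE dCl) 3334 91 = true := by decide +kernel

set_option maxRecDepth 1000000 in
theorem cls_hclo_3335 : allC (cloChk dD dC dE dCl) 3335 91 = true := by decide +kernel

set_option maxRecDepth 1000000 in
theorem cls_hclo_3336 : allC (cloChk dD dC dE dCl) 3336 91 = true := by decide +kernel

set_option maxRecDepth 1000000 in
theorem cls_hclo_3337 : allC (cloChk dD dC dE dCl) 3337 91 = true := by decide +kernel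

set_option maxRecDepth 1000000 in
theorem cls_hclo_3338 : allC (cloChk dD dC dE dCl) 3338 91 = true := by decide +kernel

set_option maxRecDepth 1000000 in
theorem cls_hclo_3339 : allC (cloChk dD dC dE dCl) 3339 91 = true := by decide +kernel

set_option maxRecDepth 1000000 in
theorem cls_hclo_3340 : allC (cloChk dD dC dE dCl) 3340 91 = true := by decide +kernel

set_option maxRecDepth 1000000 in
theorem cls_hclo_3341 : allC (cloChk dD dC dE dCl) 3341 91 = true := by decide +kernel

set_option maxRecDepth 1000000 in
theorem cls_hclo_3342 : allC (cloChk dD dC dE dCl) 3342 91 = true := by decide +kernel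

set_option maxRecDepth 1000000 in
theorem cls_hclo_3343 : allC (cloChk dD dC dE dCl) 3343 91 = true := by decide +kernel

set_option maxRecDepth 1000000 in
theorem cls_hclo_3344 : allC (cloChk dD dC dE dCl) 3344 91 = true := by decide +kernel

set_option maxRecDepth 1000000 in
theorem cls_hclo_3345 : allC (cloChk dD dC dE dCl) 3345 91 = true := by decide +kernel

set_option maxRecDepth 1000000 in
theorem cls_hclo_3346 : allC (cloChk dD dC dE dCl) 3346 91 = true := by decide +kernel

set_option maxRecDepth 1000000 in
theorem cls_hclo_3347 : allC (cloChk dD dC dE dCl) 3347 91 = true := by decide +kernel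

set_option maxRecDepth 1000000 in
theorem cls_hclo_3348 : allC (cloChk dD dC dE dCl) 3348 91 = true := by decide +kernel

set_option maxRecDepth 1000000 in
theorem cls_hclo_3349 : allC (cloChk dD dC dE dCl) 3349 91 = true := by decide +kernel

set_option maxRecDepth 1000000 in
theorem cls_hclo_3350 : allC (cloChk dD dC dE dCl) 3350 91 = true := by decide +kernel

set_option maxRecDepth 1000000 in
theorem cls_hclo_3351 : allC (cloChk dD dC dE dCl) 3351 91 = true := by decide +kernel

set_option maxRecDepth 1000000 in
theorem cls_hclo_3352 : allC (cloChk dD dC dE dCl) 3352 91 = true := by decide +kernel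

set_option maxRecDepth 1000000 in
theorem cls_hclo_3353 : allC (cloChk dD dC dE dCl) 3353 91 = true := by decide +kernel

set_option maxRecDepth 1000000 in
theorem cls_hclo_3354 : allC (cloChk dD dC dE dCl) 3354 91 = true := by decide +kernel

set_option maxRecDepth 1000000 in
theorem cls_hclo_3355 : allC (cloChk dD dC dE dCl) 3355 91 = true := by decide +kernel

set_option maxRecDepth 1000000 in
theorem cls_hclo_3356 : allC (cloChk dD dC dE dCl) 3356 91 = true := by decide +kernel

set_option maxRecDepth 1000000 in
theorem cls_hclo_3357 : allC (cloChk dD dC dE dCl) 3357 91 = true := by decide +kernel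

set_option maxRecDepth 1000000 in
theorem cls_hclo_3358 : allC (cloChk dD dC dE dCl) 3358 91 = true := by decide +kernel

set_option maxRecDepth 1000000 in
theorem cls_hclo_3359 : allC (cloChk dD dC dE dCl) 3359 91 = true := by decide +kernel

set_option maxRecDepth 1000000 in
theorem cls_hclo_3360 : allC (cloChk dD dC dE dCl) 3360 91 = true := by decide +kernel

set_option maxRecDepth 1000000 in
theorem cls_hclo_3361 : allC (cloChk dD dC dE dCl) 3361 91 = true := by decide +kernel

set_option maxRecDepth 1000000 in
theorem cls_hclo_3362 : allC (cloChk dD dC dE dCl) 3362 91 = true := by decide +kernel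

set_option maxRecDepth 1000000 in
theorem cls_hclo_3363 : allC (cloChk dD dC dE dCl) 3363 91 = true := by decide +kernel

set_option maxRecDepth 1000000 in
theorem cls_hclo_3364 : allC (cloChk dD dC dE dCl) 3364 91 = true := by decide +kernel

set_option maxRecDepth 1000000 in
theorem cls_hclo_3365 : allC (cloChk dD dC dE dCl) 3365 91 = true := by decide +kernel

set_option maxRecDepth 1000000 in
theorem cls_hclo_3366 : allC (cloChk dD dC dE dCl) 3366 91 = true := by decide +kernel

set_option maxRecDepth 1000000 in
theorem cls_hclo_3367 : allC (cloChk dD dC dE dCl) 3367 91 = true := by decide +kernel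

set_option maxRecDepth 1000000 in
theorem cls_hclo_3368 : allC (cloChk dD dC dE dCl) 3368 91 = true := by decide +kernel

set_option maxRecDepth 1000000 in
theorem cls_hclo_3369 : allC (cloChk dD dC dE dCl) 3369 91 = true := by decide +kernel

set_option maxRecDepth 1000000 in
theorem cls_hclo_3370 : allC (cloChk dD dC dE dCl) 3370 91 = true := by decide +kernel

set_option maxRecDepth 1000000 in
theorem cls_hclo_3371 : allC (cloChk dD dC dE dCl) 3371 91 = true := by decide +kernel

set_option maxRecDepth 1000000 in
theorem cls_hclo_3372 : allC (cloChk dD dC dE dCl) 3372 91 = true := by decide +kernel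

set_option maxRecDepth 1000000 in
theorem cls_hclo_3373 : allC (cloChk dD dC dE dCl) 3373 91 = true := by decide +kernel

set_option maxRecDepth 1000000 in
theorem cls_hclo_3374 : allC (cloChk dD dC dE dCl) 3374 91 = true := by decide +kernel

set_option maxRecDepth 1000000 in
theorem cls_hclo_3375 : allC (cloChk dD dC dE dCl) 3375 91 = true := by decide +kernel

set_option maxRecDepth 1000000 in
theorem cls_hclo_3376 : allC (cloChk dD dC dE dCl) 3376 91 = true := by decide +kernel

set_option maxRecDepth 1000000 in
theorem cls_hclo_3377 : allC (cloChk dD dC dE dCl) 3377 91 = true := by decide +kernel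

set_option maxRecDepth 1000000 in
theorem cls_hclo_3378 : allC (cloChk dD dC dE dCl) 3378 91 = true := by decide +kernel

set_option maxRecDepth 1000000 in
theorem cls_hclo_3379 : allC (cloChk dD dC dE dCl) 3379 91 = true := by decide +kernel

set_option maxRecDepth 1000000 in
theorem cls_hclo_3380 : allC (cloChk dD dC dE dCl) 3380 91 = true := by decide +kernel

set_option maxRecDepth 1000000 in
theorem cls_hclo_3381 : allC (cloChk dD dC dE dCl) 3381 91 = true := by decide +kernel

set_option maxRecDepth 1000000 in
theorem cls_hclo_3382 : allC (cloChk dD dC dE dCl) 3382 91 = true := by decide +kernel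

set_option maxRecDepth 1000000 in
theorem cls_hclo_3383 : allC (cloChk dD dC dE dCl) 3383 91 = true := by decide +kernel

set_option maxRecDepth 1000000 in
theorem cls_hclo_3384 : allC (cloChk dD dC dE dCl) 3384 91 = true := by decide +kernel

set_option maxRecDepth 1000000 in
theorem cls_hclo_3385 : allC (cloChk dD dC dE dCl) 3385 91 = true := by decide +kernel

set_option maxRecDepth 1000000 in
theorem cls_hclo_3386 : allC (cloChk dD dC dE dCl) 3386 91 = true := by decide +kernel

set_option maxRecDepth 1000000 in
theorem cls_hclo_3387 : allC (cloChk dD dC dE dCl) 3387 91 = true := by decide +kernel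

set_option maxRecDepth 1000000 in
theorem cls_hclo_3388 : allC (cloChk dD dC dE dCl) 3388 91 = true := by decide +kernel

set_option maxRecDepth 1000000 in
theorem cls_hclo_3389 : allC (cloChk dD dC dE dCl) 3389 91 = true := by decide +kernel

set_option maxRecDepth 1000000 in
theorem cls_hclo_3390 : allC (cloChk dD dC dE dCl) 3390 91 = true := by decide +kernel

set_option maxRecDepth 1000000 in
theorem cls_hclo_3391 : allC (cloChk dD dC dE dCl) 3391 91 = true := by decide +kernel

set_option maxRecDepth 1000000 in
theorem cls_hclo_3392 : allC (cloChk dD dC dE dCl) 3392 91 = true := by decide +kernel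

set_option maxRecDepth 1000000 in
theorem cls_hclo_3393 : allC (cloChk dD dC dE dCl) 3393 91 = true := by decide +kernel

set_option maxRecDepth 1000000 in
theorem cls_hclo_3394 : allC (cloChk dD dC dE dCl) 3394 91 = true := by decide +kernel

set_option maxRecDepth 1000000 in
theorem cls_hclo_3395 : allC (cloChk dD dC dE dCl) 3395 91 = true := by decide +kernel

set_option maxRecDepth 1000000 in
theorem cls_hclo_3396 : allC (cloChk dD dC dE dCl) 3396 91 = true := by decide +kernel

set_option maxRecDepth 1000000 in
theorem cls_hclo_3397 : allC (cloChk dD dC dE dCl) 3397 91 = true := by decide +kernel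

set_option maxRecDepth 1000000 in
theorem cls_hclo_3398 : allC (cloChk dD dC dE dCl) 3398 91 = true := by decide +kernel

set_option maxRecDepth 1000000 in
theorem cls_hclo_3399 : allC (cloChk dD dC dE dCl) 3399 91 = true := by decide +kernel

end Cfsg.Agent.Helper9.RuO

end
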