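import Mathlib
import Cfsg.Agent.Helper9.RuO.Data

set_option autoImplicit false

/-! Kernel checks of the certificates, a part. -/

noncomputable section

namespace Cfsg.Agent.Helper9.RuO

open Cfsg.Agent.Helper9.OutG Cfsg.Agent.Helper9.J3

set_option maxRecDepth 1000000 in
theorem cls_hclo_3400 : allC (cloChk dD dC dE dCl) 3400 91 = true := by decide +kernel

set_option maxRecDepth 1000000 in
theorem cls_hclo_3401 : allC (cloChk dD dC dE dCl) 3401 91 = true := by decide +kernel

set_option maxRecDepth 1000000 in
theorem cls_hclo_3402 : allC (cloChk dD dC dE dCl) 3402 91 = true := by decide +kernel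

set_option maxRecDepth 1000000 in
theorem cls_hclo_3403 : allC (cloChk dD dC dE dCl) 3403 91 = true := by decide +kernel

set_option maxRecDepth 1000000 in
theorem cls_hclo_3404 : allC (cloChk dD dC dE dCl) 3404 91 = true := by decide +kernel

set_option maxRecDepth 1000000 in
theorem cls_hclo_3405 : allC (cloChk dD dC dE dCl) 3405 91 = true := by decide +kernel

set_option maxRecDepth 1000000 in
theorem cls_hclo_3406 : allC (cloChk dD dC dE dCl) 3406 91 = true := by decide +kernel

set_option maxRecDepth 1000000 in
theorem cls_hclo_3407 : allC (cloChk dD dC dE dCl) 3407 91 = true := by decide +kernel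

set_option maxRecDepth 1000000 in
theorem cls_hclo_3408 : allC (cloChk dD dC dE dCl) 3408 91 = true := by decide +kernel

set_option maxRecDepth 1000000 in
theorem cls_hclo_3409 : allC (cloChk dD dC dE dCl) 3409 91 = true := by decide +kernel

set_option maxRecDepth 1000000 in
theorem cls_hclo_3410 : allC (cloChk dD dC dE dCl) 3410 91 = true := by decide +kernel

set_option maxRecDepth 1000000 in
theorem cls_hclo_3411 : allC (cloChk dD dC dE dCl) 3411 91 = true := by decide +kernel

set_option maxRecDepth 1000000 in
theorem cls_hclo_3412 : allC (cloChk dD dC dE dCl) 3412 91 = true := by decide +kernel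

set_option maxRecDepth 1000000 in
theorem cls_hclo_3413 : allC (cloChk dD dC dE dCl) 3413 91 = true := by decide +kernel

set_option maxRecDepth 1000000 in
theorem cls_hclo_3414 : allC (cloChk dD dC dE dCl) 3414 91 = true := by decide +kernel

set_option maxRecDepth 1000000 in
theorem cls_hclo_3415 : allC (cloChk dD dC dE dCl) 3415 91 = true := by decide +kernel

set_option maxRecDepth 1000000 in
theorem cls_hclo_3416 : allC (cloChk dD dC dE dCl) 3416 91 = true := by decide +kernel

set_option maxRecDepth 1000000 in
theorem cls_hclo_3417 : allC (cloChk dD dC dE dCl) 3417 91 = true := by decide +kernel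

set_option maxRecDepth 1000000 in
theorem cls_hclo_3418 : allC (cloChk dD dC dE dCl) 3418 91 = true := by decide +kernel

set_option maxRecDepth 1000000 in
theorem cls_hclo_3419 : allC (cloChk dD dC dE dCl) 3419 91 = true := by decide +kernel

set_option maxRecDepth 1000000 in
theorem cls_hclo_3420 : allC (cloChk dD dC dE dCl) 3420 91 = true := by decide +kernel

set_option maxRecDepth 1000000 in
theorem cls_hclo_3421 : allC (cloChk dD dC dE dCl) 3421 91 = true := by decide +kernel

set_option maxRecDepth 1000000 in
theorem cls_hclo_3422 : allC (cloChk dD dC dE dCl) 3422 91 = true := by decide +kernel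

set_option maxRecDepth 1000000 in
theorem cls_hclo_3423 : allC (cloChk dD dC dE dCl) 3423 91 = true := by decide +kernel

set_option maxRecDepth 1000000 in
theorem cls_hclo_3424 : allC (cloChk dD dC dE dCl) 3424 91 = true := by decide +kernel

set_option maxRecDepth 1000000 in
theorem cls_hclo_3425 : allC (cloChk dD dC dE dCl) 3425 91 = true := by decide +kernel

set_option maxRecDepth 1000000 in
theorem cls_hclo_3426 : allC (cloChk dD dC dE dCl) 3426 91 = true := by decide +kernel

set_option maxRecDepth 1000000 in
theorem cls_hclo_3427 : allC (cloChk dD dC dE dCl) 3427 91 = true := by decide +kernel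

set_option maxRecDepth 1000000 in
theorem cls_hclo_3428 : allC (cloChk dD dC dE dCl) 3428 91 = true := by decide +kernel

set_option maxRecDepth 1000000 in
theorem cls_hclo_3429 : allC (cloChk dD dC dE dCl) 3429 91 = true := by decide +kernel

set_option maxRecDepth 1000000 in
theorem cls_hclo_3430 : allC (cloChk dD dC dE dCl) 3430 91 = true := by decide +kernel

set_option maxRecDepth 1000000 in
theorem cls_hclo_3431 : allC (cloChk dD dC dE dCl) 3431 91 = true := by decide +kernel

set_option maxRecDepth 1000000 in
theorem cls_hclo_3432 : allC (cloChk dD dC dE dCl) 3432 91 = true := by decide +kernel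

set_option maxRecDepth 1000000 in
theorem cls_hclo_3433 : allC (cloChk dD dC dE dCl) 3433 91 = true := by decide +kernel

set_option maxRecDepth 1000000 in
theorem cls_hclo_3434 : allC (cloChk dD dC dE dCl) 3434 91 = true := by decide +kernel

set_option maxRecDepth 1000000 in
theorem cls_hclo_3435 : allC (cloChk dD dC dE dCl) 3435 91 = true := by decide +kernel

set_option maxRecDepth 1000000 in
theorem cls_hclo_3436 : allC (cloChk dD dC dE dCl) 3436 91 = true := by decide +kernel

set_option maxRecDepth 1000000 in
theorem cls_hclo_3437 : allC (cloChk dD dC dE dCl) 3437 91 = true := by decide +kernel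

set_option maxRecDepth 1000000 in
theorem cls_hclo_3438 : allC (cloChk dD dC dE dCl) 3438 91 = true := by decide +kernel

set_option maxRecDepth 1000000 in
theorem cls_hclo_3439 : allC (cloChk dD dC dE dCl) 3439 91 = true := by decide +kernel

set_option maxRecDepth 1000000 in
theorem cls_hclo_3440 : allC (cloChk dD dC dE dCl) 3440 91 = true := by decide +kernel

set_option maxRecDepth 1000000 in
theorem cls_hclo_3441 : allC (cloChk dD dC dE dCl) 3441 91 = true := by decide +kernel

set_option maxRecDepth 1000000 in
theorem cls_hclo_3442 : allC (cloChk dD dC dE dCl) 3442 91 = true := by decide +kernel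

set_option maxRecDepth 1000000 in
theorem cls_hclo_3443 : allC (cloChk dD dC dE dCl) 3443 91 = true := by decide +kernel

set_option maxRecDepth 1000000 in
theorem cls_hclo_3444 : allC (cloChk dD dC dE dCl) 3444 91 = true := by decide +kernel

set_option maxRecDepth 1000000 in
theorem cls_hclo_3445 : allC (cloChk dD dC dE dCl) 3445 91 = true := by decide +kernel

set_option maxRecDepth 1000000 in
theorem cls_hclo_3446 : allC (cloChk dD dC dE dCl) 3446 91 = true := by decide +kernel

set_option maxRecDepth 1000000 in
theorem cls_hclo_3447 : allC (cloChk dD dC dE dCl) 3447 91 = true := by decide +kernel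

set_option maxRecDepth 1000000 in
theorem cls_hclo_3448 : allC (cloChk dD dC dE dCl) 3448 91 = true := by decide +kernel

set_option maxRecDepth 1000000 in
theorem cls_hclo_3449 : allC (cloChk dD dC dE dCl) 3449 91 = true := by decide +kernel

set_option maxRecDepth 1000000 in
theorem cls_hclo_3450 : allC (cloChk dD dC dE dCl) 3450 91 = true := by decide +kernel

set_option maxRecDepth 1000000 in
theorem cls_hclo_3451 : allC (cloChk dD dC dE dCl) 3451 91 = true := by decide +kernel

set_option maxRecDepth 1000000 in
theorem cls_hclo_3452 : allC (cloChk dD dC dE dCl) 3452 91 = true := by decide +kernel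

set_option maxRecDepth 1000000 in
theorem cls_hclo_3453 : allC (cloChk dD dC dE dCl) 3453 91 = true := by decide +kernel

set_option maxRecDepth 1000000 in
theorem cls_hclo_3454 : allC (cloChk dD dC dE dCl) 3454 91 = true := by decide +kernel

set_option maxRecDepth 1000000 in
theorem cls_hclo_3455 : allC (cloChk dD dC dE dCl) 3455 91 = true := by decide +kernel

set_option maxRecDepth 1000000 in
theorem cls_hclo_3456 : allC (cloChk dD dC dE dCl) 3456 91 = true := by decide +kernel

set_option maxRecDepth 1000000 in
theorem cls_hclo_3457 : allC (cloChk dD dC dE dCl) 3457 91 = true := by decide +kernel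

set_option maxRecDepth 1000000 in
theorem cls_hclo_3458 : allC (cloChk dD dC dE dCl) 3458 91 = true := by decide +kernel

set_option maxRecDepth 1000000 in
theorem cls_hclo_3459 : allC (cloChk dD dC dE dCl) 3459 91 = true := by decide +kernel

set_option maxRecDepth 1000000 in
theorem cls_hclo_3460 : allC (cloChk dD dC dE dCl) 3460 91 = true := by decide +kernel

set_option maxRecDepth 1000000 in
theorem cls_hclo_3461 : allC (cloChk dD dC dE dCl) 3461 91 = true := by decide +kernel

set_option maxRecDepth 1000000 in
theorem cls_hclo_3462 : allC (cloChk dD dC dE dCl) 3462 91 = true := by decide +kernel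

set_option maxRecDepth 1000000 in
theorem cls_hclo_3463 : allC (cloChk dD dC dE dCl) 3463 91 = true := by decide +kernel

set_option maxRecDepth 1000000 in
theorem cls_hclo_3464 : allC (cloChk dD dC dE dCl) 3464 91 = true := by decide +kernel

set_option maxRecDepth 1000000 in
theorem cls_hclo_3465 : allC (cloChk dD dC dE dCl) 3465 91 = true := by decide +kernel

set_option maxRecDepth 1000000 in
theorem cls_hclo_3466 : allC (cloChk dD dC dE dCl) 3466 91 = true := by decide +kernel

set_option maxRecDepth 1000000 in
theorem cls_hclo_3467 : allC (cloChk dD dC dE dCl) 3467 91 = true := by decide +kernel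

set_option maxRecDepth 1000000 in
theorem cls_hclo_3468 : allC (cloChk dD dC dE dCl) 3468 91 = true := by decide +kernel

set_option maxRecDepth 1000000 in
theorem cls_hclo_3469 : allC (cloChk dD dC dE dCl) 3469 91 = true := by decide +kernel

set_option maxRecDepth 1000000 in
theorem cls_hclo_3470 : allC (cloChk dD dC dE dCl) 3470 91 = true := by decide +kernel

set_option maxRecDepth 1000000 in
theorem cls_hclo_3471 : allC (cloChk dD dC dE dCl) 3471 91 = true := by decide +kernel

set_option maxRecDepth 1000000 in
theorem cls_hclo_3472 : allC (cloChk dD dC dE dCl) 3472 91 = true := by decide +kernel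

set_option maxRecDepth 1000000 in
theorem cls_hclo_3473 : allC (cloChk dD dC dE dCl) 3473 91 = true := by decide +kernel

set_option maxRecDepth 1000000 in
theorem cls_hclo_3474 : allC (cloChk dD dC dE dCl) 3474 91 = true := by decide +kernel

set_option maxRecDepth 1000000 in
theorem cls_hclo_3475 : allC (cloChk dD dC dE dCl) 3475 91 = true := by decide +kernel

set_option maxRecDepth 1000000 in
theorem cls_hclo_3476 : allC (cloChk dD dC dE dCl) 3476 91 = true := by decide +kernel

set_option maxRecDepth 1000000 in
theorem cls_hclo_3477 : allC (cloChk dD dC dE dCl) 3477 91 = true := by decide +kernel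

set_option maxRecDepth 1000000 in
theorem cls_hclo_3478 : allC (cloChk dD dC dE dCl) 3478 91 = true := by decide +kernel

set_option maxRecDepth 1000000 in
theorem cls_hclo_3479 : allC (cloChk dD dC dE dCl) 3479 91 = true := by decide +kernel

set_option maxRecDepth 1000000 in
theorem cls_hclo_3480 : allC (cloChk dD dC dE dCl) 3480 91 = true := by decide +kernel

set_option maxRecDepth 1000000 in
theorem cls_hclo_3481 : allC (cloChk dD dC dE dCl) 3481 91 = true := by decide +kernel

set_option maxRecDepth 1000000 in
theorem cls_hclo_3482 : allC (cloChk dD dC dE dCl) 3482 91 = true := by decide +kernel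

set_option maxRecDepth 1000000 in
theorem cls_hclo_3483 : allC (cloChk dD dC dE dCl) 3483 91 = true := by decide +kernel

set_option maxRecDepth 1000000 in
theorem cls_hclo_3484 : allC (cloChk dD dC dE dCl) 3484 91 = true := by decide +kernel

set_option maxRecDepth 1000000 in
theorem cls_hclo_3485 : allC (cloChk dD dC dE dCl) 3485 91 = true := by decide +kernel

set_option maxRecDepth 1000000 in
theorem cls_hclo_3486 : allC (cloChk dD dC dE dCl) 3486 91 = true := by decide +kernel

set_option maxRecDepth 1000000 in
theorem cls_hclo_3487 : allC (cloChk dD dC dE dCl) 3487 91 = true := by decide +kernel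

set_option maxRecDepth 1000000 in
theorem cls_hclo_3488 : allC (cloChk dD dC dE dCl) 3488 91 = true := by decide +kernel

set_option maxRecDepth 1000000 in
theorem cls_hclo_3489 : allC (cloChk dD dC dE dCl) 3489 91 = true := by decide +kernel

set_option maxRecDepth 1000000 in
theorem cls_hclo_3490 : allC (cloChk dD dC dE dCl) 3490 91 = true := by decide +kernel

set_option maxRecDepth 1000000 in
theorem cls_hclo_3491 : allC (cloChk dD dC dE dCl) 3491 91 = true := by decide +kernel

set_option maxRecDepth 1000000 in
theorem cls_hclo_3492 : allC (cloChk dD dC dE dCl) 3492 91 = true := by decide +kernel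

set_option maxRecDepth 1000000 in
theorem cls_hclo_3493 : allC (cloChk dD dC dE dCl) 3493 91 = true := by decide +kernel

set_option maxRecDepth 1000000 in
theorem cls_hclo_3494 : allC (cloChk dD dC dE dCl) 3494 91 = true := by decide +kernel

set_option maxRecDepth 1000000 in
theorem cls_hclo_3495 : allC (cloChk dD dC dE dCl) 3495 91 = true := by decide +kernel

set_option maxRecDepth 1000000 in
theorem cls_hclo_3496 : allC (cloChk dD dC dE dCl) 3496 91 = true := by decide +kernel

set_option maxRecDepth 1000000 in
theorem cls_hclo_3497 : allC (cloChk dD dC dE dCl) 3497 91 = true := by decide +kernel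

set_option maxRecDepth 1000000 in
theorem cls_hclo_3498 : allC (cloChk dD dC dE dCl) 3498 91 = true := by decide +kernel

set_option maxRecDepth 1000000 in
theorem cls_hclo_3499 : allC (cloChk dD dC dE dCl) 3499 91 = true := by decide +kernel

end Cfsg.Agent.Helper9.RuO

end
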