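import Mathlib
import Cfsg.Agent.Helper9.RuO.Data

set_option autoImplicit false

/-! Kernel checks of the certificates, a part. -/

noncomputable section

namespace Cfsg.Agent.Helper9.RuO

open Cfsg.Agent.Helper9.OutG Cfsg.Agent.Helper9.J3

set_option maxRecDepth 1000000 in
theorem cls_hclo_3500 : allC (cloChk dD dC dE dCl) 3500 91 = true := by decide +kernel

set_option maxRecDepth 1000000 in
theorem cls_hclo_3501 : allC (cloChk dD dC dE dCl) 3501 91 = true := by decide +kernel

set_option maxRecDepth 1000000 in
theorem cls_hclo_3502 : allC (cloChk dD dC dE dCl) 3502 91 = true := by decide +kernel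

set_option maxRecDepth 1000000 in
theorem cls_hclo_3503 : allC (cloChk dD dC dE dCl) 3503 91 = true := by decide +kernel

set_option maxRecDepth 1000000 in
theorem cls_hclo_3504 : allC (cloChk dD dC dE dCl) 3504 91 = true := by decide +kernel

set_option maxRecDepth 1000000 in
theorem cls_hclo_3505 : allC (cloChk dD dC dE dCl) 3505 91 = true := by decide +kernel

set_option maxRecDepth 1000000 in
theorem cls_hclo_3506 : allC (cloChk dD dC dE dCl) 3506 91 = true := by decide +kernel

set_option maxRecDepth 1000000 in
theorem cls_hclo_3507 : allC (cloChk dD dC dE dCl) 3507 91 = true := by decide +kernel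

set_option maxRecDepth 1000000 in
theorem cls_hclo_3508 : allC (cloChk dD dC dE dCl) 3508 91 = true := by decide +kernel

set_option maxRecDepth 1000000 in
theorem cls_hclo_3509 : allC (cloChk dD dC dE dCl) 3509 91 = true := by decide +kernel

set_option maxRecDepth 1000000 in
theorem cls_hclo_3510 : allC (cloChk dD dC dE dCl) 3510 91 = true := by decide +kernel

set_option maxRecDepth 1000000 in
theorem cls_hclo_3511 : allC (cloChk dD dC dE dCl) 3511 91 = true := by decide +kernel

set_option maxRecDepth 1000000 in
theorem cls_hclo_3512 : allC (cloChk dD dC dE dCl) 3512 91 = true := by decide +kernel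

set_option maxRecDepth 1000000 in
theorem cls_hclo_3513 : allC (cloChk dD dC dE dCl) 3513 91 = true := by decide +kernel

set_option maxRecDepth 1000000 in
theorem cls_hclo_3514 : allC (cloChk dD dC dE dCl) 3514 91 = true := by decide +kernel

set_option maxRecDepth 1000000 in
theorem cls_hclo_3515 : allC (cloChk dD dC dE dCl) 3515 91 = true := by decide +kernel

set_option maxRecDepth 1000000 in
theorem cls_hclo_3516 : allC (cloChk dD dC dE dCl) 3516 91 = true := by decide +kernel

set_option maxRecDepth 1000000 in
theorem cls_hclo_3517 : allC (cloChk dD dC dE dCl) 3517 91 = true := by decide +kernel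

set_option maxRecDepth 1000000 in
theorem cls_hclo_3518 : allC (cloChk dD dC dE dCl) 3518 91 = true := by decide +kernel

set_option maxRecDepth 1000000 in
theorem cls_hclo_3519 : allC (cloChk dD dC dE dCl) 3519 91 = true := by decide +kernel

set_option maxRecDepth 1000000 in
theorem cls_hclo_3520 : allC (cloChk dD dC dE dCl) 3520 91 = true := by decide +kernel

set_option maxRecDepth 1000000 in
theorem cls_hclo_3521 : allC (cloChk dD dC dE dCl) 3521 91 = true := by decide +kernel

set_option maxRecDepth 1000000 in
theorem cls_hclo_3522 : allC (cloChk dD dC dE dCl) 3522 91 = true := by decide +kernel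

set_option maxRecDepth 1000000 in
theorem cls_hclo_3523 : allC (cloChk dD dC dE dCl) 3523 91 = true := by decide +kernel

set_option maxRecDepth 1000000 in
theorem cls_hclo_3524 : allC (cloChk dD dC dE dCl) 3524 91 = true := by decide +kernel

set_option maxRecDepth 1000000 in
theorem cls_hclo_3525 : allC (cloChk dD dC dE dCl) 3525 91 = true := by decide +kernel

set_option maxRecDepth 1000000 in
theorem cls_hclo_3526 : allC (cloChk dD dC dE dCl) 3526 91 = true := by decide +kernel

set_option maxRecDepth 1000000 in
theorem cls_hclo_3527 : allC (cloChk dD dC dE dCl) 3527 91 = true := by decide +kernel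

set_option maxRecDepth 1000000 in
theorem cls_hclo_3528 : allC (cloChk dD dC dE dCl) 3528 91 = true := by decide +kernel

set_option maxRecDepth 1000000 in
theorem cls_hclo_3529 : allC (cloChk dD dC dE dCl) 3529 91 = true := by decide +kernel

set_option maxRecDepth 1000000 in
theorem cls_hclo_3530 : allC (cloChk dD dC dE dCl) 3530 91 = true := by decide +kernel

set_option maxRecDepth 1000000 in
theorem cls_hclo_3531 : allC (cloChk dD dC dE dCl) 3531 91 = true := by decide +kernel

set_option maxRecDepth 1000000 in
theorem cls_hclo_3532 : allC (cloChk dD dC dE dCl) 3532 91 = true := by decide +kernel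

set_option maxRecDepth 1000000 in
theorem cls_hclo_3533 : allC (cloChk dD dC dE dCl) 3533 91 = true := by decide +kernel

set_option maxRecDepth 1000000 in
theorem cls_hclo_3534 : allC (cloChk dD dC dE dCl) 3534 91 = true := by decide +kernel

set_option maxRecDepth 1000000 in
theorem cls_hclo_3535 : allC (cloChk dD dC dE dCl) 3535 91 = true := by decide +kernel

set_option maxRecDepth 1000000 in
theorem cls_hclo_3536 : allC (cloChk dD dC dE dCl) 3536 91 = true := by decide +kernel

set_option maxRecDepth 1000000 in
theorem cls_hclo_3537 : allC (cloChk dD dC dE dCl) 3537 91 = true := by decide +kernel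

set_option maxRecDepth 1000000 in
theorem cls_hclo_3538 : allC (cloChk dD dC dE dCl) 3538 91 = true := by decide +kernel

set_option maxRecDepth 1000000 in
theorem cls_hclo_3539 : allC (cloChk dD dC dE dCl) 3539 91 = true := by decide +kernel

set_option maxRecDepth 1000000 in
theorem cls_hclo_3540 : allC (cloChk dD dC dE dCl) 3540 91 = true := by decide +kernel

set_option maxRecDepth 1000000 in
theorem cls_hclo_3541 : allC (cloChk dD dC dE dCl) 3541 91 = true := by decide +kernel

set_option maxRecDepth 1000000 in
theorem cls_hclo_3542 : allC (cloChk dD dC dE dCl) 3542 91 = true := by decide +kernel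

set_option maxRecDepth 1000000 in
theorem cls_hclo_3543 : allC (cloChk dD dC dE dCl) 3543 91 = true := by decide +kernel

set_option maxRecDepth 1000000 in
theorem cls_hclo_3544 : allC (cloChk dD dC dE dCl) 3544 91 = true := by decide +kernel

set_option maxRecDepth 1000000 in
theorem cls_hclo_3545 : allC (cloChk dD dC dE dCl) 3545 91 = true := by decide +kernel

set_option maxRecDepth 1000000 in
theorem cls_hclo_3546 : allC (cloChk dD dC dE dCl) 3546 91 = true := by decide +kernel

set_option maxRecDepth 1000000 in
theorem cls_hclo_3547 : allC (cloChk dD dC dE dCl) 3547 91 = true := by decide +kernel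

set_option maxRecDepth 1000000 in
theorem cls_hclo_3548 : allC (cloChk dD dC dE dCl) 3548 91 = true := by decide +kernel

set_option maxRecDepth 1000000 in
theorem cls_hclo_3549 : allC (cloChk dD dC dE dCl) 3549 91 = true := by decide +kernel

set_option maxRecDepth 1000000 in
theorem cls_hclo_3550 : allC (cloChk dD dC dE dCl) 3550 91 = true := by decide +kernel

set_option maxRecDepth 1000000 in
theorem cls_hclo_3551 : allC (cloChk dD dC dE dCl) 3551 91 = true := by decide +kernel

set_option maxRecDepth 1000000 in
theorem cls_hclo_3552 : allC (cloChk dD dC dE dCl) 3552 91 = true := by decide +kernel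

set_option maxRecDepth 1000000 in
theorem cls_hclo_3553 : allC (cloChk dD dC dE dCl) 3553 91 = true := by decide +kernel

set_option maxRecDepth 1000000 in
theorem cls_hclo_3554 : allC (cloChk dD dC dE dCl) 3554 91 = true := by decide +kernel

set_option maxRecDepth 1000000 in
theorem cls_hclo_3555 : allC (cloChk dD dC dE dCl) 3555 91 = true := by decide +kernel

set_option maxRecDepth 1000000 in
theorem cls_hclo_3556 : allC (cloChk dD dC dE dCl) 3556 91 = true := by decide +kernel

set_option maxRecDepth 1000000 in
theorem cls_hclo_3557 : allC (cloChk dD dC dE dCl) 3557 91 = true := by decide +kernel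

set_option maxRecDepth 1000000 in
theorem cls_hclo_3558 : allC (cloChk dD dC dE dCl) 3558 91 = true := by decide +kernel

set_option maxRecDepth 1000000 in
theorem cls_hclo_3559 : allC (cloChk dD dC dE dCl) 3559 91 = true := by decide +kernel

set_option maxRecDepth 1000000 in
theorem cls_hclo_3560 : allC (cloChk dD dC dE dCl) 3560 91 = true := by decide +kernel

set_option maxRecDepth 1000000 in
theorem cls_hclo_3561 : allC (cloChk dD dC dE dCl) 3561 91 = true := by decide +kernel

set_option maxRecDepth 1000000 in
theorem cls_hclo_3562 : allC (cloChk dD dC dE dCl) 3562 91 = true := by decide +kernel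

set_option maxRecDepth 1000000 in
theorem cls_hclo_3563 : allC (cloChk dD dC dE dCl) 3563 91 = true := by decide +kernel

set_option maxRecDepth 1000000 in
theorem cls_hclo_3564 : allC (cloChk dD dC dE dCl) 3564 91 = true := by decide +kernel

set_option maxRecDepth 1000000 in
theorem cls_hclo_3565 : allC (cloChk dD dC dE dCl) 3565 91 = true := by decide +kernel

set_option maxRecDepth 1000000 in
theorem cls_hclo_3566 : allC (cloChk dD dC dE dCl) 3566 91 = true := by decide +kernel

set_option maxRecDepth 1000000 in
theorem cls_hclo_3567 : allC (cloChk dD dC dE dCl) 3567 91 = true := by decide +kernel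

set_option maxRecDepth 1000000 in
theorem cls_hclo_3568 : allC (cloChk dD dC dE dCl) 3568 91 = true := by decide +kernel

set_option maxRecDepth 1000000 in
theorem cls_hclo_3569 : allC (cloChk dD dC dE dCl) 3569 91 = true := by decide +kernel

set_option maxRecDepth 1000000 in
theorem cls_hclo_3570 : allC (cloChk dD dC dE dCl) 3570 91 = true := by decide +kernel

set_option maxRecDepth 1000000 in
theorem cls_hclo_3571 : allC (cloChk dD dC dE dCl) 3571 91 = true := by decide +kernel

set_option maxRecDepth 1000000 in
theorem cls_hclo_3572 : allC (cloChk dD dC dE dCl) 3572 91 = true := by decide +kernel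

set_option maxRecDepth 1000000 in
theorem cls_hclo_3573 : allC (cloChk dD dC dE dCl) 3573 91 = true := by decide +kernel

set_option maxRecDepth 1000000 in
theorem cls_hclo_3574 : allC (cloChk dD dC dE dCl) 3574 91 = true := by decide +kernel

set_option maxRecDepth 1000000 in
theorem cls_hclo_3575 : allC (cloChk dD dC dE dCl) 3575 91 = true := by decide +kernel

set_option maxRecDepth 1000000 in
theorem cls_hclo_3576 : allC (cloChk dD dC dE dCl) 3576 91 = true := by decide +kernel

set_option maxRecDepth 1000000 in
theorem cls_hclo_3577 : allC (cloChk dD dC dE dCl) 3577 91 = true := by decide +kernel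

set_option maxRecDepth 1000000 in
theorem cls_hclo_3578 : allC (cloChk dD dC dE dCl) 3578 91 = true := by decide +kernel

set_option maxRecDepth 1000000 in
theorem cls_hclo_3579 : allC (cloChk dD dC dE dCl) 3579 91 = true := by decide +kernel

set_option maxRecDepth 1000000 in
theorem cls_hclo_3580 : allC (cloChk dD dC dE dCl) 3580 91 = true := by decide +kernel

set_option maxRecDepth 1000000 in
theorem cls_hclo_3581 : allC (cloChk dD dC dE dCl) 3581 91 = true := by decide +kernel

set_option maxRecDepth 1000000 in
theorem cls_hclo_3582 : allC (cloChk dD dC dE dCl) 3582 91 = true := by decide +kernel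

set_option maxRecDepth 1000000 in
theorem cls_hclo_3583 : allC (cloChk dD dC dE dCl) 3583 91 = true := by decide +kernel

set_option maxRecDepth 1000000 in
theorem cls_hclo_3584 : allC (cloChk dD dC dE dCl) 3584 91 = true := by decide +kernel

set_option maxRecDepth 1000000 in
theorem cls_hclo_3585 : allC (cloChk dD dC dE dCl) 3585 91 = true := by decide +kernel

set_option maxRecDepth 1000000 in
theorem cls_hclo_3586 : allC (cloChk dD dC dE dCl) 3586 91 = true := by decide +kernel

set_option maxRecDepth 1000000 in
theorem cls_hclo_3587 : allC (cloChk dD dC dE dCl) 3587 91 = true := by decide +kernel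

set_option maxRecDepth 1000000 in
theorem cls_hclo_3588 : allC (cloChk dD dC dE dCl) 3588 91 = true := by decide +kernel

set_option maxRecDepth 1000000 in
theorem cls_hclo_3589 : allC (cloChk dD dC dE dCl) 3589 91 = true := by decide +kernel

set_option maxRecDepth 1000000 in
theorem cls_hclo_3590 : allC (cloChk dD dC dE dCl) 3590 91 = true := by decide +kernel

set_option maxRecDepth 1000000 in
theorem cls_hclo_3591 : allC (cloChk dD dC dE dCl) 3591 91 = true := by decide +kernel

set_option maxRecDepth 1000000 in
theorem cls_hclo_3592 : allC (cloChk dD dC dE dCl) 3592 91 = true := by decide +kernel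

set_option maxRecDepth 1000000 in
theorem cls_hclo_3593 : allC (cloChk dD dC dE dCl) 3593 91 = true := by decide +kernel

set_option maxRecDepth 1000000 in
theorem cls_hclo_3594 : allC (cloChk dD dC dE dCl) 3594 91 = true := by decide +kernel

set_option maxRecDepth 1000000 in
theorem cls_hclo_3595 : allC (cloChk dD dC dE dCl) 3595 91 = true := by decide +kernel

set_option maxRecDepth 1000000 in
theorem cls_hclo_3596 : allC (cloChk dD dC dE dCl) 3596 91 = true := by decide +kernel

set_option maxRecDepth 1000000 in
theorem cls_hclo_3597 : allC (cloChk dD dC dE dCl) 3597 91 = true := by decide +kernel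

set_option maxRecDepth 1000000 in
theorem cls_hclo_3598 : allC (cloChk dD dC dE dCl) 3598 91 = true := by decide +kernel

set_option maxRecDepth 1000000 in
theorem cls_hclo_3599 : allC (cloChk dD dC dE dCl) 3599 91 = true := by decide +kernel

end Cfsg.Agent.Helper9.RuO

end
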