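import Mathlib
import Cfsg.Agent.Helper9.RuO.Data

set_option autoImplicit false

/-! Kernel checks of the certificates, a part. -/

noncomputable section

namespace Cfsg.Agent.Helper9.RuO

open Cfsg.Agent.Helper9.OutG Cfsg.Agent.Helper9.J3

set_option maxRecDepth 1000000 in
theorem cls_hclo_3600 : allC (cloChk dD dC dE dCl) 3600 91 = true := by decide +kernel

set_option maxRecDepth 1000000 in
theorem cls_hclo_3601 : allC (cloChk dD dC dE dCl) 3601 91 = true := by decide +kernel

set_option maxRecDepth 1000000 in
theorem cls_hclo_3602 : allC (cloChk dD dC dE dCl) 3602 91 = true := by decide +kernel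

set_option maxRecDepth 1000000 in
theorem cls_hclo_3603 : allC (cloChk dD dC dE dCl) 3603 91 = true := by decide +kernel

set_option maxRecDepth 1000000 in
theorem cls_hclo_3604 : allC (cloChk dD dC dE dCl) 3604 91 = true := by decide +kernel

set_option maxRecDepth 1000000 in
theorem cls_hclo_3605 : allC (cloChk dD dC dE dCl) 3605 91 = true := by decide +kernel

set_option maxRecDepth 1000000 in
theorem cls_hclo_3606 : allC (cloChk dD dC dE dCl) 3606 91 = true := by decide +kernel

set_option maxRecDepth 1000000 in
theorem cls_hclo_3607 : allC (cloChk dD dC dE dCl) 3607 91 = true := by decide +kernel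

set_option maxRecDepth 1000000 in
theorem cls_hclo_3608 : allC (cloChk dD dC dE dCl) 3608 91 = true := by decide +kernel

set_option maxRecDepth 1000000 in
theorem cls_hclo_3609 : allC (cloChk dD dC dE dCl) 3609 91 = true := by decide +kernel

set_option maxRecDepth 1000000 in
theorem cls_hclo_3610 : allC (cloChk dD dC dE dCl) 3610 91 = true := by decide +kernel

set_option maxRecDepth 1000000 in
theorem cls_hclo_3611 : allC (cloChk dD dC dE dCl) 3611 91 = true := by decide +kernel

set_option maxRecDepth 1000000 in
theorem cls_hclo_3612 : allC (cloChk dD dC dE dCl) 3612 91 = true := by decide +kernel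

set_option maxRecDepth 1000000 in
theorem cls_hclo_3613 : allC (cloChk dD dC dE dCl) 3613 91 = true := by decide +kernel

set_option maxRecDepth 1000000 in
theorem cls_hclo_3614 : allC (cloChk dD dC dE dCl) 3614 91 = true := by decide +kernel

set_option maxRecDepth 1000000 in
theorem cls_hclo_3615 : allC (cloChk dD dC dE dCl) 3615 91 = true := by decide +kernel

set_option maxRecDepth 1000000 in
theorem cls_hclo_3616 : allC (cloChk dD dC dE dCl) 3616 91 = true := by decide +kernel

set_option maxRecDepth 1000000 in
theorem cls_hclo_3617 : allC (cloChk dD dC dE dCl) 3617 91 = true := by decide +kernel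

set_option maxRecDepth 1000000 in
theorem cls_hclo_3618 : allC (cloChk dD dC dE dCl) 3618 91 = true := by decide +kernel

set_option maxRecDepth 1000000 in
theorem cls_hclo_3619 : allC (cloChk dD dC dE dCl) 3619 91 = true := by decide +kernel

set_option maxRecDepth 1000000 in
theorem cls_hclo_3620 : allC (cloChk dD dC dE dCl) 3620 91 = true := by decide +kernel

set_option maxRecDepth 1000000 in
theorem cls_hclo_3621 : allC (cloChk dD dC dE dCl) 3621 91 = true := by decide +kernel

set_option maxRecDepth 1000000 in
theorem cls_hclo_3622 : allC (cloChk dD dC dE dCl) 3622 91 = true := by decide +kernel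

set_option maxRecDepth 1000000 in
theorem cls_hclo_3623 : allC (cloChk dD dC dE dCl) 3623 91 = true := by decide +kernel

set_option maxRecDepth 1000000 in
theorem cls_hclo_3624 : allC (cloChk dD dC dE dCl) 3624 91 = true := by decide +kernel

set_option maxRecDepth 1000000 in
theorem cls_hclo_3625 : allC (cloChk dD dC dE dCl) 3625 91 = true := by decide +kernel

set_option maxRecDepth 1000000 in
theorem cls_hclo_3626 : allC (cloChk dD dC dE dCl) 3626 91 = true := by decide +kernel

set_option maxRecDepth 1000000 in
theorem cls_hclo_3627 : allC (cloChk dD dC dE dCl) 3627 91 = true := by decide +kernel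

set_option maxRecDepth 1000000 in
theorem cls_hclo_3628 : allC (cloChk dD dC dE dCl) 3628 91 = true := by decide +kernel

set_option maxRecDepth 1000000 in
theorem cls_hclo_3629 : allC (cloChk dD dC dE dCl) 3629 91 = true := by decide +kernel

set_option maxRecDepth 1000000 in
theorem cls_hclo_3630 : allC (cloChk dD dC dE dCl) 3630 91 = true := by decide +kernel

set_option maxRecDepth 1000000 in
theorem cls_hclo_3631 : allC (cloChk dD dC dE dCl) 3631 91 = true := by decide +kernel

set_option maxRecDepth 1000000 in
theorem cls_hclo_3632 : allC (cloChk dD dC dE dCl) 3632 91 = true := by decide +kernel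

set_option maxRecDepth 1000000 in
theorem cls_hclo_3633 : allC (cloChk dD dC dE dCl) 3633 91 = true := by decide +kernel

set_option maxRecDepth 1000000 in
theorem cls_hclo_3634 : allC (cloChk dD dC dE dCl) 3634 91 = true := by decide +kernel

set_option maxRecDepth 1000000 in
theorem cls_hclo_3635 : allC (cloChk dD dC dE dCl) 3635 91 = true := by decide +kernel

set_option maxRecDepth 1000000 in
theorem cls_hclo_3636 : allC (cloChk dD dC dE dCl) 3636 91 = true := by decide +kernel

set_option maxRecDepth 1000000 in
theorem cls_hclo_3637 : allC (cloChk dD dC dE dCl) 3637 91 = true := by decide +kernel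

set_option maxRecDepth 1000000 in
theorem cls_hclo_3638 : allC (cloChk dD dC dE dCl) 3638 91 = true := by decide +kernel

set_option maxRecDepth 1000000 in
theorem cls_hclo_3639 : allC (cloChk dD dC dE dCl) 3639 91 = true := by decide +kernel

set_option maxRecDepth 1000000 in
theorem cls_hclo_3640 : allC (cloChk dD dC dE dCl) 3640 91 = true := by decide +kernel

set_option maxRecDepth 1000000 in
theorem cls_hclo_3641 : allC (cloChk dD dC dE dCl) 3641 91 = true := by decide +kernel

set_option maxRecDepth 1000000 in
theorem cls_hclo_3642 : allC (cloChk dD dC dE dCl) 3642 91 = true := by decide +kernel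

set_option maxRecDepth 1000000 in
theorem cls_hclo_3643 : allC (cloChk dD dC dE dCl) 3643 91 = true := by decide +kernel

set_option maxRecDepth 1000000 in
theorem cls_hclo_3644 : allC (cloChk dD dC dE dCl) 3644 91 = true := by decide +kernel

set_option maxRecDepth 1000000 in
theorem cls_hclo_3645 : allC (cloChk dD dC dE dCl) 3645 91 = true := by decide +kernel

set_option maxRecDepth 1000000 in
theorem cls_hclo_3646 : allC (cloChk dD dC dE dCl) 3646 91 = true := by decide +kernel

set_option maxRecDepth 1000000 in
theorem cls_hclo_3647 : allC (cloChk dD dC dE dCl) 3647 91 = true := by decide +kernel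

set_option maxRecDepth 1000000 in
theorem cls_hclo_3648 : allC (cloChk dD dC dE dCl) 3648 91 = true := by decide +kernel

set_option maxRecDepth 1000000 in
theorem cls_hclo_3649 : allC (cloChk dD dC dE dCl) 3649 91 = true := by decide +kernel

set_option maxRecDepth 1000000 in
theorem cls_hclo_3650 : allC (cloChk dD dC dE dCl) 3650 91 = true := by decide +kernel

set_option maxRecDepth 1000000 in
theorem cls_hclo_3651 : allC (cloChk dD dC dE dCl) 3651 91 = true := by decide +kernel

set_option maxRecDepth 1000000 in
theorem cls_hclo_3652 : allC (cloChk dD dC dE dCl) 3652 91 = true := by decide +kernel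

set_option maxRecDepth 1000000 in
theorem cls_hclo_3653 : allC (cloChk dD dC dE dCl) 3653 91 = true := by decide +kernel

set_option maxRecDepth 1000000 in
theorem cls_hclo_3654 : allC (cloChk dD dC dE dCl) 3654 91 = true := by decide +kernel

set_option maxRecDepth 1000000 in
theorem cls_hclo_3655 : allC (cloChk dD dC dE dCl) 3655 91 = true := by decide +kernel

set_option maxRecDepth 1000000 in
theorem cls_hclo_3656 : allC (cloChk dD dC dE dCl) 3656 91 = true := by decide +kernel

set_option maxRecDepth 1000000 in
theorem cls_hclo_3657 : allC (cloChk dD dC dE dCl) 3657 91 = true := by decide +kernel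

set_option maxRecDepth 1000000 in
theorem cls_hclo_3658 : allC (cloChk dD dC dE dCl) 3658 91 = true := by decide +kernel

set_option maxRecDepth 1000000 in
theorem cls_hclo_3659 : allC (cloChk dD dC dE dCl) 3659 91 = true := by decide +kernel

set_option maxRecDepth 1000000 in
theorem cls_hclo_3660 : allC (cloChk dD dC dE dCl) 3660 91 = true := by decide +kernel

set_option maxRecDepth 1000000 in
theorem cls_hclo_3661 : allC (cloChk dD dC dE dCl) 3661 91 = true := by decide +kernel

set_option maxRecDepth 1000000 in
theorem cls_hclo_3662 : allC (cloChk dD dC dE dCl) 3662 91 = true := by decide +kernel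

set_option maxRecDepth 1000000 in
theorem cls_hclo_3663 : allC (cloChk dD dC dE dCl) 3663 91 = true := by decide +kernel

set_option maxRecDepth 1000000 in
theorem cls_hclo_3664 : allC (cloChk dD dC dE dCl) 3664 91 = true := by decide +kernel

set_option maxRecDepth 1000000 in
theorem cls_hclo_3665 : allC (cloChk dD dC dE dCl) 3665 91 = true := by decide +kernel

set_option maxRecDepth 1000000 in
theorem cls_hclo_3666 : allC (cloChk dD dC dE dCl) 3666 91 = true := by decide +kernel

set_option maxRecDepth 1000000 in
theorem cls_hclo_3667 : allC (cloChk dD dC dE dCl) 3667 91 = true := by decide +kernel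

set_option maxRecDepth 1000000 in
theorem cls_hclo_3668 : allC (cloChk dD dC dE dCl) 3668 91 = true := by decide +kernel

set_option maxRecDepth 1000000 in
theorem cls_hclo_3669 : allC (cloChk dD dC dE dCl) 3669 91 = true := by decide +kernel

set_option maxRecDepth 1000000 in
theorem cls_hclo_3670 : allC (cloChk dD dC dE dCl) 3670 91 = true := by decide +kernel

set_option maxRecDepth 1000000 in
theorem cls_hclo_3671 : allC (cloChk dD dC dE dCl) 3671 91 = true := by decide +kernel

set_option maxRecDepth 1000000 in
theorem cls_hclo_3672 : allC (cloChk dD dC dE dCl) 3672 91 = true := by decide +kernel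

set_option maxRecDepth 1000000 in
theorem cls_hclo_3673 : allC (cloChk dD dC dE dCl) 3673 91 = true := by decide +kernel

set_option maxRecDepth 1000000 in
theorem cls_hclo_3674 : allC (cloChk dD dC dE dCl) 3674 91 = true := by decide +kernel

set_option maxRecDepth 1000000 in
theorem cls_hclo_3675 : allC (cloChk dD dC dE dCl) 3675 91 = true := by decide +kernel

set_option maxRecDepth 1000000 in
theorem cls_hclo_3676 : allC (cloChk dD dC dE dCl) 3676 91 = true := by decide +kernel

set_option maxRecDepth 1000000 in
theorem cls_hclo_3677 : allC (cloChk dD dC dE dCl) 3677 91 = true := by decide +kernel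

set_option maxRecDepth 1000000 in
theorem cls_hclo_3678 : allC (cloChk dD dC dE dCl) 3678 91 = true := by decide +kernel

set_option maxRecDepth 1000000 in
theorem cls_hclo_3679 : allC (cloChk dD dC dE dCl) 3679 91 = true := by decide +kernel

set_option maxRecDepth 1000000 in
theorem cls_hclo_3680 : allC (cloChk dD dC dE dCl) 3680 91 = true := by decide +kernel

set_option maxRecDepth 1000000 in
theorem cls_hclo_3681 : allC (cloChk dD dC dE dCl) 3681 91 = true := by decide +kernel

set_option maxRecDepth 1000000 in
theorem cls_hclo_3682 : allC (cloChk dD dC dE dCl) 3682 91 = true := by decide +kernel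

set_option maxRecDepth 1000000 in
theorem cls_hclo_3683 : allC (cloChk dD dC dE dCl) 3683 91 = true := by decide +kernel

set_option maxRecDepth 1000000 in
theorem cls_hclo_3684 : allC (cloChk dD dC dE dCl) 3684 91 = true := by decide +kernel

set_option maxRecDepth 1000000 in
theorem cls_hclo_3685 : allC (cloChk dD dC dE dCl) 3685 91 = true := by decide +kernel

set_option maxRecDepth 1000000 in
theorem cls_hclo_3686 : allC (cloChk dD dC dE dCl) 3686 91 = true := by decide +kernel

set_option maxRecDepth 1000000 in
theorem cls_hclo_3687 : allC (cloChk dD dC dE dCl) 3687 91 = true := by decide +kernel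

set_option maxRecDepth 1000000 in
theorem cls_hclo_3688 : allC (cloChk dD dC dE dCl) 3688 91 = true := by decide +kernel

set_option maxRecDepth 1000000 in
theorem cls_hclo_3689 : allC (cloChk dD dC dE dCl) 3689 91 = true := by decide +kernel

set_option maxRecDepth 1000000 in
theorem cls_hclo_3690 : allC (cloChk dD dC dE dCl) 3690 91 = true := by decide +kernel

set_option maxRecDepth 1000000 in
theorem cls_hclo_3691 : allC (cloChk dD dC dE dCl) 3691 91 = true := by decide +kernel

set_option maxRecDepth 1000000 in
theorem cls_hclo_3692 : allC (cloChk dD dC dE dCl) 3692 91 = true := by decide +kernel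

set_option maxRecDepth 1000000 in
theorem cls_hclo_3693 : allC (cloChk dD dC dE dCl) 3693 91 = true := by decide +kernel

set_option maxRecDepth 1000000 in
theorem cls_hclo_3694 : allC (cloChk dD dC dE dCl) 3694 91 = true := by decide +kernel

set_option maxRecDepth 1000000 in
theorem cls_hclo_3695 : allC (cloChk dD dC dE dCl) 3695 91 = true := by decide +kernel

set_option maxRecDepth 1000000 in
theorem cls_hclo_3696 : allC (cloChk dD dC dE dCl) 3696 91 = true := by decide +kernel

set_option maxRecDepth 1000000 in
theorem cls_hclo_3697 : allC (cloChk dD dC dE dCl) 3697 91 = true := by decide +kernel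

set_option maxRecDepth 1000000 in
theorem cls_hclo_3698 : allC (cloChk dD dC dE dCl) 3698 91 = true := by decide +kernel

set_option maxRecDepth 1000000 in
theorem cls_hclo_3699 : allC (cloChk dD dC dE dCl) 3699 91 = true := by decide +kernel

end Cfsg.Agent.Helper9.RuO

end
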