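import Mathlib
import Cfsg.Agent.Helper9.RuO.Data

set_option autoImplicit false

/-! Kernel checks of the certificates, a part. -/

noncomputable section

namespace Cfsg.Agent.Helper9.RuO

open Cfsg.Agent.Helper9.OutG Cfsg.Agent.Helper9.J3

set_option maxRecDepth 1000000 in
theorem cls_hclo_3700 : allC (cloChk dD dC dE dCl) 3700 91 = true := by decide +kernel

set_option maxRecDepth 1000000 in
theorem cls_hclo_3701 : allC (cloChk dD dC dE dCl) 3701 91 = true := by decide +kernel

set_option maxRecDepth 1000000 in
theorem cls_hclo_3702 : allC (cloChk dD dC dE dCl) 3702 91 = true := by decide +kernel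

set_option maxRecDepth 1000000 in
theorem cls_hclo_3703 : allC (cloChk dD dC dE dCl) 3703 91 = true := by decide +kernel

set_option maxRecDepth 1000000 in
theorem cls_hclo_3704 : allC (cloChk dD dC dE dCl) 3704 91 = true := by decide +kernel

set_option maxRecDepth 1000000 in
theorem cls_hclo_3705 : allC (cloChk dD dC dE dCl) 3705 91 = true := by decide +kernel

set_option maxRecDepth 1000000 in
theorem cls_hclo_3706 : allC (cloChk dD dC dE dCl) 3706 91 = true := by decide +kernel

set_option maxRecDepth 1000000 in
theorem cls_hclo_3707 : allC (cloChk dD dC dE dCl) 3707 91 = true := by decide +kernel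

set_option maxRecDepth 1000000 in
theorem cls_hclo_3708 : allC (cloChk dD dC dE dCl) 3708 91 = true := by decide +kernel

set_option maxRecDepth 1000000 in
theorem cls_hclo_3709 : allC (cloChk dD dC dE dCl) 3709 91 = true := by decide +kernel

set_option maxRecDepth 1000000 in
theorem cls_hclo_3710 : allC (cloChk dD dC dE dCl) 3710 91 = true := by decide +kernel

set_option maxRecDepth 1000000 in
theorem cls_hclo_3711 : allC (cloChk dD dC dE dCl) 3711 91 = true := by decide +kernel

set_option maxRecDepth 1000000 in
theorem cls_hclo_3712 : allC (cloChk dD dC dE dCl) 3712 91 = true := by decide +kernel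

set_option maxRecDepth 1000000 in
theorem cls_hclo_3713 : allC (cloChk dD dC dE dCl) 3713 91 = true := by decide +kernel

set_option maxRecDepth 1000000 in
theorem cls_hclo_3714 : allC (cloChk dD dC dE dCl) 3714 91 = true := by decide +kernel

set_option maxRecDepth 1000000 in
theorem cls_hclo_3715 : allC (cloChk dD dC dE dCl) 3715 91 = true := by decide +kernel

set_option maxRecDepth 1000000 in
theorem cls_hclo_3716 : allC (cloChk dD dC dE dCl) 3716 91 = true := by decide +kernel

set_option maxRecDepth 1000000 in
theorem cls_hclo_3717 : allC (cloChk dD dC dE dCl) 3717 91 = true := by decide +kernel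

set_option maxRecDepth 1000000 in
theorem cls_hclo_3718 : allC (cloChk dD dC dE dCl) 3718 91 = true := by decide +kernel

set_option maxRecDepth 1000000 in
theorem cls_hclo_3719 : allC (cloChk dD dC dE dCl) 3719 91 = true := by decide +kernel

set_option maxRecDepth 1000000 in
theorem cls_hclo_3720 : allC (cloChk dD dC dE dCl) 3720 91 = true := by decide +kernel

set_option maxRecDepth 1000000 in
theorem cls_hclo_3721 : allC (cloChk dD dC dE dCl) 3721 91 = true := by decide +kernel

set_option maxRecDepth 1000000 in
theorem cls_hclo_3722 : allC (cloChk dD dC dE dCl) 3722 91 = true := by decide +kernel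

set_option maxRecDepth 1000000 in
theorem cls_hclo_3723 : allC (cloChk dD dC dE dCl) 3723 91 = true := by decide +kernel

set_option maxRecDepth 1000000 in
theorem cls_hclo_3724 : allC (cloChk dD dC dE dCl) 3724 91 = true := by decide +kernel

set_option maxRecDepth 1000000 in
theorem cls_hclo_3725 : allC (cloChk dD dC dE dCl) 3725 91 = true := by decide +kernel

set_option maxRecDepth 1000000 in
theorem cls_hclo_3726 : allC (cloChk dD dC dE dCl) 3726 91 = true := by decide +kernel

set_option maxRecDepth 1000000 in
theorem cls_hclo_3727 : allC (cloChk dD dC dE dCl) 3727 91 = true := by decide +kernel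

set_option maxRecDepth 1000000 in
theorem cls_hclo_3728 : allC (cloChk dD dC dE dCl) 3728 91 = true := by decide +kernel

set_option maxRecDepth 1000000 in
theorem cls_hclo_3729 : allC (cloChk dD dC dE dCl) 3729 91 = true := by decide +kernel

set_option maxRecDepth 1000000 in
theorem cls_hclo_3730 : allC (cloChk dD dC dE dCl) 3730 91 = true := by decide +kernel

set_option maxRecDepth 1000000 in
theorem cls_hclo_3731 : allC (cloChk dD dC dE dCl) 3731 91 = true := by decide +kernel

set_option maxRecDepth 1000000 in
theorem cls_hclo_3732 : allC (cloChk dD dC dE dCl) 3732 91 = true := by decide +kernel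

set_option maxRecDepth 1000000 in
theorem cls_hclo_3733 : allC (cloChk dD dC dE dCl) 3733 91 = true := by decide +kernel

set_option maxRecDepth 1000000 in
theorem cls_hclo_3734 : allC (cloChk dD dC dE dCl) 3734 91 = true := by decide +kernel

set_option maxRecDepth 1000000 in
theorem cls_hclo_3735 : allC (cloChk dD dC dE dCl) 3735 91 = true := by decide +kernel

set_option maxRecDepth 1000000 in
theorem cls_hclo_3736 : allC (cloChk dD dC dE dCl) 3736 91 = true := by decide +kernel

set_option maxRecDepth 1000000 in
theorem cls_hclo_3737 : allC (cloChk dD dC dE dCl) 3737 91 = true := by decide +kernel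

set_option maxRecDepth 1000000 in
theorem cls_hclo_3738 : allC (cloChk dD dC dE dCl) 3738 91 = true := by decide +kernel

set_option maxRecDepth 1000000 in
theorem cls_hclo_3739 : allC (cloChk dD dC dE dCl) 3739 91 = true := by decide +kernel

set_option maxRecDepth 1000000 in
theorem cls_hclo_3740 : allC (cloChk dD dC dE dCl) 3740 91 = true := by decide +kernel

set_option maxRecDepth 1000000 in
theorem cls_hclo_3741 : allC (cloChk dD dC dE dCl) 3741 91 = true := by decide +kernel

set_option maxRecDepth 1000000 in
theorem cls_hclo_3742 : allC (cloChk dD dC dE dCl) 3742 91 = true := by decide +kernel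

set_option maxRecDepth 1000000 in
theorem cls_hclo_3743 : allC (cloChk dD dC dE dCl) 3743 91 = true := by decide +kernel

set_option maxRecDepth 1000000 in
theorem cls_hclo_3744 : allC (cloChk dD dC dE dCl) 3744 91 = true := by decide +kernel

set_option maxRecDepth 1000000 in
theorem cls_hclo_3745 : allC (cloChk dD dC dE dCl) 3745 91 = true := by decide +kernel

set_option maxRecDepth 1000000 in
theorem cls_hclo_3746 : allC (cloChk dD dC dE dCl) 3746 91 = true := by decide +kernel

set_option maxRecDepth 1000000 in
theorem cls_hclo_3747 : allC (cloChk dD dC dE dCl) 3747 91 = true := by decide +kernel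

set_option maxRecDepth 1000000 in
theorem cls_hclo_3748 : allC (cloChk dD dC dE dCl) 3748 91 = true := by decide +kernel

set_option maxRecDepth 1000000 in
theorem cls_hclo_3749 : allC (cloChk dD dC dE dCl) 3749 91 = true := by decide +kernel

set_option maxRecDepth 1000000 in
theorem cls_hclo_3750 : allC (cloChk dD dC dE dCl) 3750 91 = true := by decide +kernel

set_option maxRecDepth 1000000 in
theorem cls_hclo_3751 : allC (cloChk dD dC dE dCl) 3751 91 = true := by decide +kernel

set_option maxRecDepth 1000000 in
theorem cls_hclo_3752 : allC (cloChk dD dC dE dCl) 3752 91 = true := by decide +kernel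

set_option maxRecDepth 1000000 in
theorem cls_hclo_3753 : allC (cloChk dD dC dE dCl) 3753 91 = true := by decide +kernel

set_option maxRecDepth 1000000 in
theorem cls_hclo_3754 : allC (cloChk dD dC dE dCl) 3754 91 = true := by decide +kernel

set_option maxRecDepth 1000000 in
theorem cls_hclo_3755 : allC (cloChk dD dC dE dCl) 3755 91 = true := by decide +kernel

set_option maxRecDepth 1000000 in
theorem cls_hclo_3756 : allC (cloChk dD dC dE dCl) 3756 91 = true := by decide +kernel

set_option maxRecDepth 1000000 in
theorem cls_hclo_3757 : allC (cloChk dD dC dE dCl) 3757 91 = true := by decide +kernel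

set_option maxRecDepth 1000000 in
theorem cls_hclo_3758 : allC (cloChk dD dC dE dCl) 3758 91 = true := by decide +kernel

set_option maxRecDepth 1000000 in
theorem cls_hclo_3759 : allC (cloChk dD dC dE dCl) 3759 91 = true := by decide +kernel

set_option maxRecDepth 1000000 in
theorem cls_hclo_3760 : allC (cloChk dD dC dE dCl) 3760 91 = true := by decide +kernel

set_option maxRecDepth 1000000 in
theorem cls_hclo_3761 : allC (cloChk dD dC dE dCl) 3761 91 = true := by decide +kernel

set_option maxRecDepth 1000000 in
theorem cls_hclo_3762 : allC (cloChk dD dC dE dCl) 3762 91 = true := by decide +kernel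

set_option maxRecDepth 1000000 in
theorem cls_hclo_3763 : allC (cloChk dD dC dE dCl) 3763 91 = true := by decide +kernel

set_option maxRecDepth 1000000 in
theorem cls_hclo_3764 : allC (cloChk dD dC dE dCl) 3764 91 = true := by decide +kernel

set_option maxRecDepth 1000000 in
theorem cls_hclo_3765 : allC (cloChk dD dC dE dCl) 3765 91 = true := by decide +kernel

set_option maxRecDepth 1000000 in
theorem cls_hclo_3766 : allC (cloChk dD dC dE dCl) 3766 91 = true := by decide +kernel

set_option maxRecDepth 1000000 in
theorem cls_hclo_3767 : allC (cloChk dD dC dE dCl) 3767 91 = true := by decide +kernel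

set_option maxRecDepth 1000000 in
theorem cls_hclo_3768 : allC (cloChk dD dC dE dCl) 3768 91 = true := by decide +kernel

set_option maxRecDepth 1000000 in
theorem cls_hclo_3769 : allC (cloChk dD dC dE dCl) 3769 91 = true := by decide +kernel

set_option maxRecDepth 1000000 in
theorem cls_hclo_3770 : allC (cloChk dD dC dE dCl) 3770 91 = true := by decide +kernel

set_option maxRecDepth 1000000 in
theorem cls_hclo_3771 : allC (cloChk dD dC dE dCl) 3771 91 = true := by decide +kernel

set_option maxRecDepth 1000000 in
theorem cls_hclo_3772 : allC (cloChk dD dC dE dCl) 3772 91 = true := by decide +kernel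

set_option maxRecDepth 1000000 in
theorem cls_hclo_3773 : allC (cloChk dD dC dE dCl) 3773 91 = true := by decide +kernel

set_option maxRecDepth 1000000 in
theorem cls_hclo_3774 : allC (cloChk dD dC dE dCl) 3774 91 = true := by decide +kernel

set_option maxRecDepth 1000000 in
theorem cls_hclo_3775 : allC (cloChk dD dC dE dCl) 3775 91 = true := by decide +kernel

set_option maxRecDepth 1000000 in
theorem cls_hclo_3776 : allC (cloChk dD dC dE dCl) 3776 91 = true := by decide +kernel

set_option maxRecDepth 1000000 in
theorem cls_hclo_3777 : allC (cloChk dD dC dE dCl) 3777 91 = true := by decide +kernel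

set_option maxRecDepth 1000000 in
theorem cls_hclo_3778 : allC (cloChk dD dC dE dCl) 3778 91 = true := by decide +kernel

set_option maxRecDepth 1000000 in
theorem cls_hclo_3779 : allC (cloChk dD dC dE dCl) 3779 91 = true := by decide +kernel

set_option maxRecDepth 1000000 in
theorem cls_hclo_3780 : allC (cloChk dD dC dE dCl) 3780 91 = true := by decide +kernel

set_option maxRecDepth 1000000 in
theorem cls_hclo_3781 : allC (cloChk dD dC dE dCl) 3781 91 = true := by decide +kernel

set_option maxRecDepth 1000000 in
theorem cls_hclo_3782 : allC (cloChk dD dC dE dCl) 3782 91 = true := by decide +kernel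

set_option maxRecDepth 1000000 in
theorem cls_hclo_3783 : allC (cloChk dD dC dE dCl) 3783 91 = true := by decide +kernel

set_option maxRecDepth 1000000 in
theorem cls_hclo_3784 : allC (cloChk dD dC dE dCl) 3784 91 = true := by decide +kernel

set_option maxRecDepth 1000000 in
theorem cls_hclo_3785 : allC (cloChk dD dC dE dCl) 3785 91 = true := by decide +kernel

set_option maxRecDepth 1000000 in
theorem cls_hclo_3786 : allC (cloChk dD dC dE dCl) 3786 91 = true := by decide +kernel

set_option maxRecDepth 1000000 in
theorem cls_hclo_3787 : allC (cloChk dD dC dE dCl) 3787 91 = true := by decide +kernel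

set_option maxRecDepth 1000000 in
theorem cls_hclo_3788 : allC (cloChk dD dC dE dCl) 3788 91 = true := by decide +kernel

set_option maxRecDepth 1000000 in
theorem cls_hclo_3789 : allC (cloChk dD dC dE dCl) 3789 91 = true := by decide +kernel

set_option maxRecDepth 1000000 in
theorem cls_hclo_3790 : allC (cloChk dD dC dE dCl) 3790 91 = true := by decide +kernel

set_option maxRecDepth 1000000 in
theorem cls_hclo_3791 : allC (cloChk dD dC dE dCl) 3791 91 = true := by decide +kernel

set_option maxRecDepth 1000000 in
theorem cls_hclo_3792 : allC (cloChk dD dC dE dCl) 3792 91 = true := by decide +kernel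

set_option maxRecDepth 1000000 in
theorem cls_hclo_3793 : allC (cloChk dD dC dE dCl) 3793 91 = true := by decide +kernel

set_option maxRecDepth 1000000 in
theorem cls_hclo_3794 : allC (cloChk dD dC dE dCl) 3794 91 = true := by decide +kernel

set_option maxRecDepth 1000000 in
theorem cls_hclo_3795 : allC (cloChk dD dC dE dCl) 3795 91 = true := by decide +kernel

set_option maxRecDepth 1000000 in
theorem cls_hclo_3796 : allC (cloChk dD dC dE dCl) 3796 91 = true := by decide +kernel

set_option maxRecDepth 1000000 in
theorem cls_hclo_3797 : allC (cloChk dD dC dE dCl) 3797 91 = true := by decide +kernel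

set_option maxRecDepth 1000000 in
theorem cls_hclo_3798 : allC (cloChk dD dC dE dCl) 3798 91 = true := by decide +kernel

set_option maxRecDepth 1000000 in
theorem cls_hclo_3799 : allC (cloChk dD dC dE dCl) 3799 91 = true := by decide +kernel

end Cfsg.Agent.Helper9.RuO

end
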