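import Mathlib
import Cfsg.Agent.Helper9.RuO.Data

set_option autoImplicit false

/-! Kernel checks of the certificates, a part. -/

noncomputable section

namespace Cfsg.Agent.Helper9.RuO

open Cfsg.Agent.Helper9.OutG Cfsg.Agent.Helper9.J3

set_option maxRecDepth 1000000 in
theorem cls_hclo_3900 : allC (cloChk dD dC dE dCl) 3900 91 = true := by decide +kernel

set_option maxRecDepth 1000000 in
theorem cls_hclo_3901 : allC (cloChk dD dC dE dCl) 3901 91 = true := by decide +kernel

set_option maxRecDepth 1000000 in
theorem cls_hclo_3902 : allC (cloChk dD dC dE dCl) 3902 91 = true := by decide +kernel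

set_option maxRecDepth 1000000 in
theorem cls_hclo_3903 : allC (cloChk dD dC dE dCl) 3903 91 = true := by decide +kernel

set_option maxRecDepth 1000000 in
theorem cls_hclo_3904 : allC (cloChk dD dC dE dCl) 3904 91 = true := by decide +kernel

set_option maxRecDepth 1000000 in
theorem cls_hclo_3905 : allC (cloChk dD dC dE dCl) 3905 91 = true := by decide +kernel

set_option maxRecDepth 1000000 in
theorem cls_hclo_3906 : allC (cloChk dD dC dE dCl) 3906 91 = true := by decide +kernel

set_option maxRecDepth 1000000 in
theorem cls_hclo_3907 : allC (cloChk dD dC dE dCl) 3907 91 = true := by decide +kernel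

set_option maxRecDepth 1000000 in
theorem cls_hclo_3908 : allC (cloChk dD dC dE dCl) 3908 91 = true := by decide +kernel

set_option maxRecDepth 1000000 in
theorem cls_hclo_3909 : allC (cloChk dD dC dE dCl) 3909 91 = true := by decide +kernel

set_option maxRecDepth 1000000 in
theorem cls_hclo_3910 : allC (cloChk dD dC dE dCl) 3910 91 = true := by decide +kernel

set_option maxRecDepth 1000000 in
theorem cls_hclo_3911 : allC (cloChk dD dC dE dCl) 3911 91 = true := by decide +kernel

set_option maxRecDepth 1000000 in
theorem cls_hclo_3912 : allC (cloChk dD dC dE dCl) 3912 91 = true := by decide +kernel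

set_option maxRecDepth 1000000 in
theorem cls_hclo_3913 : allC (cloChk dD dC dE dCl) 3913 91 = true := by decide +kernel

set_option maxRecDepth 1000000 in
theorem cls_hclo_3914 : allC (cloChk dD dC dE dCl) 3914 91 = true := by decide +kernel

set_option maxRecDepth 1000000 in
theorem cls_hclo_3915 : allC (cloChk dD dC dE dCl) 3915 91 = true := by decide +kernel

set_option maxRecDepth 1000000 in
theorem cls_hclo_3916 : allC (cloChk dD dC dE dCl) 3916 91 = true := by decide +kernel

set_option maxRecDepth 1000000 in
theorem cls_hclo_3917 : allC (cloChk dD dC dE dCl) 3917 91 = true := by decide +kernel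

set_option maxRecDepth 1000000 in
theorem cls_hclo_3918 : allC (cloChk dD dC dE dCl) 3918 91 = true := by decide +kernel

set_option maxRecDepth 1000000 in
theorem cls_hclo_3919 : allC (cloChk dD dC dE dCl) 3919 91 = true := by decide +kernel

set_option maxRecDepth 1000000 in
theorem cls_hclo_3920 : allC (cloChk dD dC dE dCl) 3920 91 = true := by decide +kernel

set_option maxRecDepth 1000000 in
theorem cls_hclo_3921 : allC (cloChk dD dC dE dCl) 3921 91 = true := by decide +kernel

set_option maxRecDepth 1000000 in
theorem cls_hclo_3922 : allC (cloChk dD dC dE dCl) 3922 91 = true := by decide +kernel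

set_option maxRecDepth 1000000 in
theorem cls_hclo_3923 : allC (cloChk dD dC dE dCl) 3923 91 = true := by decide +kernel

set_option maxRecDepth 1000000 in
theorem cls_hclo_3924 : allC (cloChk dD dC dE dCl) 3924 91 = true := by decide +kernel

set_option maxRecDepth 1000000 in
theorem cls_hclo_3925 : allC (cloChk dD dC dE dCl) 3925 91 = true := by decide +kernel

set_option maxRecDepth 1000000 in
theorem cls_hclo_3926 : allC (cloChk dD dC dE dCl) 3926 91 = true := by decide +kernel

set_option maxRecDepth 1000000 in
theorem cls_hclo_3927 : allC (cloChk dD dC dE dCl) 3927 91 = true := by decide +kernel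

set_option maxRecDepth 1000000 in
theorem cls_hclo_3928 : allC (cloChk dD dC dE dCl) 3928 91 = true := by decide +kernel

set_option maxRecDepth 1000000 in
theorem cls_hclo_3929 : allC (cloChk dD dC dE dCl) 3929 91 = true := by decide +kernel

set_option maxRecDepth 1000000 in
theorem cls_hclo_3930 : allC (cloChk dD dC dE dCl) 3930 91 = true := by decide +kernel

set_option maxRecDepth 1000000 in
theorem cls_hclo_3931 : allC (cloChk dD dC dE dCl) 3931 91 = true := by decide +kernel

set_option maxRecDepth 1000000 in
theorem cls_hclo_3932 : allC (cloChk dD dC dE dCl) 3932 91 = true := by decide +kernel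

set_option maxRecDepth 1000000 in
theorem cls_hclo_3933 : allC (cloChk dD dC dE dCl) 3933 91 = true := by decide +kernel

set_option maxRecDepth 1000000 in
theorem cls_hclo_3934 : allC (cloChk dD dC dE dCl) 3934 91 = true := by decide +kernel

set_option maxRecDepth 1000000 in
theorem cls_hclo_3935 : allC (cloChk dD dC dE dCl) 3935 91 = true := by decide +kernel

set_option maxRecDepth 1000000 in
theorem cls_hclo_3936 : allC (cloChk dD dC dE dCl) 3936 91 = true := by decide +kernel

set_option maxRecDepth 1000000 in
theorem cls_hclo_3937 : allC (cloChk dD dC dE dCl) 3937 91 = true := by decide +kernel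

set_option maxRecDepth 1000000 in
theorem cls_hclo_3938 : allC (cloChk dD dC dE dCl) 3938 91 = true := by decide +kernel

set_option maxRecDepth 1000000 in
theorem cls_hclo_3939 : allC (cloChk dD dC dE dCl) 3939 91 = true := by decide +kernel

set_option maxRecDepth 1000000 in
theorem cls_hclo_3940 : allC (cloChk dD dC dE dCl) 3940 91 = true := by decide +kernel

set_option maxRecDepth 1000000 in
theorem cls_hclo_3941 : allC (cloChk dD dC dE dCl) 3941 91 = true := by decide +kernel

set_option maxRecDepth 1000000 in
theorem cls_hclo_3942 : allC (cloChk dD dC dE dCl) 3942 91 = true := by decide +kernel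

set_option maxRecDepth 1000000 in
theorem cls_hclo_3943 : allC (cloChk dD dC dE dCl) 3943 91 = true := by decide +kernel

set_option maxRecDepth 1000000 in
theorem cls_hclo_3944 : allC (cloChk dD dC dE dCl) 3944 91 = true := by decide +kernel

set_option maxRecDepth 1000000 in
theorem cls_hclo_3945 : allC (cloChk dD dC dE dCl) 3945 91 = true := by decide +kernel

set_option maxRecDepth 1000000 in
theorem cls_hclo_3946 : allC (cloChk dD dC dE dCl) 3946 91 = true := by decide +kernel

set_option maxRecDepth 1000000 in
theorem cls_hclo_3947 : allC (cloChk dD dC dE dCl) 3947 91 = true := by decide +kernel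

set_option maxRecDepth 1000000 in
theorem cls_hclo_3948 : allC (cloChk dD dC dE dCl) 3948 91 = true := by decide +kernel

set_option maxRecDepth 1000000 in
theorem cls_hclo_3949 : allC (cloChk dD dC dE dCl) 3949 91 = true := by decide +kernel

set_option maxRecDepth 1000000 in
theorem cls_hclo_3950 : allC (cloChk dD dC dE dCl) 3950 91 = true := by decide +kernel

set_option maxRecDepth 1000000 in
theorem cls_hclo_3951 : allC (cloChk dD dC dE dCl) 3951 91 = true := by decide +kernel

set_option maxRecDepth 1000000 in
theorem cls_hclo_3952 : allC (cloChk dD dC dE dCl) 3952 91 = true := by decide +kernel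

set_option maxRecDepth 1000000 in
theorem cls_hclo_3953 : allC (cloChk dD dC dE dCl) 3953 91 = true := by decide +kernel

set_option maxRecDepth 1000000 in
theorem cls_hclo_3954 : allC (cloChk dD dC dE dCl) 3954 91 = true := by decide +kernel

set_option maxRecDepth 1000000 in
theorem cls_hclo_3955 : allC (cloChk dD dC dE dCl) 3955 91 = true := by decide +kernel

set_option maxRecDepth 1000000 in
theorem cls_hclo_3956 : allC (cloChk dD dC dE dCl) 3956 91 = true := by decide +kernel

set_option maxRecDepth 1000000 in
theorem cls_hclo_3957 : allC (cloChk dD dC dE dCl) 3957 91 = true := by decide +kernel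

set_option maxRecDepth 1000000 in
theorem cls_hclo_3958 : allC (cloChk dD dC dE dCl) 3958 91 = true := by decide +kernel

set_option maxRecDepth 1000000 in
theorem cls_hclo_3959 : allC (cloChk dD dC dE dCl) 3959 91 = true := by decide +kernel

set_option maxRecDepth 1000000 in
theorem cls_hclo_3960 : allC (cloChk dD dC dE dCl) 3960 91 = true := by decide +kernel

set_option maxRecDepth 1000000 in
theorem cls_hclo_3961 : allC (cloChk dD dC dE dCl) 3961 91 = true := by decide +kernel

set_option maxRecDepth 1000000 in
theorem cls_hclo_3962 : allC (cloChk dD dC dE dCl) 3962 91 = true := by decide +kernel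

set_option maxRecDepth 1000000 in
theorem cls_hclo_3963 : allC (cloChk dD dC dE dCl) 3963 91 = true := by decide +kernel

set_option maxRecDepth 1000000 in
theorem cls_hclo_3964 : allC (cloChk dD dC dE dCl) 3964 91 = true := by decide +kernel

set_option maxRecDepth 1000000 in
theorem cls_hclo_3965 : allC (cloChk dD dC dE dCl) 3965 91 = true := by decide +kernel

set_option maxRecDepth 1000000 in
theorem cls_hclo_3966 : allC (cloChk dD dC dE dCl) 3966 91 = true := by decide +kernel

set_option maxRecDepth 1000000 in
theorem cls_hclo_3967 : allC (cloChk dD dC dE dCl) 3967 91 = true := by decide +kernel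

set_option maxRecDepth 1000000 in
theorem cls_hclo_3968 : allC (cloChk dD dC dE dCl) 3968 91 = true := by decide +kernel

set_option maxRecDepth 1000000 in
theorem cls_hclo_3969 : allC (cloChk dD dC dE dCl) 3969 91 = true := by decide +kernel

set_option maxRecDepth 1000000 in
theorem cls_hclo_3970 : allC (cloChk dD dC dE dCl) 3970 91 = true := by decide +kernel

set_option maxRecDepth 1000000 in
theorem cls_hclo_3971 : allC (cloChk dD dC dE dCl) 3971 91 = true := by decide +kernel

set_option maxRecDepth 1000000 in
theorem cls_hclo_3972 : allC (cloChk dD dC dE dCl) 3972 91 = true := by decide +kernel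

set_option maxRecDepth 1000000 in
theorem cls_hclo_3973 : allC (cloChk dD dC dE dCl) 3973 91 = true := by decide +kernel

set_option maxRecDepth 1000000 in
theorem cls_hclo_3974 : allC (cloChk dD dC dE dCl) 3974 91 = true := by decide +kernel

set_option maxRecDepth 1000000 in
theorem cls_hclo_3975 : allC (cloChk dD dC dE dCl) 3975 91 = true := by decide +kernel

set_option maxRecDepth 1000000 in
theorem cls_hclo_3976 : allC (cloChk dD dC dE dCl) 3976 91 = true := by decide +kernel

set_option maxRecDepth 1000000 in
theorem cls_hclo_3977 : allC (cloChk dD dC dE dCl) 3977 91 = true := by decide +kernel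

set_option maxRecDepth 1000000 in
theorem cls_hclo_3978 : allC (cloChk dD dC dE dCl) 3978 91 = true := by decide +kernel

set_option maxRecDepth 1000000 in
theorem cls_hclo_3979 : allC (cloChk dD dC dE dCl) 3979 91 = true := by decide +kernel

set_option maxRecDepth 1000000 in
theorem cls_hclo_3980 : allC (cloChk dD dC dE dCl) 3980 91 = true := by decide +kernel

set_option maxRecDepth 1000000 in
theorem cls_hclo_3981 : allC (cloChk dD dC dE dCl) 3981 91 = true := by decide +kernel

set_option maxRecDepth 1000000 in
theorem cls_hclo_3982 : allC (cloChk dD dC dE dCl) 3982 91 = true := by decide +kernel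

set_option maxRecDepth 1000000 in
theorem cls_hclo_3983 : allC (cloChk dD dC dE dCl) 3983 91 = true := by decide +kernel

set_option maxRecDepth 1000000 in
theorem cls_hclo_3984 : allC (cloChk dD dC dE dCl) 3984 91 = true := by decide +kernel

set_option maxRecDepth 1000000 in
theorem cls_hclo_3985 : allC (cloChk dD dC dE dCl) 3985 91 = true := by decide +kernel

set_option maxRecDepth 1000000 in
theorem cls_hclo_3986 : allC (cloChk dD dC dE dCl) 3986 91 = true := by decide +kernel

set_option maxRecDepth 1000000 in
theorem cls_hclo_3987 : allC (cloChk dD dC dE dCl) 3987 91 = true := by decide +kernel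

set_option maxRecDepth 1000000 in
theorem cls_hclo_3988 : allC (cloChk dD dC dE dCl) 3988 91 = true := by decide +kernel

set_option maxRecDepth 1000000 in
theorem cls_hclo_3989 : allC (cloChk dD dC dE dCl) 3989 91 = true := by decide +kernel

set_option maxRecDepth 1000000 in
theorem cls_hclo_3990 : allC (cloChk dD dC dE dCl) 3990 91 = true := by decide +kernel

set_option maxRecDepth 1000000 in
theorem cls_hclo_3991 : allC (cloChk dD dC dE dCl) 3991 91 = true := by decide +kernel

set_option maxRecDepth 1000000 in
theorem cls_hclo_3992 : allC (cloChk dD dC dE dCl) 3992 91 = true := by decide +kernel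

set_option maxRecDepth 1000000 in
theorem cls_hclo_3993 : allC (cloChk dD dC dE dCl) 3993 91 = true := by decide +kernel

set_option maxRecDepth 1000000 in
theorem cls_hclo_3994 : allC (cloChk dD dC dE dCl) 3994 91 = true := by decide +kernel

set_option maxRecDepth 1000000 in
theorem cls_hclo_3995 : allC (cloChk dD dC dE dCl) 3995 91 = true := by decide +kernel

set_option maxRecDepth 1000000 in
theorem cls_hclo_3996 : allC (cloChk dD dC dE dCl) 3996 91 = true := by decide +kernel

set_option maxRecDepth 1000000 in
theorem cls_hclo_3997 : allC (cloChk dD dC dE dCl) 3997 91 = true := by decide +kernel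

set_option maxRecDepth 1000000 in
theorem cls_hclo_3998 : allC (cloChk dD dC dE dCl) 3998 91 = true := by decide +kernel

set_option maxRecDepth 1000000 in
theorem cls_hclo_3999 : allC (cloChk dD dC dE dCl) 3999 91 = true := by decide +kernel

end Cfsg.Agent.Helper9.RuO

end
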