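import Mathlib
import Cfsg.Agent.Helper9.RuO.Data

set_option autoImplicit false

/-! Kernel checks of the certificates, a part. -/

noncomputable section

namespace Cfsg.Agent.Helper9.RuO

open Cfsg.Agent.Helper9.OutG Cfsg.Agent.Helper9.J3

set_option maxRecDepth 1000000 in
theorem cls_hclo_400 : allC (cloChk dD dC dE dCl) 400 91 = true := by decide +kernel

set_option maxRecDepth 1000000 in
theorem cls_hclo_401 : allC (cloChk dD dC dE dCl) 401 91 = true := by decide +kernel

set_option maxRecDepth 1000000 in
theorem cls_hclo_402 : allC (cloChk dD dC dE dCl) 402 91 = true := by decide +kernel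

set_option maxRecDepth 1000000 in
theorem cls_hclo_403 : allC (cloChk dD dC dE dCl) 403 91 = true := by decide +kernel

set_option maxRecDepth 1000000 in
theorem cls_hclo_404 : allC (cloChk dD dC dE dCl) 404 91 = true := by decide +kernel

set_option maxRecDepth 1000000 in
theorem cls_hclo_405 : allC (cloChk dD dC dE dCl) 405 91 = true := by decide +kernel

set_option maxRecDepth 1000000 in
theorem cls_hclo_406 : allC (cloChk dD dC dE dCl) 406 91 = true := by decide +kernel

set_option maxRecDepth 1000000 in
theorem cls_hclo_407 : allC (cloChk dD dC dE dCl) 407 91 = true := by decide +kernel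

set_option maxRecDepth 1000000 in
theorem cls_hclo_408 : allC (cloChk dD dC dE dCl) 408 91 = true := by decide +kernel

set_option maxRecDepth 1000000 in
theorem cls_hclo_409 : allC (cloChk dD dC dE dCl) 409 91 = true := by decide +kernel

set_option maxRecDepth 1000000 in
theorem cls_hclo_410 : allC (cloChk dD dC dE dCl) 410 91 = true := by decide +kernel

set_option maxRecDepth 1000000 in
theorem cls_hclo_411 : allC (cloChk dD dC dE dCl) 411 91 = true := by decide +kernel

set_option maxRecDepth 1000000 in
theorem cls_hclo_412 : allC (cloChk dD dC dE dCl) 412 91 = true := by decide +kernel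

set_option maxRecDepth 1000000 in
theorem cls_hclo_413 : allC (cloChk dD dC dE dCl) 413 91 = true := by decide +kernel

set_option maxRecDepth 1000000 in
theorem cls_hclo_414 : allC (cloChk dD dC dE dCl) 414 91 = true := by decide +kernel

set_option maxRecDepth 1000000 in
theorem cls_hclo_415 : allC (cloChk dD dC dE dCl) 415 91 = true := by decide +kernel

set_option maxRecDepth 1000000 in
theorem cls_hclo_416 : allC (cloChk dD dC dE dCl) 416 91 = true := by decide +kernel

set_option maxRecDepth 1000000 in
theorem cls_hclo_417 : allC (cloChk dD dC dE dCl) 417 91 = true := by decide +kernel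

set_option maxRecDepth 1000000 in
theorem cls_hclo_418 : allC (cloChk dD dC dE dCl) 418 91 = true := by decide +kernel

set_option maxRecDepth 1000000 in
theorem cls_hclo_419 : allC (cloChk dD dC dE dCl) 419 91 = true := by decide +kernel

set_option maxRecDepth 1000000 in
theorem cls_hclo_420 : allC (cloChk dD dC dE dCl) 420 91 = true := by decide +kernel

set_option maxRecDepth 1000000 in
theorem cls_hclo_421 : allC (cloChk dD dC dE dCl) 421 91 = true := by decide +kernel

set_option maxRecDepth 1000000 in
theorem cls_hclo_422 : allC (cloChk dD dC dE dCl) 422 91 = true := by decide +kernel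

set_option maxRecDepth 1000000 in
theorem cls_hclo_423 : allC (cloChk dD dC dE dCl) 423 91 = true := by decide +kernel

set_option maxRecDepth 1000000 in
theorem cls_hclo_424 : allC (cloChk dD dC dE dCl) 424 91 = true := by decide +kernel

set_option maxRecDepth 1000000 in
theorem cls_hclo_425 : allC (cloChk dD dC dE dCl) 425 91 = true := by decide +kernel

set_option maxRecDepth 1000000 in
theorem cls_hclo_426 : allC (cloChk dD dC dE dCl) 426 91 = true := by decide +kernel

set_option maxRecDepth 1000000 in
theorem cls_hclo_427 : allC (cloChk dD dC dE dCl) 427 91 = true := by decide +kernel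

set_option maxRecDepth 1000000 in
theorem cls_hclo_428 : allC (cloChk dD dC dE dCl) 428 91 = true := by decide +kernel

set_option maxRecDepth 1000000 in
theorem cls_hclo_429 : allC (cloChk dD dC dE dCl) 429 91 = true := by decide +kernel

set_option maxRecDepth 1000000 in
theorem cls_hclo_430 : allC (cloChk dD dC dE dCl) 430 91 = true := by decide +kernel

set_option maxRecDepth 1000000 in
theorem cls_hclo_431 : allC (cloChk dD dC dE dCl) 431 91 = true := by decide +kernel

set_option maxRecDepth 1000000 in
theorem cls_hclo_432 : allC (cloChk dD dC dE dCl) 432 91 = true := by decide +kernel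

set_option maxRecDepth 1000000 in
theorem cls_hclo_433 : allC (cloChk dD dC dE dCl) 433 91 = true := by decide +kernel

set_option maxRecDepth 1000000 in
theorem cls_hclo_434 : allC (cloChk dD dC dE dCl) 434 91 = true := by decide +kernel

set_option maxRecDepth 1000000 in
theorem cls_hclo_435 : allC (cloChk dD dC dE dCl) 435 91 = true := by decide +kernel

set_option maxRecDepth 1000000 in
theorem cls_hclo_436 : allC (cloChk dD dC dE dCl) 436 91 = true := by decide +kernel

set_option maxRecDepth 1000000 in
theorem cls_hclo_437 : allC (cloChk dD dC dE dCl) 437 91 = true := by decide +kernel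

set_option maxRecDepth 1000000 in
theorem cls_hclo_438 : allC (cloChk dD dC dE dCl) 438 91 = true := by decide +kernel

set_option maxRecDepth 1000000 in
theorem cls_hclo_439 : allC (cloChk dD dC dE dCl) 439 91 = true := by decide +kernel

set_option maxRecDepth 1000000 in
theorem cls_hclo_440 : allC (cloChk dD dC dE dCl) 440 91 = true := by decide +kernel

set_option maxRecDepth 1000000 in
theorem cls_hclo_441 : allC (cloChk dD dC dE dCl) 441 91 = true := by decide +kernel

set_option maxRecDepth 1000000 in
theorem cls_hclo_442 : allC (cloChk dD dC dE dCl) 442 91 = true := by decide +kernel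

set_option maxRecDepth 1000000 in
theorem cls_hclo_443 : allC (cloChk dD dC dE dCl) 443 91 = true := by decide +kernel

set_option maxRecDepth 1000000 in
theorem cls_hclo_444 : allC (cloChk dD dC dE dCl) 444 91 = true := by decide +kernel

set_option maxRecDepth 1000000 in
theorem cls_hclo_445 : allC (cloChk dD dC dE dCl) 445 91 = true := by decide +kernel

set_option maxRecDepth 1000000 in
theorem cls_hclo_446 : allC (cloChk dD dC dE dCl) 446 91 = true := by decide +kernel

set_option maxRecDepth 1000000 in
theorem cls_hclo_447 : allC (cloChk dD dC dE dCl) 447 91 = true := by decide +kernel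

set_option maxRecDepth 1000000 in
theorem cls_hclo_448 : allC (cloChk dD dC dE dCl) 448 91 = true := by decide +kernel

set_option maxRecDepth 1000000 in
theorem cls_hclo_449 : allC (cloChk dD dC dE dCl) 449 91 = true := by decide +kernel

set_option maxRecDepth 1000000 in
theorem cls_hclo_450 : allC (cloChk dD dC dE dCl) 450 91 = true := by decide +kernel

set_option maxRecDepth 1000000 in
theorem cls_hclo_451 : allC (cloChk dD dC dE dCl) 451 91 = true := by decide +kernel

set_option maxRecDepth 1000000 in
theorem cls_hclo_452 : allC (cloChk dD dC dE dCl) 452 91 = true := by decide +kernel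

set_option maxRecDepth 1000000 in
theorem cls_hclo_453 : allC (cloChk dD dC dE dCl) 453 91 = true := by decide +kernel

set_option maxRecDepth 1000000 in
theorem cls_hclo_454 : allC (cloChk dD dC dE dCl) 454 91 = true := by decide +kernel

set_option maxRecDepth 1000000 in
theorem cls_hclo_455 : allC (cloChk dD dC dE dCl) 455 91 = true := by decide +kernel

set_option maxRecDepth 1000000 in
theorem cls_hclo_456 : allC (cloChk dD dC dE dCl) 456 91 = true := by decide +kernel

set_option maxRecDepth 1000000 in
theorem cls_hclo_457 : allC (cloChk dD dC dE dCl) 457 91 = true := by decide +kernel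

set_option maxRecDepth 1000000 in
theorem cls_hclo_458 : allC (cloChk dD dC dE dCl) 458 91 = true := by decide +kernel

set_option maxRecDepth 1000000 in
theorem cls_hclo_459 : allC (cloChk dD dC dE dCl) 459 91 = true := by decide +kernel

set_option maxRecDepth 1000000 in
theorem cls_hclo_460 : allC (cloChk dD dC dE dCl) 460 91 = true := by decide +kernel

set_option maxRecDepth 1000000 in
theorem cls_hclo_461 : allC (cloChk dD dC dE dCl) 461 91 = true := by decide +kernel

set_option maxRecDepth 1000000 in
theorem cls_hclo_462 : allC (cloChk dD dC dE dCl) 462 91 = true := by decide +kernel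

set_option maxRecDepth 1000000 in
theorem cls_hclo_463 : allC (cloChk dD dC dE dCl) 463 91 = true := by decide +kernel

set_option maxRecDepth 1000000 in
theorem cls_hclo_464 : allC (cloChk dD dC dE dCl) 464 91 = true := by decide +kernel

set_option maxRecDepth 1000000 in
theorem cls_hclo_465 : allC (cloChk dD dC dE dCl) 465 91 = true := by decide +kernel

set_option maxRecDepth 1000000 in
theorem cls_hclo_466 : allC (cloChk dD dC dE dCl) 466 91 = true := by decide +kernel

set_option maxRecDepth 1000000 in
theorem cls_hclo_467 : allC (cloChk dD dC dE dCl) 467 91 = true := by decide +kernel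

set_option maxRecDepth 1000000 in
theorem cls_hclo_468 : allC (cloChk dD dC dE dCl) 468 91 = true := by decide +kernel

set_option maxRecDepth 1000000 in
theorem cls_hclo_469 : allC (cloChk dD dC dE dCl) 469 91 = true := by decide +kernel

set_option maxRecDepth 1000000 in
theorem cls_hclo_470 : allC (cloChk dD dC dE dCl) 470 91 = true := by decide +kernel

set_option maxRecDepth 1000000 in
theorem cls_hclo_471 : allC (cloChk dD dC dE dCl) 471 91 = true := by decide +kernel

set_option maxRecDepth 1000000 in
theorem cls_hclo_472 : allC (cloChk dD dC dE dCl) 472 91 = true := by decide +kernel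

set_option maxRecDepth 1000000 in
theorem cls_hclo_473 : allC (cloChk dD dC dE dCl) 473 91 = true := by decide +kernel

set_option maxRecDepth 1000000 in
theorem cls_hclo_474 : allC (cloChk dD dC dE dCl) 474 91 = true := by decide +kernel

set_option maxRecDepth 1000000 in
theorem cls_hclo_475 : allC (cloChk dD dC dE dCl) 475 91 = true := by decide +kernel

set_option maxRecDepth 1000000 in
theorem cls_hclo_476 : allC (cloChk dD dC dE dCl) 476 91 = true := by decide +kernel

set_option maxRecDepth 1000000 in
theorem cls_hclo_477 : allC (cloChk dD dC dE dCl) 477 91 = true := by decide +kernel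

set_option maxRecDepth 1000000 in
theorem cls_hclo_478 : allC (cloChk dD dC dE dCl) 478 91 = true := by decide +kernel

set_option maxRecDepth 1000000 in
theorem cls_hclo_479 : allC (cloChk dD dC dE dCl) 479 91 = true := by decide +kernel

set_option maxRecDepth 1000000 in
theorem cls_hclo_480 : allC (cloChk dD dC dE dCl) 480 91 = true := by decide +kernel

set_option maxRecDepth 1000000 in
theorem cls_hclo_481 : allC (cloChk dD dC dE dCl) 481 91 = true := by decide +kernel

set_option maxRecDepth 1000000 in
theorem cls_hclo_482 : allC (cloChk dD dC dE dCl) 482 91 = true := by decide +kernel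

set_option maxRecDepth 1000000 in
theorem cls_hclo_483 : allC (cloChk dD dC dE dCl) 483 91 = true := by decide +kernel

set_option maxRecDepth 1000000 in
theorem cls_hclo_484 : allC (cloChk dD dC dE dCl) 484 91 = true := by decide +kernel

set_option maxRecDepth 1000000 in
theorem cls_hclo_485 : allC (cloChk dD dC dE dCl) 485 91 = true := by decide +kernel

set_option maxRecDepth 1000000 in
theorem cls_hclo_486 : allC (cloChk dD dC dE dCl) 486 91 = true := by decide +kernel

set_option maxRecDepth 1000000 in
theorem cls_hclo_487 : allC (cloChk dD dC dE dCl) 487 91 = true := by decide +kernel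

set_option maxRecDepth 1000000 in
theorem cls_hclo_488 : allC (cloChk dD dC dE dCl) 488 91 = true := by decide +kernel

set_option maxRecDepth 1000000 in
theorem cls_hclo_489 : allC (cloChk dD dC dE dCl) 489 91 = true := by decide +kernel

set_option maxRecDepth 1000000 in
theorem cls_hclo_490 : allC (cloChk dD dC dE dCl) 490 91 = true := by decide +kernel

set_option maxRecDepth 1000000 in
theorem cls_hclo_491 : allC (cloChk dD dC dE dCl) 491 91 = true := by decide +kernel

set_option maxRecDepth 1000000 in
theorem cls_hclo_492 : allC (cloChk dD dC dE dCl) 492 91 = true := by decide +kernel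

set_option maxRecDepth 1000000 in
theorem cls_hclo_493 : allC (cloChk dD dC dE dCl) 493 91 = true := by decide +kernel

set_option maxRecDepth 1000000 in
theorem cls_hclo_494 : allC (cloChk dD dC dE dCl) 494 91 = true := by decide +kernel

set_option maxRecDepth 1000000 in
theorem cls_hclo_495 : allC (cloChk dD dC dE dCl) 495 91 = true := by decide +kernel

set_option maxRecDepth 1000000 in
theorem cls_hclo_496 : allC (cloChk dD dC dE dCl) 496 91 = true := by decide +kernel

set_option maxRecDepth 1000000 in
theorem cls_hclo_497 : allC (cloChk dD dC dE dCl) 497 91 = true := by decide +kernel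

set_option maxRecDepth 1000000 in
theorem cls_hclo_498 : allC (cloChk dD dC dE dCl) 498 91 = true := by decide +kernel

set_option maxRecDepth 1000000 in
theorem cls_hclo_499 : allC (cloChk dD dC dE dCl) 499 91 = true := by decide +kernel

end Cfsg.Agent.Helper9.RuO

end
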