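import Mathlib
import Cfsg.Agent.Helper9.RuO.Data

set_option autoImplicit false

/-! Kernel checks of the certificates, a part. -/

noncomputable section

namespace Cfsg.Agent.Helper9.RuO

open Cfsg.Agent.Helper9.OutG Cfsg.Agent.Helper9.J3

set_option maxRecDepth 1000000 in
theorem cls_hclo_4000 : allC (cloChk dD dC dE dCl) 4000 91 = true := by decide +kernel

set_option maxRecDepth 1000000 in
theorem cls_hclo_4001 : allC (cloChk dD dC dE dCl) 4001 91 = true := by decide +kernel

set_option maxRecDepth 1000000 in
theorem cls_hclo_4002 : allC (cloChk dD dC dE dCl) 4002 91 = true := by decide +kernel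

set_option maxRecDepth 1000000 in
theorem cls_hclo_4003 : allC (cloChk dD dC dE dCl) 4003 91 = true := by decide +kernel

set_option maxRecDepth 1000000 in
theorem cls_hclo_4004 : allC (cloChk dD dC dE dCl) 4004 91 = true := by decide +kernel

set_option maxRecDepth 1000000 in
theorem cls_hclo_4005 : allC (cloChk dD dC dE dCl) 4005 91 = true := by decide +kernel

set_option maxRecDepth 1000000 in
theorem cls_hclo_4006 : allC (cloChk dD dC dE dCl) 4006 91 = true := by decide +kernel

set_option maxRecDepth 1000000 in
theorem cls_hclo_4007 : allC (cloChk dD dC dE dCl) 4007 91 = true := by decide +kernel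

set_option maxRecDepth 1000000 in
theorem cls_hclo_4008 : allC (cloChk dD dC dE dCl) 4008 91 = true := by decide +kernel

set_option maxRecDepth 1000000 in
theorem cls_hclo_4009 : allC (cloChk dD dC dE dCl) 4009 91 = true := by decide +kernel

set_option maxRecDepth 1000000 in
theorem cls_hclo_4010 : allC (cloChk dD dC dE dCl) 4010 91 = true := by decide +kernel

set_option maxRecDepth 1000000 in
theorem cls_hclo_4011 : allC (cloChk dD dC dE dCl) 4011 91 = true := by decide +kernel

set_option maxRecDepth 1000000 in
theorem cls_hclo_4012 : allC (cloChk dD dC dE dCl) 4012 91 = true := by decide +kernel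

set_option maxRecDepth 1000000 in
theorem cls_hclo_4013 : allC (cloChk dD dC dE dCl) 4013 91 = true := by decide +kernel

set_option maxRecDepth 1000000 in
theorem cls_hclo_4014 : allC (cloChk dD dC dE dCl) 4014 91 = true := by decide +kernel

set_option maxRecDepth 1000000 in
theorem cls_hclo_4015 : allC (cloChk dD dC dE dCl) 4015 91 = true := by decide +kernel

set_option maxRecDepth 1000000 in
theorem cls_hclo_4016 : allC (cloChk dD dC dE dCl) 4016 91 = true := by decide +kernel

set_option maxRecDepth 1000000 in
theorem cls_hclo_4017 : allC (cloChk dD dC dE dCl) 4017 91 = true := by decide +kernel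

set_option maxRecDepth 1000000 in
theorem cls_hclo_4018 : allC (cloChk dD dC dE dCl) 4018 91 = true := by decide +kernel

set_option maxRecDepth 1000000 in
theorem cls_hclo_4019 : allC (cloChk dD dC dE dCl) 4019 91 = true := by decide +kernel

set_option maxRecDepth 1000000 in
theorem cls_hclo_4020 : allC (cloChk dD dC dE dCl) 4020 91 = true := by decide +kernel

set_option maxRecDepth 1000000 in
theorem cls_hclo_4021 : allC (cloChk dD dC dE dCl) 4021 91 = true := by decide +kernel

set_option maxRecDepth 1000000 in
theorem cls_hclo_4022 : allC (cloChk dD dC dE dCl) 4022 91 = true := by decide +kernel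

set_option maxRecDepth 1000000 in
theorem cls_hclo_4023 : allC (cloChk dD dC dE dCl) 4023 91 = true := by decide +kernel

set_option maxRecDepth 1000000 in
theorem cls_hclo_4024 : allC (cloChk dD dC dE dCl) 4024 91 = true := by decide +kernel

set_option maxRecDepth 1000000 in
theorem cls_hclo_4025 : allC (cloChk dD dC dE dCl) 4025 91 = true := by decide +kernel

set_option maxRecDepth 1000000 in
theorem cls_hclo_4026 : allC (cloChk dD dC dE dCl) 4026 91 = true := by decide +kernel

set_option maxRecDepth 1000000 in
theorem cls_hclo_4027 : allC (cloChk dD dC dE dCl) 4027 91 = true := by decide +kernel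

set_option maxRecDepth 1000000 in
theorem cls_hclo_4028 : allC (cloChk dD dC dE dCl) 4028 91 = true := by decide +kernel

set_option maxRecDepth 1000000 in
theorem cls_hclo_4029 : allC (cloChk dD dC dE dCl) 4029 91 = true := by decide +kernel

set_option maxRecDepth 1000000 in
theorem cls_hclo_4030 : allC (cloChk dD dC dE dCl) 4030 91 = true := by decide +kernel

set_option maxRecDepth 1000000 in
theorem cls_hclo_4031 : allC (cloChk dD dC dE dCl) 4031 91 = true := by decide +kernel

set_option maxRecDepth 1000000 in
theorem cls_hclo_4032 : allC (cloChk dD dC dE dCl) 4032 91 = true := by decide +kernel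

set_option maxRecDepth 1000000 in
theorem cls_hclo_4033 : allC (cloChk dD dC dE dCl) 4033 91 = true := by decide +kernel

set_option maxRecDepth 1000000 in
theorem cls_hclo_4034 : allC (cloChk dD dC dE dCl) 4034 91 = true := by decide +kernel

set_option maxRecDepth 1000000 in
theorem cls_hclo_4035 : allC (cloChk dD dC dE dCl) 4035 91 = true := by decide +kernel

set_option maxRecDepth 1000000 in
theorem cls_hclo_4036 : allC (cloChk dD dC dE dCl) 4036 91 = true := by decide +kernel

set_option maxRecDepth 1000000 in
theorem cls_hclo_4037 : allC (cloChk dD dC dE dCl) 4037 91 = true := by decide +kernel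

set_option maxRecDepth 1000000 in
theorem cls_hclo_4038 : allC (cloChk dD dC dE dCl) 4038 91 = true := by decide +kernel

set_option maxRecDepth 1000000 in
theorem cls_hclo_4039 : allC (cloChk dD dC dE dCl) 4039 91 = true := by decide +kernel

set_option maxRecDepth 1000000 in
theorem cls_hclo_4040 : allC (cloChk dD dC dE dCl) 4040 91 = true := by decide +kernel

set_option maxRecDepth 1000000 in
theorem cls_hclo_4041 : allC (cloChk dD dC dE dCl) 4041 91 = true := by decide +kernel

set_option maxRecDepth 1000000 in
theorem cls_hclo_4042 : allC (cloChk dD dC dE dCl) 4042 91 = true := by decide +kernel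

set_option maxRecDepth 1000000 in
theorem cls_hclo_4043 : allC (cloChk dD dC dE dCl) 4043 91 = true := by decide +kernel

set_option maxRecDepth 1000000 in
theorem cls_hclo_4044 : allC (cloChk dD dC dE dCl) 4044 91 = true := by decide +kernel

set_option maxRecDepth 1000000 in
theorem cls_hclo_4045 : allC (cloChk dD dC dE dCl) 4045 91 = true := by decide +kernel

set_option maxRecDepth 1000000 in
theorem cls_hclo_4046 : allC (cloChk dD dC dE dCl) 4046 91 = true := by decide +kernel

set_option maxRecDepth 1000000 in
theorem cls_hclo_4047 : allC (cloChk dD dC dE dCl) 4047 91 = true := by decide +kernel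

set_option maxRecDepth 1000000 in
theorem cls_hclo_4048 : allC (cloChk dD dC dE dCl) 4048 91 = true := by decide +kernel

set_option maxRecDepth 1000000 in
theorem cls_hclo_4049 : allC (cloChk dD dC dE dCl) 4049 91 = true := by decide +kernel

set_option maxRecDepth 1000000 in
theorem cls_hclo_4050 : allC (cloChk dD dC dE dCl) 4050 91 = true := by decide +kernel

set_option maxRecDepth 1000000 in
theorem cls_hclo_4051 : allC (cloChk dD dC dE dCl) 4051 91 = true := by decide +kernel

set_option maxRecDepth 1000000 in
theorem cls_hclo_4052 : allC (cloChk dD dC dE dCl) 4052 91 = true := by decide +kernel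

set_option maxRecDepth 1000000 in
theorem cls_hclo_4053 : allC (cloChk dD dC dE dCl) 4053 91 = true := by decide +kernel

set_option maxRecDepth 1000000 in
theorem cls_hclo_4054 : allC (cloChk dD dC dE dCl) 4054 91 = true := by decide +kernel

set_option maxRecDepth 1000000 in
theorem cls_hclo_4055 : allC (cloChk dD dC dE dCl) 4055 91 = true := by decide +kernel

set_option maxRecDepth 1000000 in
theorem cls_hclo_4056 : allC (cloChk dD dC dE dCl) 4056 91 = true := by decide +kernel

set_option maxRecDepth 1000000 in
theorem cls_hclo_4057 : allC (cloChk dD dC dE dCl) 4057 91 = true := by decide +kernel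

set_option maxRecDepth 1000000 in
theorem cls_hclo_4058 : allC (cloChk dD dC dE dCl) 4058 91 = true := by decide +kernel

set_option maxRecDepth 1000000 in
theorem cls_hclo_4059 : allC (cloChk dD dC dE dCl) 4059 91 = true := by decide +kernel

set_option maxRecDepth 1000000 in
theorem cls_hclo_4060 : allC (cloChk dD dC dE dCl) 4060 91 = true := by decide +kernel

set_option maxRecDepth 1000000 in
theorem cls_hclo_4061 : allC (cloChk dD dC dE dCl) 4061 91 = true := by decide +kernel

set_option maxRecDepth 1000000 in
theorem cls_hclo_4062 : allC (cloChk dD dC dE dCl) 4062 91 = true := by decide +kernel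

set_option maxRecDepth 1000000 in
theorem cls_hclo_4063 : allC (cloChk dD dC dE dCl) 4063 91 = true := by decide +kernel

set_option maxRecDepth 1000000 in
theorem cls_hclo_4064 : allC (cloChk dD dC dE dCl) 4064 91 = true := by decide +kernel

set_option maxRecDepth 1000000 in
theorem cls_hclo_4065 : allC (cloChk dD dC dE dCl) 4065 91 = true := by decide +kernel

set_option maxRecDepth 1000000 in
theorem cls_hclo_4066 : allC (cloChk dD dC dE dCl) 4066 91 = true := by decide +kernel

set_option maxRecDepth 1000000 in
theorem cls_hclo_4067 : allC (cloChk dD dC dE dCl) 4067 91 = true := by decide +kernel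

set_option maxRecDepth 1000000 in
theorem cls_hclo_4068 : allC (cloChk dD dC dE dCl) 4068 91 = true := by decide +kernel

set_option maxRecDepth 1000000 in
theorem cls_hclo_4069 : allC (cloChk dD dC dE dCl) 4069 91 = true := by decide +kernel

set_option maxRecDepth 1000000 in
theorem cls_hclo_4070 : allC (cloChk dD dC dE dCl) 4070 91 = true := by decide +kernel

set_option maxRecDepth 1000000 in
theorem cls_hclo_4071 : allC (cloChk dD dC dE dCl) 4071 91 = true := by decide +kernel

set_option maxRecDepth 1000000 in
theorem cls_hclo_4072 : allC (cloChk dD dC dE dCl) 4072 91 = true := by decide +kernel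

set_option maxRecDepth 1000000 in
theorem cls_hclo_4073 : allC (cloChk dD dC dE dCl) 4073 91 = true := by decide +kernel

set_option maxRecDepth 1000000 in
theorem cls_hclo_4074 : allC (cloChk dD dC dE dCl) 4074 91 = true := by decide +kernel

set_option maxRecDepth 1000000 in
theorem cls_hclo_4075 : allC (cloChk dD dC dE dCl) 4075 91 = true := by decide +kernel

set_option maxRecDepth 1000000 in
theorem cls_hclo_4076 : allC (cloChk dD dC dE dCl) 4076 91 = true := by decide +kernel

set_option maxRecDepth 1000000 in
theorem cls_hclo_4077 : allC (cloChk dD dC dE dCl) 4077 91 = true := by decide +kernel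

set_option maxRecDepth 1000000 in
theorem cls_hclo_4078 : allC (cloChk dD dC dE dCl) 4078 91 = true := by decide +kernel

set_option maxRecDepth 1000000 in
theorem cls_hclo_4079 : allC (cloChk dD dC dE dCl) 4079 91 = true := by decide +kernel

set_option maxRecDepth 1000000 in
theorem cls_hclo_4080 : allC (cloChk dD dC dE dCl) 4080 91 = true := by decide +kernel

set_option maxRecDepth 1000000 in
theorem cls_hclo_4081 : allC (cloChk dD dC dE dCl) 4081 91 = true := by decide +kernel

set_option maxRecDepth 1000000 in
theorem cls_hclo_4082 : allC (cloChk dD dC dE dCl) 4082 91 = true := by decide +kernel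

set_option maxRecDepth 1000000 in
theorem cls_hclo_4083 : allC (cloChk dD dC dE dCl) 4083 91 = true := by decide +kernel

set_option maxRecDepth 1000000 in
theorem cls_hclo_4084 : allC (cloChk dD dC dE dCl) 4084 91 = true := by decide +kernel

set_option maxRecDepth 1000000 in
theorem cls_hclo_4085 : allC (cloChk dD dC dE dCl) 4085 91 = true := by decide +kernel

set_option maxRecDepth 1000000 in
theorem cls_hclo_4086 : allC (cloChk dD dC dE dCl) 4086 91 = true := by decide +kernel

set_option maxRecDepth 1000000 in
theorem cls_hclo_4087 : allC (cloChk dD dC dE dCl) 4087 91 = true := by decide +kernel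

set_option maxRecDepth 1000000 in
theorem cls_hclo_4088 : allC (cloChk dD dC dE dCl) 4088 91 = true := by decide +kernel

set_option maxRecDepth 1000000 in
theorem cls_hclo_4089 : allC (cloChk dD dC dE dCl) 4089 91 = true := by decide +kernel

set_option maxRecDepth 1000000 in
theorem cls_hclo_4090 : allC (cloChk dD dC dE dCl) 4090 91 = true := by decide +kernel

set_option maxRecDepth 1000000 in
theorem cls_hclo_4091 : allC (cloChk dD dC dE dCl) 4091 91 = true := by decide +kernel

set_option maxRecDepth 1000000 in
theorem cls_hclo_4092 : allC (cloChk dD dC dE dCl) 4092 91 = true := by decide +kernel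

set_option maxRecDepth 1000000 in
theorem cls_hclo_4093 : allC (cloChk dD dC dE dCl) 4093 91 = true := by decide +kernel

set_option maxRecDepth 1000000 in
theorem cls_hclo_4094 : allC (cloChk dD dC dE dCl) 4094 91 = true := by decide +kernel

set_option maxRecDepth 1000000 in
theorem cls_hclo_4095 : allC (cloChk dD dC dE dCl) 4095 91 = true := by decide +kernel

set_option maxRecDepth 1000000 in
theorem cls_hclo_4096 : allC (cloChk dD dC dE dCl) 4096 91 = true := by decide +kernel

set_option maxRecDepth 1000000 in
theorem cls_hclo_4097 : allC (cloChk dD dC dE dCl) 4097 91 = true := by decide +kernel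

set_option maxRecDepth 1000000 in
theorem cls_hclo_4098 : allC (cloChk dD dC dE dCl) 4098 91 = true := by decide +kernel

set_option maxRecDepth 1000000 in
theorem cls_hclo_4099 : allC (cloChk dD dC dE dCl) 4099 91 = true := by decide +kernel

end Cfsg.Agent.Helper9.RuO

end
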