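import Mathlib
import Cfsg.Agent.Helper9.RuO.Data

set_option autoImplicit false

/-! Kernel checks of the certificates, a part. -/

noncomputable section

namespace Cfsg.Agent.Helper9.RuO

open Cfsg.Agent.Helper9.OutG Cfsg.Agent.Helper9.J3

set_option maxRecDepth 1000000 in
theorem cls_hclo_4100 : allC (cloChk dD dC dE dCl) 4100 91 = true := by decide +kernel

set_option maxRecDepth 1000000 in
theorem cls_hclo_4101 : allC (cloChk dD dC dE dCl) 4101 91 = true := by decide +kernel

set_option maxRecDepth 1000000 in
theorem cls_hclo_4102 : allC (cloChk dD dC dE dCl) 4102 91 = true := by decide +kernel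

set_option maxRecDepth 1000000 in
theorem cls_hclo_4103 : allC (cloChk dD dC dE dCl) 4103 91 = true := by decide +kernel

set_option maxRecDepth 1000000 in
theorem cls_hclo_4104 : allC (cloChk dD dC dE dCl) 4104 91 = true := by decide +kernel

set_option maxRecDepth 1000000 in
theorem cls_hclo_4105 : allC (cloChk dD dC dE dCl) 4105 91 = true := by decide +kernel

set_option maxRecDepth 1000000 in
theorem cls_hclo_4106 : allC (cloChk dD dC dE dCl) 4106 91 = true := by decide +kernel

set_option maxRecDepth 1000000 in
theorem cls_hclo_4107 : allC (cloChk dD dC dE dCl) 4107 91 = true := by decide +kernel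

set_option maxRecDepth 1000000 in
theorem cls_hclo_4108 : allC (cloChk dD dC dE dCl) 4108 91 = true := by decide +kernel

set_option maxRecDepth 1000000 in
theorem cls_hclo_4109 : allC (cloChk dD dC dE dCl) 4109 91 = true := by decide +kernel

set_option maxRecDepth 1000000 in
theorem cls_hclo_4110 : allC (cloChk dD dC dE dCl) 4110 91 = true := by decide +kernel

set_option maxRecDepth 1000000 in
theorem cls_hclo_4111 : allC (cloChk dD dC dE dCl) 4111 91 = true := by decide +kernel

set_option maxRecDepth 1000000 in
theorem cls_hclo_4112 : allC (cloChk dD dC dE dCl) 4112 91 = true := by decide +kernel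

set_option maxRecDepth 1000000 in
theorem cls_hclo_4113 : allC (cloChk dD dC dE dCl) 4113 91 = true := by decide +kernel

set_option maxRecDepth 1000000 in
theorem cls_hclo_4114 : allC (cloChk dD dC dE dCl) 4114 91 = true := by decide +kernel

set_option maxRecDepth 1000000 in
theorem cls_hclo_4115 : allC (cloChk dD dC dE dCl) 4115 91 = true := by decide +kernel

set_option maxRecDepth 1000000 in
theorem cls_hclo_4116 : allC (cloChk dD dC dE dCl) 4116 91 = true := by decide +kernel

set_option maxRecDepth 1000000 in
theorem cls_hclo_4117 : allC (cloChk dD dC dE dCl) 4117 91 = true := by decide +kernel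

set_option maxRecDepth 1000000 in
theorem cls_hclo_4118 : allC (cloChk dD dC dE dCl) 4118 91 = true := by decide +kernel

set_option maxRecDepth 1000000 in
theorem cls_hclo_4119 : allC (cloChk dD dC dE dCl) 4119 91 = true := by decide +kernel

set_option maxRecDepth 1000000 in
theorem cls_hclo_4120 : allC (cloChk dD dC dE dCl) 4120 91 = true := by decide +kernel

set_option maxRecDepth 1000000 in
theorem cls_hclo_4121 : allC (cloChk dD dC dE dCl) 4121 91 = true := by decide +kernel

set_option maxRecDepth 1000000 in
theorem cls_hclo_4122 : allC (cloChk dD dC dE dCl) 4122 91 = true := by decide +kernel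

set_option maxRecDepth 1000000 in
theorem cls_hclo_4123 : allC (cloChk dD dC dE dCl) 4123 91 = true := by decide +kernel

set_option maxRecDepth 1000000 in
theorem cls_hclo_4124 : allC (cloChk dD dC dE dCl) 4124 91 = true := by decide +kernel

set_option maxRecDepth 1000000 in
theorem cls_hclo_4125 : allC (cloChk dD dC dE dCl) 4125 91 = true := by decide +kernel

set_option maxRecDepth 1000000 in
theorem cls_hclo_4126 : allC (cloChk dD dC dE dCl) 4126 91 = true := by decide +kernel

set_option maxRecDepth 1000000 in
theorem cls_hclo_4127 : allC (cloChk dD dC dE dCl) 4127 91 = true := by decide +kernel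

set_option maxRecDepth 1000000 in
theorem cls_hclo_4128 : allC (cloChk dD dC dE dCl) 4128 91 = true := by decide +kernel

set_option maxRecDepth 1000000 in
theorem cls_hclo_4129 : allC (cloChk dD dC dE dCl) 4129 91 = true := by decide +kernel

set_option maxRecDepth 1000000 in
theorem cls_hclo_4130 : allC (cloChk dD dC dE dCl) 4130 91 = true := by decide +kernel

set_option maxRecDepth 1000000 in
theorem cls_hclo_4131 : allC (cloChk dD dC dE dCl) 4131 91 = true := by decide +kernel

set_option maxRecDepth 1000000 in
theorem cls_hclo_4132 : allC (cloChk dD dC dE dCl) 4132 91 = true := by decide +kernel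

set_option maxRecDepth 1000000 in
theorem cls_hclo_4133 : allC (cloChk dD dC dE dCl) 4133 91 = true := by decide +kernel

set_option maxRecDepth 1000000 in
theorem cls_hclo_4134 : allC (cloChk dD dC dE dCl) 4134 91 = true := by decide +kernel

set_option maxRecDepth 1000000 in
theorem cls_hclo_4135 : allC (cloChk dD dC dE dCl) 4135 91 = true := by decide +kernel

set_option maxRecDepth 1000000 in
theorem cls_hclo_4136 : allC (cloChk dD dC dE dCl) 4136 91 = true := by decide +kernel

set_option maxRecDepth 1000000 in
theorem cls_hclo_4137 : allC (cloChk dD dC dE dCl) 4137 91 = true := by decide +kernel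

set_option maxRecDepth 1000000 in
theorem cls_hclo_4138 : allC (cloChk dD dC dE dCl) 4138 91 = true := by decide +kernel

set_option maxRecDepth 1000000 in
theorem cls_hclo_4139 : allC (cloChk dD dC dE dCl) 4139 91 = true := by decide +kernel

set_option maxRecDepth 1000000 in
theorem cls_hclo_4140 : allC (cloChk dD dC dE dCl) 4140 91 = true := by decide +kernel

set_option maxRecDepth 1000000 in
theorem cls_hclo_4141 : allC (cloChk dD dC dE dCl) 4141 91 = true := by decide +kernel

set_option maxRecDepth 1000000 in
theorem cls_hclo_4142 : allC (cloChk dD dC dE dCl) 4142 91 = true := by decide +kernel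

set_option maxRecDepth 1000000 in
theorem cls_hclo_4143 : allC (cloChk dD dC dE dCl) 4143 91 = true := by decide +kernel

set_option maxRecDepth 1000000 in
theorem cls_hclo_4144 : allC (cloChk dD dC dE dCl) 4144 91 = true := by decide +kernel

set_option maxRecDepth 1000000 in
theorem cls_hclo_4145 : allC (cloChk dD dC dE dCl) 4145 91 = true := by decide +kernel

set_option maxRecDepth 1000000 in
theorem cls_hclo_4146 : allC (cloChk dD dC dE dCl) 4146 91 = true := by decide +kernel

set_option maxRecDepth 1000000 in
theorem cls_hclo_4147 : allC (cloChk dD dC dE dCl) 4147 91 = true := by decide +kernel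

set_option maxRecDepth 1000000 in
theorem cls_hclo_4148 : allC (cloChk dD dC dE dCl) 4148 91 = true := by decide +kernel

set_option maxRecDepth 1000000 in
theorem cls_hclo_4149 : allC (cloChk dD dC dE dCl) 4149 91 = true := by decide +kernel

set_option maxRecDepth 1000000 in
theorem cls_hclo_4150 : allC (cloChk dD dC dE dCl) 4150 91 = true := by decide +kernel

set_option maxRecDepth 1000000 in
theorem cls_hclo_4151 : allC (cloChk dD dC dE dCl) 4151 91 = true := by decide +kernel

set_option maxRecDepth 1000000 in
theorem cls_hclo_4152 : allC (cloChk dD dC dE dCl) 4152 91 = true := by decide +kernel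

set_option maxRecDepth 1000000 in
theorem cls_hclo_4153 : allC (cloChk dD dC dE dCl) 4153 91 = true := by decide +kernel

set_option maxRecDepth 1000000 in
theorem cls_hclo_4154 : allC (cloChk dD dC dE dCl) 4154 91 = true := by decide +kernel

set_option maxRecDepth 1000000 in
theorem cls_hclo_4155 : allC (cloChk dD dC dE dCl) 4155 91 = true := by decide +kernel

set_option maxRecDepth 1000000 in
theorem cls_hclo_4156 : allC (cloChk dD dC dE dCl) 4156 91 = true := by decide +kernel

set_option maxRecDepth 1000000 in
theorem cls_hclo_4157 : allC (cloChk dD dC dE dCl) 4157 91 = true := by decide +kernel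

set_option maxRecDepth 1000000 in
theorem cls_hclo_4158 : allC (cloChk dD dC dE dCl) 4158 91 = true := by decide +kernel

set_option maxRecDepth 1000000 in
theorem cls_hclo_4159 : allC (cloChk dD dC dE dCl) 4159 91 = true := by decide +kernel

set_option maxRecDepth 1000000 in
theorem cls_hclo_4160 : allC (cloChk dD dC dE dCl) 4160 91 = true := by decide +kernel

set_option maxRecDepth 1000000 in
theorem cls_hclo_4161 : allC (cloChk dD dC dE dCl) 4161 91 = true := by decide +kernel

set_option maxRecDepth 1000000 in
theorem cls_hclo_4162 : allC (cloChk dD dC dE dCl) 4162 91 = true := by decide +kernel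

set_option maxRecDepth 1000000 in
theorem cls_hclo_4163 : allC (cloChk dD dC dE dCl) 4163 91 = true := by decide +kernel

set_option maxRecDepth 1000000 in
theorem cls_hclo_4164 : allC (cloChk dD dC dE dCl) 4164 91 = true := by decide +kernel

set_option maxRecDepth 1000000 in
theorem cls_hclo_4165 : allC (cloChk dD dC dE dCl) 4165 91 = true := by decide +kernel

set_option maxRecDepth 1000000 in
theorem cls_hclo_4166 : allC (cloChk dD dC dE dCl) 4166 91 = true := by decide +kernel

set_option maxRecDepth 1000000 in
theorem cls_hclo_4167 : allC (cloChk dD dC dE dCl) 4167 91 = true := by decide +kernel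

set_option maxRecDepth 1000000 in
theorem cls_hclo_4168 : allC (cloChk dD dC dE dCl) 4168 91 = true := by decide +kernel

set_option maxRecDepth 1000000 in
theorem cls_hclo_4169 : allC (cloChk dD dC dE dCl) 4169 91 = true := by decide +kernel

set_option maxRecDepth 1000000 in
theorem cls_hclo_4170 : allC (cloChk dD dC dE dCl) 4170 91 = true := by decide +kernel

set_option maxRecDepth 1000000 in
theorem cls_hclo_4171 : allC (cloChk dD dC dE dCl) 4171 91 = true := by decide +kernel

set_option maxRecDepth 1000000 in
theorem cls_hclo_4172 : allC (cloChk dD dC dE dCl) 4172 91 = true := by decide +kernel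

set_option maxRecDepth 1000000 in
theorem cls_hclo_4173 : allC (cloChk dD dC dE dCl) 4173 91 = true := by decide +kernel

set_option maxRecDepth 1000000 in
theorem cls_hclo_4174 : allC (cloChk dD dC dE dCl) 4174 91 = true := by decide +kernel

set_option maxRecDepth 1000000 in
theorem cls_hclo_4175 : allC (cloChk dD dC dE dCl) 4175 91 = true := by decide +kernel

set_option maxRecDepth 1000000 in
theorem cls_hclo_4176 : allC (cloChk dD dC dE dCl) 4176 91 = true := by decide +kernel

set_option maxRecDepth 1000000 in
theorem cls_hclo_4177 : allC (cloChk dD dC dE dCl) 4177 91 = true := by decide +kernel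

set_option maxRecDepth 1000000 in
theorem cls_hclo_4178 : allC (cloChk dD dC dE dCl) 4178 91 = true := by decide +kernel

set_option maxRecDepth 1000000 in
theorem cls_hclo_4179 : allC (cloChk dD dC dE dCl) 4179 91 = true := by decide +kernel

set_option maxRecDepth 1000000 in
theorem cls_hclo_4180 : allC (cloChk dD dC dE dCl) 4180 91 = true := by decide +kernel

set_option maxRecDepth 1000000 in
theorem cls_hclo_4181 : allC (cloChk dD dC dE dCl) 4181 91 = true := by decide +kernel

set_option maxRecDepth 1000000 in
theorem cls_hclo_4182 : allC (cloChk dD dC dE dCl) 4182 91 = true := by decide +kernel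

set_option maxRecDepth 1000000 in
theorem cls_hclo_4183 : allC (cloChk dD dC dE dCl) 4183 91 = true := by decide +kernel

set_option maxRecDepth 1000000 in
theorem cls_hclo_4184 : allC (cloChk dD dC dE dCl) 4184 91 = true := by decide +kernel

set_option maxRecDepth 1000000 in
theorem cls_hclo_4185 : allC (cloChk dD dC dE dCl) 4185 91 = true := by decide +kernel

set_option maxRecDepth 1000000 in
theorem cls_hclo_4186 : allC (cloChk dD dC dE dCl) 4186 91 = true := by decide +kernel

set_option maxRecDepth 1000000 in
theorem cls_hclo_4187 : allC (cloChk dD dC dE dCl) 4187 91 = true := by decide +kernel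

set_option maxRecDepth 1000000 in
theorem cls_hclo_4188 : allC (cloChk dD dC dE dCl) 4188 91 = true := by decide +kernel

set_option maxRecDepth 1000000 in
theorem cls_hclo_4189 : allC (cloChk dD dC dE dCl) 4189 91 = true := by decide +kernel

set_option maxRecDepth 1000000 in
theorem cls_hclo_4190 : allC (cloChk dD dC dE dCl) 4190 91 = true := by decide +kernel

set_option maxRecDepth 1000000 in
theorem cls_hclo_4191 : allC (cloChk dD dC dE dCl) 4191 91 = true := by decide +kernel

set_option maxRecDepth 1000000 in
theorem cls_hclo_4192 : allC (cloChk dD dC dE dCl) 4192 91 = true := by decide +kernel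

set_option maxRecDepth 1000000 in
theorem cls_hclo_4193 : allC (cloChk dD dC dE dCl) 4193 91 = true := by decide +kernel

set_option maxRecDepth 1000000 in
theorem cls_hclo_4194 : allC (cloChk dD dC dE dCl) 4194 91 = true := by decide +kernel

set_option maxRecDepth 1000000 in
theorem cls_hclo_4195 : allC (cloChk dD dC dE dCl) 4195 91 = true := by decide +kernel

set_option maxRecDepth 1000000 in
theorem cls_hclo_4196 : allC (cloChk dD dC dE dCl) 4196 91 = true := by decide +kernel

set_option maxRecDepth 1000000 in
theorem cls_hclo_4197 : allC (cloChk dD dC dE dCl) 4197 91 = true := by decide +kernel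

set_option maxRecDepth 1000000 in
theorem cls_hclo_4198 : allC (cloChk dD dC dE dCl) 4198 91 = true := by decide +kernel

set_option maxRecDepth 1000000 in
theorem cls_hclo_4199 : allC (cloChk dD dC dE dCl) 4199 91 = true := by decide +kernel

end Cfsg.Agent.Helper9.RuO

end
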