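import Mathlib
import Cfsg.Agent.Helper9.RuO.Data

set_option autoImplicit false

/-! Kernel checks of the certificates, a part. -/

noncomputable section

namespace Cfsg.Agent.Helper9.RuO

open Cfsg.Agent.Helper9.OutG Cfsg.Agent.Helper9.J3

set_option maxRecDepth 1000000 in
theorem cls_hclo_4200 : allC (cloChk dD dC dE dCl) 4200 91 = true := by decide +kernel

set_option maxRecDepth 1000000 in
theorem cls_hclo_4201 : allC (cloChk dD dC dE dCl) 4201 91 = true := by decide +kernel

set_option maxRecDepth 1000000 in
theorem cls_hclo_4202 : allC (cloChk dD dC dE dCl) 4202 91 = true := by decide +kernel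

set_option maxRecDepth 1000000 in
theorem cls_hclo_4203 : allC (cloChk dD dC dE dCl) 4203 91 = true := by decide +kernel

set_option maxRecDepth 1000000 in
theorem cls_hclo_4204 : allC (cloChk dD dC dE dCl) 4204 91 = true := by decide +kernel

set_option maxRecDepth 1000000 in
theorem cls_hclo_4205 : allC (cloChk dD dC dE dCl) 4205 91 = true := by decide +kernel

set_option maxRecDepth 1000000 in
theorem cls_hclo_4206 : allC (cloChk dD dC dE dCl) 4206 91 = true := by decide +kernel

set_option maxRecDepth 1000000 in
theorem cls_hclo_4207 : allC (cloChk dD dC dE dCl) 4207 91 = true := by decide +kernel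

set_option maxRecDepth 1000000 in
theorem cls_hclo_4208 : allC (cloChk dD dC dE dCl) 4208 91 = true := by decide +kernel

set_option maxRecDepth 1000000 in
theorem cls_hclo_4209 : allC (cloChk dD dC dE dCl) 4209 91 = true := by decide +kernel

set_option maxRecDepth 1000000 in
theorem cls_hclo_4210 : allC (cloChk dD dC dE dCl) 4210 91 = true := by decide +kernel

set_option maxRecDepth 1000000 in
theorem cls_hclo_4211 : allC (cloChk dD dC dE dCl) 4211 91 = true := by decide +kernel

set_option maxRecDepth 1000000 in
theorem cls_hclo_4212 : allC (cloChk dD dC dE dCl) 4212 91 = true := by decide +kernel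

set_option maxRecDepth 1000000 in
theorem cls_hclo_4213 : allC (cloChk dD dC dE dCl) 4213 91 = true := by decide +kernel

set_option maxRecDepth 1000000 in
theorem cls_hclo_4214 : allC (cloChk dD dC dE dCl) 4214 91 = true := by decide +kernel

set_option maxRecDepth 1000000 in
theorem cls_hclo_4215 : allC (cloChk dD dC dE dCl) 4215 91 = true := by decide +kernel

set_option maxRecDepth 1000000 in
theorem cls_hclo_4216 : allC (cloChk dD dC dE dCl) 4216 91 = true := by decide +kernel

set_option maxRecDepth 1000000 in
theorem cls_hclo_4217 : allC (cloChk dD dC dE dCl) 4217 91 = true := by decide +kernel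

set_option maxRecDepth 1000000 in
theorem cls_hclo_4218 : allC (cloChk dD dC dE dCl) 4218 91 = true := by decide +kernel

set_option maxRecDepth 1000000 in
theorem cls_hclo_4219 : allC (cloChk dD dC dE dCl) 4219 91 = true := by decide +kernel

set_option maxRecDepth 1000000 in
theorem cls_hclo_4220 : allC (cloChk dD dC dE dCl) 4220 91 = true := by decide +kernel

set_option maxRecDepth 1000000 in
theorem cls_hclo_4221 : allC (cloChk dD dC dE dCl) 4221 91 = true := by decide +kernel

set_option maxRecDepth 1000000 in
theorem cls_hclo_4222 : allC (cloChk dD dC dE dCl) 4222 91 = true := by decide +kernel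

set_option maxRecDepth 1000000 in
theorem cls_hclo_4223 : allC (cloChk dD dC dE dCl) 4223 91 = true := by decide +kernel

set_option maxRecDepth 1000000 in
theorem cls_hclo_4224 : allC (cloChk dD dC dE dCl) 4224 91 = true := by decide +kernel

set_option maxRecDepth 1000000 in
theorem cls_hclo_4225 : allC (cloChk dD dC dE dCl) 4225 91 = true := by decide +kernel

set_option maxRecDepth 1000000 in
theorem cls_hclo_4226 : allC (cloChk dD dC dE dCl) 4226 91 = true := by decide +kernel

set_option maxRecDepth 1000000 in
theorem cls_hclo_4227 : allC (cloChk dD dC dE dCl) 4227 91 = true := by decide +kernel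

set_option maxRecDepth 1000000 in
theorem cls_hclo_4228 : allC (cloChk dD dC dE dCl) 4228 91 = true := by decide +kernel

set_option maxRecDepth 1000000 in
theorem cls_hclo_4229 : allC (cloChk dD dC dE dCl) 4229 91 = true := by decide +kernel

set_option maxRecDepth 1000000 in
theorem cls_hclo_4230 : allC (cloChk dD dC dE dCl) 4230 91 = true := by decide +kernel

set_option maxRecDepth 1000000 in
theorem cls_hclo_4231 : allC (cloChk dD dC dE dCl) 4231 91 = true := by decide +kernel

set_option maxRecDepth 1000000 in
theorem cls_hclo_4232 : allC (cloChk dD dC dE dCl) 4232 91 = true := by decide +kernel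

set_option maxRecDepth 1000000 in
theorem cls_hclo_4233 : allC (cloChk dD dC dE dCl) 4233 91 = true := by decide +kernel

set_option maxRecDepth 1000000 in
theorem cls_hclo_4234 : allC (cloChk dD dC dE dCl) 4234 91 = true := by decide +kernel

set_option maxRecDepth 1000000 in
theorem cls_hclo_4235 : allC (cloChk dD dC dE dCl) 4235 91 = true := by decide +kernel

set_option maxRecDepth 1000000 in
theorem cls_hclo_4236 : allC (cloChk dD dC dE dCl) 4236 91 = true := by decide +kernel

set_option maxRecDepth 1000000 in
theorem cls_hclo_4237 : allC (cloChk dD dC dE dCl) 4237 91 = true := by decide +kernel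

set_option maxRecDepth 1000000 in
theorem cls_hclo_4238 : allC (cloChk dD dC dE dCl) 4238 91 = true := by decide +kernel

set_option maxRecDepth 1000000 in
theorem cls_hclo_4239 : allC (cloChk dD dC dE dCl) 4239 91 = true := by decide +kernel

set_option maxRecDepth 1000000 in
theorem cls_hclo_4240 : allC (cloChk dD dC dE dCl) 4240 91 = true := by decide +kernel

set_option maxRecDepth 1000000 in
theorem cls_hclo_4241 : allC (cloChk dD dC dE dCl) 4241 91 = true := by decide +kernel

set_option maxRecDepth 1000000 in
theorem cls_hclo_4242 : allC (cloChk dD dC dE dCl) 4242 91 = true := by decide +kernel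

set_option maxRecDepth 1000000 in
theorem cls_hclo_4243 : allC (cloChk dD dC dE dCl) 4243 91 = true := by decide +kernel

set_option maxRecDepth 1000000 in
theorem cls_hclo_4244 : allC (cloChk dD dC dE dCl) 4244 91 = true := by decide +kernel

set_option maxRecDepth 1000000 in
theorem cls_hclo_4245 : allC (cloChk dD dC dE dCl) 4245 91 = true := by decide +kernel

set_option maxRecDepth 1000000 in
theorem cls_hclo_4246 : allC (cloChk dD dC dE dCl) 4246 91 = true := by decide +kernel

set_option maxRecDepth 1000000 in
theorem cls_hclo_4247 : allC (cloChk dD dC dE dCl) 4247 91 = true := by decide +kernel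

set_option maxRecDepth 1000000 in
theorem cls_hclo_4248 : allC (cloChk dD dC dE dCl) 4248 91 = true := by decide +kernel

set_option maxRecDepth 1000000 in
theorem cls_hclo_4249 : allC (cloChk dD dC dE dCl) 4249 91 = true := by decide +kernel

set_option maxRecDepth 1000000 in
theorem cls_hclo_4250 : allC (cloChk dD dC dE dCl) 4250 91 = true := by decide +kernel

set_option maxRecDepth 1000000 in
theorem cls_hclo_4251 : allC (cloChk dD dC dE dCl) 4251 91 = true := by decide +kernel

set_option maxRecDepth 1000000 in
theorem cls_hclo_4252 : allC (cloChk dD dC dE dCl) 4252 91 = true := by decide +kernel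

set_option maxRecDepth 1000000 in
theorem cls_hclo_4253 : allC (cloChk dD dC dE dCl) 4253 91 = true := by decide +kernel

set_option maxRecDepth 1000000 in
theorem cls_hclo_4254 : allC (cloChk dD dC dE dCl) 4254 91 = true := by decide +kernel

set_option maxRecDepth 1000000 in
theorem cls_hclo_4255 : allC (cloChk dD dC dE dCl) 4255 91 = true := by decide +kernel

set_option maxRecDepth 1000000 in
theorem cls_hclo_4256 : allC (cloChk dD dC dE dCl) 4256 91 = true := by decide +kernel

set_option maxRecDepth 1000000 in
theorem cls_hclo_4257 : allC (cloChk dD dC dE dCl) 4257 91 = true := by decide +kernel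

set_option maxRecDepth 1000000 in
theorem cls_hclo_4258 : allC (cloChk dD dC dE dCl) 4258 91 = true := by decide +kernel

set_option maxRecDepth 1000000 in
theorem cls_hclo_4259 : allC (cloChk dD dC dE dCl) 4259 91 = true := by decide +kernel

set_option maxRecDepth 1000000 in
theorem cls_hclo_4260 : allC (cloChk dD dC dE dCl) 4260 91 = true := by decide +kernel

set_option maxRecDepth 1000000 in
theorem cls_hclo_4261 : allC (cloChk dD dC dE dCl) 4261 91 = true := by decide +kernel

set_option maxRecDepth 1000000 in
theorem cls_hclo_4262 : allC (cloChk dD dC dE dCl) 4262 91 = true := by decide +kernel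

set_option maxRecDepth 1000000 in
theorem cls_hclo_4263 : allC (cloChk dD dC dE dCl) 4263 91 = true := by decide +kernel

set_option maxRecDepth 1000000 in
theorem cls_hclo_4264 : allC (cloChk dD dC dE dCl) 4264 91 = true := by decide +kernel

set_option maxRecDepth 1000000 in
theorem cls_hclo_4265 : allC (cloChk dD dC dE dCl) 4265 91 = true := by decide +kernel

set_option maxRecDepth 1000000 in
theorem cls_hclo_4266 : allC (cloChk dD dC dE dCl) 4266 91 = true := by decide +kernel

set_option maxRecDepth 1000000 in
theorem cls_hclo_4267 : allC (cloChk dD dC dE dCl) 4267 91 = true := by decide +kernel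

set_option maxRecDepth 1000000 in
theorem cls_hclo_4268 : allC (cloChk dD dC dE dCl) 4268 91 = true := by decide +kernel

set_option maxRecDepth 1000000 in
theorem cls_hclo_4269 : allC (cloChk dD dC dE dCl) 4269 91 = true := by decide +kernel

set_option maxRecDepth 1000000 in
theorem cls_hclo_4270 : allC (cloChk dD dC dE dCl) 4270 91 = true := by decide +kernel

set_option maxRecDepth 1000000 in
theorem cls_hclo_4271 : allC (cloChk dD dC dE dCl) 4271 91 = true := by decide +kernel

set_option maxRecDepth 1000000 in
theorem cls_hclo_4272 : allC (cloChk dD dC dE dCl) 4272 91 = true := by decide +kernel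

set_option maxRecDepth 1000000 in
theorem cls_hclo_4273 : allC (cloChk dD dC dE dCl) 4273 91 = true := by decide +kernel

set_option maxRecDepth 1000000 in
theorem cls_hclo_4274 : allC (cloChk dD dC dE dCl) 4274 91 = true := by decide +kernel

set_option maxRecDepth 1000000 in
theorem cls_hclo_4275 : allC (cloChk dD dC dE dCl) 4275 91 = true := by decide +kernel

set_option maxRecDepth 1000000 in
theorem cls_hclo_4276 : allC (cloChk dD dC dE dCl) 4276 91 = true := by decide +kernel

set_option maxRecDepth 1000000 in
theorem cls_hclo_4277 : allC (cloChk dD dC dE dCl) 4277 91 = true := by decide +kernel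

set_option maxRecDepth 1000000 in
theorem cls_hclo_4278 : allC (cloChk dD dC dE dCl) 4278 91 = true := by decide +kernel

set_option maxRecDepth 1000000 in
theorem cls_hclo_4279 : allC (cloChk dD dC dE dCl) 4279 91 = true := by decide +kernel

set_option maxRecDepth 1000000 in
theorem cls_hclo_4280 : allC (cloChk dD dC dE dCl) 4280 91 = true := by decide +kernel

set_option maxRecDepth 1000000 in
theorem cls_hclo_4281 : allC (cloChk dD dC dE dCl) 4281 91 = true := by decide +kernel

set_option maxRecDepth 1000000 in
theorem cls_hclo_4282 : allC (cloChk dD dC dE dCl) 4282 91 = true := by decide +kernel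

set_option maxRecDepth 1000000 in
theorem cls_hclo_4283 : allC (cloChk dD dC dE dCl) 4283 91 = true := by decide +kernel

set_option maxRecDepth 1000000 in
theorem cls_hclo_4284 : allC (cloChk dD dC dE dCl) 4284 91 = true := by decide +kernel

set_option maxRecDepth 1000000 in
theorem cls_hclo_4285 : allC (cloChk dD dC dE dCl) 4285 91 = true := by decide +kernel

set_option maxRecDepth 1000000 in
theorem cls_hclo_4286 : allC (cloChk dD dC dE dCl) 4286 91 = true := by decide +kernel

set_option maxRecDepth 1000000 in
theorem cls_hclo_4287 : allC (cloChk dD dC dE dCl) 4287 91 = true := by decide +kernel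

set_option maxRecDepth 1000000 in
theorem cls_hclo_4288 : allC (cloChk dD dC dE dCl) 4288 91 = true := by decide +kernel

set_option maxRecDepth 1000000 in
theorem cls_hclo_4289 : allC (cloChk dD dC dE dCl) 4289 91 = true := by decide +kernel

set_option maxRecDepth 1000000 in
theorem cls_hclo_4290 : allC (cloChk dD dC dE dCl) 4290 91 = true := by decide +kernel

set_option maxRecDepth 1000000 in
theorem cls_hclo_4291 : allC (cloChk dD dC dE dCl) 4291 91 = true := by decide +kernel

set_option maxRecDepth 1000000 in
theorem cls_hclo_4292 : allC (cloChk dD dC dE dCl) 4292 91 = true := by decide +kernel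

set_option maxRecDepth 1000000 in
theorem cls_hclo_4293 : allC (cloChk dD dC dE dCl) 4293 91 = true := by decide +kernel

set_option maxRecDepth 1000000 in
theorem cls_hclo_4294 : allC (cloChk dD dC dE dCl) 4294 91 = true := by decide +kernel

set_option maxRecDepth 1000000 in
theorem cls_hclo_4295 : allC (cloChk dD dC dE dCl) 4295 91 = true := by decide +kernel

set_option maxRecDepth 1000000 in
theorem cls_hclo_4296 : allC (cloChk dD dC dE dCl) 4296 91 = true := by decide +kernel

set_option maxRecDepth 1000000 in
theorem cls_hclo_4297 : allC (cloChk dD dC dE dCl) 4297 91 = true := by decide +kernel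

set_option maxRecDepth 1000000 in
theorem cls_hclo_4298 : allC (cloChk dD dC dE dCl) 4298 91 = true := by decide +kernel

set_option maxRecDepth 1000000 in
theorem cls_hclo_4299 : allC (cloChk dD dC dE dCl) 4299 91 = true := by decide +kernel

end Cfsg.Agent.Helper9.RuO

end
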