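import Mathlib
import Cfsg.Agent.Helper9.RuO.Data

set_option autoImplicit false

/-! Kernel checks of the certificates, a part. -/

noncomputable section

namespace Cfsg.Agent.Helper9.RuO

open Cfsg.Agent.Helper9.OutG Cfsg.Agent.Helper9.J3

set_option maxRecDepth 1000000 in
theorem cls_hclo_4300 : allC (cloChk dD dC dE dCl) 4300 91 = true := by decide +kernel

set_option maxRecDepth 1000000 in
theorem cls_hclo_4301 : allC (cloChk dD dC dE dCl) 4301 91 = true := by decide +kernel

set_option maxRecDepth 1000000 in
theorem cls_hclo_4302 : allC (cloChk dD dC dE dCl) 4302 91 = true := by decide +kernel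

set_option maxRecDepth 1000000 in
theorem cls_hclo_4303 : allC (cloChk dD dC dE dCl) 4303 91 = true := by decide +kernel

set_option maxRecDepth 1000000 in
theorem cls_hclo_4304 : allC (cloChk dD dC dE dCl) 4304 91 = true := by decide +kernel

set_option maxRecDepth 1000000 in
theorem cls_hclo_4305 : allC (cloChk dD dC dE dCl) 4305 91 = true := by decide +kernel

set_option maxRecDepth 1000000 in
theorem cls_hclo_4306 : allC (cloChk dD dC dE dCl) 4306 91 = true := by decide +kernel

set_option maxRecDepth 1000000 in
theorem cls_hclo_4307 : allC (cloChk dD dC dE dCl) 4307 91 = true := by decide +kernel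

set_option maxRecDepth 1000000 in
theorem cls_hclo_4308 : allC (cloChk dD dC dE dCl) 4308 91 = true := by decide +kernel

set_option maxRecDepth 1000000 in
theorem cls_hclo_4309 : allC (cloChk dD dC dE dCl) 4309 91 = true := by decide +kernel

set_option maxRecDepth 1000000 in
theorem cls_hclo_4310 : allC (cloChk dD dC dE dCl) 4310 91 = true := by decide +kernel

set_option maxRecDepth 1000000 in
theorem cls_hclo_4311 : allC (cloChk dD dC dE dCl) 4311 91 = true := by decide +kernel

set_option maxRecDepth 1000000 in
theorem cls_hclo_4312 : allC (cloChk dD dC dE dCl) 4312 91 = true := by decide +kernel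

set_option maxRecDepth 1000000 in
theorem cls_hclo_4313 : allC (cloChk dD dC dE dCl) 4313 91 = true := by decide +kernel

set_option maxRecDepth 1000000 in
theorem cls_hclo_4314 : allC (cloChk dD dC dE dCl) 4314 91 = true := by decide +kernel

set_option maxRecDepth 1000000 in
theorem cls_hclo_4315 : allC (cloChk dD dC dE dCl) 4315 91 = true := by decide +kernel

set_option maxRecDepth 1000000 in
theorem cls_hclo_4316 : allC (cloChk dD dC dE dCl) 4316 91 = true := by decide +kernel

set_option maxRecDepth 1000000 in
theorem cls_hclo_4317 : allC (cloChk dD dC dE dCl) 4317 91 = true := by decide +kernel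

set_option maxRecDepth 1000000 in
theorem cls_hclo_4318 : allC (cloChk dD dC dE dCl) 4318 91 = true := by decide +kernel

set_option maxRecDepth 1000000 in
theorem cls_hclo_4319 : allC (cloChk dD dC dE dCl) 4319 91 = true := by decide +kernel

set_option maxRecDepth 1000000 in
theorem cls_hclo_4320 : allC (cloChk dD dC dE dCl) 4320 91 = true := by decide +kernel

set_option maxRecDepth 1000000 in
theorem cls_hclo_4321 : allC (cloChk dD dC dE dCl) 4321 91 = true := by decide +kernel

set_option maxRecDepth 1000000 in
theorem cls_hclo_4322 : allC (cloChk dD dC dE dCl) 4322 91 = true := by decide +kernel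

set_option maxRecDepth 1000000 in
theorem cls_hclo_4323 : allC (cloChk dD dC dE dCl) 4323 91 = true := by decide +kernel

set_option maxRecDepth 1000000 in
theorem cls_hclo_4324 : allC (cloChk dD dC dE dCl) 4324 91 = true := by decide +kernel

set_option maxRecDepth 1000000 in
theorem cls_hclo_4325 : allC (cloChk dD dC dE dCl) 4325 91 = true := by decide +kernel

set_option maxRecDepth 1000000 in
theorem cls_hclo_4326 : allC (cloChk dD dC dE dCl) 4326 91 = true := by decide +kernel

set_option maxRecDepth 1000000 in
theorem cls_hclo_4327 : allC (cloChk dD dC dE dCl) 4327 91 = true := by decide +kernel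

set_option maxRecDepth 1000000 in
theorem cls_hclo_4328 : allC (cloChk dD dC dE dCl) 4328 91 = true := by decide +kernel

set_option maxRecDepth 1000000 in
theorem cls_hclo_4329 : allC (cloChk dD dC dE dCl) 4329 91 = true := by decide +kernel

set_option maxRecDepth 1000000 in
theorem cls_hclo_4330 : allC (cloChk dD dC dE dCl) 4330 91 = true := by decide +kernel

set_option maxRecDepth 1000000 in
theorem cls_hclo_4331 : allC (cloChk dD dC dE dCl) 4331 91 = true := by decide +kernel

set_option maxRecDepth 1000000 in
theorem cls_hclo_4332 : allC (cloChk dD dC dE dCl) 4332 91 = true := by decide +kernel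

set_option maxRecDepth 1000000 in
theorem cls_hclo_4333 : allC (cloChk dD dC dE dCl) 4333 91 = true := by decide +kernel

set_option maxRecDepth 1000000 in
theorem cls_hclo_4334 : allC (cloChk dD dC dE dCl) 4334 91 = true := by decide +kernel

set_option maxRecDepth 1000000 in
theorem cls_hclo_4335 : allC (cloChk dD dC dE dCl) 4335 91 = true := by decide +kernel

set_option maxRecDepth 1000000 in
theorem cls_hclo_4336 : allC (cloChk dD dC dE dCl) 4336 91 = true := by decide +kernel

set_option maxRecDepth 1000000 in
theorem cls_hclo_4337 : allC (cloChk dD dC dE dCl) 4337 91 = true := by decide +kernel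

set_option maxRecDepth 1000000 in
theorem cls_hclo_4338 : allC (cloChk dD dC dE dCl) 4338 91 = true := by decide +kernel

set_option maxRecDepth 1000000 in
theorem cls_hclo_4339 : allC (cloChk dD dC dE dCl) 4339 91 = true := by decide +kernel

set_option maxRecDepth 1000000 in
theorem cls_hclo_4340 : allC (cloChk dD dC dE dCl) 4340 91 = true := by decide +kernel

set_option maxRecDepth 1000000 in
theorem cls_hclo_4341 : allC (cloChk dD dC dE dCl) 4341 91 = true := by decide +kernel

set_option maxRecDepth 1000000 in
theorem cls_hclo_4342 : allC (cloChk dD dC dE dCl) 4342 91 = true := by decide +kernel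

set_option maxRecDepth 1000000 in
theorem cls_hclo_4343 : allC (cloChk dD dC dE dCl) 4343 91 = true := by decide +kernel

set_option maxRecDepth 1000000 in
theorem cls_hclo_4344 : allC (cloChk dD dC dE dCl) 4344 91 = true := by decide +kernel

set_option maxRecDepth 1000000 in
theorem cls_hclo_4345 : allC (cloChk dD dC dE dCl) 4345 91 = true := by decide +kernel

set_option maxRecDepth 1000000 in
theorem cls_hclo_4346 : allC (cloChk dD dC dE dCl) 4346 91 = true := by decide +kernel

set_option maxRecDepth 1000000 in
theorem cls_hclo_4347 : allC (cloChk dD dC dE dCl) 4347 91 = true := by decide +kernel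

set_option maxRecDepth 1000000 in
theorem cls_hclo_4348 : allC (cloChk dD dC dE dCl) 4348 91 = true := by decide +kernel

set_option maxRecDepth 1000000 in
theorem cls_hclo_4349 : allC (cloChk dD dC dE dCl) 4349 91 = true := by decide +kernel

set_option maxRecDepth 1000000 in
theorem cls_hclo_4350 : allC (cloChk dD dC dE dCl) 4350 91 = true := by decide +kernel

set_option maxRecDepth 1000000 in
theorem cls_hclo_4351 : allC (cloChk dD dC dE dCl) 4351 91 = true := by decide +kernel

set_option maxRecDepth 1000000 in
theorem cls_hclo_4352 : allC (cloChk dD dC dE dCl) 4352 91 = true := by decide +kernel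

set_option maxRecDepth 1000000 in
theorem cls_hclo_4353 : allC (cloChk dD dC dE dCl) 4353 91 = true := by decide +kernel

set_option maxRecDepth 1000000 in
theorem cls_hclo_4354 : allC (cloChk dD dC dE dCl) 4354 91 = true := by decide +kernel

set_option maxRecDepth 1000000 in
theorem cls_hclo_4355 : allC (cloChk dD dC dE dCl) 4355 91 = true := by decide +kernel

set_option maxRecDepth 1000000 in
theorem cls_hclo_4356 : allC (cloChk dD dC dE dCl) 4356 91 = true := by decide +kernel

set_option maxRecDepth 1000000 in
theorem cls_hclo_4357 : allC (cloChk dD dC dE dCl) 4357 91 = true := by decide +kernel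

set_option maxRecDepth 1000000 in
theorem cls_hclo_4358 : allC (cloChk dD dC dE dCl) 4358 91 = true := by decide +kernel

set_option maxRecDepth 1000000 in
theorem cls_hclo_4359 : allC (cloChk dD dC dE dCl) 4359 91 = true := by decide +kernel

set_option maxRecDepth 1000000 in
theorem cls_hclo_4360 : allC (cloChk dD dC dE dCl) 4360 91 = true := by decide +kernel

set_option maxRecDepth 1000000 in
theorem cls_hclo_4361 : allC (cloChk dD dC dE dCl) 4361 91 = true := by decide +kernel

set_option maxRecDepth 1000000 in
theorem cls_hclo_4362 : allC (cloChk dD dC dE dCl) 4362 91 = true := by decide +kernel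

set_option maxRecDepth 1000000 in
theorem cls_hclo_4363 : allC (cloChk dD dC dE dCl) 4363 91 = true := by decide +kernel

set_option maxRecDepth 1000000 in
theorem cls_hclo_4364 : allC (cloChk dD dC dE dCl) 4364 91 = true := by decide +kernel

set_option maxRecDepth 1000000 in
theorem cls_hclo_4365 : allC (cloChk dD dC dE dCl) 4365 91 = true := by decide +kernel

set_option maxRecDepth 1000000 in
theorem cls_hclo_4366 : allC (cloChk dD dC dE dCl) 4366 91 = true := by decide +kernel

set_option maxRecDepth 1000000 in
theorem cls_hclo_4367 : allC (cloChk dD dC dE dCl) 4367 91 = true := by decide +kernel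

set_option maxRecDepth 1000000 in
theorem cls_hclo_4368 : allC (cloChk dD dC dE dCl) 4368 91 = true := by decide +kernel

set_option maxRecDepth 1000000 in
theorem cls_hclo_4369 : allC (cloChk dD dC dE dCl) 4369 91 = true := by decide +kernel

set_option maxRecDepth 1000000 in
theorem cls_hclo_4370 : allC (cloChk dD dC dE dCl) 4370 91 = true := by decide +kernel

set_option maxRecDepth 1000000 in
theorem cls_hclo_4371 : allC (cloChk dD dC dE dCl) 4371 91 = true := by decide +kernel

set_option maxRecDepth 1000000 in
theorem cls_hclo_4372 : allC (cloChk dD dC dE dCl) 4372 91 = true := by decide +kernel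

set_option maxRecDepth 1000000 in
theorem cls_hclo_4373 : allC (cloChk dD dC dE dCl) 4373 91 = true := by decide +kernel

set_option maxRecDepth 1000000 in
theorem cls_hclo_4374 : allC (cloChk dD dC dE dCl) 4374 91 = true := by decide +kernel

set_option maxRecDepth 1000000 in
theorem cls_hclo_4375 : allC (cloChk dD dC dE dCl) 4375 91 = true := by decide +kernel

set_option maxRecDepth 1000000 in
theorem cls_hclo_4376 : allC (cloChk dD dC dE dCl) 4376 91 = true := by decide +kernel

set_option maxRecDepth 1000000 in
theorem cls_hclo_4377 : allC (cloChk dD dC dE dCl) 4377 91 = true := by decide +kernel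

set_option maxRecDepth 1000000 in
theorem cls_hclo_4378 : allC (cloChk dD dC dE dCl) 4378 91 = true := by decide +kernel

set_option maxRecDepth 1000000 in
theorem cls_hclo_4379 : allC (cloChk dD dC dE dCl) 4379 91 = true := by decide +kernel

set_option maxRecDepth 1000000 in
theorem cls_hclo_4380 : allC (cloChk dD dC dE dCl) 4380 91 = true := by decide +kernel

set_option maxRecDepth 1000000 in
theorem cls_hclo_4381 : allC (cloChk dD dC dE dCl) 4381 91 = true := by decide +kernel

set_option maxRecDepth 1000000 in
theorem cls_hclo_4382 : allC (cloChk dD dC dE dCl) 4382 91 = true := by decide +kernel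

set_option maxRecDepth 1000000 in
theorem cls_hclo_4383 : allC (cloChk dD dC dE dCl) 4383 91 = true := by decide +kernel

set_option maxRecDepth 1000000 in
theorem cls_hclo_4384 : allC (cloChk dD dC dE dCl) 4384 91 = true := by decide +kernel

set_option maxRecDepth 1000000 in
theorem cls_hclo_4385 : allC (cloChk dD dC dE dCl) 4385 91 = true := by decide +kernel

set_option maxRecDepth 1000000 in
theorem cls_hclo_4386 : allC (cloChk dD dC dE dCl) 4386 91 = true := by decide +kernel

set_option maxRecDepth 1000000 in
theorem cls_hclo_4387 : allC (cloChk dD dC dE dCl) 4387 91 = true := by decide +kernel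

set_option maxRecDepth 1000000 in
theorem cls_hclo_4388 : allC (cloChk dD dC dE dCl) 4388 91 = true := by decide +kernel

set_option maxRecDepth 1000000 in
theorem cls_hclo_4389 : allC (cloChk dD dC dE dCl) 4389 91 = true := by decide +kernel

set_option maxRecDepth 1000000 in
theorem cls_hclo_4390 : allC (cloChk dD dC dE dCl) 4390 91 = true := by decide +kernel

set_option maxRecDepth 1000000 in
theorem cls_hclo_4391 : allC (cloChk dD dC dE dCl) 4391 91 = true := by decide +kernel

set_option maxRecDepth 1000000 in
theorem cls_hclo_4392 : allC (cloChk dD dC dE dCl) 4392 91 = true := by decide +kernel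

set_option maxRecDepth 1000000 in
theorem cls_hclo_4393 : allC (cloChk dD dC dE dCl) 4393 91 = true := by decide +kernel

set_option maxRecDepth 1000000 in
theorem cls_hclo_4394 : allC (cloChk dD dC dE dCl) 4394 91 = true := by decide +kernel

set_option maxRecDepth 1000000 in
theorem cls_hclo_4395 : allC (cloChk dD dC dE dCl) 4395 91 = true := by decide +kernel

set_option maxRecDepth 1000000 in
theorem cls_hclo_4396 : allC (cloChk dD dC dE dCl) 4396 91 = true := by decide +kernel

set_option maxRecDepth 1000000 in
theorem cls_hclo_4397 : allC (cloChk dD dC dE dCl) 4397 91 = true := by decide +kernel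

set_option maxRecDepth 1000000 in
theorem cls_hclo_4398 : allC (cloChk dD dC dE dCl) 4398 91 = true := by decide +kernel

set_option maxRecDepth 1000000 in
theorem cls_hclo_4399 : allC (cloChk dD dC dE dCl) 4399 91 = true := by decide +kernel

end Cfsg.Agent.Helper9.RuO

end
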