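import Mathlib
import Cfsg.Agent.Helper9.RuO.Data

set_option autoImplicit false

/-! Kernel checks of the certificates, a part. -/

noncomputable section

namespace Cfsg.Agent.Helper9.RuO

open Cfsg.Agent.Helper9.OutG Cfsg.Agent.Helper9.J3

set_option maxRecDepth 1000000 in
theorem cls_hclo_4400 : allC (cloChk dD dC dE dCl) 4400 91 = true := by decide +kernel

set_option maxRecDepth 1000000 in
theorem cls_hclo_4401 : allC (cloChk dD dC dE dCl) 4401 91 = true := by decide +kernel

set_option maxRecDepth 1000000 in
theorem cls_hclo_4402 : allC (cloChk dD dC dE dCl) 4402 91 = true := by decide +kernel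

set_option maxRecDepth 1000000 in
theorem cls_hclo_4403 : allC (cloChk dD dC dE dCl) 4403 91 = true := by decide +kernel

set_option maxRecDepth 1000000 in
theorem cls_hclo_4404 : allC (cloChk dD dC dE dCl) 4404 91 = true := by decide +kernel

set_option maxRecDepth 1000000 in
theorem cls_hclo_4405 : allC (cloChk dD dC dE dCl) 4405 91 = true := by decide +kernel

set_option maxRecDepth 1000000 in
theorem cls_hclo_4406 : allC (cloChk dD dC dE dCl) 4406 91 = true := by decide +kernel

set_option maxRecDepth 1000000 in
theorem cls_hclo_4407 : allC (cloChk dD dC dE dCl) 4407 91 = true := by decide +kernel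

set_option maxRecDepth 1000000 in
theorem cls_hclo_4408 : allC (cloChk dD dC dE dCl) 4408 91 = true := by decide +kernel

set_option maxRecDepth 1000000 in
theorem cls_hclo_4409 : allC (cloChk dD dC dE dCl) 4409 91 = true := by decide +kernel

set_option maxRecDepth 1000000 in
theorem cls_hclo_4410 : allC (cloChk dD dC dE dCl) 4410 91 = true := by decide +kernel

set_option maxRecDepth 1000000 in
theorem cls_hclo_4411 : allC (cloChk dD dC dE dCl) 4411 91 = true := by decide +kernel

set_option maxRecDepth 1000000 in
theorem cls_hclo_4412 : allC (cloChk dD dC dE dCl) 4412 91 = true := by decide +kernel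

set_option maxRecDepth 1000000 in
theorem cls_hclo_4413 : allC (cloChk dD dC dE dCl) 4413 91 = true := by decide +kernel

set_option maxRecDepth 1000000 in
theorem cls_hclo_4414 : allC (cloChk dD dC dE dCl) 4414 91 = true := by decide +kernel

set_option maxRecDepth 1000000 in
theorem cls_hclo_4415 : allC (cloChk dD dC dE dCl) 4415 91 = true := by decide +kernel

set_option maxRecDepth 1000000 in
theorem cls_hclo_4416 : allC (cloChk dD dC dE dCl) 4416 91 = true := by decide +kernel

set_option maxRecDepth 1000000 in
theorem cls_hclo_4417 : allC (cloChk dD dC dE dCl) 4417 91 = true := by decide +kernel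

set_option maxRecDepth 1000000 in
theorem cls_hclo_4418 : allC (cloChk dD dC dE dCl) 4418 91 = true := by decide +kernel

set_option maxRecDepth 1000000 in
theorem cls_hclo_4419 : allC (cloChk dD dC dE dCl) 4419 91 = true := by decide +kernel

set_option maxRecDepth 1000000 in
theorem cls_hclo_4420 : allC (cloChk dD dC dE dCl) 4420 91 = true := by decide +kernel

set_option maxRecDepth 1000000 in
theorem cls_hclo_4421 : allC (cloChk dD dC dE dCl) 4421 91 = true := by decide +kernel

set_option maxRecDepth 1000000 in
theorem cls_hclo_4422 : allC (cloChk dD dC dE dCl) 4422 91 = true := by decide +kernel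

set_option maxRecDepth 1000000 in
theorem cls_hclo_4423 : allC (cloChk dD dC dE dCl) 4423 91 = true := by decide +kernel

set_option maxRecDepth 1000000 in
theorem cls_hclo_4424 : allC (cloChk dD dC dE dCl) 4424 91 = true := by decide +kernel

set_option maxRecDepth 1000000 in
theorem cls_hclo_4425 : allC (cloChk dD dC dE dCl) 4425 91 = true := by decide +kernel

set_option maxRecDepth 1000000 in
theorem cls_hclo_4426 : allC (cloChk dD dC dE dCl) 4426 91 = true := by decide +kernel

set_option maxRecDepth 1000000 in
theorem cls_hclo_4427 : allC (cloChk dD dC dE dCl) 4427 91 = true := by decide +kernel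

set_option maxRecDepth 1000000 in
theorem cls_hclo_4428 : allC (cloChk dD dC dE dCl) 4428 91 = true := by decide +kernel

set_option maxRecDepth 1000000 in
theorem cls_hclo_4429 : allC (cloChk dD dC dE dCl) 4429 91 = true := by decide +kernel

set_option maxRecDepth 1000000 in
theorem cls_hclo_4430 : allC (cloChk dD dC dE dCl) 4430 91 = true := by decide +kernel

set_option maxRecDepth 1000000 in
theorem cls_hclo_4431 : allC (cloChk dD dC dE dCl) 4431 91 = true := by decide +kernel

set_option maxRecDepth 1000000 in
theorem cls_hclo_4432 : allC (cloChk dD dC dE dCl) 4432 91 = true := by decide +kernel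

set_option maxRecDepth 1000000 in
theorem cls_hclo_4433 : allC (cloChk dD dC dE dCl) 4433 91 = true := by decide +kernel

set_option maxRecDepth 1000000 in
theorem cls_hclo_4434 : allC (cloChk dD dC dE dCl) 4434 91 = true := by decide +kernel

set_option maxRecDepth 1000000 in
theorem cls_hclo_4435 : allC (cloChk dD dC dE dCl) 4435 91 = true := by decide +kernel

set_option maxRecDepth 1000000 in
theorem cls_hclo_4436 : allC (cloChk dD dC dE dCl) 4436 91 = true := by decide +kernel

set_option maxRecDepth 1000000 in
theorem cls_hclo_4437 : allC (cloChk dD dC dE dCl) 4437 91 = true := by decide +kernel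

set_option maxRecDepth 1000000 in
theorem cls_hclo_4438 : allC (cloChk dD dC dE dCl) 4438 91 = true := by decide +kernel

set_option maxRecDepth 1000000 in
theorem cls_hclo_4439 : allC (cloChk dD dC dE dCl) 4439 91 = true := by decide +kernel

set_option maxRecDepth 1000000 in
theorem cls_hclo_4440 : allC (cloChk dD dC dE dCl) 4440 91 = true := by decide +kernel

set_option maxRecDepth 1000000 in
theorem cls_hclo_4441 : allC (cloChk dD dC dE dCl) 4441 91 = true := by decide +kernel

set_option maxRecDepth 1000000 in
theorem cls_hclo_4442 : allC (cloChk dD dC dE dCl) 4442 91 = true := by decide +kernel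

set_option maxRecDepth 1000000 in
theorem cls_hclo_4443 : allC (cloChk dD dC dE dCl) 4443 91 = true := by decide +kernel

set_option maxRecDepth 1000000 in
theorem cls_hclo_4444 : allC (cloChk dD dC dE dCl) 4444 91 = true := by decide +kernel

set_option maxRecDepth 1000000 in
theorem cls_hclo_4445 : allC (cloChk dD dC dE dCl) 4445 91 = true := by decide +kernel

set_option maxRecDepth 1000000 in
theorem cls_hclo_4446 : allC (cloChk dD dC dE dCl) 4446 91 = true := by decide +kernel

set_option maxRecDepth 1000000 in
theorem cls_hclo_4447 : allC (cloChk dD dC dE dCl) 4447 91 = true := by decide +kernel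

set_option maxRecDepth 1000000 in
theorem cls_hclo_4448 : allC (cloChk dD dC dE dCl) 4448 91 = true := by decide +kernel

set_option maxRecDepth 1000000 in
theorem cls_hclo_4449 : allC (cloChk dD dC dE dCl) 4449 91 = true := by decide +kernel

set_option maxRecDepth 1000000 in
theorem cls_hclo_4450 : allC (cloChk dD dC dE dCl) 4450 91 = true := by decide +kernel

set_option maxRecDepth 1000000 in
theorem cls_hclo_4451 : allC (cloChk dD dC dE dCl) 4451 91 = true := by decide +kernel

set_option maxRecDepth 1000000 in
theorem cls_hclo_4452 : allC (cloChk dD dC dE dCl) 4452 91 = true := by decide +kernel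

set_option maxRecDepth 1000000 in
theorem cls_hclo_4453 : allC (cloChk dD dC dE dCl) 4453 91 = true := by decide +kernel

set_option maxRecDepth 1000000 in
theorem cls_hclo_4454 : allC (cloChk dD dC dE dCl) 4454 91 = true := by decide +kernel

set_option maxRecDepth 1000000 in
theorem cls_hclo_4455 : allC (cloChk dD dC dE dCl) 4455 91 = true := by decide +kernel

set_option maxRecDepth 1000000 in
theorem cls_hclo_4456 : allC (cloChk dD dC dE dCl) 4456 91 = true := by decide +kernel

set_option maxRecDepth 1000000 in
theorem cls_hclo_4457 : allC (cloChk dD dC dE dCl) 4457 91 = true := by decide +kernel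

set_option maxRecDepth 1000000 in
theorem cls_hclo_4458 : allC (cloChk dD dC dE dCl) 4458 91 = true := by decide +kernel

set_option maxRecDepth 1000000 in
theorem cls_hclo_4459 : allC (cloChk dD dC dE dCl) 4459 91 = true := by decide +kernel

set_option maxRecDepth 1000000 in
theorem cls_hclo_4460 : allC (cloChk dD dC dE dCl) 4460 91 = true := by decide +kernel

set_option maxRecDepth 1000000 in
theorem cls_hclo_4461 : allC (cloChk dD dC dE dCl) 4461 91 = true := by decide +kernel

set_option maxRecDepth 1000000 in
theorem cls_hclo_4462 : allC (cloChk dD dC dE dCl) 4462 91 = true := by decide +kernel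

set_option maxRecDepth 1000000 in
theorem cls_hclo_4463 : allC (cloChk dD dC dE dCl) 4463 91 = true := by decide +kernel

set_option maxRecDepth 1000000 in
theorem cls_hclo_4464 : allC (cloChk dD dC dE dCl) 4464 91 = true := by decide +kernel

set_option maxRecDepth 1000000 in
theorem cls_hclo_4465 : allC (cloChk dD dC dE dCl) 4465 91 = true := by decide +kernel

set_option maxRecDepth 1000000 in
theorem cls_hclo_4466 : allC (cloChk dD dC dE dCl) 4466 91 = true := by decide +kernel

set_option maxRecDepth 1000000 in
theorem cls_hclo_4467 : allC (cloChk dD dC dE dCl) 4467 91 = true := by decide +kernel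

set_option maxRecDepth 1000000 in
theorem cls_hclo_4468 : allC (cloChk dD dC dE dCl) 4468 91 = true := by decide +kernel

set_option maxRecDepth 1000000 in
theorem cls_hclo_4469 : allC (cloChk dD dC dE dCl) 4469 91 = true := by decide +kernel

set_option maxRecDepth 1000000 in
theorem cls_hclo_4470 : allC (cloChk dD dC dE dCl) 4470 91 = true := by decide +kernel

set_option maxRecDepth 1000000 in
theorem cls_hclo_4471 : allC (cloChk dD dC dE dCl) 4471 91 = true := by decide +kernel

set_option maxRecDepth 1000000 in
theorem cls_hclo_4472 : allC (cloChk dD dC dE dCl) 4472 91 = true := by decide +kernel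

set_option maxRecDepth 1000000 in
theorem cls_hclo_4473 : allC (cloChk dD dC dE dCl) 4473 91 = true := by decide +kernel

set_option maxRecDepth 1000000 in
theorem cls_hclo_4474 : allC (cloChk dD dC dE dCl) 4474 91 = true := by decide +kernel

set_option maxRecDepth 1000000 in
theorem cls_hclo_4475 : allC (cloChk dD dC dE dCl) 4475 91 = true := by decide +kernel

set_option maxRecDepth 1000000 in
theorem cls_hclo_4476 : allC (cloChk dD dC dE dCl) 4476 91 = true := by decide +kernel

set_option maxRecDepth 1000000 in
theorem cls_hclo_4477 : allC (cloChk dD dC dE dCl) 4477 91 = true := by decide +kernel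

set_option maxRecDepth 1000000 in
theorem cls_hclo_4478 : allC (cloChk dD dC dE dCl) 4478 91 = true := by decide +kernel

set_option maxRecDepth 1000000 in
theorem cls_hclo_4479 : allC (cloChk dD dC dE dCl) 4479 91 = true := by decide +kernel

set_option maxRecDepth 1000000 in
theorem cls_hclo_4480 : allC (cloChk dD dC dE dCl) 4480 91 = true := by decide +kernel

set_option maxRecDepth 1000000 in
theorem cls_hclo_4481 : allC (cloChk dD dC dE dCl) 4481 91 = true := by decide +kernel

set_option maxRecDepth 1000000 in
theorem cls_hclo_4482 : allC (cloChk dD dC dE dCl) 4482 91 = true := by decide +kernel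

set_option maxRecDepth 1000000 in
theorem cls_hclo_4483 : allC (cloChk dD dC dE dCl) 4483 91 = true := by decide +kernel

set_option maxRecDepth 1000000 in
theorem cls_hclo_4484 : allC (cloChk dD dC dE dCl) 4484 91 = true := by decide +kernel

set_option maxRecDepth 1000000 in
theorem cls_hclo_4485 : allC (cloChk dD dC dE dCl) 4485 91 = true := by decide +kernel

set_option maxRecDepth 1000000 in
theorem cls_hclo_4486 : allC (cloChk dD dC dE dCl) 4486 91 = true := by decide +kernel

set_option maxRecDepth 1000000 in
theorem cls_hclo_4487 : allC (cloChk dD dC dE dCl) 4487 91 = true := by decide +kernel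

set_option maxRecDepth 1000000 in
theorem cls_hclo_4488 : allC (cloChk dD dC dE dCl) 4488 91 = true := by decide +kernel

set_option maxRecDepth 1000000 in
theorem cls_hclo_4489 : allC (cloChk dD dC dE dCl) 4489 91 = true := by decide +kernel

set_option maxRecDepth 1000000 in
theorem cls_hclo_4490 : allC (cloChk dD dC dE dCl) 4490 91 = true := by decide +kernel

set_option maxRecDepth 1000000 in
theorem cls_hclo_4491 : allC (cloChk dD dC dE dCl) 4491 91 = true := by decide +kernel

set_option maxRecDepth 1000000 in
theorem cls_hclo_4492 : allC (cloChk dD dC dE dCl) 4492 91 = true := by decide +kernel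

set_option maxRecDepth 1000000 in
theorem cls_hclo_4493 : allC (cloChk dD dC dE dCl) 4493 91 = true := by decide +kernel

set_option maxRecDepth 1000000 in
theorem cls_hclo_4494 : allC (cloChk dD dC dE dCl) 4494 91 = true := by decide +kernel

set_option maxRecDepth 1000000 in
theorem cls_hclo_4495 : allC (cloChk dD dC dE dCl) 4495 91 = true := by decide +kernel

set_option maxRecDepth 1000000 in
theorem cls_hclo_4496 : allC (cloChk dD dC dE dCl) 4496 91 = true := by decide +kernel

set_option maxRecDepth 1000000 in
theorem cls_hclo_4497 : allC (cloChk dD dC dE dCl) 4497 91 = true := by decide +kernel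

set_option maxRecDepth 1000000 in
theorem cls_hclo_4498 : allC (cloChk dD dC dE dCl) 4498 91 = true := by decide +kernel

set_option maxRecDepth 1000000 in
theorem cls_hclo_4499 : allC (cloChk dD dC dE dCl) 4499 91 = true := by decide +kernel

end Cfsg.Agent.Helper9.RuO

end
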