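import Mathlib
import Cfsg.Agent.Helper9.RuO.Data

set_option autoImplicit false

/-! Kernel checks of the certificates, a part. -/

noncomputable section

namespace Cfsg.Agent.Helper9.RuO

open Cfsg.Agent.Helper9.OutG Cfsg.Agent.Helper9.J3

set_option maxRecDepth 1000000 in
theorem cls_hclo_4500 : allC (cloChk dD dC dE dCl) 4500 91 = true := by decide +kernel

set_option maxRecDepth 1000000 in
theorem cls_hclo_4501 : allC (cloChk dD dC dE dCl) 4501 91 = true := by decide +kernel

set_option maxRecDepth 1000000 in
theorem cls_hclo_4502 : allC (cloChk dD dC dE dCl) 4502 91 = true := by decide +kernel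

set_option maxRecDepth 1000000 in
theorem cls_hclo_4503 : allC (cloChk dD dC dE dCl) 4503 91 = true := by decide +kernel

set_option maxRecDepth 1000000 in
theorem cls_hclo_4504 : allC (cloChk dD dC dE dCl) 4504 91 = true := by decide +kernel

set_option maxRecDepth 1000000 in
theorem cls_hclo_4505 : allC (cloChk dD dC dE dCl) 4505 91 = true := by decide +kernel

set_option maxRecDepth 1000000 in
theorem cls_hclo_4506 : allC (cloChk dD dC dE dCl) 4506 91 = true := by decide +kernel

set_option maxRecDepth 1000000 in
theorem cls_hclo_4507 : allC (cloChk dD dC dE dCl) 4507 91 = true := by decide +kernel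

set_option maxRecDepth 1000000 in
theorem cls_hclo_4508 : allC (cloChk dD dC dE dCl) 4508 91 = true := by decide +kernel

set_option maxRecDepth 1000000 in
theorem cls_hclo_4509 : allC (cloChk dD dC dE dCl) 4509 91 = true := by decide +kernel

set_option maxRecDepth 1000000 in
theorem cls_hclo_4510 : allC (cloChk dD dC dE dCl) 4510 91 = true := by decide +kernel

set_option maxRecDepth 1000000 in
theorem cls_hclo_4511 : allC (cloChk dD dC dE dCl) 4511 91 = true := by decide +kernel

set_option maxRecDepth 1000000 in
theorem cls_hclo_4512 : allC (cloChk dD dC dE dCl) 4512 91 = true := by decide +kernel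

set_option maxRecDepth 1000000 in
theorem cls_hclo_4513 : allC (cloChk dD dC dE dCl) 4513 91 = true := by decide +kernel

set_option maxRecDepth 1000000 in
theorem cls_hclo_4514 : allC (cloChk dD dC dE dCl) 4514 91 = true := by decide +kernel

set_option maxRecDepth 1000000 in
theorem cls_hclo_4515 : allC (cloChk dD dC dE dCl) 4515 91 = true := by decide +kernel

set_option maxRecDepth 1000000 in
theorem cls_hclo_4516 : allC (cloChk dD dC dE dCl) 4516 91 = true := by decide +kernel

set_option maxRecDepth 1000000 in
theorem cls_hclo_4517 : allC (cloChk dD dC dE dCl) 4517 91 = true := by decide +kernel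

set_option maxRecDepth 1000000 in
theorem cls_hclo_4518 : allC (cloChk dD dC dE dCl) 4518 91 = true := by decide +kernel

set_option maxRecDepth 1000000 in
theorem cls_hclo_4519 : allC (cloChk dD dC dE dCl) 4519 91 = true := by decide +kernel

set_option maxRecDepth 1000000 in
theorem cls_hclo_4520 : allC (cloChk dD dC dE dCl) 4520 91 = true := by decide +kernel

set_option maxRecDepth 1000000 in
theorem cls_hclo_4521 : allC (cloChk dD dC dE dCl) 4521 91 = true := by decide +kernel

set_option maxRecDepth 1000000 in
theorem cls_hclo_4522 : allC (cloChk dD dC dE dCl) 4522 91 = true := by decide +kernel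

set_option maxRecDepth 1000000 in
theorem cls_hclo_4523 : allC (cloChk dD dC dE dCl) 4523 91 = true := by decide +kernel

set_option maxRecDepth 1000000 in
theorem cls_hclo_4524 : allC (cloChk dD dC dE dCl) 4524 91 = true := by decide +kernel

set_option maxRecDepth 1000000 in
theorem cls_hclo_4525 : allC (cloChk dD dC dE dCl) 4525 91 = true := by decide +kernel

set_option maxRecDepth 1000000 in
theorem cls_hclo_4526 : allC (cloChk dD dC dE dCl) 4526 91 = true := by decide +kernel

set_option maxRecDepth 1000000 in
theorem cls_hclo_4527 : allC (cloChk dD dC dE dCl) 4527 91 = true := by decide +kernel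

set_option maxRecDepth 1000000 in
theorem cls_hclo_4528 : allC (cloChk dD dC dE dCl) 4528 91 = true := by decide +kernel

set_option maxRecDepth 1000000 in
theorem cls_hclo_4529 : allC (cloChk dD dC dE dCl) 4529 91 = true := by decide +kernel

set_option maxRecDepth 1000000 in
theorem cls_hclo_4530 : allC (cloChk dD dC dE dCl) 4530 91 = true := by decide +kernel

set_option maxRecDepth 1000000 in
theorem cls_hclo_4531 : allC (cloChk dD dC dE dCl) 4531 91 = true := by decide +kernel

set_option maxRecDepth 1000000 in
theorem cls_hclo_4532 : allC (cloChk dD dC dE dCl) 4532 91 = true := by decide +kernel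

set_option maxRecDepth 1000000 in
theorem cls_hclo_4533 : allC (cloChk dD dC dE dCl) 4533 91 = true := by decide +kernel

set_option maxRecDepth 1000000 in
theorem cls_hclo_4534 : allC (cloChk dD dC dE dCl) 4534 91 = true := by decide +kernel

set_option maxRecDepth 1000000 in
theorem cls_hclo_4535 : allC (cloChk dD dC dE dCl) 4535 91 = true := by decide +kernel

set_option maxRecDepth 1000000 in
theorem cls_hclo_4536 : allC (cloChk dD dC dE dCl) 4536 91 = true := by decide +kernel

set_option maxRecDepth 1000000 in
theorem cls_hclo_4537 : allC (cloChk dD dC dE dCl) 4537 91 = true := by decide +kernel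

set_option maxRecDepth 1000000 in
theorem cls_hclo_4538 : allC (cloChk dD dC dE dCl) 4538 91 = true := by decide +kernel

set_option maxRecDepth 1000000 in
theorem cls_hclo_4539 : allC (cloChk dD dC dE dCl) 4539 91 = true := by decide +kernel

set_option maxRecDepth 1000000 in
theorem cls_hclo_4540 : allC (cloChk dD dC dE dCl) 4540 91 = true := by decide +kernel

set_option maxRecDepth 1000000 in
theorem cls_hclo_4541 : allC (cloChk dD dC dE dCl) 4541 91 = true := by decide +kernel

set_option maxRecDepth 1000000 in
theorem cls_hclo_4542 : allC (cloChk dD dC dE dCl) 4542 91 = true := by decide +kernel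

set_option maxRecDepth 1000000 in
theorem cls_hclo_4543 : allC (cloChk dD dC dE dCl) 4543 91 = true := by decide +kernel

set_option maxRecDepth 1000000 in
theorem cls_hclo_4544 : allC (cloChk dD dC dE dCl) 4544 91 = true := by decide +kernel

set_option maxRecDepth 1000000 in
theorem cls_hclo_4545 : allC (cloChk dD dC dE dCl) 4545 91 = true := by decide +kernel

set_option maxRecDepth 1000000 in
theorem cls_hclo_4546 : allC (cloChk dD dC dE dCl) 4546 91 = true := by decide +kernel

set_option maxRecDepth 1000000 in
theorem cls_hclo_4547 : allC (cloChk dD dC dE dCl) 4547 91 = true := by decide +kernel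

set_option maxRecDepth 1000000 in
theorem cls_hclo_4548 : allC (cloChk dD dC dE dCl) 4548 91 = true := by decide +kernel

set_option maxRecDepth 1000000 in
theorem cls_hclo_4549 : allC (cloChk dD dC dE dCl) 4549 91 = true := by decide +kernel

set_option maxRecDepth 1000000 in
theorem cls_hclo_4550 : allC (cloChk dD dC dE dCl) 4550 91 = true := by decide +kernel

set_option maxRecDepth 1000000 in
theorem cls_hclo_4551 : allC (cloChk dD dC dE dCl) 4551 91 = true := by decide +kernel

set_option maxRecDepth 1000000 in
theorem cls_hclo_4552 : allC (cloChk dD dC dE dCl) 4552 91 = true := by decide +kernel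

set_option maxRecDepth 1000000 in
theorem cls_hclo_4553 : allC (cloChk dD dC dE dCl) 4553 91 = true := by decide +kernel

set_option maxRecDepth 1000000 in
theorem cls_hclo_4554 : allC (cloChk dD dC dE dCl) 4554 91 = true := by decide +kernel

set_option maxRecDepth 1000000 in
theorem cls_hclo_4555 : allC (cloChk dD dC dE dCl) 4555 91 = true := by decide +kernel

set_option maxRecDepth 1000000 in
theorem cls_hclo_4556 : allC (cloChk dD dC dE dCl) 4556 91 = true := by decide +kernel

set_option maxRecDepth 1000000 in
theorem cls_hclo_4557 : allC (cloChk dD dC dE dCl) 4557 91 = true := by decide +kernel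

set_option maxRecDepth 1000000 in
theorem cls_hclo_4558 : allC (cloChk dD dC dE dCl) 4558 91 = true := by decide +kernel

set_option maxRecDepth 1000000 in
theorem cls_hclo_4559 : allC (cloChk dD dC dE dCl) 4559 91 = true := by decide +kernel

set_option maxRecDepth 1000000 in
theorem cls_hclo_4560 : allC (cloChk dD dC dE dCl) 4560 91 = true := by decide +kernel

set_option maxRecDepth 1000000 in
theorem cls_hclo_4561 : allC (cloChk dD dC dE dCl) 4561 91 = true := by decide +kernel

set_option maxRecDepth 1000000 in
theorem cls_hclo_4562 : allC (cloChk dD dC dE dCl) 4562 91 = true := by decide +kernel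

set_option maxRecDepth 1000000 in
theorem cls_hclo_4563 : allC (cloChk dD dC dE dCl) 4563 91 = true := by decide +kernel

set_option maxRecDepth 1000000 in
theorem cls_hclo_4564 : allC (cloChk dD dC dE dCl) 4564 91 = true := by decide +kernel

set_option maxRecDepth 1000000 in
theorem cls_hclo_4565 : allC (cloChk dD dC dE dCl) 4565 91 = true := by decide +kernel

set_option maxRecDepth 1000000 in
theorem cls_hclo_4566 : allC (cloChk dD dC dE dCl) 4566 91 = true := by decide +kernel

set_option maxRecDepth 1000000 in
theorem cls_hclo_4567 : allC (cloChk dD dC dE dCl) 4567 91 = true := by decide +kernel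

set_option maxRecDepth 1000000 in
theorem cls_hclo_4568 : allC (cloChk dD dC dE dCl) 4568 91 = true := by decide +kernel

set_option maxRecDepth 1000000 in
theorem cls_hclo_4569 : allC (cloChk dD dC dE dCl) 4569 91 = true := by decide +kernel

set_option maxRecDepth 1000000 in
theorem cls_hclo_4570 : allC (cloChk dD dC dE dCl) 4570 91 = true := by decide +kernel

set_option maxRecDepth 1000000 in
theorem cls_hclo_4571 : allC (cloChk dD dC dE dCl) 4571 91 = true := by decide +kernel

set_option maxRecDepth 1000000 in
theorem cls_hclo_4572 : allC (cloChk dD dC dE dCl) 4572 91 = true := by decide +kernel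

set_option maxRecDepth 1000000 in
theorem cls_hclo_4573 : allC (cloChk dD dC dE dCl) 4573 91 = true := by decide +kernel

set_option maxRecDepth 1000000 in
theorem cls_hclo_4574 : allC (cloChk dD dC dE dCl) 4574 91 = true := by decide +kernel

set_option maxRecDepth 1000000 in
theorem cls_hclo_4575 : allC (cloChk dD dC dE dCl) 4575 91 = true := by decide +kernel

set_option maxRecDepth 1000000 in
theorem cls_hclo_4576 : allC (cloChk dD dC dE dCl) 4576 91 = true := by decide +kernel

set_option maxRecDepth 1000000 in
theorem cls_hclo_4577 : allC (cloChk dD dC dE dCl) 4577 91 = true := by decide +kernel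

set_option maxRecDepth 1000000 in
theorem cls_hclo_4578 : allC (cloChk dD dC dE dCl) 4578 91 = true := by decide +kernel

set_option maxRecDepth 1000000 in
theorem cls_hclo_4579 : allC (cloChk dD dC dE dCl) 4579 91 = true := by decide +kernel

set_option maxRecDepth 1000000 in
theorem cls_hclo_4580 : allC (cloChk dD dC dE dCl) 4580 91 = true := by decide +kernel

set_option maxRecDepth 1000000 in
theorem cls_hclo_4581 : allC (cloChk dD dC dE dCl) 4581 91 = true := by decide +kernel

set_option maxRecDepth 1000000 in
theorem cls_hclo_4582 : allC (cloChk dD dC dE dCl) 4582 91 = true := by decide +kernel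

set_option maxRecDepth 1000000 in
theorem cls_hclo_4583 : allC (cloChk dD dC dE dCl) 4583 91 = true := by decide +kernel

set_option maxRecDepth 1000000 in
theorem cls_hclo_4584 : allC (cloChk dD dC dE dCl) 4584 91 = true := by decide +kernel

set_option maxRecDepth 1000000 in
theorem cls_hclo_4585 : allC (cloChk dD dC dE dCl) 4585 91 = true := by decide +kernel

set_option maxRecDepth 1000000 in
theorem cls_hclo_4586 : allC (cloChk dD dC dE dCl) 4586 91 = true := by decide +kernel

set_option maxRecDepth 1000000 in
theorem cls_hclo_4587 : allC (cloChk dD dC dE dCl) 4587 91 = true := by decide +kernel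

set_option maxRecDepth 1000000 in
theorem cls_hclo_4588 : allC (cloChk dD dC dE dCl) 4588 91 = true := by decide +kernel

set_option maxRecDepth 1000000 in
theorem cls_hclo_4589 : allC (cloChk dD dC dE dCl) 4589 91 = true := by decide +kernel

set_option maxRecDepth 1000000 in
theorem cls_hclo_4590 : allC (cloChk dD dC dE dCl) 4590 91 = true := by decide +kernel

set_option maxRecDepth 1000000 in
theorem cls_hclo_4591 : allC (cloChk dD dC dE dCl) 4591 91 = true := by decide +kernel

set_option maxRecDepth 1000000 in
theorem cls_hclo_4592 : allC (cloChk dD dC dE dCl) 4592 91 = true := by decide +kernel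

set_option maxRecDepth 1000000 in
theorem cls_hclo_4593 : allC (cloChk dD dC dE dCl) 4593 91 = true := by decide +kernel

set_option maxRecDepth 1000000 in
theorem cls_hclo_4594 : allC (cloChk dD dC dE dCl) 4594 91 = true := by decide +kernel

set_option maxRecDepth 1000000 in
theorem cls_hclo_4595 : allC (cloChk dD dC dE dCl) 4595 91 = true := by decide +kernel

set_option maxRecDepth 1000000 in
theorem cls_hclo_4596 : allC (cloChk dD dC dE dCl) 4596 91 = true := by decide +kernel

set_option maxRecDepth 1000000 in
theorem cls_hclo_4597 : allC (cloChk dD dC dE dCl) 4597 91 = true := by decide +kernel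

set_option maxRecDepth 1000000 in
theorem cls_hclo_4598 : allC (cloChk dD dC dE dCl) 4598 91 = true := by decide +kernel

set_option maxRecDepth 1000000 in
theorem cls_hclo_4599 : allC (cloChk dD dC dE dCl) 4599 91 = true := by decide +kernel

end Cfsg.Agent.Helper9.RuO

end
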