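import Mathlib
import Cfsg.Agent.Helper9.RuO.Data

set_option autoImplicit false

/-! Kernel checks of the certificates, a part. -/

noncomputable section

namespace Cfsg.Agent.Helper9.RuO

open Cfsg.Agent.Helper9.OutG Cfsg.Agent.Helper9.J3

set_option maxRecDepth 1000000 in
theorem cls_hclo_4600 : allC (cloChk dD dC dE dCl) 4600 91 = true := by decide +kernel

set_option maxRecDepth 1000000 in
theorem cls_hclo_4601 : allC (cloChk dD dC dE dCl) 4601 91 = true := by decide +kernel

set_option maxRecDepth 1000000 in
theorem cls_hclo_4602 : allC (cloChk dD dC dE dCl) 4602 91 = true := by decide +kernel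

set_option maxRecDepth 1000000 in
theorem cls_hclo_4603 : allC (cloChk dD dC dE dCl) 4603 91 = true := by decide +kernel

set_option maxRecDepth 1000000 in
theorem cls_hclo_4604 : allC (cloChk dD dC dE dCl) 4604 91 = true := by decide +kernel

set_option maxRecDepth 1000000 in
theorem cls_hclo_4605 : allC (cloChk dD dC dE dCl) 4605 91 = true := by decide +kernel

set_option maxRecDepth 1000000 in
theorem cls_hclo_4606 : allC (cloChk dD dC dE dCl) 4606 91 = true := by decide +kernel

set_option maxRecDepth 1000000 in
theorem cls_hclo_4607 : allC (cloChk dD dC dE dCl) 4607 91 = true := by decide +kernel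

set_option maxRecDepth 1000000 in
theorem cls_hclo_4608 : allC (cloChk dD dC dE dCl) 4608 91 = true := by decide +kernel

set_option maxRecDepth 1000000 in
theorem cls_hclo_4609 : allC (cloChk dD dC dE dCl) 4609 91 = true := by decide +kernel

set_option maxRecDepth 1000000 in
theorem cls_hclo_4610 : allC (cloChk dD dC dE dCl) 4610 91 = true := by decide +kernel

set_option maxRecDepth 1000000 in
theorem cls_hclo_4611 : allC (cloChk dD dC dE dCl) 4611 91 = true := by decide +kernel

set_option maxRecDepth 1000000 in
theorem cls_hclo_4612 : allC (cloChk dD dC dE dCl) 4612 91 = true := by decide +kernel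

set_option maxRecDepth 1000000 in
theorem cls_hclo_4613 : allC (cloChk dD dC dE dCl) 4613 91 = true := by decide +kernel

set_option maxRecDepth 1000000 in
theorem cls_hclo_4614 : allC (cloChk dD dC dE dCl) 4614 91 = true := by decide +kernel

set_option maxRecDepth 1000000 in
theorem cls_hclo_4615 : allC (cloChk dD dC dE dCl) 4615 91 = true := by decide +kernel

set_option maxRecDepth 1000000 in
theorem cls_hclo_4616 : allC (cloChk dD dC dE dCl) 4616 91 = true := by decide +kernel

set_option maxRecDepth 1000000 in
theorem cls_hclo_4617 : allC (cloChk dD dC dE dCl) 4617 91 = true := by decide +kernel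

set_option maxRecDepth 1000000 in
theorem cls_hclo_4618 : allC (cloChk dD dC dE dCl) 4618 91 = true := by decide +kernel

set_option maxRecDepth 1000000 in
theorem cls_hclo_4619 : allC (cloChk dD dC dE dCl) 4619 91 = true := by decide +kernel

set_option maxRecDepth 1000000 in
theorem cls_hclo_4620 : allC (cloChk dD dC dE dCl) 4620 91 = true := by decide +kernel

set_option maxRecDepth 1000000 in
theorem cls_hclo_4621 : allC (cloChk dD dC dE dCl) 4621 91 = true := by decide +kernel

set_option maxRecDepth 1000000 in
theorem cls_hclo_4622 : allC (cloChk dD dC dE dCl) 4622 91 = true := by decide +kernel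

set_option maxRecDepth 1000000 in
theorem cls_hclo_4623 : allC (cloChk dD dC dE dCl) 4623 91 = true := by decide +kernel

set_option maxRecDepth 1000000 in
theorem cls_hclo_4624 : allC (cloChk dD dC dE dCl) 4624 91 = true := by decide +kernel

set_option maxRecDepth 1000000 in
theorem cls_hclo_4625 : allC (cloChk dD dC dE dCl) 4625 91 = true := by decide +kernel

set_option maxRecDepth 1000000 in
theorem cls_hclo_4626 : allC (cloChk dD dC dE dCl) 4626 91 = true := by decide +kernel

set_option maxRecDepth 1000000 in
theorem cls_hclo_4627 : allC (cloChk dD dC dE dCl) 4627 91 = true := by decide +kernel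

set_option maxRecDepth 1000000 in
theorem cls_hclo_4628 : allC (cloChk dD dC dE dCl) 4628 91 = true := by decide +kernel

set_option maxRecDepth 1000000 in
theorem cls_hclo_4629 : allC (cloChk dD dC dE dCl) 4629 91 = true := by decide +kernel

set_option maxRecDepth 1000000 in
theorem cls_hclo_4630 : allC (cloChk dD dC dE dCl) 4630 91 = true := by decide +kernel

set_option maxRecDepth 1000000 in
theorem cls_hclo_4631 : allC (cloChk dD dC dE dCl) 4631 91 = true := by decide +kernel

set_option maxRecDepth 1000000 in
theorem cls_hclo_4632 : allC (cloChk dD dC dE dCl) 4632 91 = true := by decide +kernel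

set_option maxRecDepth 1000000 in
theorem cls_hclo_4633 : allC (cloChk dD dC dE dCl) 4633 91 = true := by decide +kernel

set_option maxRecDepth 1000000 in
theorem cls_hclo_4634 : allC (cloChk dD dC dE dCl) 4634 91 = true := by decide +kernel

set_option maxRecDepth 1000000 in
theorem cls_hclo_4635 : allC (cloChk dD dC dE dCl) 4635 91 = true := by decide +kernel

set_option maxRecDepth 1000000 in
theorem cls_hclo_4636 : allC (cloChk dD dC dE dCl) 4636 91 = true := by decide +kernel

set_option maxRecDepth 1000000 in
theorem cls_hclo_4637 : allC (cloChk dD dC dE dCl) 4637 91 = true := by decide +kernel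

set_option maxRecDepth 1000000 in
theorem cls_hclo_4638 : allC (cloChk dD dC dE dCl) 4638 91 = true := by decide +kernel

set_option maxRecDepth 1000000 in
theorem cls_hclo_4639 : allC (cloChk dD dC dE dCl) 4639 91 = true := by decide +kernel

set_option maxRecDepth 1000000 in
theorem cls_hclo_4640 : allC (cloChk dD dC dE dCl) 4640 91 = true := by decide +kernel

set_option maxRecDepth 1000000 in
theorem cls_hclo_4641 : allC (cloChk dD dC dE dCl) 4641 91 = true := by decide +kernel

set_option maxRecDepth 1000000 in
theorem cls_hclo_4642 : allC (cloChk dD dC dE dCl) 4642 91 = true := by decide +kernel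

set_option maxRecDepth 1000000 in
theorem cls_hclo_4643 : allC (cloChk dD dC dE dCl) 4643 91 = true := by decide +kernel

set_option maxRecDepth 1000000 in
theorem cls_hclo_4644 : allC (cloChk dD dC dE dCl) 4644 91 = true := by decide +kernel

set_option maxRecDepth 1000000 in
theorem cls_hclo_4645 : allC (cloChk dD dC dE dCl) 4645 91 = true := by decide +kernel

set_option maxRecDepth 1000000 in
theorem cls_hclo_4646 : allC (cloChk dD dC dE dCl) 4646 91 = true := by decide +kernel

set_option maxRecDepth 1000000 in
theorem cls_hclo_4647 : allC (cloChk dD dC dE dCl) 4647 91 = true := by decide +kernel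

set_option maxRecDepth 1000000 in
theorem cls_hclo_4648 : allC (cloChk dD dC dE dCl) 4648 91 = true := by decide +kernel

set_option maxRecDepth 1000000 in
theorem cls_hclo_4649 : allC (cloChk dD dC dE dCl) 4649 91 = true := by decide +kernel

set_option maxRecDepth 1000000 in
theorem cls_hclo_4650 : allC (cloChk dD dC dE dCl) 4650 91 = true := by decide +kernel

set_option maxRecDepth 1000000 in
theorem cls_hclo_4651 : allC (cloChk dD dC dE dCl) 4651 91 = true := by decide +kernel

set_option maxRecDepth 1000000 in
theorem cls_hclo_4652 : allC (cloChk dD dC dE dCl) 4652 91 = true := by decide +kernel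

set_option maxRecDepth 1000000 in
theorem cls_hclo_4653 : allC (cloChk dD dC dE dCl) 4653 91 = true := by decide +kernel

set_option maxRecDepth 1000000 in
theorem cls_hclo_4654 : allC (cloChk dD dC dE dCl) 4654 91 = true := by decide +kernel

set_option maxRecDepth 1000000 in
theorem cls_hclo_4655 : allC (cloChk dD dC dE dCl) 4655 91 = true := by decide +kernel

set_option maxRecDepth 1000000 in
theorem cls_hclo_4656 : allC (cloChk dD dC dE dCl) 4656 91 = true := by decide +kernel

set_option maxRecDepth 1000000 in
theorem cls_hclo_4657 : allC (cloChk dD dC dE dCl) 4657 91 = true := by decide +kernel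

set_option maxRecDepth 1000000 in
theorem cls_hclo_4658 : allC (cloChk dD dC dE dCl) 4658 91 = true := by decide +kernel

set_option maxRecDepth 1000000 in
theorem cls_hclo_4659 : allC (cloChk dD dC dE dCl) 4659 91 = true := by decide +kernel

set_option maxRecDepth 1000000 in
theorem cls_hclo_4660 : allC (cloChk dD dC dE dCl) 4660 91 = true := by decide +kernel

set_option maxRecDepth 1000000 in
theorem cls_hclo_4661 : allC (cloChk dD dC dE dCl) 4661 91 = true := by decide +kernel

set_option maxRecDepth 1000000 in
theorem cls_hclo_4662 : allC (cloChk dD dC dE dCl) 4662 91 = true := by decide +kernel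

set_option maxRecDepth 1000000 in
theorem cls_hclo_4663 : allC (cloChk dD dC dE dCl) 4663 91 = true := by decide +kernel

set_option maxRecDepth 1000000 in
theorem cls_hclo_4664 : allC (cloChk dD dC dE dCl) 4664 91 = true := by decide +kernel

set_option maxRecDepth 1000000 in
theorem cls_hclo_4665 : allC (cloChk dD dC dE dCl) 4665 91 = true := by decide +kernel

set_option maxRecDepth 1000000 in
theorem cls_hclo_4666 : allC (cloChk dD dC dE dCl) 4666 91 = true := by decide +kernel

set_option maxRecDepth 1000000 in
theorem cls_hclo_4667 : allC (cloChk dD dC dE dCl) 4667 91 = true := by decide +kernel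

set_option maxRecDepth 1000000 in
theorem cls_hclo_4668 : allC (cloChk dD dC dE dCl) 4668 91 = true := by decide +kernel

set_option maxRecDepth 1000000 in
theorem cls_hclo_4669 : allC (cloChk dD dC dE dCl) 4669 91 = true := by decide +kernel

set_option maxRecDepth 1000000 in
theorem cls_hclo_4670 : allC (cloChk dD dC dE dCl) 4670 91 = true := by decide +kernel

set_option maxRecDepth 1000000 in
theorem cls_hclo_4671 : allC (cloChk dD dC dE dCl) 4671 91 = true := by decide +kernel

set_option maxRecDepth 1000000 in
theorem cls_hclo_4672 : allC (cloChk dD dC dE dCl) 4672 91 = true := by decide +kernel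

set_option maxRecDepth 1000000 in
theorem cls_hclo_4673 : allC (cloChk dD dC dE dCl) 4673 91 = true := by decide +kernel

set_option maxRecDepth 1000000 in
theorem cls_hclo_4674 : allC (cloChk dD dC dE dCl) 4674 91 = true := by decide +kernel

set_option maxRecDepth 1000000 in
theorem cls_hclo_4675 : allC (cloChk dD dC dE dCl) 4675 91 = true := by decide +kernel

set_option maxRecDepth 1000000 in
theorem cls_hclo_4676 : allC (cloChk dD dC dE dCl) 4676 91 = true := by decide +kernel

set_option maxRecDepth 1000000 in
theorem cls_hclo_4677 : allC (cloChk dD dC dE dCl) 4677 91 = true := by decide +kernel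

set_option maxRecDepth 1000000 in
theorem cls_hclo_4678 : allC (cloChk dD dC dE dCl) 4678 91 = true := by decide +kernel

set_option maxRecDepth 1000000 in
theorem cls_hclo_4679 : allC (cloChk dD dC dE dCl) 4679 91 = true := by decide +kernel

set_option maxRecDepth 1000000 in
theorem cls_hclo_4680 : allC (cloChk dD dC dE dCl) 4680 91 = true := by decide +kernel

set_option maxRecDepth 1000000 in
theorem cls_hclo_4681 : allC (cloChk dD dC dE dCl) 4681 91 = true := by decide +kernel

set_option maxRecDepth 1000000 in
theorem cls_hclo_4682 : allC (cloChk dD dC dE dCl) 4682 91 = true := by decide +kernel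

set_option maxRecDepth 1000000 in
theorem cls_hclo_4683 : allC (cloChk dD dC dE dCl) 4683 91 = true := by decide +kernel

set_option maxRecDepth 1000000 in
theorem cls_hclo_4684 : allC (cloChk dD dC dE dCl) 4684 91 = true := by decide +kernel

set_option maxRecDepth 1000000 in
theorem cls_hclo_4685 : allC (cloChk dD dC dE dCl) 4685 91 = true := by decide +kernel

set_option maxRecDepth 1000000 in
theorem cls_hclo_4686 : allC (cloChk dD dC dE dCl) 4686 91 = true := by decide +kernel

set_option maxRecDepth 1000000 in
theorem cls_hclo_4687 : allC (cloChk dD dC dE dCl) 4687 91 = true := by decide +kernel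

set_option maxRecDepth 1000000 in
theorem cls_hclo_4688 : allC (cloChk dD dC dE dCl) 4688 91 = true := by decide +kernel

set_option maxRecDepth 1000000 in
theorem cls_hclo_4689 : allC (cloChk dD dC dE dCl) 4689 91 = true := by decide +kernel

set_option maxRecDepth 1000000 in
theorem cls_hclo_4690 : allC (cloChk dD dC dE dCl) 4690 91 = true := by decide +kernel

set_option maxRecDepth 1000000 in
theorem cls_hclo_4691 : allC (cloChk dD dC dE dCl) 4691 91 = true := by decide +kernel

set_option maxRecDepth 1000000 in
theorem cls_hclo_4692 : allC (cloChk dD dC dE dCl) 4692 91 = true := by decide +kernel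

set_option maxRecDepth 1000000 in
theorem cls_hclo_4693 : allC (cloChk dD dC dE dCl) 4693 91 = true := by decide +kernel

set_option maxRecDepth 1000000 in
theorem cls_hclo_4694 : allC (cloChk dD dC dE dCl) 4694 91 = true := by decide +kernel

set_option maxRecDepth 1000000 in
theorem cls_hclo_4695 : allC (cloChk dD dC dE dCl) 4695 91 = true := by decide +kernel

set_option maxRecDepth 1000000 in
theorem cls_hclo_4696 : allC (cloChk dD dC dE dCl) 4696 91 = true := by decide +kernel

set_option maxRecDepth 1000000 in
theorem cls_hclo_4697 : allC (cloChk dD dC dE dCl) 4697 91 = true := by decide +kernel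

set_option maxRecDepth 1000000 in
theorem cls_hclo_4698 : allC (cloChk dD dC dE dCl) 4698 91 = true := by decide +kernel

set_option maxRecDepth 1000000 in
theorem cls_hclo_4699 : allC (cloChk dD dC dE dCl) 4699 91 = true := by decide +kernel

end Cfsg.Agent.Helper9.RuO

end
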