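import Mathlib
import Cfsg.Agent.Helper9.RuO.Data

set_option autoImplicit false

/-! Kernel checks of the certificates, a part. -/

noncomputable section

namespace Cfsg.Agent.Helper9.RuO

open Cfsg.Agent.Helper9.OutG Cfsg.Agent.Helper9.J3

set_option maxRecDepth 1000000 in
theorem cls_hclo_4700 : allC (cloChk dD dC dE dCl) 4700 91 = true := by decide +kernel

set_option maxRecDepth 1000000 in
theorem cls_hclo_4701 : allC (cloChk dD dC dE dCl) 4701 91 = true := by decide +kernel

set_option maxRecDepth 1000000 in
theorem cls_hclo_4702 : allC (cloChk dD dC dE dCl) 4702 91 = true := by decide +kernel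

set_option maxRecDepth 1000000 in
theorem cls_hclo_4703 : allC (cloChk dD dC dE dCl) 4703 91 = true := by decide +kernel

set_option maxRecDepth 1000000 in
theorem cls_hclo_4704 : allC (cloChk dD dC dE dCl) 4704 91 = true := by decide +kernel

set_option maxRecDepth 1000000 in
theorem cls_hclo_4705 : allC (cloChk dD dC dE dCl) 4705 91 = true := by decide +kernel

set_option maxRecDepth 1000000 in
theorem cls_hclo_4706 : allC (cloChk dD dC dE dCl) 4706 91 = true := by decide +kernel

set_option maxRecDepth 1000000 in
theorem cls_hclo_4707 : allC (cloChk dD dC dE dCl) 4707 91 = true := by decide +kernel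

set_option maxRecDepth 1000000 in
theorem cls_hclo_4708 : allC (cloChk dD dC dE dCl) 4708 91 = true := by decide +kernel

set_option maxRecDepth 1000000 in
theorem cls_hclo_4709 : allC (cloChk dD dC dE dCl) 4709 91 = true := by decide +kernel

set_option maxRecDepth 1000000 in
theorem cls_hclo_4710 : allC (cloChk dD dC dE dCl) 4710 91 = true := by decide +kernel

set_option maxRecDepth 1000000 in
theorem cls_hclo_4711 : allC (cloChk dD dC dE dCl) 4711 91 = true := by decide +kernel

set_option maxRecDepth 1000000 in
theorem cls_hclo_4712 : allC (cloChk dD dC dE dCl) 4712 91 = true := by decide +kernel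

set_option maxRecDepth 1000000 in
theorem cls_hclo_4713 : allC (cloChk dD dC dE dCl) 4713 91 = true := by decide +kernel

set_option maxRecDepth 1000000 in
theorem cls_hclo_4714 : allC (cloChk dD dC dE dCl) 4714 91 = true := by decide +kernel

set_option maxRecDepth 1000000 in
theorem cls_hclo_4715 : allC (cloChk dD dC dE dCl) 4715 91 = true := by decide +kernel

set_option maxRecDepth 1000000 in
theorem cls_hclo_4716 : allC (cloChk dD dC dE dCl) 4716 91 = true := by decide +kernel

set_option maxRecDepth 1000000 in
theorem cls_hclo_4717 : allC (cloChk dD dC dE dCl) 4717 91 = true := by decide +kernel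

set_option maxRecDepth 1000000 in
theorem cls_hclo_4718 : allC (cloChk dD dC dE dCl) 4718 91 = true := by decide +kernel

set_option maxRecDepth 1000000 in
theorem cls_hclo_4719 : allC (cloChk dD dC dE dCl) 4719 91 = true := by decide +kernel

set_option maxRecDepth 1000000 in
theorem cls_hclo_4720 : allC (cloChk dD dC dE dCl) 4720 91 = true := by decide +kernel

set_option maxRecDepth 1000000 in
theorem cls_hclo_4721 : allC (cloChk dD dC dE dCl) 4721 91 = true := by decide +kernel

set_option maxRecDepth 1000000 in
theorem cls_hclo_4722 : allC (cloChk dD dC dE dCl) 4722 91 = true := by decide +kernel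

set_option maxRecDepth 1000000 in
theorem cls_hclo_4723 : allC (cloChk dD dC dE dCl) 4723 91 = true := by decide +kernel

set_option maxRecDepth 1000000 in
theorem cls_hclo_4724 : allC (cloChk dD dC dE dCl) 4724 91 = true := by decide +kernel

set_option maxRecDepth 1000000 in
theorem cls_hclo_4725 : allC (cloChk dD dC dE dCl) 4725 91 = true := by decide +kernel

set_option maxRecDepth 1000000 in
theorem cls_hclo_4726 : allC (cloChk dD dC dE dCl) 4726 91 = true := by decide +kernel

set_option maxRecDepth 1000000 in
theorem cls_hclo_4727 : allC (cloChk dD dC dE dCl) 4727 91 = true := by decide +kernel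

set_option maxRecDepth 1000000 in
theorem cls_hclo_4728 : allC (cloChk dD dC dE dCl) 4728 91 = true := by decide +kernel

set_option maxRecDepth 1000000 in
theorem cls_hclo_4729 : allC (cloChk dD dC dE dCl) 4729 91 = true := by decide +kernel

set_option maxRecDepth 1000000 in
theorem cls_hclo_4730 : allC (cloChk dD dC dE dCl) 4730 91 = true := by decide +kernel

set_option maxRecDepth 1000000 in
theorem cls_hclo_4731 : allC (cloChk dD dC dE dCl) 4731 91 = true := by decide +kernel

set_option maxRecDepth 1000000 in
theorem cls_hclo_4732 : allC (cloChk dD dC dE dCl) 4732 91 = true := by decide +kernel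

set_option maxRecDepth 1000000 in
theorem cls_hclo_4733 : allC (cloChk dD dC dE dCl) 4733 91 = true := by decide +kernel

set_option maxRecDepth 1000000 in
theorem cls_hclo_4734 : allC (cloChk dD dC dE dCl) 4734 91 = true := by decide +kernel

set_option maxRecDepth 1000000 in
theorem cls_hclo_4735 : allC (cloChk dD dC dE dCl) 4735 91 = true := by decide +kernel

set_option maxRecDepth 1000000 in
theorem cls_hclo_4736 : allC (cloChk dD dC dE dCl) 4736 91 = true := by decide +kernel

set_option maxRecDepth 1000000 in
theorem cls_hclo_4737 : allC (cloChk dD dC dE dCl) 4737 91 = true := by decide +kernel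

set_option maxRecDepth 1000000 in
theorem cls_hclo_4738 : allC (cloChk dD dC dE dCl) 4738 91 = true := by decide +kernel

set_option maxRecDepth 1000000 in
theorem cls_hclo_4739 : allC (cloChk dD dC dE dCl) 4739 91 = true := by decide +kernel

set_option maxRecDepth 1000000 in
theorem cls_hclo_4740 : allC (cloChk dD dC dE dCl) 4740 91 = true := by decide +kernel

set_option maxRecDepth 1000000 in
theorem cls_hclo_4741 : allC (cloChk dD dC dE dCl) 4741 91 = true := by decide +kernel

set_option maxRecDepth 1000000 in
theorem cls_hclo_4742 : allC (cloChk dD dC dE dCl) 4742 91 = true := by decide +kernel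

set_option maxRecDepth 1000000 in
theorem cls_hclo_4743 : allC (cloChk dD dC dE dCl) 4743 91 = true := by decide +kernel

set_option maxRecDepth 1000000 in
theorem cls_hclo_4744 : allC (cloChk dD dC dE dCl) 4744 91 = true := by decide +kernel

set_option maxRecDepth 1000000 in
theorem cls_hclo_4745 : allC (cloChk dD dC dE dCl) 4745 91 = true := by decide +kernel

set_option maxRecDepth 1000000 in
theorem cls_hclo_4746 : allC (cloChk dD dC dE dCl) 4746 91 = true := by decide +kernel

set_option maxRecDepth 1000000 in
theorem cls_hclo_4747 : allC (cloChk dD dC dE dCl) 4747 91 = true := by decide +kernel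

set_option maxRecDepth 1000000 in
theorem cls_hclo_4748 : allC (cloChk dD dC dE dCl) 4748 91 = true := by decide +kernel

set_option maxRecDepth 1000000 in
theorem cls_hclo_4749 : allC (cloChk dD dC dE dCl) 4749 91 = true := by decide +kernel

set_option maxRecDepth 1000000 in
theorem cls_hclo_4750 : allC (cloChk dD dC dE dCl) 4750 91 = true := by decide +kernel

set_option maxRecDepth 1000000 in
theorem cls_hclo_4751 : allC (cloChk dD dC dE dCl) 4751 91 = true := by decide +kernel

set_option maxRecDepth 1000000 in
theorem cls_hclo_4752 : allC (cloChk dD dC dE dCl) 4752 91 = true := by decide +kernel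

set_option maxRecDepth 1000000 in
theorem cls_hclo_4753 : allC (cloChk dD dC dE dCl) 4753 91 = true := by decide +kernel

set_option maxRecDepth 1000000 in
theorem cls_hclo_4754 : allC (cloChk dD dC dE dCl) 4754 91 = true := by decide +kernel

set_option maxRecDepth 1000000 in
theorem cls_hclo_4755 : allC (cloChk dD dC dE dCl) 4755 91 = true := by decide +kernel

set_option maxRecDepth 1000000 in
theorem cls_hclo_4756 : allC (cloChk dD dC dE dCl) 4756 91 = true := by decide +kernel

set_option maxRecDepth 1000000 in
theorem cls_hclo_4757 : allC (cloChk dD dC dE dCl) 4757 91 = true := by decide +kernel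

set_option maxRecDepth 1000000 in
theorem cls_hclo_4758 : allC (cloChk dD dC dE dCl) 4758 91 = true := by decide +kernel

set_option maxRecDepth 1000000 in
theorem cls_hclo_4759 : allC (cloChk dD dC dE dCl) 4759 91 = true := by decide +kernel

set_option maxRecDepth 1000000 in
theorem cls_hclo_4760 : allC (cloChk dD dC dE dCl) 4760 91 = true := by decide +kernel

set_option maxRecDepth 1000000 in
theorem cls_hclo_4761 : allC (cloChk dD dC dE dCl) 4761 91 = true := by decide +kernel

set_option maxRecDepth 1000000 in
theorem cls_hclo_4762 : allC (cloChk dD dC dE dCl) 4762 91 = true := by decide +kernel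

set_option maxRecDepth 1000000 in
theorem cls_hclo_4763 : allC (cloChk dD dC dE dCl) 4763 91 = true := by decide +kernel

set_option maxRecDepth 1000000 in
theorem cls_hclo_4764 : allC (cloChk dD dC dE dCl) 4764 91 = true := by decide +kernel

set_option maxRecDepth 1000000 in
theorem cls_hclo_4765 : allC (cloChk dD dC dE dCl) 4765 91 = true := by decide +kernel

set_option maxRecDepth 1000000 in
theorem cls_hclo_4766 : allC (cloChk dD dC dE dCl) 4766 91 = true := by decide +kernel

set_option maxRecDepth 1000000 in
theorem cls_hclo_4767 : allC (cloChk dD dC dE dCl) 4767 91 = true := by decide +kernel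

set_option maxRecDepth 1000000 in
theorem cls_hclo_4768 : allC (cloChk dD dC dE dCl) 4768 91 = true := by decide +kernel

set_option maxRecDepth 1000000 in
theorem cls_hclo_4769 : allC (cloChk dD dC dE dCl) 4769 91 = true := by decide +kernel

set_option maxRecDepth 1000000 in
theorem cls_hclo_4770 : allC (cloChk dD dC dE dCl) 4770 91 = true := by decide +kernel

set_option maxRecDepth 1000000 in
theorem cls_hclo_4771 : allC (cloChk dD dC dE dCl) 4771 91 = true := by decide +kernel

set_option maxRecDepth 1000000 in
theorem cls_hclo_4772 : allC (cloChk dD dC dE dCl) 4772 91 = true := by decide +kernel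

set_option maxRecDepth 1000000 in
theorem cls_hclo_4773 : allC (cloChk dD dC dE dCl) 4773 91 = true := by decide +kernel

set_option maxRecDepth 1000000 in
theorem cls_hclo_4774 : allC (cloChk dD dC dE dCl) 4774 91 = true := by decide +kernel

set_option maxRecDepth 1000000 in
theorem cls_hclo_4775 : allC (cloChk dD dC dE dCl) 4775 91 = true := by decide +kernel

set_option maxRecDepth 1000000 in
theorem cls_hclo_4776 : allC (cloChk dD dC dE dCl) 4776 91 = true := by decide +kernel

set_option maxRecDepth 1000000 in
theorem cls_hclo_4777 : allC (cloChk dD dC dE dCl) 4777 91 = true := by decide +kernel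

set_option maxRecDepth 1000000 in
theorem cls_hclo_4778 : allC (cloChk dD dC dE dCl) 4778 91 = true := by decide +kernel

set_option maxRecDepth 1000000 in
theorem cls_hclo_4779 : allC (cloChk dD dC dE dCl) 4779 91 = true := by decide +kernel

set_option maxRecDepth 1000000 in
theorem cls_hclo_4780 : allC (cloChk dD dC dE dCl) 4780 91 = true := by decide +kernel

set_option maxRecDepth 1000000 in
theorem cls_hclo_4781 : allC (cloChk dD dC dE dCl) 4781 91 = true := by decide +kernel

set_option maxRecDepth 1000000 in
theorem cls_hclo_4782 : allC (cloChk dD dC dE dCl) 4782 91 = true := by decide +kernel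

set_option maxRecDepth 1000000 in
theorem cls_hclo_4783 : allC (cloChk dD dC dE dCl) 4783 91 = true := by decide +kernel

set_option maxRecDepth 1000000 in
theorem cls_hclo_4784 : allC (cloChk dD dC dE dCl) 4784 91 = true := by decide +kernel

set_option maxRecDepth 1000000 in
theorem cls_hclo_4785 : allC (cloChk dD dC dE dCl) 4785 91 = true := by decide +kernel

set_option maxRecDepth 1000000 in
theorem cls_hclo_4786 : allC (cloChk dD dC dE dCl) 4786 91 = true := by decide +kernel

set_option maxRecDepth 1000000 in
theorem cls_hclo_4787 : allC (cloChk dD dC dE dCl) 4787 91 = true := by decide +kernel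

set_option maxRecDepth 1000000 in
theorem cls_hclo_4788 : allC (cloChk dD dC dE dCl) 4788 91 = true := by decide +kernel

set_option maxRecDepth 1000000 in
theorem cls_hclo_4789 : allC (cloChk dD dC dE dCl) 4789 91 = true := by decide +kernel

set_option maxRecDepth 1000000 in
theorem cls_hclo_4790 : allC (cloChk dD dC dE dCl) 4790 91 = true := by decide +kernel

set_option maxRecDepth 1000000 in
theorem cls_hclo_4791 : allC (cloChk dD dC dE dCl) 4791 91 = true := by decide +kernel

set_option maxRecDepth 1000000 in
theorem cls_hclo_4792 : allC (cloChk dD dC dE dCl) 4792 91 = true := by decide +kernel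

set_option maxRecDepth 1000000 in
theorem cls_hclo_4793 : allC (cloChk dD dC dE dCl) 4793 91 = true := by decide +kernel

set_option maxRecDepth 1000000 in
theorem cls_hclo_4794 : allC (cloChk dD dC dE dCl) 4794 91 = true := by decide +kernel

set_option maxRecDepth 1000000 in
theorem cls_hclo_4795 : allC (cloChk dD dC dE dCl) 4795 91 = true := by decide +kernel

set_option maxRecDepth 1000000 in
theorem cls_hclo_4796 : allC (cloChk dD dC dE dCl) 4796 91 = true := by decide +kernel

set_option maxRecDepth 1000000 in
theorem cls_hclo_4797 : allC (cloChk dD dC dE dCl) 4797 91 = true := by decide +kernel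

set_option maxRecDepth 1000000 in
theorem cls_hclo_4798 : allC (cloChk dD dC dE dCl) 4798 91 = true := by decide +kernel

set_option maxRecDepth 1000000 in
theorem cls_hclo_4799 : allC (cloChk dD dC dE dCl) 4799 91 = true := by decide +kernel

end Cfsg.Agent.Helper9.RuO

end
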