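import Mathlib
import Cfsg.Agent.Helper9.RuO.Data

set_option autoImplicit false

/-! Kernel checks of the certificates, a part. -/

noncomputable section

namespace Cfsg.Agent.Helper9.RuO

open Cfsg.Agent.Helper9.OutG Cfsg.Agent.Helper9.J3

set_option maxRecDepth 1000000 in
theorem cls_hclo_4800 : allC (cloChk dD dC dE dCl) 4800 91 = true := by decide +kernel

set_option maxRecDepth 1000000 in
theorem cls_hclo_4801 : allC (cloChk dD dC dE dCl) 4801 91 = true := by decide +kernel

set_option maxRecDepth 1000000 in
theorem cls_hclo_4802 : allC (cloChk dD dC dE dCl) 4802 91 = true := by decide +kernel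

set_option maxRecDepth 1000000 in
theorem cls_hclo_4803 : allC (cloChk dD dC dE dCl) 4803 91 = true := by decide +kernel

set_option maxRecDepth 1000000 in
theorem cls_hclo_4804 : allC (cloChk dD dC dE dCl) 4804 91 = true := by decide +kernel

set_option maxRecDepth 1000000 in
theorem cls_hclo_4805 : allC (cloChk dD dC dE dCl) 4805 91 = true := by decide +kernel

set_option maxRecDepth 1000000 in
theorem cls_hclo_4806 : allC (cloChk dD dC dE dCl) 4806 91 = true := by decide +kernel

set_option maxRecDepth 1000000 in
theorem cls_hclo_4807 : allC (cloChk dD dC dE dCl) 4807 91 = true := by decide +kernel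

set_option maxRecDepth 1000000 in
theorem cls_hclo_4808 : allC (cloChk dD dC dE dCl) 4808 91 = true := by decide +kernel

set_option maxRecDepth 1000000 in
theorem cls_hclo_4809 : allC (cloChk dD dC dE dCl) 4809 91 = true := by decide +kernel

set_option maxRecDepth 1000000 in
theorem cls_hclo_4810 : allC (cloChk dD dC dE dCl) 4810 91 = true := by decide +kernel

set_option maxRecDepth 1000000 in
theorem cls_hclo_4811 : allC (cloChk dD dC dE dCl) 4811 91 = true := by decide +kernel

set_option maxRecDepth 1000000 in
theorem cls_hclo_4812 : allC (cloChk dD dC dE dCl) 4812 91 = true := by decide +kernel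

set_option maxRecDepth 1000000 in
theorem cls_hclo_4813 : allC (cloChk dD dC dE dCl) 4813 91 = true := by decide +kernel

set_option maxRecDepth 1000000 in
theorem cls_hclo_4814 : allC (cloChk dD dC dE dCl) 4814 91 = true := by decide +kernel

set_option maxRecDepth 1000000 in
theorem cls_hclo_4815 : allC (cloChk dD dC dE dCl) 4815 91 = true := by decide +kernel

set_option maxRecDepth 1000000 in
theorem cls_hclo_4816 : allC (cloChk dD dC dE dCl) 4816 91 = true := by decide +kernel

set_option maxRecDepth 1000000 in
theorem cls_hclo_4817 : allC (cloChk dD dC dE dCl) 4817 91 = true := by decide +kernel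

set_option maxRecDepth 1000000 in
theorem cls_hclo_4818 : allC (cloChk dD dC dE dCl) 4818 91 = true := by decide +kernel

set_option maxRecDepth 1000000 in
theorem cls_hclo_4819 : allC (cloChk dD dC dE dCl) 4819 91 = true := by decide +kernel

set_option maxRecDepth 1000000 in
theorem cls_hclo_4820 : allC (cloChk dD dC dE dCl) 4820 91 = true := by decide +kernel

set_option maxRecDepth 1000000 in
theorem cls_hclo_4821 : allC (cloChk dD dC dE dCl) 4821 91 = true := by decide +kernel

set_option maxRecDepth 1000000 in
theorem cls_hclo_4822 : allC (cloChk dD dC dE dCl) 4822 91 = true := by decide +kernel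

set_option maxRecDepth 1000000 in
theorem cls_hclo_4823 : allC (cloChk dD dC dE dCl) 4823 91 = true := by decide +kernel

set_option maxRecDepth 1000000 in
theorem cls_hclo_4824 : allC (cloChk dD dC dE dCl) 4824 91 = true := by decide +kernel

set_option maxRecDepth 1000000 in
theorem cls_hclo_4825 : allC (cloChk dD dC dE dCl) 4825 91 = true := by decide +kernel

set_option maxRecDepth 1000000 in
theorem cls_hclo_4826 : allC (cloChk dD dC dE dCl) 4826 91 = true := by decide +kernel

set_option maxRecDepth 1000000 in
theorem cls_hclo_4827 : allC (cloChk dD dC dE dCl) 4827 91 = true := by decide +kernel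

set_option maxRecDepth 1000000 in
theorem cls_hclo_4828 : allC (cloChk dD dC dE dCl) 4828 91 = true := by decide +kernel

set_option maxRecDepth 1000000 in
theorem cls_hclo_4829 : allC (cloChk dD dC dE dCl) 4829 91 = true := by decide +kernel

set_option maxRecDepth 1000000 in
theorem cls_hclo_4830 : allC (cloChk dD dC dE dCl) 4830 91 = true := by decide +kernel

set_option maxRecDepth 1000000 in
theorem cls_hclo_4831 : allC (cloChk dD dC dE dCl) 4831 91 = true := by decide +kernel

set_option maxRecDepth 1000000 in
theorem cls_hclo_4832 : allC (cloChk dD dC dE dCl) 4832 91 = true := by decide +kernel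

set_option maxRecDepth 1000000 in
theorem cls_hclo_4833 : allC (cloChk dD dC dE dCl) 4833 91 = true := by decide +kernel

set_option maxRecDepth 1000000 in
theorem cls_hclo_4834 : allC (cloChk dD dC dE dCl) 4834 91 = true := by decide +kernel

set_option maxRecDepth 1000000 in
theorem cls_hclo_4835 : allC (cloChk dD dC dE dCl) 4835 91 = true := by decide +kernel

set_option maxRecDepth 1000000 in
theorem cls_hclo_4836 : allC (cloChk dD dC dE dCl) 4836 91 = true := by decide +kernel

set_option maxRecDepth 1000000 in
theorem cls_hclo_4837 : allC (cloChk dD dC dE dCl) 4837 91 = true := by decide +kernel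

set_option maxRecDepth 1000000 in
theorem cls_hclo_4838 : allC (cloChk dD dC dE dCl) 4838 91 = true := by decide +kernel

set_option maxRecDepth 1000000 in
theorem cls_hclo_4839 : allC (cloChk dD dC dE dCl) 4839 91 = true := by decide +kernel

set_option maxRecDepth 1000000 in
theorem cls_hclo_4840 : allC (cloChk dD dC dE dCl) 4840 91 = true := by decide +kernel

set_option maxRecDepth 1000000 in
theorem cls_hclo_4841 : allC (cloChk dD dC dE dCl) 4841 91 = true := by decide +kernel

set_option maxRecDepth 1000000 in
theorem cls_hclo_4842 : allC (cloChk dD dC dE dCl) 4842 91 = true := by decide +kernel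

set_option maxRecDepth 1000000 in
theorem cls_hclo_4843 : allC (cloChk dD dC dE dCl) 4843 91 = true := by decide +kernel

set_option maxRecDepth 1000000 in
theorem cls_hclo_4844 : allC (cloChk dD dC dE dCl) 4844 91 = true := by decide +kernel

set_option maxRecDepth 1000000 in
theorem cls_hclo_4845 : allC (cloChk dD dC dE dCl) 4845 91 = true := by decide +kernel

set_option maxRecDepth 1000000 in
theorem cls_hclo_4846 : allC (cloChk dD dC dE dCl) 4846 91 = true := by decide +kernel

set_option maxRecDepth 1000000 in
theorem cls_hclo_4847 : allC (cloChk dD dC dE dCl) 4847 91 = true := by decide +kernel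

set_option maxRecDepth 1000000 in
theorem cls_hclo_4848 : allC (cloChk dD dC dE dCl) 4848 91 = true := by decide +kernel

set_option maxRecDepth 1000000 in
theorem cls_hclo_4849 : allC (cloChk dD dC dE dCl) 4849 91 = true := by decide +kernel

set_option maxRecDepth 1000000 in
theorem cls_hclo_4850 : allC (cloChk dD dC dE dCl) 4850 91 = true := by decide +kernel

set_option maxRecDepth 1000000 in
theorem cls_hclo_4851 : allC (cloChk dD dC dE dCl) 4851 91 = true := by decide +kernel

set_option maxRecDepth 1000000 in
theorem cls_hclo_4852 : allC (cloChk dD dC dE dCl) 4852 91 = true := by decide +kernel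

set_option maxRecDepth 1000000 in
theorem cls_hclo_4853 : allC (cloChk dD dC dE dCl) 4853 91 = true := by decide +kernel

set_option maxRecDepth 1000000 in
theorem cls_hclo_4854 : allC (cloChk dD dC dE dCl) 4854 91 = true := by decide +kernel

set_option maxRecDepth 1000000 in
theorem cls_hclo_4855 : allC (cloChk dD dC dE dCl) 4855 91 = true := by decide +kernel

set_option maxRecDepth 1000000 in
theorem cls_hclo_4856 : allC (cloChk dD dC dE dCl) 4856 91 = true := by decide +kernel

set_option maxRecDepth 1000000 in
theorem cls_hclo_4857 : allC (cloChk dD dC dE dCl) 4857 91 = true := by decide +kernel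

set_option maxRecDepth 1000000 in
theorem cls_hclo_4858 : allC (cloChk dD dC dE dCl) 4858 91 = true := by decide +kernel

set_option maxRecDepth 1000000 in
theorem cls_hclo_4859 : allC (cloChk dD dC dE dCl) 4859 91 = true := by decide +kernel

set_option maxRecDepth 1000000 in
theorem cls_hclo_4860 : allC (cloChk dD dC dE dCl) 4860 91 = true := by decide +kernel

set_option maxRecDepth 1000000 in
theorem cls_hclo_4861 : allC (cloChk dD dC dE dCl) 4861 91 = true := by decide +kernel

set_option maxRecDepth 1000000 in
theorem cls_hclo_4862 : allC (cloChk dD dC dE dCl) 4862 91 = true := by decide +kernel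

set_option maxRecDepth 1000000 in
theorem cls_hclo_4863 : allC (cloChk dD dC dE dCl) 4863 91 = true := by decide +kernel

set_option maxRecDepth 1000000 in
theorem cls_hclo_4864 : allC (cloChk dD dC dE dCl) 4864 91 = true := by decide +kernel

set_option maxRecDepth 1000000 in
theorem cls_hclo_4865 : allC (cloChk dD dC dE dCl) 4865 91 = true := by decide +kernel

set_option maxRecDepth 1000000 in
theorem cls_hclo_4866 : allC (cloChk dD dC dE dCl) 4866 91 = true := by decide +kernel

set_option maxRecDepth 1000000 in
theorem cls_hclo_4867 : allC (cloChk dD dC dE dCl) 4867 91 = true := by decide +kernel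

set_option maxRecDepth 1000000 in
theorem cls_hclo_4868 : allC (cloChk dD dC dE dCl) 4868 91 = true := by decide +kernel

set_option maxRecDepth 1000000 in
theorem cls_hclo_4869 : allC (cloChk dD dC dE dCl) 4869 91 = true := by decide +kernel

set_option maxRecDepth 1000000 in
theorem cls_hclo_4870 : allC (cloChk dD dC dE dCl) 4870 91 = true := by decide +kernel

set_option maxRecDepth 1000000 in
theorem cls_hclo_4871 : allC (cloChk dD dC dE dCl) 4871 91 = true := by decide +kernel

set_option maxRecDepth 1000000 in
theorem cls_hclo_4872 : allC (cloChk dD dC dE dCl) 4872 91 = true := by decide +kernel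

set_option maxRecDepth 1000000 in
theorem cls_hclo_4873 : allC (cloChk dD dC dE dCl) 4873 91 = true := by decide +kernel

set_option maxRecDepth 1000000 in
theorem cls_hclo_4874 : allC (cloChk dD dC dE dCl) 4874 91 = true := by decide +kernel

set_option maxRecDepth 1000000 in
theorem cls_hclo_4875 : allC (cloChk dD dC dE dCl) 4875 91 = true := by decide +kernel

set_option maxRecDepth 1000000 in
theorem cls_hclo_4876 : allC (cloChk dD dC dE dCl) 4876 91 = true := by decide +kernel

set_option maxRecDepth 1000000 in
theorem cls_hclo_4877 : allC (cloChk dD dC dE dCl) 4877 91 = true := by decide +kernel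

set_option maxRecDepth 1000000 in
theorem cls_hclo_4878 : allC (cloChk dD dC dE dCl) 4878 91 = true := by decide +kernel

set_option maxRecDepth 1000000 in
theorem cls_hclo_4879 : allC (cloChk dD dC dE dCl) 4879 91 = true := by decide +kernel

set_option maxRecDepth 1000000 in
theorem cls_hclo_4880 : allC (cloChk dD dC dE dCl) 4880 91 = true := by decide +kernel

set_option maxRecDepth 1000000 in
theorem cls_hclo_4881 : allC (cloChk dD dC dE dCl) 4881 91 = true := by decide +kernel

set_option maxRecDepth 1000000 in
theorem cls_hclo_4882 : allC (cloChk dD dC dE dCl) 4882 91 = true := by decide +kernel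

set_option maxRecDepth 1000000 in
theorem cls_hclo_4883 : allC (cloChk dD dC dE dCl) 4883 91 = true := by decide +kernel

set_option maxRecDepth 1000000 in
theorem cls_hclo_4884 : allC (cloChk dD dC dE dCl) 4884 91 = true := by decide +kernel

set_option maxRecDepth 1000000 in
theorem cls_hclo_4885 : allC (cloChk dD dC dE dCl) 4885 91 = true := by decide +kernel

set_option maxRecDepth 1000000 in
theorem cls_hclo_4886 : allC (cloChk dD dC dE dCl) 4886 91 = true := by decide +kernel

set_option maxRecDepth 1000000 in
theorem cls_hclo_4887 : allC (cloChk dD dC dE dCl) 4887 91 = true := by decide +kernel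

set_option maxRecDepth 1000000 in
theorem cls_hclo_4888 : allC (cloChk dD dC dE dCl) 4888 91 = true := by decide +kernel

set_option maxRecDepth 1000000 in
theorem cls_hclo_4889 : allC (cloChk dD dC dE dCl) 4889 91 = true := by decide +kernel

set_option maxRecDepth 1000000 in
theorem cls_hclo_4890 : allC (cloChk dD dC dE dCl) 4890 91 = true := by decide +kernel

set_option maxRecDepth 1000000 in
theorem cls_hclo_4891 : allC (cloChk dD dC dE dCl) 4891 91 = true := by decide +kernel

set_option maxRecDepth 1000000 in
theorem cls_hclo_4892 : allC (cloChk dD dC dE dCl) 4892 91 = true := by decide +kernel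

set_option maxRecDepth 1000000 in
theorem cls_hclo_4893 : allC (cloChk dD dC dE dCl) 4893 91 = true := by decide +kernel

set_option maxRecDepth 1000000 in
theorem cls_hclo_4894 : allC (cloChk dD dC dE dCl) 4894 91 = true := by decide +kernel

set_option maxRecDepth 1000000 in
theorem cls_hclo_4895 : allC (cloChk dD dC dE dCl) 4895 91 = true := by decide +kernel

set_option maxRecDepth 1000000 in
theorem cls_hclo_4896 : allC (cloChk dD dC dE dCl) 4896 91 = true := by decide +kernel

set_option maxRecDepth 1000000 in
theorem cls_hclo_4897 : allC (cloChk dD dC dE dCl) 4897 91 = true := by decide +kernel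

set_option maxRecDepth 1000000 in
theorem cls_hclo_4898 : allC (cloChk dD dC dE dCl) 4898 91 = true := by decide +kernel

set_option maxRecDepth 1000000 in
theorem cls_hclo_4899 : allC (cloChk dD dC dE dCl) 4899 91 = true := by decide +kernel

end Cfsg.Agent.Helper9.RuO

end
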