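import Mathlib
import Cfsg.Agent.Helper9.RuO.Data

set_option autoImplicit false

/-! Kernel checks of the certificates, a part. -/

noncomputable section

namespace Cfsg.Agent.Helper9.RuO

open Cfsg.Agent.Helper9.OutG Cfsg.Agent.Helper9.J3

set_option maxRecDepth 1000000 in
theorem cls_hclo_4900 : allC (cloChk dD dC dE dCl) 4900 91 = true := by decide +kernel

set_option maxRecDepth 1000000 in
theorem cls_hclo_4901 : allC (cloChk dD dC dE dCl) 4901 91 = true := by decide +kernel

set_option maxRecDepth 1000000 in
theorem cls_hclo_4902 : allC (cloChk dD dC dE dCl) 4902 91 = true := by decide +kernel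

set_option maxRecDepth 1000000 in
theorem cls_hclo_4903 : allC (cloChk dD dC dE dCl) 4903 91 = true := by decide +kernel

set_option maxRecDepth 1000000 in
theorem cls_hclo_4904 : allC (cloChk dD dC dE dCl) 4904 91 = true := by decide +kernel

set_option maxRecDepth 1000000 in
theorem cls_hclo_4905 : allC (cloChk dD dC dE dCl) 4905 91 = true := by decide +kernel

set_option maxRecDepth 1000000 in
theorem cls_hclo_4906 : allC (cloChk dD dC dE dCl) 4906 91 = true := by decide +kernel

set_option maxRecDepth 1000000 in
theorem cls_hclo_4907 : allC (cloChk dD dC dE dCl) 4907 91 = true := by decide +kernel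

set_option maxRecDepth 1000000 in
theorem cls_hclo_4908 : allC (cloChk dD dC dE dCl) 4908 91 = true := by decide +kernel

set_option maxRecDepth 1000000 in
theorem cls_hclo_4909 : allC (cloChk dD dC dE dCl) 4909 91 = true := by decide +kernel

set_option maxRecDepth 1000000 in
theorem cls_hclo_4910 : allC (cloChk dD dC dE dCl) 4910 91 = true := by decide +kernel

set_option maxRecDepth 1000000 in
theorem cls_hclo_4911 : allC (cloChk dD dC dE dCl) 4911 91 = true := by decide +kernel

set_option maxRecDepth 1000000 in
theorem cls_hclo_4912 : allC (cloChk dD dC dE dCl) 4912 91 = true := by decide +kernel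

set_option maxRecDepth 1000000 in
theorem cls_hclo_4913 : allC (cloChk dD dC dE dCl) 4913 91 = true := by decide +kernel

set_option maxRecDepth 1000000 in
theorem cls_hclo_4914 : allC (cloChk dD dC dE dCl) 4914 91 = true := by decide +kernel

set_option maxRecDepth 1000000 in
theorem cls_hclo_4915 : allC (cloChk dD dC dE dCl) 4915 91 = true := by decide +kernel

set_option maxRecDepth 1000000 in
theorem cls_hclo_4916 : allC (cloChk dD dC dE dCl) 4916 91 = true := by decide +kernel

set_option maxRecDepth 1000000 in
theorem cls_hclo_4917 : allC (cloChk dD dC dE dCl) 4917 91 = true := by decide +kernel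

set_option maxRecDepth 1000000 in
theorem cls_hclo_4918 : allC (cloChk dD dC dE dCl) 4918 91 = true := by decide +kernel

set_option maxRecDepth 1000000 in
theorem cls_hclo_4919 : allC (cloChk dD dC dE dCl) 4919 91 = true := by decide +kernel

set_option maxRecDepth 1000000 in
theorem cls_hclo_4920 : allC (cloChk dD dC dE dCl) 4920 91 = true := by decide +kernel

set_option maxRecDepth 1000000 in
theorem cls_hclo_4921 : allC (cloChk dD dC dE dCl) 4921 91 = true := by decide +kernel

set_option maxRecDepth 1000000 in
theorem cls_hclo_4922 : allC (cloChk dD dC dE dCl) 4922 91 = true := by decide +kernel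

set_option maxRecDepth 1000000 in
theorem cls_hclo_4923 : allC (cloChk dD dC dE dCl) 4923 91 = true := by decide +kernel

set_option maxRecDepth 1000000 in
theorem cls_hclo_4924 : allC (cloChk dD dC dE dCl) 4924 91 = true := by decide +kernel

set_option maxRecDepth 1000000 in
theorem cls_hclo_4925 : allC (cloChk dD dC dE dCl) 4925 91 = true := by decide +kernel

set_option maxRecDepth 1000000 in
theorem cls_hclo_4926 : allC (cloChk dD dC dE dCl) 4926 91 = true := by decide +kernel

set_option maxRecDepth 1000000 in
theorem cls_hclo_4927 : allC (cloChk dD dC dE dCl) 4927 91 = true := by decide +kernel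

set_option maxRecDepth 1000000 in
theorem cls_hclo_4928 : allC (cloChk dD dC dE dCl) 4928 91 = true := by decide +kernel

set_option maxRecDepth 1000000 in
theorem cls_hclo_4929 : allC (cloChk dD dC dE dCl) 4929 91 = true := by decide +kernel

set_option maxRecDepth 1000000 in
theorem cls_hclo_4930 : allC (cloChk dD dC dE dCl) 4930 91 = true := by decide +kernel

set_option maxRecDepth 1000000 in
theorem cls_hclo_4931 : allC (cloChk dD dC dE dCl) 4931 91 = true := by decide +kernel

set_option maxRecDepth 1000000 in
theorem cls_hclo_4932 : allC (cloChk dD dC dE dCl) 4932 91 = true := by decide +kernel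

set_option maxRecDepth 1000000 in
theorem cls_hclo_4933 : allC (cloChk dD dC dE dCl) 4933 91 = true := by decide +kernel

set_option maxRecDepth 1000000 in
theorem cls_hclo_4934 : allC (cloChk dD dC dE dCl) 4934 91 = true := by decide +kernel

set_option maxRecDepth 1000000 in
theorem cls_hclo_4935 : allC (cloChk dD dC dE dCl) 4935 91 = true := by decide +kernel

set_option maxRecDepth 1000000 in
theorem cls_hclo_4936 : allC (cloChk dD dC dE dCl) 4936 91 = true := by decide +kernel

set_option maxRecDepth 1000000 in
theorem cls_hclo_4937 : allC (cloChk dD dC dE dCl) 4937 91 = true := by decide +kernel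

set_option maxRecDepth 1000000 in
theorem cls_hclo_4938 : allC (cloChk dD dC dE dCl) 4938 91 = true := by decide +kernel

set_option maxRecDepth 1000000 in
theorem cls_hclo_4939 : allC (cloChk dD dC dE dCl) 4939 91 = true := by decide +kernel

set_option maxRecDepth 1000000 in
theorem cls_hclo_4940 : allC (cloChk dD dC dE dCl) 4940 91 = true := by decide +kernel

set_option maxRecDepth 1000000 in
theorem cls_hclo_4941 : allC (cloChk dD dC dE dCl) 4941 91 = true := by decide +kernel

set_option maxRecDepth 1000000 in
theorem cls_hclo_4942 : allC (cloChk dD dC dE dCl) 4942 91 = true := by decide +kernel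

set_option maxRecDepth 1000000 in
theorem cls_hclo_4943 : allC (cloChk dD dC dE dCl) 4943 91 = true := by decide +kernel

set_option maxRecDepth 1000000 in
theorem cls_hclo_4944 : allC (cloChk dD dC dE dCl) 4944 91 = true := by decide +kernel

set_option maxRecDepth 1000000 in
theorem cls_hclo_4945 : allC (cloChk dD dC dE dCl) 4945 91 = true := by decide +kernel

set_option maxRecDepth 1000000 in
theorem cls_hclo_4946 : allC (cloChk dD dC dE dCl) 4946 91 = true := by decide +kernel

set_option maxRecDepth 1000000 in
theorem cls_hclo_4947 : allC (cloChk dD dC dE dCl) 4947 91 = true := by decide +kernel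

set_option maxRecDepth 1000000 in
theorem cls_hclo_4948 : allC (cloChk dD dC dE dCl) 4948 91 = true := by decide +kernel

set_option maxRecDepth 1000000 in
theorem cls_hclo_4949 : allC (cloChk dD dC dE dCl) 4949 91 = true := by decide +kernel

set_option maxRecDepth 1000000 in
theorem cls_hclo_4950 : allC (cloChk dD dC dE dCl) 4950 91 = true := by decide +kernel

set_option maxRecDepth 1000000 in
theorem cls_hclo_4951 : allC (cloChk dD dC dE dCl) 4951 91 = true := by decide +kernel

set_option maxRecDepth 1000000 in
theorem cls_hclo_4952 : allC (cloChk dD dC dE dCl) 4952 91 = true := by decide +kernel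

set_option maxRecDepth 1000000 in
theorem cls_hclo_4953 : allC (cloChk dD dC dE dCl) 4953 91 = true := by decide +kernel

set_option maxRecDepth 1000000 in
theorem cls_hclo_4954 : allC (cloChk dD dC dE dCl) 4954 91 = true := by decide +kernel

set_option maxRecDepth 1000000 in
theorem cls_hclo_4955 : allC (cloChk dD dC dE dCl) 4955 91 = true := by decide +kernel

set_option maxRecDepth 1000000 in
theorem cls_hclo_4956 : allC (cloChk dD dC dE dCl) 4956 91 = true := by decide +kernel

set_option maxRecDepth 1000000 in
theorem cls_hclo_4957 : allC (cloChk dD dC dE dCl) 4957 91 = true := by decide +kernel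

set_option maxRecDepth 1000000 in
theorem cls_hclo_4958 : allC (cloChk dD dC dE dCl) 4958 91 = true := by decide +kernel

set_option maxRecDepth 1000000 in
theorem cls_hclo_4959 : allC (cloChk dD dC dE dCl) 4959 91 = true := by decide +kernel

set_option maxRecDepth 1000000 in
theorem cls_hclo_4960 : allC (cloChk dD dC dE dCl) 4960 91 = true := by decide +kernel

set_option maxRecDepth 1000000 in
theorem cls_hclo_4961 : allC (cloChk dD dC dE dCl) 4961 91 = true := by decide +kernel

set_option maxRecDepth 1000000 in
theorem cls_hclo_4962 : allC (cloChk dD dC dE dCl) 4962 91 = true := by decide +kernel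

set_option maxRecDepth 1000000 in
theorem cls_hclo_4963 : allC (cloChk dD dC dE dCl) 4963 91 = true := by decide +kernel

set_option maxRecDepth 1000000 in
theorem cls_hclo_4964 : allC (cloChk dD dC dE dCl) 4964 91 = true := by decide +kernel

set_option maxRecDepth 1000000 in
theorem cls_hclo_4965 : allC (cloChk dD dC dE dCl) 4965 91 = true := by decide +kernel

set_option maxRecDepth 1000000 in
theorem cls_hclo_4966 : allC (cloChk dD dC dE dCl) 4966 91 = true := by decide +kernel

set_option maxRecDepth 1000000 in
theorem cls_hclo_4967 : allC (cloChk dD dC dE dCl) 4967 91 = true := by decide +kernel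

set_option maxRecDepth 1000000 in
theorem cls_hclo_4968 : allC (cloChk dD dC dE dCl) 4968 91 = true := by decide +kernel

set_option maxRecDepth 1000000 in
theorem cls_hclo_4969 : allC (cloChk dD dC dE dCl) 4969 91 = true := by decide +kernel

set_option maxRecDepth 1000000 in
theorem cls_hclo_4970 : allC (cloChk dD dC dE dCl) 4970 91 = true := by decide +kernel

set_option maxRecDepth 1000000 in
theorem cls_hclo_4971 : allC (cloChk dD dC dE dCl) 4971 91 = true := by decide +kernel

set_option maxRecDepth 1000000 in
theorem cls_hclo_4972 : allC (cloChk dD dC dE dCl) 4972 91 = true := by decide +kernel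

set_option maxRecDepth 1000000 in
theorem cls_hclo_4973 : allC (cloChk dD dC dE dCl) 4973 91 = true := by decide +kernel

set_option maxRecDepth 1000000 in
theorem cls_hclo_4974 : allC (cloChk dD dC dE dCl) 4974 91 = true := by decide +kernel

set_option maxRecDepth 1000000 in
theorem cls_hclo_4975 : allC (cloChk dD dC dE dCl) 4975 91 = true := by decide +kernel

set_option maxRecDepth 1000000 in
theorem cls_hclo_4976 : allC (cloChk dD dC dE dCl) 4976 91 = true := by decide +kernel

set_option maxRecDepth 1000000 in
theorem cls_hclo_4977 : allC (cloChk dD dC dE dCl) 4977 91 = true := by decide +kernel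

set_option maxRecDepth 1000000 in
theorem cls_hclo_4978 : allC (cloChk dD dC dE dCl) 4978 91 = true := by decide +kernel

set_option maxRecDepth 1000000 in
theorem cls_hclo_4979 : allC (cloChk dD dC dE dCl) 4979 91 = true := by decide +kernel

set_option maxRecDepth 1000000 in
theorem cls_hclo_4980 : allC (cloChk dD dC dE dCl) 4980 91 = true := by decide +kernel

set_option maxRecDepth 1000000 in
theorem cls_hclo_4981 : allC (cloChk dD dC dE dCl) 4981 91 = true := by decide +kernel

set_option maxRecDepth 1000000 in
theorem cls_hclo_4982 : allC (cloChk dD dC dE dCl) 4982 91 = true := by decide +kernel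

set_option maxRecDepth 1000000 in
theorem cls_hclo_4983 : allC (cloChk dD dC dE dCl) 4983 91 = true := by decide +kernel

set_option maxRecDepth 1000000 in
theorem cls_hclo_4984 : allC (cloChk dD dC dE dCl) 4984 91 = true := by decide +kernel

set_option maxRecDepth 1000000 in
theorem cls_hclo_4985 : allC (cloChk dD dC dE dCl) 4985 91 = true := by decide +kernel

set_option maxRecDepth 1000000 in
theorem cls_hclo_4986 : allC (cloChk dD dC dE dCl) 4986 91 = true := by decide +kernel

set_option maxRecDepth 1000000 in
theorem cls_hclo_4987 : allC (cloChk dD dC dE dCl) 4987 91 = true := by decide +kernel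

set_option maxRecDepth 1000000 in
theorem cls_hclo_4988 : allC (cloChk dD dC dE dCl) 4988 91 = true := by decide +kernel

set_option maxRecDepth 1000000 in
theorem cls_hclo_4989 : allC (cloChk dD dC dE dCl) 4989 91 = true := by decide +kernel

set_option maxRecDepth 1000000 in
theorem cls_hclo_4990 : allC (cloChk dD dC dE dCl) 4990 91 = true := by decide +kernel

set_option maxRecDepth 1000000 in
theorem cls_hclo_4991 : allC (cloChk dD dC dE dCl) 4991 91 = true := by decide +kernel

set_option maxRecDepth 1000000 in
theorem cls_hclo_4992 : allC (cloChk dD dC dE dCl) 4992 91 = true := by decide +kernel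

set_option maxRecDepth 1000000 in
theorem cls_hclo_4993 : allC (cloChk dD dC dE dCl) 4993 91 = true := by decide +kernel

set_option maxRecDepth 1000000 in
theorem cls_hclo_4994 : allC (cloChk dD dC dE dCl) 4994 91 = true := by decide +kernel

set_option maxRecDepth 1000000 in
theorem cls_hclo_4995 : allC (cloChk dD dC dE dCl) 4995 91 = true := by decide +kernel

set_option maxRecDepth 1000000 in
theorem cls_hclo_4996 : allC (cloChk dD dC dE dCl) 4996 91 = true := by decide +kernel

set_option maxRecDepth 1000000 in
theorem cls_hclo_4997 : allC (cloChk dD dC dE dCl) 4997 91 = true := by decide +kernel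

set_option maxRecDepth 1000000 in
theorem cls_hclo_4998 : allC (cloChk dD dC dE dCl) 4998 91 = true := by decide +kernel

set_option maxRecDepth 1000000 in
theorem cls_hclo_4999 : allC (cloChk dD dC dE dCl) 4999 91 = true := by decide +kernel

end Cfsg.Agent.Helper9.RuO

end
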