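import Mathlib
import Cfsg.Agent.Helper9.RuO.Data

set_option autoImplicit false

/-! Kernel checks of the certificates, a part. -/

noncomputable section

namespace Cfsg.Agent.Helper9.RuO

open Cfsg.Agent.Helper9.OutG Cfsg.Agent.Helper9.J3

set_option maxRecDepth 1000000 in
theorem cls_hclo_500 : allC (cloChk dD dC dE dCl) 500 91 = true := by decide +kernel

set_option maxRecDepth 1000000 in
theorem cls_hclo_501 : allC (cloChk dD dC dE dCl) 501 91 = true := by decide +kernel

set_option maxRecDepth 1000000 in
theorem cls_hclo_502 : allC (cloChk dD dC dE dCl) 502 91 = true := by decide +kernel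

set_option maxRecDepth 1000000 in
theorem cls_hclo_503 : allC (cloChk dD dC dE dCl) 503 91 = true := by decide +kernel

set_option maxRecDepth 1000000 in
theorem cls_hclo_504 : allC (cloChk dD dC dE dCl) 504 91 = true := by decide +kernel

set_option maxRecDepth 1000000 in
theorem cls_hclo_505 : allC (cloChk dD dC dE dCl) 505 91 = true := by decide +kernel

set_option maxRecDepth 1000000 in
theorem cls_hclo_506 : allC (cloChk dD dC dE dCl) 506 91 = true := by decide +kernel

set_option maxRecDepth 1000000 in
theorem cls_hclo_507 : allC (cloChk dD dC dE dCl) 507 91 = true := by decide +kernel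

set_option maxRecDepth 1000000 in
theorem cls_hclo_508 : allC (cloChk dD dC dE dCl) 508 91 = true := by decide +kernel

set_option maxRecDepth 1000000 in
theorem cls_hclo_509 : allC (cloChk dD dC dE dCl) 509 91 = true := by decide +kernel

set_option maxRecDepth 1000000 in
theorem cls_hclo_510 : allC (cloChk dD dC dE dCl) 510 91 = true := by decide +kernel

set_option maxRecDepth 1000000 in
theorem cls_hclo_511 : allC (cloChk dD dC dE dCl) 511 91 = true := by decide +kernel

set_option maxRecDepth 1000000 in
theorem cls_hclo_512 : allC (cloChk dD dC dE dCl) 512 91 = true := by decide +kernel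

set_option maxRecDepth 1000000 in
theorem cls_hclo_513 : allC (cloChk dD dC dE dCl) 513 91 = true := by decide +kernel

set_option maxRecDepth 1000000 in
theorem cls_hclo_514 : allC (cloChk dD dC dE dCl) 514 91 = true := by decide +kernel

set_option maxRecDepth 1000000 in
theorem cls_hclo_515 : allC (cloChk dD dC dE dCl) 515 91 = true := by decide +kernel

set_option maxRecDepth 1000000 in
theorem cls_hclo_516 : allC (cloChk dD dC dE dCl) 516 91 = true := by decide +kernel

set_option maxRecDepth 1000000 in
theorem cls_hclo_517 : allC (cloChk dD dC dE dCl) 517 91 = true := by decide +kernel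

set_option maxRecDepth 1000000 in
theorem cls_hclo_518 : allC (cloChk dD dC dE dCl) 518 91 = true := by decide +kernel

set_option maxRecDepth 1000000 in
theorem cls_hclo_519 : allC (cloChk dD dC dE dCl) 519 91 = true := by decide +kernel

set_option maxRecDepth 1000000 in
theorem cls_hclo_520 : allC (cloChk dD dC dE dCl) 520 91 = true := by decide +kernel

set_option maxRecDepth 1000000 in
theorem cls_hclo_521 : allC (cloChk dD dC dE dCl) 521 91 = true := by decide +kernel

set_option maxRecDepth 1000000 in
theorem cls_hclo_522 : allC (cloChk dD dC dE dCl) 522 91 = true := by decide +kernel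

set_option maxRecDepth 1000000 in
theorem cls_hclo_523 : allC (cloChk dD dC dE dCl) 523 91 = true := by decide +kernel

set_option maxRecDepth 1000000 in
theorem cls_hclo_524 : allC (cloChk dD dC dE dCl) 524 91 = true := by decide +kernel

set_option maxRecDepth 1000000 in
theorem cls_hclo_525 : allC (cloChk dD dC dE dCl) 525 91 = true := by decide +kernel

set_option maxRecDepth 1000000 in
theorem cls_hclo_526 : allC (cloChk dD dC dE dCl) 526 91 = true := by decide +kernel

set_option maxRecDepth 1000000 in
theorem cls_hclo_527 : allC (cloChk dD dC dE dCl) 527 91 = true := by decide +kernel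

set_option maxRecDepth 1000000 in
theorem cls_hclo_528 : allC (cloChk dD dC dE dCl) 528 91 = true := by decide +kernel

set_option maxRecDepth 1000000 in
theorem cls_hclo_529 : allC (cloChk dD dC dE dCl) 529 91 = true := by decide +kernel

set_option maxRecDepth 1000000 in
theorem cls_hclo_530 : allC (cloChk dD dC dE dCl) 530 91 = true := by decide +kernel

set_option maxRecDepth 1000000 in
theorem cls_hclo_531 : allC (cloChk dD dC dE dCl) 531 91 = true := by decide +kernel

set_option maxRecDepth 1000000 in
theorem cls_hclo_532 : allC (cloChk dD dC dE dCl) 532 91 = true := by decide +kernel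

set_option maxRecDepth 1000000 in
theorem cls_hclo_533 : allC (cloChk dD dC dE dCl) 533 91 = true := by decide +kernel

set_option maxRecDepth 1000000 in
theorem cls_hclo_534 : allC (cloChk dD dC dE dCl) 534 91 = true := by decide +kernel

set_option maxRecDepth 1000000 in
theorem cls_hclo_535 : allC (cloChk dD dC dE dCl) 535 91 = true := by decide +kernel

set_option maxRecDepth 1000000 in
theorem cls_hclo_536 : allC (cloChk dD dC dE dCl) 536 91 = true := by decide +kernel

set_option maxRecDepth 1000000 in
theorem cls_hclo_537 : allC (cloChk dD dC dE dCl) 537 91 = true := by decide +kernel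

set_option maxRecDepth 1000000 in
theorem cls_hclo_538 : allC (cloChk dD dC dE dCl) 538 91 = true := by decide +kernel

set_option maxRecDepth 1000000 in
theorem cls_hclo_539 : allC (cloChk dD dC dE dCl) 539 91 = true := by decide +kernel

set_option maxRecDepth 1000000 in
theorem cls_hclo_540 : allC (cloChk dD dC dE dCl) 540 91 = true := by decide +kernel

set_option maxRecDepth 1000000 in
theorem cls_hclo_541 : allC (cloChk dD dC dE dCl) 541 91 = true := by decide +kernel

set_option maxRecDepth 1000000 in
theorem cls_hclo_542 : allC (cloChk dD dC dE dCl) 542 91 = true := by decide +kernel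

set_option maxRecDepth 1000000 in
theorem cls_hclo_543 : allC (cloChk dD dC dE dCl) 543 91 = true := by decide +kernel

set_option maxRecDepth 1000000 in
theorem cls_hclo_544 : allC (cloChk dD dC dE dCl) 544 91 = true := by decide +kernel

set_option maxRecDepth 1000000 in
theorem cls_hclo_545 : allC (cloChk dD dC dE dCl) 545 91 = true := by decide +kernel

set_option maxRecDepth 1000000 in
theorem cls_hclo_546 : allC (cloChk dD dC dE dCl) 546 91 = true := by decide +kernel

set_option maxRecDepth 1000000 in
theorem cls_hclo_547 : allC (cloChk dD dC dE dCl) 547 91 = true := by decide +kernel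

set_option maxRecDepth 1000000 in
theorem cls_hclo_548 : allC (cloChk dD dC dE dCl) 548 91 = true := by decide +kernel

set_option maxRecDepth 1000000 in
theorem cls_hclo_549 : allC (cloChk dD dC dE dCl) 549 91 = true := by decide +kernel

set_option maxRecDepth 1000000 in
theorem cls_hclo_550 : allC (cloChk dD dC dE dCl) 550 91 = true := by decide +kernel

set_option maxRecDepth 1000000 in
theorem cls_hclo_551 : allC (cloChk dD dC dE dCl) 551 91 = true := by decide +kernel

set_option maxRecDepth 1000000 in
theorem cls_hclo_552 : allC (cloChk dD dC dE dCl) 552 91 = true := by decide +kernel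

set_option maxRecDepth 1000000 in
theorem cls_hclo_553 : allC (cloChk dD dC dE dCl) 553 91 = true := by decide +kernel

set_option maxRecDepth 1000000 in
theorem cls_hclo_554 : allC (cloChk dD dC dE dCl) 554 91 = true := by decide +kernel

set_option maxRecDepth 1000000 in
theorem cls_hclo_555 : allC (cloChk dD dC dE dCl) 555 91 = true := by decide +kernel

set_option maxRecDepth 1000000 in
theorem cls_hclo_556 : allC (cloChk dD dC dE dCl) 556 91 = true := by decide +kernel

set_option maxRecDepth 1000000 in
theorem cls_hclo_557 : allC (cloChk dD dC dE dCl) 557 91 = true := by decide +kernel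

set_option maxRecDepth 1000000 in
theorem cls_hclo_558 : allC (cloChk dD dC dE dCl) 558 91 = true := by decide +kernel

set_option maxRecDepth 1000000 in
theorem cls_hclo_559 : allC (cloChk dD dC dE dCl) 559 91 = true := by decide +kernel

set_option maxRecDepth 1000000 in
theorem cls_hclo_560 : allC (cloChk dD dC dE dCl) 560 91 = true := by decide +kernel

set_option maxRecDepth 1000000 in
theorem cls_hclo_561 : allC (cloChk dD dC dE dCl) 561 91 = true := by decide +kernel

set_option maxRecDepth 1000000 in
theorem cls_hclo_562 : allC (cloChk dD dC dE dCl) 562 91 = true := by decide +kernel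

set_option maxRecDepth 1000000 in
theorem cls_hclo_563 : allC (cloChk dD dC dE dCl) 563 91 = true := by decide +kernel

set_option maxRecDepth 1000000 in
theorem cls_hclo_564 : allC (cloChk dD dC dE dCl) 564 91 = true := by decide +kernel

set_option maxRecDepth 1000000 in
theorem cls_hclo_565 : allC (cloChk dD dC dE dCl) 565 91 = true := by decide +kernel

set_option maxRecDepth 1000000 in
theorem cls_hclo_566 : allC (cloChk dD dC dE dCl) 566 91 = true := by decide +kernel

set_option maxRecDepth 1000000 in
theorem cls_hclo_567 : allC (cloChk dD dC dE dCl) 567 91 = true := by decide +kernel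

set_option maxRecDepth 1000000 in
theorem cls_hclo_568 : allC (cloChk dD dC dE dCl) 568 91 = true := by decide +kernel

set_option maxRecDepth 1000000 in
theorem cls_hclo_569 : allC (cloChk dD dC dE dCl) 569 91 = true := by decide +kernel

set_option maxRecDepth 1000000 in
theorem cls_hclo_570 : allC (cloChk dD dC dE dCl) 570 91 = true := by decide +kernel

set_option maxRecDepth 1000000 in
theorem cls_hclo_571 : allC (cloChk dD dC dE dCl) 571 91 = true := by decide +kernel

set_option maxRecDepth 1000000 in
theorem cls_hclo_572 : allC (cloChk dD dC dE dCl) 572 91 = true := by decide +kernel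

set_option maxRecDepth 1000000 in
theorem cls_hclo_573 : allC (cloChk dD dC dE dCl) 573 91 = true := by decide +kernel

set_option maxRecDepth 1000000 in
theorem cls_hclo_574 : allC (cloChk dD dC dE dCl) 574 91 = true := by decide +kernel

set_option maxRecDepth 1000000 in
theorem cls_hclo_575 : allC (cloChk dD dC dE dCl) 575 91 = true := by decide +kernel

set_option maxRecDepth 1000000 in
theorem cls_hclo_576 : allC (cloChk dD dC dE dCl) 576 91 = true := by decide +kernel

set_option maxRecDepth 1000000 in
theorem cls_hclo_577 : allC (cloChk dD dC dE dCl) 577 91 = true := by decide +kernel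

set_option maxRecDepth 1000000 in
theorem cls_hclo_578 : allC (cloChk dD dC dE dCl) 578 91 = true := by decide +kernel

set_option maxRecDepth 1000000 in
theorem cls_hclo_579 : allC (cloChk dD dC dE dCl) 579 91 = true := by decide +kernel

set_option maxRecDepth 1000000 in
theorem cls_hclo_580 : allC (cloChk dD dC dE dCl) 580 91 = true := by decide +kernel

set_option maxRecDepth 1000000 in
theorem cls_hclo_581 : allC (cloChk dD dC dE dCl) 581 91 = true := by decide +kernel

set_option maxRecDepth 1000000 in
theorem cls_hclo_582 : allC (cloChk dD dC dE dCl) 582 91 = true := by decide +kernel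

set_option maxRecDepth 1000000 in
theorem cls_hclo_583 : allC (cloChk dD dC dE dCl) 583 91 = true := by decide +kernel

set_option maxRecDepth 1000000 in
theorem cls_hclo_584 : allC (cloChk dD dC dE dCl) 584 91 = true := by decide +kernel

set_option maxRecDepth 1000000 in
theorem cls_hclo_585 : allC (cloChk dD dC dE dCl) 585 91 = true := by decide +kernel

set_option maxRecDepth 1000000 in
theorem cls_hclo_586 : allC (cloChk dD dC dE dCl) 586 91 = true := by decide +kernel

set_option maxRecDepth 1000000 in
theorem cls_hclo_587 : allC (cloChk dD dC dE dCl) 587 91 = true := by decide +kernel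

set_option maxRecDepth 1000000 in
theorem cls_hclo_588 : allC (cloChk dD dC dE dCl) 588 91 = true := by decide +kernel

set_option maxRecDepth 1000000 in
theorem cls_hclo_589 : allC (cloChk dD dC dE dCl) 589 91 = true := by decide +kernel

set_option maxRecDepth 1000000 in
theorem cls_hclo_590 : allC (cloChk dD dC dE dCl) 590 91 = true := by decide +kernel

set_option maxRecDepth 1000000 in
theorem cls_hclo_591 : allC (cloChk dD dC dE dCl) 591 91 = true := by decide +kernel

set_option maxRecDepth 1000000 in
theorem cls_hclo_592 : allC (cloChk dD dC dE dCl) 592 91 = true := by decide +kernel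

set_option maxRecDepth 1000000 in
theorem cls_hclo_593 : allC (cloChk dD dC dE dCl) 593 91 = true := by decide +kernel

set_option maxRecDepth 1000000 in
theorem cls_hclo_594 : allC (cloChk dD dC dE dCl) 594 91 = true := by decide +kernel

set_option maxRecDepth 1000000 in
theorem cls_hclo_595 : allC (cloChk dD dC dE dCl) 595 91 = true := by decide +kernel

set_option maxRecDepth 1000000 in
theorem cls_hclo_596 : allC (cloChk dD dC dE dCl) 596 91 = true := by decide +kernel

set_option maxRecDepth 1000000 in
theorem cls_hclo_597 : allC (cloChk dD dC dE dCl) 597 91 = true := by decide +kernel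

set_option maxRecDepth 1000000 in
theorem cls_hclo_598 : allC (cloChk dD dC dE dCl) 598 91 = true := by decide +kernel

set_option maxRecDepth 1000000 in
theorem cls_hclo_599 : allC (cloChk dD dC dE dCl) 599 91 = true := by decide +kernel

end Cfsg.Agent.Helper9.RuO

end
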