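import Mathlib
import Cfsg.Agent.Helper9.RuO.Data

set_option autoImplicit false

/-! Kernel checks of the certificates, a part. -/

noncomputable section

namespace Cfsg.Agent.Helper9.RuO

open Cfsg.Agent.Helper9.OutG Cfsg.Agent.Helper9.J3

set_option maxRecDepth 1000000 in
theorem cls_hclo_5000 : allC (cloChk dD dC dE dCl) 5000 91 = true := by decide +kernel

set_option maxRecDepth 1000000 in
theorem cls_hclo_5001 : allC (cloChk dD dC dE dCl) 5001 91 = true := by decide +kernel

set_option maxRecDepth 1000000 in
theorem cls_hclo_5002 : allC (cloChk dD dC dE dCl) 5002 91 = true := by decide +kernel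

set_option maxRecDepth 1000000 in
theorem cls_hclo_5003 : allC (cloChk dD dC dE dCl) 5003 91 = true := by decide +kernel

set_option maxRecDepth 1000000 in
theorem cls_hclo_5004 : allC (cloChk dD dC dE dCl) 5004 91 = true := by decide +kernel

set_option maxRecDepth 1000000 in
theorem cls_hclo_5005 : allC (cloChk dD dC dE dCl) 5005 91 = true := by decide +kernel

set_option maxRecDepth 1000000 in
theorem cls_hclo_5006 : allC (cloChk dD dC dE dCl) 5006 91 = true := by decide +kernel

set_option maxRecDepth 1000000 in
theorem cls_hclo_5007 : allC (cloChk dD dC dE dCl) 5007 91 = true := by decide +kernel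

set_option maxRecDepth 1000000 in
theorem cls_hclo_5008 : allC (cloChk dD dC dE dCl) 5008 91 = true := by decide +kernel

set_option maxRecDepth 1000000 in
theorem cls_hclo_5009 : allC (cloChk dD dC dE dCl) 5009 91 = true := by decide +kernel

set_option maxRecDepth 1000000 in
theorem cls_hclo_5010 : allC (cloChk dD dC dE dCl) 5010 91 = true := by decide +kernel

set_option maxRecDepth 1000000 in
theorem cls_hclo_5011 : allC (cloChk dD dC dE dCl) 5011 91 = true := by decide +kernel

set_option maxRecDepth 1000000 in
theorem cls_hclo_5012 : allC (cloChk dD dC dE dCl) 5012 91 = true := by decide +kernel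

set_option maxRecDepth 1000000 in
theorem cls_hclo_5013 : allC (cloChk dD dC dE dCl) 5013 91 = true := by decide +kernel

set_option maxRecDepth 1000000 in
theorem cls_hclo_5014 : allC (cloChk dD dC dE dCl) 5014 91 = true := by decide +kernel

set_option maxRecDepth 1000000 in
theorem cls_hclo_5015 : allC (cloChk dD dC dE dCl) 5015 91 = true := by decide +kernel

set_option maxRecDepth 1000000 in
theorem cls_hclo_5016 : allC (cloChk dD dC dE dCl) 5016 91 = true := by decide +kernel

set_option maxRecDepth 1000000 in
theorem cls_hclo_5017 : allC (cloChk dD dC dE dCl) 5017 91 = true := by decide +kernel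

set_option maxRecDepth 1000000 in
theorem cls_hclo_5018 : allC (cloChk dD dC dE dCl) 5018 91 = true := by decide +kernel

set_option maxRecDepth 1000000 in
theorem cls_hclo_5019 : allC (cloChk dD dC dE dCl) 5019 91 = true := by decide +kernel

set_option maxRecDepth 1000000 in
theorem cls_hclo_5020 : allC (cloChk dD dC dE dCl) 5020 91 = true := by decide +kernel

set_option maxRecDepth 1000000 in
theorem cls_hclo_5021 : allC (cloChk dD dC dE dCl) 5021 91 = true := by decide +kernel

set_option maxRecDepth 1000000 in
theorem cls_hclo_5022 : allC (cloChk dD dC dE dCl) 5022 91 = true := by decide +kernel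

set_option maxRecDepth 1000000 in
theorem cls_hclo_5023 : allC (cloChk dD dC dE dCl) 5023 91 = true := by decide +kernel

set_option maxRecDepth 1000000 in
theorem cls_hclo_5024 : allC (cloChk dD dC dE dCl) 5024 91 = true := by decide +kernel

set_option maxRecDepth 1000000 in
theorem cls_hclo_5025 : allC (cloChk dD dC dE dCl) 5025 91 = true := by decide +kernel

set_option maxRecDepth 1000000 in
theorem cls_hclo_5026 : allC (cloChk dD dC dE dCl) 5026 91 = true := by decide +kernel

set_option maxRecDepth 1000000 in
theorem cls_hclo_5027 : allC (cloChk dD dC dE dCl) 5027 91 = true := by decide +kernel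

set_option maxRecDepth 1000000 in
theorem cls_hclo_5028 : allC (cloChk dD dC dE dCl) 5028 91 = true := by decide +kernel

set_option maxRecDepth 1000000 in
theorem cls_hclo_5029 : allC (cloChk dD dC dE dCl) 5029 91 = true := by decide +kernel

set_option maxRecDepth 1000000 in
theorem cls_hclo_5030 : allC (cloChk dD dC dE dCl) 5030 91 = true := by decide +kernel

set_option maxRecDepth 1000000 in
theorem cls_hclo_5031 : allC (cloChk dD dC dE dCl) 5031 91 = true := by decide +kernel

set_option maxRecDepth 1000000 in
theorem cls_hclo_5032 : allC (cloChk dD dC dE dCl) 5032 91 = true := by decide +kernel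

set_option maxRecDepth 1000000 in
theorem cls_hclo_5033 : allC (cloChk dD dC dE dCl) 5033 91 = true := by decide +kernel

set_option maxRecDepth 1000000 in
theorem cls_hclo_5034 : allC (cloChk dD dC dE dCl) 5034 91 = true := by decide +kernel

set_option maxRecDepth 1000000 in
theorem cls_hclo_5035 : allC (cloChk dD dC dE dCl) 5035 91 = true := by decide +kernel

set_option maxRecDepth 1000000 in
theorem cls_hclo_5036 : allC (cloChk dD dC dE dCl) 5036 91 = true := by decide +kernel

set_option maxRecDepth 1000000 in
theorem cls_hclo_5037 : allC (cloChk dD dC dE dCl) 5037 91 = true := by decide +kernel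

set_option maxRecDepth 1000000 in
theorem cls_hclo_5038 : allC (cloChk dD dC dE dCl) 5038 91 = true := by decide +kernel

set_option maxRecDepth 1000000 in
theorem cls_hclo_5039 : allC (cloChk dD dC dE dCl) 5039 91 = true := by decide +kernel

set_option maxRecDepth 1000000 in
theorem cls_hclo_5040 : allC (cloChk dD dC dE dCl) 5040 91 = true := by decide +kernel

set_option maxRecDepth 1000000 in
theorem cls_hclo_5041 : allC (cloChk dD dC dE dCl) 5041 91 = true := by decide +kernel

set_option maxRecDepth 1000000 in
theorem cls_hclo_5042 : allC (cloChk dD dC dE dCl) 5042 91 = true := by decide +kernel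

set_option maxRecDepth 1000000 in
theorem cls_hclo_5043 : allC (cloChk dD dC dE dCl) 5043 91 = true := by decide +kernel

set_option maxRecDepth 1000000 in
theorem cls_hclo_5044 : allC (cloChk dD dC dE dCl) 5044 91 = true := by decide +kernel

set_option maxRecDepth 1000000 in
theorem cls_hclo_5045 : allC (cloChk dD dC dE dCl) 5045 91 = true := by decide +kernel

set_option maxRecDepth 1000000 in
theorem cls_hclo_5046 : allC (cloChk dD dC dE dCl) 5046 91 = true := by decide +kernel

set_option maxRecDepth 1000000 in
theorem cls_hclo_5047 : allC (cloChk dD dC dE dCl) 5047 91 = true := by decide +kernel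

set_option maxRecDepth 1000000 in
theorem cls_hclo_5048 : allC (cloChk dD dC dE dCl) 5048 91 = true := by decide +kernel

set_option maxRecDepth 1000000 in
theorem cls_hclo_5049 : allC (cloChk dD dC dE dCl) 5049 91 = true := by decide +kernel

set_option maxRecDepth 1000000 in
theorem cls_hclo_5050 : allC (cloChk dD dC dE dCl) 5050 91 = true := by decide +kernel

set_option maxRecDepth 1000000 in
theorem cls_hclo_5051 : allC (cloChk dD dC dE dCl) 5051 91 = true := by decide +kernel

set_option maxRecDepth 1000000 in
theorem cls_hclo_5052 : allC (cloChk dD dC dE dCl) 5052 91 = true := by decide +kernel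

set_option maxRecDepth 1000000 in
theorem cls_hclo_5053 : allC (cloChk dD dC dE dCl) 5053 91 = true := by decide +kernel

set_option maxRecDepth 1000000 in
theorem cls_hclo_5054 : allC (cloChk dD dC dE dCl) 5054 91 = true := by decide +kernel

set_option maxRecDepth 1000000 in
theorem cls_hclo_5055 : allC (cloChk dD dC dE dCl) 5055 91 = true := by decide +kernel

set_option maxRecDepth 1000000 in
theorem cls_hclo_5056 : allC (cloChk dD dC dE dCl) 5056 91 = true := by decide +kernel

set_option maxRecDepth 1000000 in
theorem cls_hclo_5057 : allC (cloChk dD dC dE dCl) 5057 91 = true := by decide +kernel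

set_option maxRecDepth 1000000 in
theorem cls_hclo_5058 : allC (cloChk dD dC dE dCl) 5058 91 = true := by decide +kernel

set_option maxRecDepth 1000000 in
theorem cls_hclo_5059 : allC (cloChk dD dC dE dCl) 5059 91 = true := by decide +kernel

set_option maxRecDepth 1000000 in
theorem cls_hclo_5060 : allC (cloChk dD dC dE dCl) 5060 91 = true := by decide +kernel

set_option maxRecDepth 1000000 in
theorem cls_hclo_5061 : allC (cloChk dD dC dE dCl) 5061 91 = true := by decide +kernel

set_option maxRecDepth 1000000 in
theorem cls_hclo_5062 : allC (cloChk dD dC dE dCl) 5062 91 = true := by decide +kernel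

set_option maxRecDepth 1000000 in
theorem cls_hclo_5063 : allC (cloChk dD dC dE dCl) 5063 91 = true := by decide +kernel

set_option maxRecDepth 1000000 in
theorem cls_hclo_5064 : allC (cloChk dD dC dE dCl) 5064 91 = true := by decide +kernel

set_option maxRecDepth 1000000 in
theorem cls_hclo_5065 : allC (cloChk dD dC dE dCl) 5065 91 = true := by decide +kernel

set_option maxRecDepth 1000000 in
theorem cls_hclo_5066 : allC (cloChk dD dC dE dCl) 5066 91 = true := by decide +kernel

set_option maxRecDepth 1000000 in
theorem cls_hclo_5067 : allC (cloChk dD dC dE dCl) 5067 91 = true := by decide +kernel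

set_option maxRecDepth 1000000 in
theorem cls_hclo_5068 : allC (cloChk dD dC dE dCl) 5068 91 = true := by decide +kernel

set_option maxRecDepth 1000000 in
theorem cls_hclo_5069 : allC (cloChk dD dC dE dCl) 5069 91 = true := by decide +kernel

set_option maxRecDepth 1000000 in
theorem cls_hclo_5070 : allC (cloChk dD dC dE dCl) 5070 91 = true := by decide +kernel

set_option maxRecDepth 1000000 in
theorem cls_hclo_5071 : allC (cloChk dD dC dE dCl) 5071 91 = true := by decide +kernel

set_option maxRecDepth 1000000 in
theorem cls_hclo_5072 : allC (cloChk dD dC dE dCl) 5072 91 = true := by decide +kernel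

set_option maxRecDepth 1000000 in
theorem cls_hclo_5073 : allC (cloChk dD dC dE dCl) 5073 91 = true := by decide +kernel

set_option maxRecDepth 1000000 in
theorem cls_hclo_5074 : allC (cloChk dD dC dE dCl) 5074 91 = true := by decide +kernel

set_option maxRecDepth 1000000 in
theorem cls_hclo_5075 : allC (cloChk dD dC dE dCl) 5075 91 = true := by decide +kernel

set_option maxRecDepth 1000000 in
theorem cls_hclo_5076 : allC (cloChk dD dC dE dCl) 5076 91 = true := by decide +kernel

set_option maxRecDepth 1000000 in
theorem cls_hclo_5077 : allC (cloChk dD dC dE dCl) 5077 91 = true := by decide +kernel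

set_option maxRecDepth 1000000 in
theorem cls_hclo_5078 : allC (cloChk dD dC dE dCl) 5078 91 = true := by decide +kernel

set_option maxRecDepth 1000000 in
theorem cls_hclo_5079 : allC (cloChk dD dC dE dCl) 5079 91 = true := by decide +kernel

set_option maxRecDepth 1000000 in
theorem cls_hclo_5080 : allC (cloChk dD dC dE dCl) 5080 91 = true := by decide +kernel

set_option maxRecDepth 1000000 in
theorem cls_hclo_5081 : allC (cloChk dD dC dE dCl) 5081 91 = true := by decide +kernel

set_option maxRecDepth 1000000 in
theorem cls_hclo_5082 : allC (cloChk dD dC dE dCl) 5082 91 = true := by decide +kernel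

set_option maxRecDepth 1000000 in
theorem cls_hclo_5083 : allC (cloChk dD dC dE dCl) 5083 91 = true := by decide +kernel

set_option maxRecDepth 1000000 in
theorem cls_hclo_5084 : allC (cloChk dD dC dE dCl) 5084 91 = true := by decide +kernel

set_option maxRecDepth 1000000 in
theorem cls_hclo_5085 : allC (cloChk dD dC dE dCl) 5085 91 = true := by decide +kernel

set_option maxRecDepth 1000000 in
theorem cls_hclo_5086 : allC (cloChk dD dC dE dCl) 5086 91 = true := by decide +kernel

set_option maxRecDepth 1000000 in
theorem cls_hclo_5087 : allC (cloChk dD dC dE dCl) 5087 91 = true := by decide +kernel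

set_option maxRecDepth 1000000 in
theorem cls_hclo_5088 : allC (cloChk dD dC dE dCl) 5088 91 = true := by decide +kernel

set_option maxRecDepth 1000000 in
theorem cls_hclo_5089 : allC (cloChk dD dC dE dCl) 5089 91 = true := by decide +kernel

set_option maxRecDepth 1000000 in
theorem cls_hclo_5090 : allC (cloChk dD dC dE dCl) 5090 91 = true := by decide +kernel

set_option maxRecDepth 1000000 in
theorem cls_hclo_5091 : allC (cloChk dD dC dE dCl) 5091 91 = true := by decide +kernel

set_option maxRecDepth 1000000 in
theorem cls_hclo_5092 : allC (cloChk dD dC dE dCl) 5092 91 = true := by decide +kernel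

set_option maxRecDepth 1000000 in
theorem cls_hclo_5093 : allC (cloChk dD dC dE dCl) 5093 91 = true := by decide +kernel

set_option maxRecDepth 1000000 in
theorem cls_hclo_5094 : allC (cloChk dD dC dE dCl) 5094 91 = true := by decide +kernel

set_option maxRecDepth 1000000 in
theorem cls_hclo_5095 : allC (cloChk dD dC dE dCl) 5095 91 = true := by decide +kernel

set_option maxRecDepth 1000000 in
theorem cls_hclo_5096 : allC (cloChk dD dC dE dCl) 5096 91 = true := by decide +kernel

set_option maxRecDepth 1000000 in
theorem cls_hclo_5097 : allC (cloChk dD dC dE dCl) 5097 91 = true := by decide +kernel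

set_option maxRecDepth 1000000 in
theorem cls_hclo_5098 : allC (cloChk dD dC dE dCl) 5098 91 = true := by decide +kernel

set_option maxRecDepth 1000000 in
theorem cls_hclo_5099 : allC (cloChk dD dC dE dCl) 5099 91 = true := by decide +kernel

end Cfsg.Agent.Helper9.RuO

end
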