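import Mathlib
import Cfsg.Agent.Helper9.RuO.Data

set_option autoImplicit false

/-! Kernel checks of the certificates, a part. -/

noncomputable section

namespace Cfsg.Agent.Helper9.RuO

open Cfsg.Agent.Helper9.OutG Cfsg.Agent.Helper9.J3

set_option maxRecDepth 1000000 in
theorem cls_hclo_5100 : allC (cloChk dD dC dE dCl) 5100 91 = true := by decide +kernel

set_option maxRecDepth 1000000 in
theorem cls_hclo_5101 : allC (cloChk dD dC dE dCl) 5101 91 = true := by decide +kernel

set_option maxRecDepth 1000000 in
theorem cls_hclo_5102 : allC (cloChk dD dC dE dCl) 5102 91 = true := by decide +kernel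

set_option maxRecDepth 1000000 in
theorem cls_hclo_5103 : allC (cloChk dD dC dE dCl) 5103 91 = true := by decide +kernel

set_option maxRecDepth 1000000 in
theorem cls_hclo_5104 : allC (cloChk dD dC dE dCl) 5104 91 = true := by decide +kernel

set_option maxRecDepth 1000000 in
theorem cls_hclo_5105 : allC (cloChk dD dC dE dCl) 5105 91 = true := by decide +kernel

set_option maxRecDepth 1000000 in
theorem cls_hclo_5106 : allC (cloChk dD dC dE dCl) 5106 91 = true := by decide +kernel

set_option maxRecDepth 1000000 in
theorem cls_hclo_5107 : allC (cloChk dD dC dE dCl) 5107 91 = true := by decide +kernel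

set_option maxRecDepth 1000000 in
theorem cls_hclo_5108 : allC (cloChk dD dC dE dCl) 5108 91 = true := by decide +kernel

set_option maxRecDepth 1000000 in
theorem cls_hclo_5109 : allC (cloChk dD dC dE dCl) 5109 91 = true := by decide +kernel

set_option maxRecDepth 1000000 in
theorem cls_hclo_5110 : allC (cloChk dD dC dE dCl) 5110 91 = true := by decide +kernel

set_option maxRecDepth 1000000 in
theorem cls_hclo_5111 : allC (cloChk dD dC dE dCl) 5111 91 = true := by decide +kernel

set_option maxRecDepth 1000000 in
theorem cls_hclo_5112 : allC (cloChk dD dC dE dCl) 5112 91 = true := by decide +kernel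

set_option maxRecDepth 1000000 in
theorem cls_hclo_5113 : allC (cloChk dD dC dE dCl) 5113 91 = true := by decide +kernel

set_option maxRecDepth 1000000 in
theorem cls_hclo_5114 : allC (cloChk dD dC dE dCl) 5114 91 = true := by decide +kernel

set_option maxRecDepth 1000000 in
theorem cls_hclo_5115 : allC (cloChk dD dC dE dCl) 5115 91 = true := by decide +kernel

set_option maxRecDepth 1000000 in
theorem cls_hclo_5116 : allC (cloChk dD dC dE dCl) 5116 91 = true := by decide +kernel

set_option maxRecDepth 1000000 in
theorem cls_hclo_5117 : allC (cloChk dD dC dE dCl) 5117 91 = true := by decide +kernel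

set_option maxRecDepth 1000000 in
theorem cls_hclo_5118 : allC (cloChk dD dC dE dCl) 5118 91 = true := by decide +kernel

set_option maxRecDepth 1000000 in
theorem cls_hclo_5119 : allC (cloChk dD dC dE dCl) 5119 91 = true := by decide +kernel

set_option maxRecDepth 1000000 in
theorem cls_hclo_5120 : allC (cloChk dD dC dE dCl) 5120 91 = true := by decide +kernel

set_option maxRecDepth 1000000 in
theorem cls_hclo_5121 : allC (cloChk dD dC dE dCl) 5121 91 = true := by decide +kernel

set_option maxRecDepth 1000000 in
theorem cls_hclo_5122 : allC (cloChk dD dC dE dCl) 5122 91 = true := by decide +kernel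

set_option maxRecDepth 1000000 in
theorem cls_hclo_5123 : allC (cloChk dD dC dE dCl) 5123 91 = true := by decide +kernel

set_option maxRecDepth 1000000 in
theorem cls_hclo_5124 : allC (cloChk dD dC dE dCl) 5124 91 = true := by decide +kernel

set_option maxRecDepth 1000000 in
theorem cls_hclo_5125 : allC (cloChk dD dC dE dCl) 5125 91 = true := by decide +kernel

set_option maxRecDepth 1000000 in
theorem cls_hclo_5126 : allC (cloChk dD dC dE dCl) 5126 91 = true := by decide +kernel

set_option maxRecDepth 1000000 in
theorem cls_hclo_5127 : allC (cloChk dD dC dE dCl) 5127 91 = true := by decide +kernel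

set_option maxRecDepth 1000000 in
theorem cls_hclo_5128 : allC (cloChk dD dC dE dCl) 5128 91 = true := by decide +kernel

set_option maxRecDepth 1000000 in
theorem cls_hclo_5129 : allC (cloChk dD dC dE dCl) 5129 91 = true := by decide +kernel

set_option maxRecDepth 1000000 in
theorem cls_hclo_5130 : allC (cloChk dD dC dE dCl) 5130 91 = true := by decide +kernel

set_option maxRecDepth 1000000 in
theorem cls_hclo_5131 : allC (cloChk dD dC dE dCl) 5131 91 = true := by decide +kernel

set_option maxRecDepth 1000000 in
theorem cls_hclo_5132 : allC (cloChk dD dC dE dCl) 5132 91 = true := by decide +kernel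

set_option maxRecDepth 1000000 in
theorem cls_hclo_5133 : allC (cloChk dD dC dE dCl) 5133 91 = true := by decide +kernel

set_option maxRecDepth 1000000 in
theorem cls_hclo_5134 : allC (cloChk dD dC dE dCl) 5134 91 = true := by decide +kernel

set_option maxRecDepth 1000000 in
theorem cls_hclo_5135 : allC (cloChk dD dC dE dCl) 5135 91 = true := by decide +kernel

set_option maxRecDepth 1000000 in
theorem cls_hclo_5136 : allC (cloChk dD dC dE dCl) 5136 91 = true := by decide +kernel

set_option maxRecDepth 1000000 in
theorem cls_hclo_5137 : allC (cloChk dD dC dE dCl) 5137 91 = true := by decide +kernel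

set_option maxRecDepth 1000000 in
theorem cls_hclo_5138 : allC (cloChk dD dC dE dCl) 5138 91 = true := by decide +kernel

set_option maxRecDepth 1000000 in
theorem cls_hclo_5139 : allC (cloChk dD dC dE dCl) 5139 91 = true := by decide +kernel

set_option maxRecDepth 1000000 in
theorem cls_hclo_5140 : allC (cloChk dD dC dE dCl) 5140 91 = true := by decide +kernel

set_option maxRecDepth 1000000 in
theorem cls_hclo_5141 : allC (cloChk dD dC dE dCl) 5141 91 = true := by decide +kernel

set_option maxRecDepth 1000000 in
theorem cls_hclo_5142 : allC (cloChk dD dC dE dCl) 5142 91 = true := by decide +kernel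

set_option maxRecDepth 1000000 in
theorem cls_hclo_5143 : allC (cloChk dD dC dE dCl) 5143 91 = true := by decide +kernel

set_option maxRecDepth 1000000 in
theorem cls_hclo_5144 : allC (cloChk dD dC dE dCl) 5144 91 = true := by decide +kernel

set_option maxRecDepth 1000000 in
theorem cls_hclo_5145 : allC (cloChk dD dC dE dCl) 5145 91 = true := by decide +kernel

set_option maxRecDepth 1000000 in
theorem cls_hclo_5146 : allC (cloChk dD dC dE dCl) 5146 91 = true := by decide +kernel

set_option maxRecDepth 1000000 in
theorem cls_hclo_5147 : allC (cloChk dD dC dE dCl) 5147 91 = true := by decide +kernel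

set_option maxRecDepth 1000000 in
theorem cls_hclo_5148 : allC (cloChk dD dC dE dCl) 5148 91 = true := by decide +kernel

set_option maxRecDepth 1000000 in
theorem cls_hclo_5149 : allC (cloChk dD dC dE dCl) 5149 91 = true := by decide +kernel

set_option maxRecDepth 1000000 in
theorem cls_hclo_5150 : allC (cloChk dD dC dE dCl) 5150 91 = true := by decide +kernel

set_option maxRecDepth 1000000 in
theorem cls_hclo_5151 : allC (cloChk dD dC dE dCl) 5151 91 = true := by decide +kernel

set_option maxRecDepth 1000000 in
theorem cls_hclo_5152 : allC (cloChk dD dC dE dCl) 5152 91 = true := by decide +kernel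

set_option maxRecDepth 1000000 in
theorem cls_hclo_5153 : allC (cloChk dD dC dE dCl) 5153 91 = true := by decide +kernel

set_option maxRecDepth 1000000 in
theorem cls_hclo_5154 : allC (cloChk dD dC dE dCl) 5154 91 = true := by decide +kernel

set_option maxRecDepth 1000000 in
theorem cls_hclo_5155 : allC (cloChk dD dC dE dCl) 5155 91 = true := by decide +kernel

set_option maxRecDepth 1000000 in
theorem cls_hclo_5156 : allC (cloChk dD dC dE dCl) 5156 91 = true := by decide +kernel

set_option maxRecDepth 1000000 in
theorem cls_hclo_5157 : allC (cloChk dD dC dE dCl) 5157 91 = true := by decide +kernel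

set_option maxRecDepth 1000000 in
theorem cls_hclo_5158 : allC (cloChk dD dC dE dCl) 5158 91 = true := by decide +kernel

set_option maxRecDepth 1000000 in
theorem cls_hclo_5159 : allC (cloChk dD dC dE dCl) 5159 91 = true := by decide +kernel

set_option maxRecDepth 1000000 in
theorem cls_hclo_5160 : allC (cloChk dD dC dE dCl) 5160 91 = true := by decide +kernel

set_option maxRecDepth 1000000 in
theorem cls_hclo_5161 : allC (cloChk dD dC dE dCl) 5161 91 = true := by decide +kernel

set_option maxRecDepth 1000000 in
theorem cls_hclo_5162 : allC (cloChk dD dC dE dCl) 5162 91 = true := by decide +kernel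

set_option maxRecDepth 1000000 in
theorem cls_hclo_5163 : allC (cloChk dD dC dE dCl) 5163 91 = true := by decide +kernel

set_option maxRecDepth 1000000 in
theorem cls_hclo_5164 : allC (cloChk dD dC dE dCl) 5164 91 = true := by decide +kernel

set_option maxRecDepth 1000000 in
theorem cls_hclo_5165 : allC (cloChk dD dC dE dCl) 5165 91 = true := by decide +kernel

set_option maxRecDepth 1000000 in
theorem cls_hclo_5166 : allC (cloChk dD dC dE dCl) 5166 91 = true := by decide +kernel

set_option maxRecDepth 1000000 in
theorem cls_hclo_5167 : allC (cloChk dD dC dE dCl) 5167 91 = true := by decide +kernel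

set_option maxRecDepth 1000000 in
theorem cls_hclo_5168 : allC (cloChk dD dC dE dCl) 5168 91 = true := by decide +kernel

set_option maxRecDepth 1000000 in
theorem cls_hclo_5169 : allC (cloChk dD dC dE dCl) 5169 91 = true := by decide +kernel

set_option maxRecDepth 1000000 in
theorem cls_hclo_5170 : allC (cloChk dD dC dE dCl) 5170 91 = true := by decide +kernel

set_option maxRecDepth 1000000 in
theorem cls_hclo_5171 : allC (cloChk dD dC dE dCl) 5171 91 = true := by decide +kernel

set_option maxRecDepth 1000000 in
theorem cls_hclo_5172 : allC (cloChk dD dC dE dCl) 5172 91 = true := by decide +kernel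

set_option maxRecDepth 1000000 in
theorem cls_hclo_5173 : allC (cloChk dD dC dE dCl) 5173 91 = true := by decide +kernel

set_option maxRecDepth 1000000 in
theorem cls_hclo_5174 : allC (cloChk dD dC dE dCl) 5174 91 = true := by decide +kernel

set_option maxRecDepth 1000000 in
theorem cls_hclo_5175 : allC (cloChk dD dC dE dCl) 5175 91 = true := by decide +kernel

set_option maxRecDepth 1000000 in
theorem cls_hclo_5176 : allC (cloChk dD dC dE dCl) 5176 91 = true := by decide +kernel

set_option maxRecDepth 1000000 in
theorem cls_hclo_5177 : allC (cloChk dD dC dE dCl) 5177 91 = true := by decide +kernel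

set_option maxRecDepth 1000000 in
theorem cls_hclo_5178 : allC (cloChk dD dC dE dCl) 5178 91 = true := by decide +kernel

set_option maxRecDepth 1000000 in
theorem cls_hclo_5179 : allC (cloChk dD dC dE dCl) 5179 91 = true := by decide +kernel

set_option maxRecDepth 1000000 in
theorem cls_hclo_5180 : allC (cloChk dD dC dE dCl) 5180 91 = true := by decide +kernel

set_option maxRecDepth 1000000 in
theorem cls_hclo_5181 : allC (cloChk dD dC dE dCl) 5181 91 = true := by decide +kernel

set_option maxRecDepth 1000000 in
theorem cls_hclo_5182 : allC (cloChk dD dC dE dCl) 5182 91 = true := by decide +kernel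

set_option maxRecDepth 1000000 in
theorem cls_hclo_5183 : allC (cloChk dD dC dE dCl) 5183 91 = true := by decide +kernel

set_option maxRecDepth 1000000 in
theorem cls_hclo_5184 : allC (cloChk dD dC dE dCl) 5184 91 = true := by decide +kernel

set_option maxRecDepth 1000000 in
theorem cls_hclo_5185 : allC (cloChk dD dC dE dCl) 5185 91 = true := by decide +kernel

set_option maxRecDepth 1000000 in
theorem cls_hclo_5186 : allC (cloChk dD dC dE dCl) 5186 91 = true := by decide +kernel

set_option maxRecDepth 1000000 in
theorem cls_hclo_5187 : allC (cloChk dD dC dE dCl) 5187 91 = true := by decide +kernel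

set_option maxRecDepth 1000000 in
theorem cls_hclo_5188 : allC (cloChk dD dC dE dCl) 5188 91 = true := by decide +kernel

set_option maxRecDepth 1000000 in
theorem cls_hclo_5189 : allC (cloChk dD dC dE dCl) 5189 91 = true := by decide +kernel

set_option maxRecDepth 1000000 in
theorem cls_hclo_5190 : allC (cloChk dD dC dE dCl) 5190 91 = true := by decide +kernel

set_option maxRecDepth 1000000 in
theorem cls_hclo_5191 : allC (cloChk dD dC dE dCl) 5191 91 = true := by decide +kernel

set_option maxRecDepth 1000000 in
theorem cls_hclo_5192 : allC (cloChk dD dC dE dCl) 5192 91 = true := by decide +kernel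

set_option maxRecDepth 1000000 in
theorem cls_hclo_5193 : allC (cloChk dD dC dE dCl) 5193 91 = true := by decide +kernel

set_option maxRecDepth 1000000 in
theorem cls_hclo_5194 : allC (cloChk dD dC dE dCl) 5194 91 = true := by decide +kernel

set_option maxRecDepth 1000000 in
theorem cls_hclo_5195 : allC (cloChk dD dC dE dCl) 5195 91 = true := by decide +kernel

set_option maxRecDepth 1000000 in
theorem cls_hclo_5196 : allC (cloChk dD dC dE dCl) 5196 91 = true := by decide +kernel

set_option maxRecDepth 1000000 in
theorem cls_hclo_5197 : allC (cloChk dD dC dE dCl) 5197 91 = true := by decide +kernel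

set_option maxRecDepth 1000000 in
theorem cls_hclo_5198 : allC (cloChk dD dC dE dCl) 5198 91 = true := by decide +kernel

set_option maxRecDepth 1000000 in
theorem cls_hclo_5199 : allC (cloChk dD dC dE dCl) 5199 91 = true := by decide +kernel

end Cfsg.Agent.Helper9.RuO

end
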