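import Mathlib
import Cfsg.Agent.Helper9.RuO.Data

set_option autoImplicit false

/-! Kernel checks of the certificates, a part. -/

noncomputable section

namespace Cfsg.Agent.Helper9.RuO

open Cfsg.Agent.Helper9.OutG Cfsg.Agent.Helper9.J3

set_option maxRecDepth 1000000 in
theorem cls_hclo_5200 : allC (cloChk dD dC dE dCl) 5200 91 = true := by decide +kernel

set_option maxRecDepth 1000000 in
theorem cls_hclo_5201 : allC (cloChk dD dC dE dCl) 5201 91 = true := by decide +kernel

set_option maxRecDepth 1000000 in
theorem cls_hclo_5202 : allC (cloChk dD dC dE dCl) 5202 91 = true := by decide +kernel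

set_option maxRecDepth 1000000 in
theorem cls_hclo_5203 : allC (cloChk dD dC dE dCl) 5203 91 = true := by decide +kernel

set_option maxRecDepth 1000000 in
theorem cls_hclo_5204 : allC (cloChk dD dC dE dCl) 5204 91 = true := by decide +kernel

set_option maxRecDepth 1000000 in
theorem cls_hclo_5205 : allC (cloChk dD dC dE dCl) 5205 91 = true := by decide +kernel

set_option maxRecDepth 1000000 in
theorem cls_hclo_5206 : allC (cloChk dD dC dE dCl) 5206 91 = true := by decide +kernel

set_option maxRecDepth 1000000 in
theorem cls_hclo_5207 : allC (cloChk dD dC dE dCl) 5207 91 = true := by decide +kernel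

set_option maxRecDepth 1000000 in
theorem cls_hclo_5208 : allC (cloChk dD dC dE dCl) 5208 91 = true := by decide +kernel

set_option maxRecDepth 1000000 in
theorem cls_hclo_5209 : allC (cloChk dD dC dE dCl) 5209 91 = true := by decide +kernel

set_option maxRecDepth 1000000 in
theorem cls_hclo_5210 : allC (cloChk dD dC dE dCl) 5210 91 = true := by decide +kernel

set_option maxRecDepth 1000000 in
theorem cls_hclo_5211 : allC (cloChk dD dC dE dCl) 5211 91 = true := by decide +kernel

set_option maxRecDepth 1000000 in
theorem cls_hclo_5212 : allC (cloChk dD dC dE dCl) 5212 91 = true := by decide +kernel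

set_option maxRecDepth 1000000 in
theorem cls_hclo_5213 : allC (cloChk dD dC dE dCl) 5213 91 = true := by decide +kernel

set_option maxRecDepth 1000000 in
theorem cls_hclo_5214 : allC (cloChk dD dC dE dCl) 5214 91 = true := by decide +kernel

set_option maxRecDepth 1000000 in
theorem cls_hclo_5215 : allC (cloChk dD dC dE dCl) 5215 91 = true := by decide +kernel

set_option maxRecDepth 1000000 in
theorem cls_hclo_5216 : allC (cloChk dD dC dE dCl) 5216 91 = true := by decide +kernel

set_option maxRecDepth 1000000 in
theorem cls_hclo_5217 : allC (cloChk dD dC dE dCl) 5217 91 = true := by decide +kernel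

set_option maxRecDepth 1000000 in
theorem cls_hclo_5218 : allC (cloChk dD dC dE dCl) 5218 91 = true := by decide +kernel

set_option maxRecDepth 1000000 in
theorem cls_hclo_5219 : allC (cloChk dD dC dE dCl) 5219 91 = true := by decide +kernel

set_option maxRecDepth 1000000 in
theorem cls_hclo_5220 : allC (cloChk dD dC dE dCl) 5220 91 = true := by decide +kernel

set_option maxRecDepth 1000000 in
theorem cls_hclo_5221 : allC (cloChk dD dC dE dCl) 5221 91 = true := by decide +kernel

set_option maxRecDepth 1000000 in
theorem cls_hclo_5222 : allC (cloChk dD dC dE dCl) 5222 91 = true := by decide +kernel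

set_option maxRecDepth 1000000 in
theorem cls_hclo_5223 : allC (cloChk dD dC dE dCl) 5223 91 = true := by decide +kernel

set_option maxRecDepth 1000000 in
theorem cls_hclo_5224 : allC (cloChk dD dC dE dCl) 5224 91 = true := by decide +kernel

set_option maxRecDepth 1000000 in
theorem cls_hclo_5225 : allC (cloChk dD dC dE dCl) 5225 91 = true := by decide +kernel

set_option maxRecDepth 1000000 in
theorem cls_hclo_5226 : allC (cloChk dD dC dE dCl) 5226 91 = true := by decide +kernel

set_option maxRecDepth 1000000 in
theorem cls_hclo_5227 : allC (cloChk dD dC dE dCl) 5227 91 = true := by decide +kernel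

set_option maxRecDepth 1000000 in
theorem cls_hclo_5228 : allC (cloChk dD dC dE dCl) 5228 91 = true := by decide +kernel

set_option maxRecDepth 1000000 in
theorem cls_hclo_5229 : allC (cloChk dD dC dE dCl) 5229 91 = true := by decide +kernel

set_option maxRecDepth 1000000 in
theorem cls_hclo_5230 : allC (cloChk dD dC dE dCl) 5230 91 = true := by decide +kernel

set_option maxRecDepth 1000000 in
theorem cls_hclo_5231 : allC (cloChk dD dC dE dCl) 5231 91 = true := by decide +kernel

set_option maxRecDepth 1000000 in
theorem cls_hclo_5232 : allC (cloChk dD dC dE dCl) 5232 91 = true := by decide +kernel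

set_option maxRecDepth 1000000 in
theorem cls_hclo_5233 : allC (cloChk dD dC dE dCl) 5233 91 = true := by decide +kernel

set_option maxRecDepth 1000000 in
theorem cls_hclo_5234 : allC (cloChk dD dC dE dCl) 5234 91 = true := by decide +kernel

set_option maxRecDepth 1000000 in
theorem cls_hclo_5235 : allC (cloChk dD dC dE dCl) 5235 91 = true := by decide +kernel

set_option maxRecDepth 1000000 in
theorem cls_hclo_5236 : allC (cloChk dD dC dE dCl) 5236 91 = true := by decide +kernel

set_option maxRecDepth 1000000 in
theorem cls_hclo_5237 : allC (cloChk dD dC dE dCl) 5237 91 = true := by decide +kernel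

set_option maxRecDepth 1000000 in
theorem cls_hclo_5238 : allC (cloChk dD dC dE dCl) 5238 91 = true := by decide +kernel

set_option maxRecDepth 1000000 in
theorem cls_hclo_5239 : allC (cloChk dD dC dE dCl) 5239 91 = true := by decide +kernel

set_option maxRecDepth 1000000 in
theorem cls_hclo_5240 : allC (cloChk dD dC dE dCl) 5240 91 = true := by decide +kernel

set_option maxRecDepth 1000000 in
theorem cls_hclo_5241 : allC (cloChk dD dC dE dCl) 5241 91 = true := by decide +kernel

set_option maxRecDepth 1000000 in
theorem cls_hclo_5242 : allC (cloChk dD dC dE dCl) 5242 91 = true := by decide +kernel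

set_option maxRecDepth 1000000 in
theorem cls_hclo_5243 : allC (cloChk dD dC dE dCl) 5243 91 = true := by decide +kernel

set_option maxRecDepth 1000000 in
theorem cls_hclo_5244 : allC (cloChk dD dC dE dCl) 5244 91 = true := by decide +kernel

set_option maxRecDepth 1000000 in
theorem cls_hclo_5245 : allC (cloChk dD dC dE dCl) 5245 91 = true := by decide +kernel

set_option maxRecDepth 1000000 in
theorem cls_hclo_5246 : allC (cloChk dD dC dE dCl) 5246 91 = true := by decide +kernel

set_option maxRecDepth 1000000 in
theorem cls_hclo_5247 : allC (cloChk dD dC dE dCl) 5247 91 = true := by decide +kernel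

set_option maxRecDepth 1000000 in
theorem cls_hclo_5248 : allC (cloChk dD dC dE dCl) 5248 91 = true := by decide +kernel

set_option maxRecDepth 1000000 in
theorem cls_hclo_5249 : allC (cloChk dD dC dE dCl) 5249 91 = true := by decide +kernel

set_option maxRecDepth 1000000 in
theorem cls_hclo_5250 : allC (cloChk dD dC dE dCl) 5250 91 = true := by decide +kernel

set_option maxRecDepth 1000000 in
theorem cls_hclo_5251 : allC (cloChk dD dC dE dCl) 5251 91 = true := by decide +kernel

set_option maxRecDepth 1000000 in
theorem cls_hclo_5252 : allC (cloChk dD dC dE dCl) 5252 91 = true := by decide +kernel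

set_option maxRecDepth 1000000 in
theorem cls_hclo_5253 : allC (cloChk dD dC dE dCl) 5253 91 = true := by decide +kernel

set_option maxRecDepth 1000000 in
theorem cls_hclo_5254 : allC (cloChk dD dC dE dCl) 5254 91 = true := by decide +kernel

set_option maxRecDepth 1000000 in
theorem cls_hclo_5255 : allC (cloChk dD dC dE dCl) 5255 91 = true := by decide +kernel

set_option maxRecDepth 1000000 in
theorem cls_hclo_5256 : allC (cloChk dD dC dE dCl) 5256 91 = true := by decide +kernel

set_option maxRecDepth 1000000 in
theorem cls_hclo_5257 : allC (cloChk dD dC dE dCl) 5257 91 = true := by decide +kernel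

set_option maxRecDepth 1000000 in
theorem cls_hclo_5258 : allC (cloChk dD dC dE dCl) 5258 91 = true := by decide +kernel

set_option maxRecDepth 1000000 in
theorem cls_hclo_5259 : allC (cloChk dD dC dE dCl) 5259 91 = true := by decide +kernel

set_option maxRecDepth 1000000 in
theorem cls_hclo_5260 : allC (cloChk dD dC dE dCl) 5260 91 = true := by decide +kernel

set_option maxRecDepth 1000000 in
theorem cls_hclo_5261 : allC (cloChk dD dC dE dCl) 5261 91 = true := by decide +kernel

set_option maxRecDepth 1000000 in
theorem cls_hclo_5262 : allC (cloChk dD dC dE dCl) 5262 91 = true := by decide +kernel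

set_option maxRecDepth 1000000 in
theorem cls_hclo_5263 : allC (cloChk dD dC dE dCl) 5263 91 = true := by decide +kernel

set_option maxRecDepth 1000000 in
theorem cls_hclo_5264 : allC (cloChk dD dC dE dCl) 5264 91 = true := by decide +kernel

set_option maxRecDepth 1000000 in
theorem cls_hclo_5265 : allC (cloChk dD dC dE dCl) 5265 91 = true := by decide +kernel

set_option maxRecDepth 1000000 in
theorem cls_hclo_5266 : allC (cloChk dD dC dE dCl) 5266 91 = true := by decide +kernel

set_option maxRecDepth 1000000 in
theorem cls_hclo_5267 : allC (cloChk dD dC dE dCl) 5267 91 = true := by decide +kernel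

set_option maxRecDepth 1000000 in
theorem cls_hclo_5268 : allC (cloChk dD dC dE dCl) 5268 91 = true := by decide +kernel

set_option maxRecDepth 1000000 in
theorem cls_hclo_5269 : allC (cloChk dD dC dE dCl) 5269 91 = true := by decide +kernel

set_option maxRecDepth 1000000 in
theorem cls_hclo_5270 : allC (cloChk dD dC dE dCl) 5270 91 = true := by decide +kernel

set_option maxRecDepth 1000000 in
theorem cls_hclo_5271 : allC (cloChk dD dC dE dCl) 5271 91 = true := by decide +kernel

set_option maxRecDepth 1000000 in
theorem cls_hclo_5272 : allC (cloChk dD dC dE dCl) 5272 91 = true := by decide +kernel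

set_option maxRecDepth 1000000 in
theorem cls_hclo_5273 : allC (cloChk dD dC dE dCl) 5273 91 = true := by decide +kernel

set_option maxRecDepth 1000000 in
theorem cls_hclo_5274 : allC (cloChk dD dC dE dCl) 5274 91 = true := by decide +kernel

set_option maxRecDepth 1000000 in
theorem cls_hclo_5275 : allC (cloChk dD dC dE dCl) 5275 91 = true := by decide +kernel

set_option maxRecDepth 1000000 in
theorem cls_hclo_5276 : allC (cloChk dD dC dE dCl) 5276 91 = true := by decide +kernel

set_option maxRecDepth 1000000 in
theorem cls_hclo_5277 : allC (cloChk dD dC dE dCl) 5277 91 = true := by decide +kernel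

set_option maxRecDepth 1000000 in
theorem cls_hclo_5278 : allC (cloChk dD dC dE dCl) 5278 91 = true := by decide +kernel

set_option maxRecDepth 1000000 in
theorem cls_hclo_5279 : allC (cloChk dD dC dE dCl) 5279 91 = true := by decide +kernel

set_option maxRecDepth 1000000 in
theorem cls_hclo_5280 : allC (cloChk dD dC dE dCl) 5280 91 = true := by decide +kernel

set_option maxRecDepth 1000000 in
theorem cls_hclo_5281 : allC (cloChk dD dC dE dCl) 5281 91 = true := by decide +kernel

set_option maxRecDepth 1000000 in
theorem cls_hclo_5282 : allC (cloChk dD dC dE dCl) 5282 91 = true := by decide +kernel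

set_option maxRecDepth 1000000 in
theorem cls_hclo_5283 : allC (cloChk dD dC dE dCl) 5283 91 = true := by decide +kernel

set_option maxRecDepth 1000000 in
theorem cls_hclo_5284 : allC (cloChk dD dC dE dCl) 5284 91 = true := by decide +kernel

set_option maxRecDepth 1000000 in
theorem cls_hclo_5285 : allC (cloChk dD dC dE dCl) 5285 91 = true := by decide +kernel

set_option maxRecDepth 1000000 in
theorem cls_hclo_5286 : allC (cloChk dD dC dE dCl) 5286 91 = true := by decide +kernel

set_option maxRecDepth 1000000 in
theorem cls_hclo_5287 : allC (cloChk dD dC dE dCl) 5287 91 = true := by decide +kernel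

set_option maxRecDepth 1000000 in
theorem cls_hclo_5288 : allC (cloChk dD dC dE dCl) 5288 91 = true := by decide +kernel

set_option maxRecDepth 1000000 in
theorem cls_hclo_5289 : allC (cloChk dD dC dE dCl) 5289 91 = true := by decide +kernel

set_option maxRecDepth 1000000 in
theorem cls_hclo_5290 : allC (cloChk dD dC dE dCl) 5290 91 = true := by decide +kernel

set_option maxRecDepth 1000000 in
theorem cls_hclo_5291 : allC (cloChk dD dC dE dCl) 5291 91 = true := by decide +kernel

set_option maxRecDepth 1000000 in
theorem cls_hclo_5292 : allC (cloChk dD dC dE dCl) 5292 91 = true := by decide +kernel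

set_option maxRecDepth 1000000 in
theorem cls_hclo_5293 : allC (cloChk dD dC dE dCl) 5293 91 = true := by decide +kernel

set_option maxRecDepth 1000000 in
theorem cls_hclo_5294 : allC (cloChk dD dC dE dCl) 5294 91 = true := by decide +kernel

set_option maxRecDepth 1000000 in
theorem cls_hclo_5295 : allC (cloChk dD dC dE dCl) 5295 91 = true := by decide +kernel

set_option maxRecDepth 1000000 in
theorem cls_hclo_5296 : allC (cloChk dD dC dE dCl) 5296 91 = true := by decide +kernel

set_option maxRecDepth 1000000 in
theorem cls_hclo_5297 : allC (cloChk dD dC dE dCl) 5297 91 = true := by decide +kernel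

set_option maxRecDepth 1000000 in
theorem cls_hclo_5298 : allC (cloChk dD dC dE dCl) 5298 91 = true := by decide +kernel

set_option maxRecDepth 1000000 in
theorem cls_hclo_5299 : allC (cloChk dD dC dE dCl) 5299 91 = true := by decide +kernel

end Cfsg.Agent.Helper9.RuO

end
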