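import Mathlib
import Cfsg.Agent.Helper9.RuO.Data

set_option autoImplicit false

/-! Kernel checks of the certificates, a part. -/

noncomputable section

namespace Cfsg.Agent.Helper9.RuO

open Cfsg.Agent.Helper9.OutG Cfsg.Agent.Helper9.J3

set_option maxRecDepth 1000000 in
theorem cls_hclo_5400 : allC (cloChk dD dC dE dCl) 5400 91 = true := by decide +kernel

set_option maxRecDepth 1000000 in
theorem cls_hclo_5401 : allC (cloChk dD dC dE dCl) 5401 91 = true := by decide +kernel

set_option maxRecDepth 1000000 in
theorem cls_hclo_5402 : allC (cloChk dD dC dE dCl) 5402 91 = true := by decide +kernel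

set_option maxRecDepth 1000000 in
theorem cls_hclo_5403 : allC (cloChk dD dC dE dCl) 5403 91 = true := by decide +kernel

set_option maxRecDepth 1000000 in
theorem cls_hclo_5404 : allC (cloChk dD dC dE dCl) 5404 91 = true := by decide +kernel

set_option maxRecDepth 1000000 in
theorem cls_hclo_5405 : allC (cloChk dD dC dE dCl) 5405 91 = true := by decide +kernel

set_option maxRecDepth 1000000 in
theorem cls_hclo_5406 : allC (cloChk dD dC dE dCl) 5406 91 = true := by decide +kernel

set_option maxRecDepth 1000000 in
theorem cls_hclo_5407 : allC (cloChk dD dC dE dCl) 5407 91 = true := by decide +kernel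

set_option maxRecDepth 1000000 in
theorem cls_hclo_5408 : allC (cloChk dD dC dE dCl) 5408 91 = true := by decide +kernel

set_option maxRecDepth 1000000 in
theorem cls_hclo_5409 : allC (cloChk dD dC dE dCl) 5409 91 = true := by decide +kernel

set_option maxRecDepth 1000000 in
theorem cls_hclo_5410 : allC (cloChk dD dC dE dCl) 5410 91 = true := by decide +kernel

set_option maxRecDepth 1000000 in
theorem cls_hclo_5411 : allC (cloChk dD dC dE dCl) 5411 91 = true := by decide +kernel

set_option maxRecDepth 1000000 in
theorem cls_hclo_5412 : allC (cloChk dD dC dE dCl) 5412 91 = true := by decide +kernel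

set_option maxRecDepth 1000000 in
theorem cls_hclo_5413 : allC (cloChk dD dC dE dCl) 5413 91 = true := by decide +kernel

set_option maxRecDepth 1000000 in
theorem cls_hclo_5414 : allC (cloChk dD dC dE dCl) 5414 91 = true := by decide +kernel

set_option maxRecDepth 1000000 in
theorem cls_hclo_5415 : allC (cloChk dD dC dE dCl) 5415 91 = true := by decide +kernel

set_option maxRecDepth 1000000 in
theorem cls_hclo_5416 : allC (cloChk dD dC dE dCl) 5416 91 = true := by decide +kernel

set_option maxRecDepth 1000000 in
theorem cls_hclo_5417 : allC (cloChk dD dC dE dCl) 5417 91 = true := by decide +kernel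

set_option maxRecDepth 1000000 in
theorem cls_hclo_5418 : allC (cloChk dD dC dE dCl) 5418 91 = true := by decide +kernel

set_option maxRecDepth 1000000 in
theorem cls_hclo_5419 : allC (cloChk dD dC dE dCl) 5419 91 = true := by decide +kernel

set_option maxRecDepth 1000000 in
theorem cls_hclo_5420 : allC (cloChk dD dC dE dCl) 5420 91 = true := by decide +kernel

set_option maxRecDepth 1000000 in
theorem cls_hclo_5421 : allC (cloChk dD dC dE dCl) 5421 91 = true := by decide +kernel

set_option maxRecDepth 1000000 in
theorem cls_hclo_5422 : allC (cloChk dD dC dE dCl) 5422 91 = true := by decide +kernel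

set_option maxRecDepth 1000000 in
theorem cls_hclo_5423 : allC (cloChk dD dC dE dCl) 5423 91 = true := by decide +kernel

set_option maxRecDepth 1000000 in
theorem cls_hclo_5424 : allC (cloChk dD dC dE dCl) 5424 91 = true := by decide +kernel

set_option maxRecDepth 1000000 in
theorem cls_hclo_5425 : allC (cloChk dD dC dE dCl) 5425 91 = true := by decide +kernel

set_option maxRecDepth 1000000 in
theorem cls_hclo_5426 : allC (cloChk dD dC dE dCl) 5426 91 = true := by decide +kernel

set_option maxRecDepth 1000000 in
theorem cls_hclo_5427 : allC (cloChk dD dC dE dCl) 5427 91 = true := by decide +kernel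

set_option maxRecDepth 1000000 in
theorem cls_hclo_5428 : allC (cloChk dD dC dE dCl) 5428 91 = true := by decide +kernel

set_option maxRecDepth 1000000 in
theorem cls_hclo_5429 : allC (cloChk dD dC dE dCl) 5429 91 = true := by decide +kernel

set_option maxRecDepth 1000000 in
theorem cls_hclo_5430 : allC (cloChk dD dC dE dCl) 5430 91 = true := by decide +kernel

set_option maxRecDepth 1000000 in
theorem cls_hclo_5431 : allC (cloChk dD dC dE dCl) 5431 91 = true := by decide +kernel

set_option maxRecDepth 1000000 in
theorem cls_hclo_5432 : allC (cloChk dD dC dE dCl) 5432 91 = true := by decide +kernel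

set_option maxRecDepth 1000000 in
theorem cls_hclo_5433 : allC (cloChk dD dC dE dCl) 5433 91 = true := by decide +kernel

set_option maxRecDepth 1000000 in
theorem cls_hclo_5434 : allC (cloChk dD dC dE dCl) 5434 91 = true := by decide +kernel

set_option maxRecDepth 1000000 in
theorem cls_hclo_5435 : allC (cloChk dD dC dE dCl) 5435 91 = true := by decide +kernel

set_option maxRecDepth 1000000 in
theorem cls_hclo_5436 : allC (cloChk dD dC dE dCl) 5436 91 = true := by decide +kernel

set_option maxRecDepth 1000000 in
theorem cls_hclo_5437 : allC (cloChk dD dC dE dCl) 5437 91 = true := by decide +kernel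

set_option maxRecDepth 1000000 in
theorem cls_hclo_5438 : allC (cloChk dD dC dE dCl) 5438 91 = true := by decide +kernel

set_option maxRecDepth 1000000 in
theorem cls_hclo_5439 : allC (cloChk dD dC dE dCl) 5439 91 = true := by decide +kernel

set_option maxRecDepth 1000000 in
theorem cls_hclo_5440 : allC (cloChk dD dC dE dCl) 5440 91 = true := by decide +kernel

set_option maxRecDepth 1000000 in
theorem cls_hclo_5441 : allC (cloChk dD dC dE dCl) 5441 91 = true := by decide +kernel

set_option maxRecDepth 1000000 in
theorem cls_hclo_5442 : allC (cloChk dD dC dE dCl) 5442 91 = true := by decide +kernel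

set_option maxRecDepth 1000000 in
theorem cls_hclo_5443 : allC (cloChk dD dC dE dCl) 5443 91 = true := by decide +kernel

set_option maxRecDepth 1000000 in
theorem cls_hclo_5444 : allC (cloChk dD dC dE dCl) 5444 91 = true := by decide +kernel

set_option maxRecDepth 1000000 in
theorem cls_hclo_5445 : allC (cloChk dD dC dE dCl) 5445 91 = true := by decide +kernel

set_option maxRecDepth 1000000 in
theorem cls_hclo_5446 : allC (cloChk dD dC dE dCl) 5446 91 = true := by decide +kernel

set_option maxRecDepth 1000000 in
theorem cls_hclo_5447 : allC (cloChk dD dC dE dCl) 5447 91 = true := by decide +kernel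

set_option maxRecDepth 1000000 in
theorem cls_hclo_5448 : allC (cloChk dD dC dE dCl) 5448 91 = true := by decide +kernel

set_option maxRecDepth 1000000 in
theorem cls_hclo_5449 : allC (cloChk dD dC dE dCl) 5449 91 = true := by decide +kernel

set_option maxRecDepth 1000000 in
theorem cls_hclo_5450 : allC (cloChk dD dC dE dCl) 5450 91 = true := by decide +kernel

set_option maxRecDepth 1000000 in
theorem cls_hclo_5451 : allC (cloChk dD dC dE dCl) 5451 91 = true := by decide +kernel

set_option maxRecDepth 1000000 in
theorem cls_hclo_5452 : allC (cloChk dD dC dE dCl) 5452 91 = true := by decide +kernel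

set_option maxRecDepth 1000000 in
theorem cls_hclo_5453 : allC (cloChk dD dC dE dCl) 5453 91 = true := by decide +kernel

set_option maxRecDepth 1000000 in
theorem cls_hclo_5454 : allC (cloChk dD dC dE dCl) 5454 91 = true := by decide +kernel

set_option maxRecDepth 1000000 in
theorem cls_hclo_5455 : allC (cloChk dD dC dE dCl) 5455 91 = true := by decide +kernel

set_option maxRecDepth 1000000 in
theorem cls_hclo_5456 : allC (cloChk dD dC dE dCl) 5456 91 = true := by decide +kernel

set_option maxRecDepth 1000000 in
theorem cls_hclo_5457 : allC (cloChk dD dC dE dCl) 5457 91 = true := by decide +kernel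

set_option maxRecDepth 1000000 in
theorem cls_hclo_5458 : allC (cloChk dD dC dE dCl) 5458 91 = true := by decide +kernel

set_option maxRecDepth 1000000 in
theorem cls_hclo_5459 : allC (cloChk dD dC dE dCl) 5459 91 = true := by decide +kernel

set_option maxRecDepth 1000000 in
theorem cls_hclo_5460 : allC (cloChk dD dC dE dCl) 5460 91 = true := by decide +kernel

set_option maxRecDepth 1000000 in
theorem cls_hclo_5461 : allC (cloChk dD dC dE dCl) 5461 91 = true := by decide +kernel

set_option maxRecDepth 1000000 in
theorem cls_hclo_5462 : allC (cloChk dD dC dE dCl) 5462 91 = true := by decide +kernel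

set_option maxRecDepth 1000000 in
theorem cls_hclo_5463 : allC (cloChk dD dC dE dCl) 5463 91 = true := by decide +kernel

set_option maxRecDepth 1000000 in
theorem cls_hclo_5464 : allC (cloChk dD dC dE dCl) 5464 91 = true := by decide +kernel

set_option maxRecDepth 1000000 in
theorem cls_hclo_5465 : allC (cloChk dD dC dE dCl) 5465 91 = true := by decide +kernel

set_option maxRecDepth 1000000 in
theorem cls_hclo_5466 : allC (cloChk dD dC dE dCl) 5466 91 = true := by decide +kernel

set_option maxRecDepth 1000000 in
theorem cls_hclo_5467 : allC (cloChk dD dC dE dCl) 5467 91 = true := by decide +kernel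

set_option maxRecDepth 1000000 in
theorem cls_hclo_5468 : allC (cloChk dD dC dE dCl) 5468 91 = true := by decide +kernel

set_option maxRecDepth 1000000 in
theorem cls_hclo_5469 : allC (cloChk dD dC dE dCl) 5469 91 = true := by decide +kernel

set_option maxRecDepth 1000000 in
theorem cls_hclo_5470 : allC (cloChk dD dC dE dCl) 5470 91 = true := by decide +kernel

set_option maxRecDepth 1000000 in
theorem cls_hclo_5471 : allC (cloChk dD dC dE dCl) 5471 91 = true := by decide +kernel

set_option maxRecDepth 1000000 in
theorem cls_hclo_5472 : allC (cloChk dD dC dE dCl) 5472 91 = true := by decide +kernel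

set_option maxRecDepth 1000000 in
theorem cls_hclo_5473 : allC (cloChk dD dC dE dCl) 5473 91 = true := by decide +kernel

set_option maxRecDepth 1000000 in
theorem cls_hclo_5474 : allC (cloChk dD dC dE dCl) 5474 91 = true := by decide +kernel

set_option maxRecDepth 1000000 in
theorem cls_hclo_5475 : allC (cloChk dD dC dE dCl) 5475 91 = true := by decide +kernel

set_option maxRecDepth 1000000 in
theorem cls_hclo_5476 : allC (cloChk dD dC dE dCl) 5476 91 = true := by decide +kernel

set_option maxRecDepth 1000000 in
theorem cls_hclo_5477 : allC (cloChk dD dC dE dCl) 5477 91 = true := by decide +kernel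

set_option maxRecDepth 1000000 in
theorem cls_hclo_5478 : allC (cloChk dD dC dE dCl) 5478 91 = true := by decide +kernel

set_option maxRecDepth 1000000 in
theorem cls_hclo_5479 : allC (cloChk dD dC dE dCl) 5479 91 = true := by decide +kernel

set_option maxRecDepth 1000000 in
theorem cls_hclo_5480 : allC (cloChk dD dC dE dCl) 5480 91 = true := by decide +kernel

set_option maxRecDepth 1000000 in
theorem cls_hclo_5481 : allC (cloChk dD dC dE dCl) 5481 91 = true := by decide +kernel

set_option maxRecDepth 1000000 in
theorem cls_hclo_5482 : allC (cloChk dD dC dE dCl) 5482 91 = true := by decide +kernel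

set_option maxRecDepth 1000000 in
theorem cls_hclo_5483 : allC (cloChk dD dC dE dCl) 5483 91 = true := by decide +kernel

set_option maxRecDepth 1000000 in
theorem cls_hclo_5484 : allC (cloChk dD dC dE dCl) 5484 91 = true := by decide +kernel

set_option maxRecDepth 1000000 in
theorem cls_hclo_5485 : allC (cloChk dD dC dE dCl) 5485 91 = true := by decide +kernel

set_option maxRecDepth 1000000 in
theorem cls_hclo_5486 : allC (cloChk dD dC dE dCl) 5486 91 = true := by decide +kernel

set_option maxRecDepth 1000000 in
theorem cls_hclo_5487 : allC (cloChk dD dC dE dCl) 5487 91 = true := by decide +kernel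

set_option maxRecDepth 1000000 in
theorem cls_hclo_5488 : allC (cloChk dD dC dE dCl) 5488 91 = true := by decide +kernel

set_option maxRecDepth 1000000 in
theorem cls_hclo_5489 : allC (cloChk dD dC dE dCl) 5489 91 = true := by decide +kernel

set_option maxRecDepth 1000000 in
theorem cls_hclo_5490 : allC (cloChk dD dC dE dCl) 5490 91 = true := by decide +kernel

set_option maxRecDepth 1000000 in
theorem cls_hclo_5491 : allC (cloChk dD dC dE dCl) 5491 91 = true := by decide +kernel

set_option maxRecDepth 1000000 in
theorem cls_hclo_5492 : allC (cloChk dD dC dE dCl) 5492 91 = true := by decide +kernel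

set_option maxRecDepth 1000000 in
theorem cls_hclo_5493 : allC (cloChk dD dC dE dCl) 5493 91 = true := by decide +kernel

set_option maxRecDepth 1000000 in
theorem cls_hclo_5494 : allC (cloChk dD dC dE dCl) 5494 91 = true := by decide +kernel

set_option maxRecDepth 1000000 in
theorem cls_hclo_5495 : allC (cloChk dD dC dE dCl) 5495 91 = true := by decide +kernel

set_option maxRecDepth 1000000 in
theorem cls_hclo_5496 : allC (cloChk dD dC dE dCl) 5496 91 = true := by decide +kernel

set_option maxRecDepth 1000000 in
theorem cls_hclo_5497 : allC (cloChk dD dC dE dCl) 5497 91 = true := by decide +kernel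

set_option maxRecDepth 1000000 in
theorem cls_hclo_5498 : allC (cloChk dD dC dE dCl) 5498 91 = true := by decide +kernel

set_option maxRecDepth 1000000 in
theorem cls_hclo_5499 : allC (cloChk dD dC dE dCl) 5499 91 = true := by decide +kernel

end Cfsg.Agent.Helper9.RuO

end
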