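import Mathlib
import Cfsg.Agent.Helper9.RuO.Data

set_option autoImplicit false

/-! Kernel checks of the certificates, a part. -/

noncomputable section

namespace Cfsg.Agent.Helper9.RuO

open Cfsg.Agent.Helper9.OutG Cfsg.Agent.Helper9.J3

set_option maxRecDepth 1000000 in
theorem cls_hclo_5500 : allC (cloChk dD dC dE dCl) 5500 91 = true := by decide +kernel

set_option maxRecDepth 1000000 in
theorem cls_hclo_5501 : allC (cloChk dD dC dE dCl) 5501 91 = true := by decide +kernel

set_option maxRecDepth 1000000 in
theorem cls_hclo_5502 : allC (cloChk dD dC dE dCl) 5502 91 = true := by decide +kernel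

set_option maxRecDepth 1000000 in
theorem cls_hclo_5503 : allC (cloChk dD dC dE dCl) 5503 91 = true := by decide +kernel

set_option maxRecDepth 1000000 in
theorem cls_hclo_5504 : allC (cloChk dD dC dE dCl) 5504 91 = true := by decide +kernel

set_option maxRecDepth 1000000 in
theorem cls_hclo_5505 : allC (cloChk dD dC dE dCl) 5505 91 = true := by decide +kernel

set_option maxRecDepth 1000000 in
theorem cls_hclo_5506 : allC (cloChk dD dC dE dCl) 5506 91 = true := by decide +kernel

set_option maxRecDepth 1000000 in
theorem cls_hclo_5507 : allC (cloChk dD dC dE dCl) 5507 91 = true := by decide +kernel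

set_option maxRecDepth 1000000 in
theorem cls_hclo_5508 : allC (cloChk dD dC dE dCl) 5508 91 = true := by decide +kernel

set_option maxRecDepth 1000000 in
theorem cls_hclo_5509 : allC (cloChk dD dC dE dCl) 5509 91 = true := by decide +kernel

set_option maxRecDepth 1000000 in
theorem cls_hclo_5510 : allC (cloChk dD dC dE dCl) 5510 91 = true := by decide +kernel

set_option maxRecDepth 1000000 in
theorem cls_hclo_5511 : allC (cloChk dD dC dE dCl) 5511 91 = true := by decide +kernel

set_option maxRecDepth 1000000 in
theorem cls_hclo_5512 : allC (cloChk dD dC dE dCl) 5512 91 = true := by decide +kernel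

set_option maxRecDepth 1000000 in
theorem cls_hclo_5513 : allC (cloChk dD dC dE dCl) 5513 91 = true := by decide +kernel

set_option maxRecDepth 1000000 in
theorem cls_hclo_5514 : allC (cloChk dD dC dE dCl) 5514 91 = true := by decide +kernel

set_option maxRecDepth 1000000 in
theorem cls_hclo_5515 : allC (cloChk dD dC dE dCl) 5515 91 = true := by decide +kernel

set_option maxRecDepth 1000000 in
theorem cls_hclo_5516 : allC (cloChk dD dC dE dCl) 5516 91 = true := by decide +kernel

set_option maxRecDepth 1000000 in
theorem cls_hclo_5517 : allC (cloChk dD dC dE dCl) 5517 91 = true := by decide +kernel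

set_option maxRecDepth 1000000 in
theorem cls_hclo_5518 : allC (cloChk dD dC dE dCl) 5518 91 = true := by decide +kernel

set_option maxRecDepth 1000000 in
theorem cls_hclo_5519 : allC (cloChk dD dC dE dCl) 5519 91 = true := by decide +kernel

set_option maxRecDepth 1000000 in
theorem cls_hclo_5520 : allC (cloChk dD dC dE dCl) 5520 91 = true := by decide +kernel

set_option maxRecDepth 1000000 in
theorem cls_hclo_5521 : allC (cloChk dD dC dE dCl) 5521 91 = true := by decide +kernel

set_option maxRecDepth 1000000 in
theorem cls_hclo_5522 : allC (cloChk dD dC dE dCl) 5522 91 = true := by decide +kernel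

set_option maxRecDepth 1000000 in
theorem cls_hclo_5523 : allC (cloChk dD dC dE dCl) 5523 91 = true := by decide +kernel

set_option maxRecDepth 1000000 in
theorem cls_hclo_5524 : allC (cloChk dD dC dE dCl) 5524 91 = true := by decide +kernel

set_option maxRecDepth 1000000 in
theorem cls_hclo_5525 : allC (cloChk dD dC dE dCl) 5525 91 = true := by decide +kernel

set_option maxRecDepth 1000000 in
theorem cls_hclo_5526 : allC (cloChk dD dC dE dCl) 5526 91 = true := by decide +kernel

set_option maxRecDepth 1000000 in
theorem cls_hclo_5527 : allC (cloChk dD dC dE dCl) 5527 91 = true := by decide +kernel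

set_option maxRecDepth 1000000 in
theorem cls_hclo_5528 : allC (cloChk dD dC dE dCl) 5528 91 = true := by decide +kernel

set_option maxRecDepth 1000000 in
theorem cls_hclo_5529 : allC (cloChk dD dC dE dCl) 5529 91 = true := by decide +kernel

set_option maxRecDepth 1000000 in
theorem cls_hclo_5530 : allC (cloChk dD dC dE dCl) 5530 91 = true := by decide +kernel

set_option maxRecDepth 1000000 in
theorem cls_hclo_5531 : allC (cloChk dD dC dE dCl) 5531 91 = true := by decide +kernel

set_option maxRecDepth 1000000 in
theorem cls_hclo_5532 : allC (cloChk dD dC dE dCl) 5532 91 = true := by decide +kernel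

set_option maxRecDepth 1000000 in
theorem cls_hclo_5533 : allC (cloChk dD dC dE dCl) 5533 91 = true := by decide +kernel

set_option maxRecDepth 1000000 in
theorem cls_hclo_5534 : allC (cloChk dD dC dE dCl) 5534 91 = true := by decide +kernel

set_option maxRecDepth 1000000 in
theorem cls_hclo_5535 : allC (cloChk dD dC dE dCl) 5535 91 = true := by decide +kernel

set_option maxRecDepth 1000000 in
theorem cls_hclo_5536 : allC (cloChk dD dC dE dCl) 5536 91 = true := by decide +kernel

set_option maxRecDepth 1000000 in
theorem cls_hclo_5537 : allC (cloChk dD dC dE dCl) 5537 91 = true := by decide +kernel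

set_option maxRecDepth 1000000 in
theorem cls_hclo_5538 : allC (cloChk dD dC dE dCl) 5538 91 = true := by decide +kernel

set_option maxRecDepth 1000000 in
theorem cls_hclo_5539 : allC (cloChk dD dC dE dCl) 5539 91 = true := by decide +kernel

set_option maxRecDepth 1000000 in
theorem cls_hclo_5540 : allC (cloChk dD dC dE dCl) 5540 91 = true := by decide +kernel

set_option maxRecDepth 1000000 in
theorem cls_hclo_5541 : allC (cloChk dD dC dE dCl) 5541 91 = true := by decide +kernel

set_option maxRecDepth 1000000 in
theorem cls_hclo_5542 : allC (cloChk dD dC dE dCl) 5542 91 = true := by decide +kernel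

set_option maxRecDepth 1000000 in
theorem cls_hclo_5543 : allC (cloChk dD dC dE dCl) 5543 91 = true := by decide +kernel

set_option maxRecDepth 1000000 in
theorem cls_hclo_5544 : allC (cloChk dD dC dE dCl) 5544 91 = true := by decide +kernel

set_option maxRecDepth 1000000 in
theorem cls_hclo_5545 : allC (cloChk dD dC dE dCl) 5545 91 = true := by decide +kernel

set_option maxRecDepth 1000000 in
theorem cls_hclo_5546 : allC (cloChk dD dC dE dCl) 5546 91 = true := by decide +kernel

set_option maxRecDepth 1000000 in
theorem cls_hclo_5547 : allC (cloChk dD dC dE dCl) 5547 91 = true := by decide +kernel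

set_option maxRecDepth 1000000 in
theorem cls_hclo_5548 : allC (cloChk dD dC dE dCl) 5548 91 = true := by decide +kernel

set_option maxRecDepth 1000000 in
theorem cls_hclo_5549 : allC (cloChk dD dC dE dCl) 5549 91 = true := by decide +kernel

set_option maxRecDepth 1000000 in
theorem cls_hclo_5550 : allC (cloChk dD dC dE dCl) 5550 91 = true := by decide +kernel

set_option maxRecDepth 1000000 in
theorem cls_hclo_5551 : allC (cloChk dD dC dE dCl) 5551 91 = true := by decide +kernel

set_option maxRecDepth 1000000 in
theorem cls_hclo_5552 : allC (cloChk dD dC dE dCl) 5552 91 = true := by decide +kernel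

set_option maxRecDepth 1000000 in
theorem cls_hclo_5553 : allC (cloChk dD dC dE dCl) 5553 91 = true := by decide +kernel

set_option maxRecDepth 1000000 in
theorem cls_hclo_5554 : allC (cloChk dD dC dE dCl) 5554 91 = true := by decide +kernel

set_option maxRecDepth 1000000 in
theorem cls_hclo_5555 : allC (cloChk dD dC dE dCl) 5555 91 = true := by decide +kernel

set_option maxRecDepth 1000000 in
theorem cls_hclo_5556 : allC (cloChk dD dC dE dCl) 5556 91 = true := by decide +kernel

set_option maxRecDepth 1000000 in
theorem cls_hclo_5557 : allC (cloChk dD dC dE dCl) 5557 91 = true := by decide +kernel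

set_option maxRecDepth 1000000 in
theorem cls_hclo_5558 : allC (cloChk dD dC dE dCl) 5558 91 = true := by decide +kernel

set_option maxRecDepth 1000000 in
theorem cls_hclo_5559 : allC (cloChk dD dC dE dCl) 5559 91 = true := by decide +kernel

set_option maxRecDepth 1000000 in
theorem cls_hclo_5560 : allC (cloChk dD dC dE dCl) 5560 91 = true := by decide +kernel

set_option maxRecDepth 1000000 in
theorem cls_hclo_5561 : allC (cloChk dD dC dE dCl) 5561 91 = true := by decide +kernel

set_option maxRecDepth 1000000 in
theorem cls_hclo_5562 : allC (cloChk dD dC dE dCl) 5562 91 = true := by decide +kernel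

set_option maxRecDepth 1000000 in
theorem cls_hclo_5563 : allC (cloChk dD dC dE dCl) 5563 91 = true := by decide +kernel

set_option maxRecDepth 1000000 in
theorem cls_hclo_5564 : allC (cloChk dD dC dE dCl) 5564 91 = true := by decide +kernel

set_option maxRecDepth 1000000 in
theorem cls_hclo_5565 : allC (cloChk dD dC dE dCl) 5565 91 = true := by decide +kernel

set_option maxRecDepth 1000000 in
theorem cls_hclo_5566 : allC (cloChk dD dC dE dCl) 5566 91 = true := by decide +kernel

set_option maxRecDepth 1000000 in
theorem cls_hclo_5567 : allC (cloChk dD dC dE dCl) 5567 91 = true := by decide +kernel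

set_option maxRecDepth 1000000 in
theorem cls_hclo_5568 : allC (cloChk dD dC dE dCl) 5568 91 = true := by decide +kernel

set_option maxRecDepth 1000000 in
theorem cls_hclo_5569 : allC (cloChk dD dC dE dCl) 5569 91 = true := by decide +kernel

set_option maxRecDepth 1000000 in
theorem cls_hclo_5570 : allC (cloChk dD dC dE dCl) 5570 91 = true := by decide +kernel

set_option maxRecDepth 1000000 in
theorem cls_hclo_5571 : allC (cloChk dD dC dE dCl) 5571 91 = true := by decide +kernel

set_option maxRecDepth 1000000 in
theorem cls_hclo_5572 : allC (cloChk dD dC dE dCl) 5572 91 = true := by decide +kernel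

set_option maxRecDepth 1000000 in
theorem cls_hclo_5573 : allC (cloChk dD dC dE dCl) 5573 91 = true := by decide +kernel

set_option maxRecDepth 1000000 in
theorem cls_hclo_5574 : allC (cloChk dD dC dE dCl) 5574 91 = true := by decide +kernel

set_option maxRecDepth 1000000 in
theorem cls_hclo_5575 : allC (cloChk dD dC dE dCl) 5575 91 = true := by decide +kernel

set_option maxRecDepth 1000000 in
theorem cls_hclo_5576 : allC (cloChk dD dC dE dCl) 5576 91 = true := by decide +kernel

set_option maxRecDepth 1000000 in
theorem cls_hclo_5577 : allC (cloChk dD dC dE dCl) 5577 91 = true := by decide +kernel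

set_option maxRecDepth 1000000 in
theorem cls_hclo_5578 : allC (cloChk dD dC dE dCl) 5578 91 = true := by decide +kernel

set_option maxRecDepth 1000000 in
theorem cls_hclo_5579 : allC (cloChk dD dC dE dCl) 5579 91 = true := by decide +kernel

set_option maxRecDepth 1000000 in
theorem cls_hclo_5580 : allC (cloChk dD dC dE dCl) 5580 91 = true := by decide +kernel

set_option maxRecDepth 1000000 in
theorem cls_hclo_5581 : allC (cloChk dD dC dE dCl) 5581 91 = true := by decide +kernel

set_option maxRecDepth 1000000 in
theorem cls_hclo_5582 : allC (cloChk dD dC dE dCl) 5582 91 = true := by decide +kernel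

set_option maxRecDepth 1000000 in
theorem cls_hclo_5583 : allC (cloChk dD dC dE dCl) 5583 91 = true := by decide +kernel

set_option maxRecDepth 1000000 in
theorem cls_hclo_5584 : allC (cloChk dD dC dE dCl) 5584 91 = true := by decide +kernel

set_option maxRecDepth 1000000 in
theorem cls_hclo_5585 : allC (cloChk dD dC dE dCl) 5585 91 = true := by decide +kernel

set_option maxRecDepth 1000000 in
theorem cls_hclo_5586 : allC (cloChk dD dC dE dCl) 5586 91 = true := by decide +kernel

set_option maxRecDepth 1000000 in
theorem cls_hclo_5587 : allC (cloChk dD dC dE dCl) 5587 91 = true := by decide +kernel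

set_option maxRecDepth 1000000 in
theorem cls_hclo_5588 : allC (cloChk dD dC dE dCl) 5588 91 = true := by decide +kernel

set_option maxRecDepth 1000000 in
theorem cls_hclo_5589 : allC (cloChk dD dC dE dCl) 5589 91 = true := by decide +kernel

set_option maxRecDepth 1000000 in
theorem cls_hclo_5590 : allC (cloChk dD dC dE dCl) 5590 91 = true := by decide +kernel

set_option maxRecDepth 1000000 in
theorem cls_hclo_5591 : allC (cloChk dD dC dE dCl) 5591 91 = true := by decide +kernel

set_option maxRecDepth 1000000 in
theorem cls_hclo_5592 : allC (cloChk dD dC dE dCl) 5592 91 = true := by decide +kernel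

set_option maxRecDepth 1000000 in
theorem cls_hclo_5593 : allC (cloChk dD dC dE dCl) 5593 91 = true := by decide +kernel

set_option maxRecDepth 1000000 in
theorem cls_hclo_5594 : allC (cloChk dD dC dE dCl) 5594 91 = true := by decide +kernel

set_option maxRecDepth 1000000 in
theorem cls_hclo_5595 : allC (cloChk dD dC dE dCl) 5595 91 = true := by decide +kernel

set_option maxRecDepth 1000000 in
theorem cls_hclo_5596 : allC (cloChk dD dC dE dCl) 5596 91 = true := by decide +kernel

set_option maxRecDepth 1000000 in
theorem cls_hclo_5597 : allC (cloChk dD dC dE dCl) 5597 91 = true := by decide +kernel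

set_option maxRecDepth 1000000 in
theorem cls_hclo_5598 : allC (cloChk dD dC dE dCl) 5598 91 = true := by decide +kernel

set_option maxRecDepth 1000000 in
theorem cls_hclo_5599 : allC (cloChk dD dC dE dCl) 5599 91 = true := by decide +kernel

end Cfsg.Agent.Helper9.RuO

end
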