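import Mathlib
import Cfsg.Agent.Helper9.RuO.Data

set_option autoImplicit false

/-! Kernel checks of the certificates, a part. -/

noncomputable section

namespace Cfsg.Agent.Helper9.RuO

open Cfsg.Agent.Helper9.OutG Cfsg.Agent.Helper9.J3

set_option maxRecDepth 1000000 in
theorem cls_hclo_5600 : allC (cloChk dD dC dE dCl) 5600 91 = true := by decide +kernel

set_option maxRecDepth 1000000 in
theorem cls_hclo_5601 : allC (cloChk dD dC dE dCl) 5601 91 = true := by decide +kernel

set_option maxRecDepth 1000000 in
theorem cls_hclo_5602 : allC (cloChk dD dC dE dCl) 5602 91 = true := by decide +kernel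

set_option maxRecDepth 1000000 in
theorem cls_hclo_5603 : allC (cloChk dD dC dE dCl) 5603 91 = true := by decide +kernel

set_option maxRecDepth 1000000 in
theorem cls_hclo_5604 : allC (cloChk dD dC dE dCl) 5604 91 = true := by decide +kernel

set_option maxRecDepth 1000000 in
theorem cls_hclo_5605 : allC (cloChk dD dC dE dCl) 5605 91 = true := by decide +kernel

set_option maxRecDepth 1000000 in
theorem cls_hclo_5606 : allC (cloChk dD dC dE dCl) 5606 91 = true := by decide +kernel

set_option maxRecDepth 1000000 in
theorem cls_hclo_5607 : allC (cloChk dD dC dE dCl) 5607 91 = true := by decide +kernel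

set_option maxRecDepth 1000000 in
theorem cls_hclo_5608 : allC (cloChk dD dC dE dCl) 5608 91 = true := by decide +kernel

set_option maxRecDepth 1000000 in
theorem cls_hclo_5609 : allC (cloChk dD dC dE dCl) 5609 91 = true := by decide +kernel

set_option maxRecDepth 1000000 in
theorem cls_hclo_5610 : allC (cloChk dD dC dE dCl) 5610 91 = true := by decide +kernel

set_option maxRecDepth 1000000 in
theorem cls_hclo_5611 : allC (cloChk dD dC dE dCl) 5611 91 = true := by decide +kernel

set_option maxRecDepth 1000000 in
theorem cls_hclo_5612 : allC (cloChk dD dC dE dCl) 5612 91 = true := by decide +kernel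

set_option maxRecDepth 1000000 in
theorem cls_hclo_5613 : allC (cloChk dD dC dE dCl) 5613 91 = true := by decide +kernel

set_option maxRecDepth 1000000 in
theorem cls_hclo_5614 : allC (cloChk dD dC dE dCl) 5614 91 = true := by decide +kernel

set_option maxRecDepth 1000000 in
theorem cls_hclo_5615 : allC (cloChk dD dC dE dCl) 5615 91 = true := by decide +kernel

set_option maxRecDepth 1000000 in
theorem cls_hclo_5616 : allC (cloChk dD dC dE dCl) 5616 91 = true := by decide +kernel

set_option maxRecDepth 1000000 in
theorem cls_hclo_5617 : allC (cloChk dD dC dE dCl) 5617 91 = true := by decide +kernel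

set_option maxRecDepth 1000000 in
theorem cls_hclo_5618 : allC (cloChk dD dC dE dCl) 5618 91 = true := by decide +kernel

set_option maxRecDepth 1000000 in
theorem cls_hclo_5619 : allC (cloChk dD dC dE dCl) 5619 91 = true := by decide +kernel

set_option maxRecDepth 1000000 in
theorem cls_hclo_5620 : allC (cloChk dD dC dE dCl) 5620 91 = true := by decide +kernel

set_option maxRecDepth 1000000 in
theorem cls_hclo_5621 : allC (cloChk dD dC dE dCl) 5621 91 = true := by decide +kernel

set_option maxRecDepth 1000000 in
theorem cls_hclo_5622 : allC (cloChk dD dC dE dCl) 5622 91 = true := by decide +kernel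

set_option maxRecDepth 1000000 in
theorem cls_hclo_5623 : allC (cloChk dD dC dE dCl) 5623 91 = true := by decide +kernel

set_option maxRecDepth 1000000 in
theorem cls_hclo_5624 : allC (cloChk dD dC dE dCl) 5624 91 = true := by decide +kernel

set_option maxRecDepth 1000000 in
theorem cls_hclo_5625 : allC (cloChk dD dC dE dCl) 5625 91 = true := by decide +kernel

set_option maxRecDepth 1000000 in
theorem cls_hclo_5626 : allC (cloChk dD dC dE dCl) 5626 91 = true := by decide +kernel

set_option maxRecDepth 1000000 in
theorem cls_hclo_5627 : allC (cloChk dD dC dE dCl) 5627 91 = true := by decide +kernel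

set_option maxRecDepth 1000000 in
theorem cls_hclo_5628 : allC (cloChk dD dC dE dCl) 5628 91 = true := by decide +kernel

set_option maxRecDepth 1000000 in
theorem cls_hclo_5629 : allC (cloChk dD dC dE dCl) 5629 91 = true := by decide +kernel

set_option maxRecDepth 1000000 in
theorem cls_hclo_5630 : allC (cloChk dD dC dE dCl) 5630 91 = true := by decide +kernel

set_option maxRecDepth 1000000 in
theorem cls_hclo_5631 : allC (cloChk dD dC dE dCl) 5631 91 = true := by decide +kernel

set_option maxRecDepth 1000000 in
theorem cls_hclo_5632 : allC (cloChk dD dC dE dCl) 5632 91 = true := by decide +kernel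

set_option maxRecDepth 1000000 in
theorem cls_hclo_5633 : allC (cloChk dD dC dE dCl) 5633 91 = true := by decide +kernel

set_option maxRecDepth 1000000 in
theorem cls_hclo_5634 : allC (cloChk dD dC dE dCl) 5634 91 = true := by decide +kernel

set_option maxRecDepth 1000000 in
theorem cls_hclo_5635 : allC (cloChk dD dC dE dCl) 5635 91 = true := by decide +kernel

set_option maxRecDepth 1000000 in
theorem cls_hclo_5636 : allC (cloChk dD dC dE dCl) 5636 91 = true := by decide +kernel

set_option maxRecDepth 1000000 in
theorem cls_hclo_5637 : allC (cloChk dD dC dE dCl) 5637 91 = true := by decide +kernel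

set_option maxRecDepth 1000000 in
theorem cls_hclo_5638 : allC (cloChk dD dC dE dCl) 5638 91 = true := by decide +kernel

set_option maxRecDepth 1000000 in
theorem cls_hclo_5639 : allC (cloChk dD dC dE dCl) 5639 91 = true := by decide +kernel

set_option maxRecDepth 1000000 in
theorem cls_hclo_5640 : allC (cloChk dD dC dE dCl) 5640 91 = true := by decide +kernel

set_option maxRecDepth 1000000 in
theorem cls_hclo_5641 : allC (cloChk dD dC dE dCl) 5641 91 = true := by decide +kernel

set_option maxRecDepth 1000000 in
theorem cls_hclo_5642 : allC (cloChk dD dC dE dCl) 5642 91 = true := by decide +kernel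

set_option maxRecDepth 1000000 in
theorem cls_hclo_5643 : allC (cloChk dD dC dE dCl) 5643 91 = true := by decide +kernel

set_option maxRecDepth 1000000 in
theorem cls_hclo_5644 : allC (cloChk dD dC dE dCl) 5644 91 = true := by decide +kernel

set_option maxRecDepth 1000000 in
theorem cls_hclo_5645 : allC (cloChk dD dC dE dCl) 5645 91 = true := by decide +kernel

set_option maxRecDepth 1000000 in
theorem cls_hclo_5646 : allC (cloChk dD dC dE dCl) 5646 91 = true := by decide +kernel

set_option maxRecDepth 1000000 in
theorem cls_hclo_5647 : allC (cloChk dD dC dE dCl) 5647 91 = true := by decide +kernel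

set_option maxRecDepth 1000000 in
theorem cls_hclo_5648 : allC (cloChk dD dC dE dCl) 5648 91 = true := by decide +kernel

set_option maxRecDepth 1000000 in
theorem cls_hclo_5649 : allC (cloChk dD dC dE dCl) 5649 91 = true := by decide +kernel

set_option maxRecDepth 1000000 in
theorem cls_hclo_5650 : allC (cloChk dD dC dE dCl) 5650 91 = true := by decide +kernel

set_option maxRecDepth 1000000 in
theorem cls_hclo_5651 : allC (cloChk dD dC dE dCl) 5651 91 = true := by decide +kernel

set_option maxRecDepth 1000000 in
theorem cls_hclo_5652 : allC (cloChk dD dC dE dCl) 5652 91 = true := by decide +kernel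

set_option maxRecDepth 1000000 in
theorem cls_hclo_5653 : allC (cloChk dD dC dE dCl) 5653 91 = true := by decide +kernel

set_option maxRecDepth 1000000 in
theorem cls_hclo_5654 : allC (cloChk dD dC dE dCl) 5654 91 = true := by decide +kernel

set_option maxRecDepth 1000000 in
theorem cls_hclo_5655 : allC (cloChk dD dC dE dCl) 5655 91 = true := by decide +kernel

set_option maxRecDepth 1000000 in
theorem cls_hclo_5656 : allC (cloChk dD dC dE dCl) 5656 91 = true := by decide +kernel

set_option maxRecDepth 1000000 in
theorem cls_hclo_5657 : allC (cloChk dD dC dE dCl) 5657 91 = true := by decide +kernel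

set_option maxRecDepth 1000000 in
theorem cls_hclo_5658 : allC (cloChk dD dC dE dCl) 5658 91 = true := by decide +kernel

set_option maxRecDepth 1000000 in
theorem cls_hclo_5659 : allC (cloChk dD dC dE dCl) 5659 91 = true := by decide +kernel

set_option maxRecDepth 1000000 in
theorem cls_hclo_5660 : allC (cloChk dD dC dE dCl) 5660 91 = true := by decide +kernel

set_option maxRecDepth 1000000 in
theorem cls_hclo_5661 : allC (cloChk dD dC dE dCl) 5661 91 = true := by decide +kernel

set_option maxRecDepth 1000000 in
theorem cls_hclo_5662 : allC (cloChk dD dC dE dCl) 5662 91 = true := by decide +kernel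

set_option maxRecDepth 1000000 in
theorem cls_hclo_5663 : allC (cloChk dD dC dE dCl) 5663 91 = true := by decide +kernel

set_option maxRecDepth 1000000 in
theorem cls_hclo_5664 : allC (cloChk dD dC dE dCl) 5664 91 = true := by decide +kernel

set_option maxRecDepth 1000000 in
theorem cls_hclo_5665 : allC (cloChk dD dC dE dCl) 5665 91 = true := by decide +kernel

set_option maxRecDepth 1000000 in
theorem cls_hclo_5666 : allC (cloChk dD dC dE dCl) 5666 91 = true := by decide +kernel

set_option maxRecDepth 1000000 in
theorem cls_hclo_5667 : allC (cloChk dD dC dE dCl) 5667 91 = true := by decide +kernel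

set_option maxRecDepth 1000000 in
theorem cls_hclo_5668 : allC (cloChk dD dC dE dCl) 5668 91 = true := by decide +kernel

set_option maxRecDepth 1000000 in
theorem cls_hclo_5669 : allC (cloChk dD dC dE dCl) 5669 91 = true := by decide +kernel

set_option maxRecDepth 1000000 in
theorem cls_hclo_5670 : allC (cloChk dD dC dE dCl) 5670 91 = true := by decide +kernel

set_option maxRecDepth 1000000 in
theorem cls_hclo_5671 : allC (cloChk dD dC dE dCl) 5671 91 = true := by decide +kernel

set_option maxRecDepth 1000000 in
theorem cls_hclo_5672 : allC (cloChk dD dC dE dCl) 5672 91 = true := by decide +kernel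

set_option maxRecDepth 1000000 in
theorem cls_hclo_5673 : allC (cloChk dD dC dE dCl) 5673 91 = true := by decide +kernel

set_option maxRecDepth 1000000 in
theorem cls_hclo_5674 : allC (cloChk dD dC dE dCl) 5674 91 = true := by decide +kernel

set_option maxRecDepth 1000000 in
theorem cls_hclo_5675 : allC (cloChk dD dC dE dCl) 5675 91 = true := by decide +kernel

set_option maxRecDepth 1000000 in
theorem cls_hclo_5676 : allC (cloChk dD dC dE dCl) 5676 91 = true := by decide +kernel

set_option maxRecDepth 1000000 in
theorem cls_hclo_5677 : allC (cloChk dD dC dE dCl) 5677 91 = true := by decide +kernel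

set_option maxRecDepth 1000000 in
theorem cls_hclo_5678 : allC (cloChk dD dC dE dCl) 5678 91 = true := by decide +kernel

set_option maxRecDepth 1000000 in
theorem cls_hclo_5679 : allC (cloChk dD dC dE dCl) 5679 91 = true := by decide +kernel

set_option maxRecDepth 1000000 in
theorem cls_hclo_5680 : allC (cloChk dD dC dE dCl) 5680 91 = true := by decide +kernel

set_option maxRecDepth 1000000 in
theorem cls_hclo_5681 : allC (cloChk dD dC dE dCl) 5681 91 = true := by decide +kernel

set_option maxRecDepth 1000000 in
theorem cls_hclo_5682 : allC (cloChk dD dC dE dCl) 5682 91 = true := by decide +kernel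

set_option maxRecDepth 1000000 in
theorem cls_hclo_5683 : allC (cloChk dD dC dE dCl) 5683 91 = true := by decide +kernel

set_option maxRecDepth 1000000 in
theorem cls_hclo_5684 : allC (cloChk dD dC dE dCl) 5684 91 = true := by decide +kernel

set_option maxRecDepth 1000000 in
theorem cls_hclo_5685 : allC (cloChk dD dC dE dCl) 5685 91 = true := by decide +kernel

set_option maxRecDepth 1000000 in
theorem cls_hclo_5686 : allC (cloChk dD dC dE dCl) 5686 91 = true := by decide +kernel

set_option maxRecDepth 1000000 in
theorem cls_hclo_5687 : allC (cloChk dD dC dE dCl) 5687 91 = true := by decide +kernel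

set_option maxRecDepth 1000000 in
theorem cls_hclo_5688 : allC (cloChk dD dC dE dCl) 5688 91 = true := by decide +kernel

set_option maxRecDepth 1000000 in
theorem cls_hclo_5689 : allC (cloChk dD dC dE dCl) 5689 91 = true := by decide +kernel

set_option maxRecDepth 1000000 in
theorem cls_hclo_5690 : allC (cloChk dD dC dE dCl) 5690 91 = true := by decide +kernel

set_option maxRecDepth 1000000 in
theorem cls_hclo_5691 : allC (cloChk dD dC dE dCl) 5691 91 = true := by decide +kernel

set_option maxRecDepth 1000000 in
theorem cls_hclo_5692 : allC (cloChk dD dC dE dCl) 5692 91 = true := by decide +kernel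

set_option maxRecDepth 1000000 in
theorem cls_hclo_5693 : allC (cloChk dD dC dE dCl) 5693 91 = true := by decide +kernel

set_option maxRecDepth 1000000 in
theorem cls_hclo_5694 : allC (cloChk dD dC dE dCl) 5694 91 = true := by decide +kernel

set_option maxRecDepth 1000000 in
theorem cls_hclo_5695 : allC (cloChk dD dC dE dCl) 5695 91 = true := by decide +kernel

set_option maxRecDepth 1000000 in
theorem cls_hclo_5696 : allC (cloChk dD dC dE dCl) 5696 91 = true := by decide +kernel

set_option maxRecDepth 1000000 in
theorem cls_hclo_5697 : allC (cloChk dD dC dE dCl) 5697 91 = true := by decide +kernel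

set_option maxRecDepth 1000000 in
theorem cls_hclo_5698 : allC (cloChk dD dC dE dCl) 5698 91 = true := by decide +kernel

set_option maxRecDepth 1000000 in
theorem cls_hclo_5699 : allC (cloChk dD dC dE dCl) 5699 91 = true := by decide +kernel

end Cfsg.Agent.Helper9.RuO

end
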