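import Mathlib
import Cfsg.Agent.Helper9.RuO.Data

set_option autoImplicit false

/-! Kernel checks of the certificates, a part. -/

noncomputable section

namespace Cfsg.Agent.Helper9.RuO

open Cfsg.Agent.Helper9.OutG Cfsg.Agent.Helper9.J3

set_option maxRecDepth 1000000 in
theorem cls_hclo_5700 : allC (cloChk dD dC dE dCl) 5700 91 = true := by decide +kernel

set_option maxRecDepth 1000000 in
theorem cls_hclo_5701 : allC (cloChk dD dC dE dCl) 5701 91 = true := by decide +kernel

set_option maxRecDepth 1000000 in
theorem cls_hclo_5702 : allC (cloChk dD dC dE dCl) 5702 91 = true := by decide +kernel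

set_option maxRecDepth 1000000 in
theorem cls_hclo_5703 : allC (cloChk dD dC dE dCl) 5703 91 = true := by decide +kernel

set_option maxRecDepth 1000000 in
theorem cls_hclo_5704 : allC (cloChk dD dC dE dCl) 5704 91 = true := by decide +kernel

set_option maxRecDepth 1000000 in
theorem cls_hclo_5705 : allC (cloChk dD dC dE dCl) 5705 91 = true := by decide +kernel

set_option maxRecDepth 1000000 in
theorem cls_hclo_5706 : allC (cloChk dD dC dE dCl) 5706 91 = true := by decide +kernel

set_option maxRecDepth 1000000 in
theorem cls_hclo_5707 : allC (cloChk dD dC dE dCl) 5707 91 = true := by decide +kernel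

set_option maxRecDepth 1000000 in
theorem cls_hclo_5708 : allC (cloChk dD dC dE dCl) 5708 91 = true := by decide +kernel

set_option maxRecDepth 1000000 in
theorem cls_hclo_5709 : allC (cloChk dD dC dE dCl) 5709 91 = true := by decide +kernel

set_option maxRecDepth 1000000 in
theorem cls_hclo_5710 : allC (cloChk dD dC dE dCl) 5710 91 = true := by decide +kernel

set_option maxRecDepth 1000000 in
theorem cls_hclo_5711 : allC (cloChk dD dC dE dCl) 5711 91 = true := by decide +kernel

set_option maxRecDepth 1000000 in
theorem cls_hclo_5712 : allC (cloChk dD dC dE dCl) 5712 91 = true := by decide +kernel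

set_option maxRecDepth 1000000 in
theorem cls_hclo_5713 : allC (cloChk dD dC dE dCl) 5713 91 = true := by decide +kernel

set_option maxRecDepth 1000000 in
theorem cls_hclo_5714 : allC (cloChk dD dC dE dCl) 5714 91 = true := by decide +kernel

set_option maxRecDepth 1000000 in
theorem cls_hclo_5715 : allC (cloChk dD dC dE dCl) 5715 91 = true := by decide +kernel

set_option maxRecDepth 1000000 in
theorem cls_hclo_5716 : allC (cloChk dD dC dE dCl) 5716 91 = true := by decide +kernel

set_option maxRecDepth 1000000 in
theorem cls_hclo_5717 : allC (cloChk dD dC dE dCl) 5717 91 = true := by decide +kernel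

set_option maxRecDepth 1000000 in
theorem cls_hclo_5718 : allC (cloChk dD dC dE dCl) 5718 91 = true := by decide +kernel

set_option maxRecDepth 1000000 in
theorem cls_hclo_5719 : allC (cloChk dD dC dE dCl) 5719 91 = true := by decide +kernel

set_option maxRecDepth 1000000 in
theorem cls_hclo_5720 : allC (cloChk dD dC dE dCl) 5720 91 = true := by decide +kernel

set_option maxRecDepth 1000000 in
theorem cls_hclo_5721 : allC (cloChk dD dC dE dCl) 5721 91 = true := by decide +kernel

set_option maxRecDepth 1000000 in
theorem cls_hclo_5722 : allC (cloChk dD dC dE dCl) 5722 91 = true := by decide +kernel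

set_option maxRecDepth 1000000 in
theorem cls_hclo_5723 : allC (cloChk dD dC dE dCl) 5723 91 = true := by decide +kernel

set_option maxRecDepth 1000000 in
theorem cls_hclo_5724 : allC (cloChk dD dC dE dCl) 5724 91 = true := by decide +kernel

set_option maxRecDepth 1000000 in
theorem cls_hclo_5725 : allC (cloChk dD dC dE dCl) 5725 91 = true := by decide +kernel

set_option maxRecDepth 1000000 in
theorem cls_hclo_5726 : allC (cloChk dD dC dE dCl) 5726 91 = true := by decide +kernel

set_option maxRecDepth 1000000 in
theorem cls_hclo_5727 : allC (cloChk dD dC dE dCl) 5727 91 = true := by decide +kernel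

set_option maxRecDepth 1000000 in
theorem cls_hclo_5728 : allC (cloChk dD dC dE dCl) 5728 91 = true := by decide +kernel

set_option maxRecDepth 1000000 in
theorem cls_hclo_5729 : allC (cloChk dD dC dE dCl) 5729 91 = true := by decide +kernel

set_option maxRecDepth 1000000 in
theorem cls_hclo_5730 : allC (cloChk dD dC dE dCl) 5730 91 = true := by decide +kernel

set_option maxRecDepth 1000000 in
theorem cls_hclo_5731 : allC (cloChk dD dC dE dCl) 5731 91 = true := by decide +kernel

set_option maxRecDepth 1000000 in
theorem cls_hclo_5732 : allC (cloChk dD dC dE dCl) 5732 91 = true := by decide +kernel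

set_option maxRecDepth 1000000 in
theorem cls_hclo_5733 : allC (cloChk dD dC dE dCl) 5733 91 = true := by decide +kernel

set_option maxRecDepth 1000000 in
theorem cls_hclo_5734 : allC (cloChk dD dC dE dCl) 5734 91 = true := by decide +kernel

set_option maxRecDepth 1000000 in
theorem cls_hclo_5735 : allC (cloChk dD dC dE dCl) 5735 91 = true := by decide +kernel

set_option maxRecDepth 1000000 in
theorem cls_hclo_5736 : allC (cloChk dD dC dE dCl) 5736 91 = true := by decide +kernel

set_option maxRecDepth 1000000 in
theorem cls_hclo_5737 : allC (cloChk dD dC dE dCl) 5737 91 = true := by decide +kernel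

set_option maxRecDepth 1000000 in
theorem cls_hclo_5738 : allC (cloChk dD dC dE dCl) 5738 91 = true := by decide +kernel

set_option maxRecDepth 1000000 in
theorem cls_hclo_5739 : allC (cloChk dD dC dE dCl) 5739 91 = true := by decide +kernel

set_option maxRecDepth 1000000 in
theorem cls_hclo_5740 : allC (cloChk dD dC dE dCl) 5740 91 = true := by decide +kernel

set_option maxRecDepth 1000000 in
theorem cls_hclo_5741 : allC (cloChk dD dC dE dCl) 5741 91 = true := by decide +kernel

set_option maxRecDepth 1000000 in
theorem cls_hclo_5742 : allC (cloChk dD dC dE dCl) 5742 91 = true := by decide +kernel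

set_option maxRecDepth 1000000 in
theorem cls_hclo_5743 : allC (cloChk dD dC dE dCl) 5743 91 = true := by decide +kernel

set_option maxRecDepth 1000000 in
theorem cls_hclo_5744 : allC (cloChk dD dC dE dCl) 5744 91 = true := by decide +kernel

set_option maxRecDepth 1000000 in
theorem cls_hclo_5745 : allC (cloChk dD dC dE dCl) 5745 91 = true := by decide +kernel

set_option maxRecDepth 1000000 in
theorem cls_hclo_5746 : allC (cloChk dD dC dE dCl) 5746 91 = true := by decide +kernel

set_option maxRecDepth 1000000 in
theorem cls_hclo_5747 : allC (cloChk dD dC dE dCl) 5747 91 = true := by decide +kernel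

set_option maxRecDepth 1000000 in
theorem cls_hclo_5748 : allC (cloChk dD dC dE dCl) 5748 91 = true := by decide +kernel

set_option maxRecDepth 1000000 in
theorem cls_hclo_5749 : allC (cloChk dD dC dE dCl) 5749 91 = true := by decide +kernel

set_option maxRecDepth 1000000 in
theorem cls_hclo_5750 : allC (cloChk dD dC dE dCl) 5750 91 = true := by decide +kernel

set_option maxRecDepth 1000000 in
theorem cls_hclo_5751 : allC (cloChk dD dC dE dCl) 5751 91 = true := by decide +kernel

set_option maxRecDepth 1000000 in
theorem cls_hclo_5752 : allC (cloChk dD dC dE dCl) 5752 91 = true := by decide +kernel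

set_option maxRecDepth 1000000 in
theorem cls_hclo_5753 : allC (cloChk dD dC dE dCl) 5753 91 = true := by decide +kernel

set_option maxRecDepth 1000000 in
theorem cls_hclo_5754 : allC (cloChk dD dC dE dCl) 5754 91 = true := by decide +kernel

set_option maxRecDepth 1000000 in
theorem cls_hclo_5755 : allC (cloChk dD dC dE dCl) 5755 91 = true := by decide +kernel

set_option maxRecDepth 1000000 in
theorem cls_hclo_5756 : allC (cloChk dD dC dE dCl) 5756 91 = true := by decide +kernel

set_option maxRecDepth 1000000 in
theorem cls_hclo_5757 : allC (cloChk dD dC dE dCl) 5757 91 = true := by decide +kernel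

set_option maxRecDepth 1000000 in
theorem cls_hclo_5758 : allC (cloChk dD dC dE dCl) 5758 91 = true := by decide +kernel

set_option maxRecDepth 1000000 in
theorem cls_hclo_5759 : allC (cloChk dD dC dE dCl) 5759 91 = true := by decide +kernel

set_option maxRecDepth 1000000 in
theorem cls_hclo_5760 : allC (cloChk dD dC dE dCl) 5760 91 = true := by decide +kernel

set_option maxRecDepth 1000000 in
theorem cls_hclo_5761 : allC (cloChk dD dC dE dCl) 5761 91 = true := by decide +kernel

set_option maxRecDepth 1000000 in
theorem cls_hclo_5762 : allC (cloChk dD dC dE dCl) 5762 91 = true := by decide +kernel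

set_option maxRecDepth 1000000 in
theorem cls_hclo_5763 : allC (cloChk dD dC dE dCl) 5763 91 = true := by decide +kernel

set_option maxRecDepth 1000000 in
theorem cls_hclo_5764 : allC (cloChk dD dC dE dCl) 5764 91 = true := by decide +kernel

set_option maxRecDepth 1000000 in
theorem cls_hclo_5765 : allC (cloChk dD dC dE dCl) 5765 91 = true := by decide +kernel

set_option maxRecDepth 1000000 in
theorem cls_hclo_5766 : allC (cloChk dD dC dE dCl) 5766 91 = true := by decide +kernel

set_option maxRecDepth 1000000 in
theorem cls_hclo_5767 : allC (cloChk dD dC dE dCl) 5767 91 = true := by decide +kernel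

set_option maxRecDepth 1000000 in
theorem cls_hclo_5768 : allC (cloChk dD dC dE dCl) 5768 91 = true := by decide +kernel

set_option maxRecDepth 1000000 in
theorem cls_hclo_5769 : allC (cloChk dD dC dE dCl) 5769 91 = true := by decide +kernel

set_option maxRecDepth 1000000 in
theorem cls_hclo_5770 : allC (cloChk dD dC dE dCl) 5770 91 = true := by decide +kernel

set_option maxRecDepth 1000000 in
theorem cls_hclo_5771 : allC (cloChk dD dC dE dCl) 5771 91 = true := by decide +kernel

set_option maxRecDepth 1000000 in
theorem cls_hclo_5772 : allC (cloChk dD dC dE dCl) 5772 91 = true := by decide +kernel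

set_option maxRecDepth 1000000 in
theorem cls_hclo_5773 : allC (cloChk dD dC dE dCl) 5773 91 = true := by decide +kernel

set_option maxRecDepth 1000000 in
theorem cls_hclo_5774 : allC (cloChk dD dC dE dCl) 5774 91 = true := by decide +kernel

set_option maxRecDepth 1000000 in
theorem cls_hclo_5775 : allC (cloChk dD dC dE dCl) 5775 91 = true := by decide +kernel

set_option maxRecDepth 1000000 in
theorem cls_hclo_5776 : allC (cloChk dD dC dE dCl) 5776 91 = true := by decide +kernel

set_option maxRecDepth 1000000 in
theorem cls_hclo_5777 : allC (cloChk dD dC dE dCl) 5777 91 = true := by decide +kernel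

set_option maxRecDepth 1000000 in
theorem cls_hclo_5778 : allC (cloChk dD dC dE dCl) 5778 91 = true := by decide +kernel

set_option maxRecDepth 1000000 in
theorem cls_hclo_5779 : allC (cloChk dD dC dE dCl) 5779 91 = true := by decide +kernel

set_option maxRecDepth 1000000 in
theorem cls_hclo_5780 : allC (cloChk dD dC dE dCl) 5780 91 = true := by decide +kernel

set_option maxRecDepth 1000000 in
theorem cls_hclo_5781 : allC (cloChk dD dC dE dCl) 5781 91 = true := by decide +kernel

set_option maxRecDepth 1000000 in
theorem cls_hclo_5782 : allC (cloChk dD dC dE dCl) 5782 91 = true := by decide +kernel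

set_option maxRecDepth 1000000 in
theorem cls_hclo_5783 : allC (cloChk dD dC dE dCl) 5783 91 = true := by decide +kernel

set_option maxRecDepth 1000000 in
theorem cls_hclo_5784 : allC (cloChk dD dC dE dCl) 5784 91 = true := by decide +kernel

set_option maxRecDepth 1000000 in
theorem cls_hclo_5785 : allC (cloChk dD dC dE dCl) 5785 91 = true := by decide +kernel

set_option maxRecDepth 1000000 in
theorem cls_hclo_5786 : allC (cloChk dD dC dE dCl) 5786 91 = true := by decide +kernel

set_option maxRecDepth 1000000 in
theorem cls_hclo_5787 : allC (cloChk dD dC dE dCl) 5787 91 = true := by decide +kernel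

set_option maxRecDepth 1000000 in
theorem cls_hclo_5788 : allC (cloChk dD dC dE dCl) 5788 91 = true := by decide +kernel

set_option maxRecDepth 1000000 in
theorem cls_hclo_5789 : allC (cloChk dD dC dE dCl) 5789 91 = true := by decide +kernel

set_option maxRecDepth 1000000 in
theorem cls_hclo_5790 : allC (cloChk dD dC dE dCl) 5790 91 = true := by decide +kernel

set_option maxRecDepth 1000000 in
theorem cls_hclo_5791 : allC (cloChk dD dC dE dCl) 5791 91 = true := by decide +kernel

set_option maxRecDepth 1000000 in
theorem cls_hclo_5792 : allC (cloChk dD dC dE dCl) 5792 91 = true := by decide +kernel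

set_option maxRecDepth 1000000 in
theorem cls_hclo_5793 : allC (cloChk dD dC dE dCl) 5793 91 = true := by decide +kernel

set_option maxRecDepth 1000000 in
theorem cls_hclo_5794 : allC (cloChk dD dC dE dCl) 5794 91 = true := by decide +kernel

set_option maxRecDepth 1000000 in
theorem cls_hclo_5795 : allC (cloChk dD dC dE dCl) 5795 91 = true := by decide +kernel

set_option maxRecDepth 1000000 in
theorem cls_hclo_5796 : allC (cloChk dD dC dE dCl) 5796 91 = true := by decide +kernel

set_option maxRecDepth 1000000 in
theorem cls_hclo_5797 : allC (cloChk dD dC dE dCl) 5797 91 = true := by decide +kernel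

set_option maxRecDepth 1000000 in
theorem cls_hclo_5798 : allC (cloChk dD dC dE dCl) 5798 91 = true := by decide +kernel

set_option maxRecDepth 1000000 in
theorem cls_hclo_5799 : allC (cloChk dD dC dE dCl) 5799 91 = true := by decide +kernel

end Cfsg.Agent.Helper9.RuO

end
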