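import Mathlib
import Cfsg.Agent.Helper9.RuO.Data

set_option autoImplicit false

/-! Kernel checks of the certificates, a part. -/

noncomputable section

namespace Cfsg.Agent.Helper9.RuO

open Cfsg.Agent.Helper9.OutG Cfsg.Agent.Helper9.J3

set_option maxRecDepth 1000000 in
theorem cls_hclo_5800 : allC (cloChk dD dC dE dCl) 5800 91 = true := by decide +kernel

set_option maxRecDepth 1000000 in
theorem cls_hclo_5801 : allC (cloChk dD dC dE dCl) 5801 91 = true := by decide +kernel

set_option maxRecDepth 1000000 in
theorem cls_hclo_5802 : allC (cloChk dD dC dE dCl) 5802 91 = true := by decide +kernel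

set_option maxRecDepth 1000000 in
theorem cls_hclo_5803 : allC (cloChk dD dC dE dCl) 5803 91 = true := by decide +kernel

set_option maxRecDepth 1000000 in
theorem cls_hclo_5804 : allC (cloChk dD dC dE dCl) 5804 91 = true := by decide +kernel

set_option maxRecDepth 1000000 in
theorem cls_hclo_5805 : allC (cloChk dD dC dE dCl) 5805 91 = true := by decide +kernel

set_option maxRecDepth 1000000 in
theorem cls_hclo_5806 : allC (cloChk dD dC dE dCl) 5806 91 = true := by decide +kernel

set_option maxRecDepth 1000000 in
theorem cls_hclo_5807 : allC (cloChk dD dC dE dCl) 5807 91 = true := by decide +kernel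

set_option maxRecDepth 1000000 in
theorem cls_hclo_5808 : allC (cloChk dD dC dE dCl) 5808 91 = true := by decide +kernel

set_option maxRecDepth 1000000 in
theorem cls_hclo_5809 : allC (cloChk dD dC dE dCl) 5809 91 = true := by decide +kernel

set_option maxRecDepth 1000000 in
theorem cls_hclo_5810 : allC (cloChk dD dC dE dCl) 5810 91 = true := by decide +kernel

set_option maxRecDepth 1000000 in
theorem cls_hclo_5811 : allC (cloChk dD dC dE dCl) 5811 91 = true := by decide +kernel

set_option maxRecDepth 1000000 in
theorem cls_hclo_5812 : allC (cloChk dD dC dE dCl) 5812 91 = true := by decide +kernel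

set_option maxRecDepth 1000000 in
theorem cls_hclo_5813 : allC (cloChk dD dC dE dCl) 5813 91 = true := by decide +kernel

set_option maxRecDepth 1000000 in
theorem cls_hclo_5814 : allC (cloChk dD dC dE dCl) 5814 91 = true := by decide +kernel

set_option maxRecDepth 1000000 in
theorem cls_hclo_5815 : allC (cloChk dD dC dE dCl) 5815 91 = true := by decide +kernel

set_option maxRecDepth 1000000 in
theorem cls_hclo_5816 : allC (cloChk dD dC dE dCl) 5816 91 = true := by decide +kernel

set_option maxRecDepth 1000000 in
theorem cls_hclo_5817 : allC (cloChk dD dC dE dCl) 5817 91 = true := by decide +kernel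

set_option maxRecDepth 1000000 in
theorem cls_hclo_5818 : allC (cloChk dD dC dE dCl) 5818 91 = true := by decide +kernel

set_option maxRecDepth 1000000 in
theorem cls_hclo_5819 : allC (cloChk dD dC dE dCl) 5819 91 = true := by decide +kernel

set_option maxRecDepth 1000000 in
theorem cls_hclo_5820 : allC (cloChk dD dC dE dCl) 5820 91 = true := by decide +kernel

set_option maxRecDepth 1000000 in
theorem cls_hclo_5821 : allC (cloChk dD dC dE dCl) 5821 91 = true := by decide +kernel

set_option maxRecDepth 1000000 in
theorem cls_hclo_5822 : allC (cloChk dD dC dE dCl) 5822 91 = true := by decide +kernel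

set_option maxRecDepth 1000000 in
theorem cls_hclo_5823 : allC (cloChk dD dC dE dCl) 5823 91 = true := by decide +kernel

set_option maxRecDepth 1000000 in
theorem cls_hclo_5824 : allC (cloChk dD dC dE dCl) 5824 91 = true := by decide +kernel

set_option maxRecDepth 1000000 in
theorem cls_hclo_5825 : allC (cloChk dD dC dE dCl) 5825 91 = true := by decide +kernel

set_option maxRecDepth 1000000 in
theorem cls_hclo_5826 : allC (cloChk dD dC dE dCl) 5826 91 = true := by decide +kernel

set_option maxRecDepth 1000000 in
theorem cls_hclo_5827 : allC (cloChk dD dC dE dCl) 5827 91 = true := by decide +kernel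

set_option maxRecDepth 1000000 in
theorem cls_hclo_5828 : allC (cloChk dD dC dE dCl) 5828 91 = true := by decide +kernel

set_option maxRecDepth 1000000 in
theorem cls_hclo_5829 : allC (cloChk dD dC dE dCl) 5829 91 = true := by decide +kernel

set_option maxRecDepth 1000000 in
theorem cls_hclo_5830 : allC (cloChk dD dC dE dCl) 5830 91 = true := by decide +kernel

set_option maxRecDepth 1000000 in
theorem cls_hclo_5831 : allC (cloChk dD dC dE dCl) 5831 91 = true := by decide +kernel

set_option maxRecDepth 1000000 in
theorem cls_hclo_5832 : allC (cloChk dD dC dE dCl) 5832 91 = true := by decide +kernel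

set_option maxRecDepth 1000000 in
theorem cls_hclo_5833 : allC (cloChk dD dC dE dCl) 5833 91 = true := by decide +kernel

set_option maxRecDepth 1000000 in
theorem cls_hclo_5834 : allC (cloChk dD dC dE dCl) 5834 91 = true := by decide +kernel

set_option maxRecDepth 1000000 in
theorem cls_hclo_5835 : allC (cloChk dD dC dE dCl) 5835 91 = true := by decide +kernel

set_option maxRecDepth 1000000 in
theorem cls_hclo_5836 : allC (cloChk dD dC dE dCl) 5836 91 = true := by decide +kernel

set_option maxRecDepth 1000000 in
theorem cls_hclo_5837 : allC (cloChk dD dC dE dCl) 5837 91 = true := by decide +kernel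

set_option maxRecDepth 1000000 in
theorem cls_hclo_5838 : allC (cloChk dD dC dE dCl) 5838 91 = true := by decide +kernel

set_option maxRecDepth 1000000 in
theorem cls_hclo_5839 : allC (cloChk dD dC dE dCl) 5839 91 = true := by decide +kernel

set_option maxRecDepth 1000000 in
theorem cls_hclo_5840 : allC (cloChk dD dC dE dCl) 5840 91 = true := by decide +kernel

set_option maxRecDepth 1000000 in
theorem cls_hclo_5841 : allC (cloChk dD dC dE dCl) 5841 91 = true := by decide +kernel

set_option maxRecDepth 1000000 in
theorem cls_hclo_5842 : allC (cloChk dD dC dE dCl) 5842 91 = true := by decide +kernel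

set_option maxRecDepth 1000000 in
theorem cls_hclo_5843 : allC (cloChk dD dC dE dCl) 5843 91 = true := by decide +kernel

set_option maxRecDepth 1000000 in
theorem cls_hclo_5844 : allC (cloChk dD dC dE dCl) 5844 91 = true := by decide +kernel

set_option maxRecDepth 1000000 in
theorem cls_hclo_5845 : allC (cloChk dD dC dE dCl) 5845 91 = true := by decide +kernel

set_option maxRecDepth 1000000 in
theorem cls_hclo_5846 : allC (cloChk dD dC dE dCl) 5846 91 = true := by decide +kernel

set_option maxRecDepth 1000000 in
theorem cls_hclo_5847 : allC (cloChk dD dC dE dCl) 5847 91 = true := by decide +kernel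

set_option maxRecDepth 1000000 in
theorem cls_hclo_5848 : allC (cloChk dD dC dE dCl) 5848 91 = true := by decide +kernel

set_option maxRecDepth 1000000 in
theorem cls_hclo_5849 : allC (cloChk dD dC dE dCl) 5849 91 = true := by decide +kernel

set_option maxRecDepth 1000000 in
theorem cls_hclo_5850 : allC (cloChk dD dC dE dCl) 5850 91 = true := by decide +kernel

set_option maxRecDepth 1000000 in
theorem cls_hclo_5851 : allC (cloChk dD dC dE dCl) 5851 91 = true := by decide +kernel

set_option maxRecDepth 1000000 in
theorem cls_hclo_5852 : allC (cloChk dD dC dE dCl) 5852 91 = true := by decide +kernel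

set_option maxRecDepth 1000000 in
theorem cls_hclo_5853 : allC (cloChk dD dC dE dCl) 5853 91 = true := by decide +kernel

set_option maxRecDepth 1000000 in
theorem cls_hclo_5854 : allC (cloChk dD dC dE dCl) 5854 91 = true := by decide +kernel

set_option maxRecDepth 1000000 in
theorem cls_hclo_5855 : allC (cloChk dD dC dE dCl) 5855 91 = true := by decide +kernel

set_option maxRecDepth 1000000 in
theorem cls_hclo_5856 : allC (cloChk dD dC dE dCl) 5856 91 = true := by decide +kernel

set_option maxRecDepth 1000000 in
theorem cls_hclo_5857 : allC (cloChk dD dC dE dCl) 5857 91 = true := by decide +kernel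

set_option maxRecDepth 1000000 in
theorem cls_hclo_5858 : allC (cloChk dD dC dE dCl) 5858 91 = true := by decide +kernel

set_option maxRecDepth 1000000 in
theorem cls_hclo_5859 : allC (cloChk dD dC dE dCl) 5859 91 = true := by decide +kernel

set_option maxRecDepth 1000000 in
theorem cls_hclo_5860 : allC (cloChk dD dC dE dCl) 5860 91 = true := by decide +kernel

set_option maxRecDepth 1000000 in
theorem cls_hclo_5861 : allC (cloChk dD dC dE dCl) 5861 91 = true := by decide +kernel

set_option maxRecDepth 1000000 in
theorem cls_hclo_5862 : allC (cloChk dD dC dE dCl) 5862 91 = true := by decide +kernel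

set_option maxRecDepth 1000000 in
theorem cls_hclo_5863 : allC (cloChk dD dC dE dCl) 5863 91 = true := by decide +kernel

set_option maxRecDepth 1000000 in
theorem cls_hclo_5864 : allC (cloChk dD dC dE dCl) 5864 91 = true := by decide +kernel

set_option maxRecDepth 1000000 in
theorem cls_hclo_5865 : allC (cloChk dD dC dE dCl) 5865 91 = true := by decide +kernel

set_option maxRecDepth 1000000 in
theorem cls_hclo_5866 : allC (cloChk dD dC dE dCl) 5866 91 = true := by decide +kernel

set_option maxRecDepth 1000000 in
theorem cls_hclo_5867 : allC (cloChk dD dC dE dCl) 5867 91 = true := by decide +kernel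

set_option maxRecDepth 1000000 in
theorem cls_hclo_5868 : allC (cloChk dD dC dE dCl) 5868 91 = true := by decide +kernel

set_option maxRecDepth 1000000 in
theorem cls_hclo_5869 : allC (cloChk dD dC dE dCl) 5869 91 = true := by decide +kernel

set_option maxRecDepth 1000000 in
theorem cls_hclo_5870 : allC (cloChk dD dC dE dCl) 5870 91 = true := by decide +kernel

set_option maxRecDepth 1000000 in
theorem cls_hclo_5871 : allC (cloChk dD dC dE dCl) 5871 91 = true := by decide +kernel

set_option maxRecDepth 1000000 in
theorem cls_hclo_5872 : allC (cloChk dD dC dE dCl) 5872 91 = true := by decide +kernel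

set_option maxRecDepth 1000000 in
theorem cls_hclo_5873 : allC (cloChk dD dC dE dCl) 5873 91 = true := by decide +kernel

set_option maxRecDepth 1000000 in
theorem cls_hclo_5874 : allC (cloChk dD dC dE dCl) 5874 91 = true := by decide +kernel

set_option maxRecDepth 1000000 in
theorem cls_hclo_5875 : allC (cloChk dD dC dE dCl) 5875 91 = true := by decide +kernel

set_option maxRecDepth 1000000 in
theorem cls_hclo_5876 : allC (cloChk dD dC dE dCl) 5876 91 = true := by decide +kernel

set_option maxRecDepth 1000000 in
theorem cls_hclo_5877 : allC (cloChk dD dC dE dCl) 5877 91 = true := by decide +kernel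

set_option maxRecDepth 1000000 in
theorem cls_hclo_5878 : allC (cloChk dD dC dE dCl) 5878 91 = true := by decide +kernel

set_option maxRecDepth 1000000 in
theorem cls_hclo_5879 : allC (cloChk dD dC dE dCl) 5879 91 = true := by decide +kernel

set_option maxRecDepth 1000000 in
theorem cls_hclo_5880 : allC (cloChk dD dC dE dCl) 5880 91 = true := by decide +kernel

set_option maxRecDepth 1000000 in
theorem cls_hclo_5881 : allC (cloChk dD dC dE dCl) 5881 91 = true := by decide +kernel

set_option maxRecDepth 1000000 in
theorem cls_hclo_5882 : allC (cloChk dD dC dE dCl) 5882 91 = true := by decide +kernel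

set_option maxRecDepth 1000000 in
theorem cls_hclo_5883 : allC (cloChk dD dC dE dCl) 5883 91 = true := by decide +kernel

set_option maxRecDepth 1000000 in
theorem cls_hclo_5884 : allC (cloChk dD dC dE dCl) 5884 91 = true := by decide +kernel

set_option maxRecDepth 1000000 in
theorem cls_hclo_5885 : allC (cloChk dD dC dE dCl) 5885 91 = true := by decide +kernel

set_option maxRecDepth 1000000 in
theorem cls_hclo_5886 : allC (cloChk dD dC dE dCl) 5886 91 = true := by decide +kernel

set_option maxRecDepth 1000000 in
theorem cls_hclo_5887 : allC (cloChk dD dC dE dCl) 5887 91 = true := by decide +kernel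

set_option maxRecDepth 1000000 in
theorem cls_hclo_5888 : allC (cloChk dD dC dE dCl) 5888 91 = true := by decide +kernel

set_option maxRecDepth 1000000 in
theorem cls_hclo_5889 : allC (cloChk dD dC dE dCl) 5889 91 = true := by decide +kernel

set_option maxRecDepth 1000000 in
theorem cls_hclo_5890 : allC (cloChk dD dC dE dCl) 5890 91 = true := by decide +kernel

set_option maxRecDepth 1000000 in
theorem cls_hclo_5891 : allC (cloChk dD dC dE dCl) 5891 91 = true := by decide +kernel

set_option maxRecDepth 1000000 in
theorem cls_hclo_5892 : allC (cloChk dD dC dE dCl) 5892 91 = true := by decide +kernel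

set_option maxRecDepth 1000000 in
theorem cls_hclo_5893 : allC (cloChk dD dC dE dCl) 5893 91 = true := by decide +kernel

set_option maxRecDepth 1000000 in
theorem cls_hclo_5894 : allC (cloChk dD dC dE dCl) 5894 91 = true := by decide +kernel

set_option maxRecDepth 1000000 in
theorem cls_hclo_5895 : allC (cloChk dD dC dE dCl) 5895 91 = true := by decide +kernel

set_option maxRecDepth 1000000 in
theorem cls_hclo_5896 : allC (cloChk dD dC dE dCl) 5896 91 = true := by decide +kernel

set_option maxRecDepth 1000000 in
theorem cls_hclo_5897 : allC (cloChk dD dC dE dCl) 5897 91 = true := by decide +kernel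

set_option maxRecDepth 1000000 in
theorem cls_hclo_5898 : allC (cloChk dD dC dE dCl) 5898 91 = true := by decide +kernel

set_option maxRecDepth 1000000 in
theorem cls_hclo_5899 : allC (cloChk dD dC dE dCl) 5899 91 = true := by decide +kernel

end Cfsg.Agent.Helper9.RuO

end
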