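import Mathlib
import Cfsg.Agent.Helper9.RuO.Data

set_option autoImplicit false

/-! Kernel checks of the certificates, a part. -/

noncomputable section

namespace Cfsg.Agent.Helper9.RuO

open Cfsg.Agent.Helper9.OutG Cfsg.Agent.Helper9.J3

set_option maxRecDepth 1000000 in
theorem cls_hclo_5900 : allC (cloChk dD dC dE dCl) 5900 91 = true := by decide +kernel

set_option maxRecDepth 1000000 in
theorem cls_hclo_5901 : allC (cloChk dD dC dE dCl) 5901 91 = true := by decide +kernel

set_option maxRecDepth 1000000 in
theorem cls_hclo_5902 : allC (cloChk dD dC dE dCl) 5902 91 = true := by decide +kernel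

set_option maxRecDepth 1000000 in
theorem cls_hclo_5903 : allC (cloChk dD dC dE dCl) 5903 91 = true := by decide +kernel

set_option maxRecDepth 1000000 in
theorem cls_hclo_5904 : allC (cloChk dD dC dE dCl) 5904 91 = true := by decide +kernel

set_option maxRecDepth 1000000 in
theorem cls_hclo_5905 : allC (cloChk dD dC dE dCl) 5905 91 = true := by decide +kernel

set_option maxRecDepth 1000000 in
theorem cls_hclo_5906 : allC (cloChk dD dC dE dCl) 5906 91 = true := by decide +kernel

set_option maxRecDepth 1000000 in
theorem cls_hclo_5907 : allC (cloChk dD dC dE dCl) 5907 91 = true := by decide +kernel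

set_option maxRecDepth 1000000 in
theorem cls_hclo_5908 : allC (cloChk dD dC dE dCl) 5908 91 = true := by decide +kernel

set_option maxRecDepth 1000000 in
theorem cls_hclo_5909 : allC (cloChk dD dC dE dCl) 5909 91 = true := by decide +kernel

set_option maxRecDepth 1000000 in
theorem cls_hclo_5910 : allC (cloChk dD dC dE dCl) 5910 91 = true := by decide +kernel

set_option maxRecDepth 1000000 in
theorem cls_hclo_5911 : allC (cloChk dD dC dE dCl) 5911 91 = true := by decide +kernel

set_option maxRecDepth 1000000 in
theorem cls_hclo_5912 : allC (cloChk dD dC dE dCl) 5912 91 = true := by decide +kernel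

set_option maxRecDepth 1000000 in
theorem cls_hclo_5913 : allC (cloChk dD dC dE dCl) 5913 91 = true := by decide +kernel

set_option maxRecDepth 1000000 in
theorem cls_hclo_5914 : allC (cloChk dD dC dE dCl) 5914 91 = true := by decide +kernel

set_option maxRecDepth 1000000 in
theorem cls_hclo_5915 : allC (cloChk dD dC dE dCl) 5915 91 = true := by decide +kernel

set_option maxRecDepth 1000000 in
theorem cls_hclo_5916 : allC (cloChk dD dC dE dCl) 5916 91 = true := by decide +kernel

set_option maxRecDepth 1000000 in
theorem cls_hclo_5917 : allC (cloChk dD dC dE dCl) 5917 91 = true := by decide +kernel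

set_option maxRecDepth 1000000 in
theorem cls_hclo_5918 : allC (cloChk dD dC dE dCl) 5918 91 = true := by decide +kernel

set_option maxRecDepth 1000000 in
theorem cls_hclo_5919 : allC (cloChk dD dC dE dCl) 5919 91 = true := by decide +kernel

set_option maxRecDepth 1000000 in
theorem cls_hclo_5920 : allC (cloChk dD dC dE dCl) 5920 91 = true := by decide +kernel

set_option maxRecDepth 1000000 in
theorem cls_hclo_5921 : allC (cloChk dD dC dE dCl) 5921 91 = true := by decide +kernel

set_option maxRecDepth 1000000 in
theorem cls_hclo_5922 : allC (cloChk dD dC dE dCl) 5922 91 = true := by decide +kernel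

set_option maxRecDepth 1000000 in
theorem cls_hclo_5923 : allC (cloChk dD dC dE dCl) 5923 91 = true := by decide +kernel

set_option maxRecDepth 1000000 in
theorem cls_hclo_5924 : allC (cloChk dD dC dE dCl) 5924 91 = true := by decide +kernel

set_option maxRecDepth 1000000 in
theorem cls_hclo_5925 : allC (cloChk dD dC dE dCl) 5925 91 = true := by decide +kernel

set_option maxRecDepth 1000000 in
theorem cls_hclo_5926 : allC (cloChk dD dC dE dCl) 5926 91 = true := by decide +kernel

set_option maxRecDepth 1000000 in
theorem cls_hclo_5927 : allC (cloChk dD dC dE dCl) 5927 91 = true := by decide +kernel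

set_option maxRecDepth 1000000 in
theorem cls_hclo_5928 : allC (cloChk dD dC dE dCl) 5928 91 = true := by decide +kernel

set_option maxRecDepth 1000000 in
theorem cls_hclo_5929 : allC (cloChk dD dC dE dCl) 5929 91 = true := by decide +kernel

set_option maxRecDepth 1000000 in
theorem cls_hclo_5930 : allC (cloChk dD dC dE dCl) 5930 91 = true := by decide +kernel

set_option maxRecDepth 1000000 in
theorem cls_hclo_5931 : allC (cloChk dD dC dE dCl) 5931 91 = true := by decide +kernel

set_option maxRecDepth 1000000 in
theorem cls_hclo_5932 : allC (cloChk dD dC dE dCl) 5932 91 = true := by decide +kernel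

set_option maxRecDepth 1000000 in
theorem cls_hclo_5933 : allC (cloChk dD dC dE dCl) 5933 91 = true := by decide +kernel

set_option maxRecDepth 1000000 in
theorem cls_hclo_5934 : allC (cloChk dD dC dE dCl) 5934 91 = true := by decide +kernel

set_option maxRecDepth 1000000 in
theorem cls_hclo_5935 : allC (cloChk dD dC dE dCl) 5935 91 = true := by decide +kernel

set_option maxRecDepth 1000000 in
theorem cls_hclo_5936 : allC (cloChk dD dC dE dCl) 5936 91 = true := by decide +kernel

set_option maxRecDepth 1000000 in
theorem cls_hclo_5937 : allC (cloChk dD dC dE dCl) 5937 91 = true := by decide +kernel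

set_option maxRecDepth 1000000 in
theorem cls_hclo_5938 : allC (cloChk dD dC dE dCl) 5938 91 = true := by decide +kernel

set_option maxRecDepth 1000000 in
theorem cls_hclo_5939 : allC (cloChk dD dC dE dCl) 5939 91 = true := by decide +kernel

set_option maxRecDepth 1000000 in
theorem cls_hclo_5940 : allC (cloChk dD dC dE dCl) 5940 91 = true := by decide +kernel

set_option maxRecDepth 1000000 in
theorem cls_hclo_5941 : allC (cloChk dD dC dE dCl) 5941 91 = true := by decide +kernel

set_option maxRecDepth 1000000 in
theorem cls_hclo_5942 : allC (cloChk dD dC dE dCl) 5942 91 = true := by decide +kernel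

set_option maxRecDepth 1000000 in
theorem cls_hclo_5943 : allC (cloChk dD dC dE dCl) 5943 91 = true := by decide +kernel

set_option maxRecDepth 1000000 in
theorem cls_hclo_5944 : allC (cloChk dD dC dE dCl) 5944 91 = true := by decide +kernel

set_option maxRecDepth 1000000 in
theorem cls_hclo_5945 : allC (cloChk dD dC dE dCl) 5945 91 = true := by decide +kernel

set_option maxRecDepth 1000000 in
theorem cls_hclo_5946 : allC (cloChk dD dC dE dCl) 5946 91 = true := by decide +kernel

set_option maxRecDepth 1000000 in
theorem cls_hclo_5947 : allC (cloChk dD dC dE dCl) 5947 91 = true := by decide +kernel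

set_option maxRecDepth 1000000 in
theorem cls_hclo_5948 : allC (cloChk dD dC dE dCl) 5948 91 = true := by decide +kernel

set_option maxRecDepth 1000000 in
theorem cls_hclo_5949 : allC (cloChk dD dC dE dCl) 5949 91 = true := by decide +kernel

set_option maxRecDepth 1000000 in
theorem cls_hclo_5950 : allC (cloChk dD dC dE dCl) 5950 91 = true := by decide +kernel

set_option maxRecDepth 1000000 in
theorem cls_hclo_5951 : allC (cloChk dD dC dE dCl) 5951 91 = true := by decide +kernel

set_option maxRecDepth 1000000 in
theorem cls_hclo_5952 : allC (cloChk dD dC dE dCl) 5952 91 = true := by decide +kernel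

set_option maxRecDepth 1000000 in
theorem cls_hclo_5953 : allC (cloChk dD dC dE dCl) 5953 91 = true := by decide +kernel

set_option maxRecDepth 1000000 in
theorem cls_hclo_5954 : allC (cloChk dD dC dE dCl) 5954 91 = true := by decide +kernel

set_option maxRecDepth 1000000 in
theorem cls_hclo_5955 : allC (cloChk dD dC dE dCl) 5955 91 = true := by decide +kernel

set_option maxRecDepth 1000000 in
theorem cls_hclo_5956 : allC (cloChk dD dC dE dCl) 5956 91 = true := by decide +kernel

set_option maxRecDepth 1000000 in
theorem cls_hclo_5957 : allC (cloChk dD dC dE dCl) 5957 91 = true := by decide +kernel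

set_option maxRecDepth 1000000 in
theorem cls_hclo_5958 : allC (cloChk dD dC dE dCl) 5958 91 = true := by decide +kernel

set_option maxRecDepth 1000000 in
theorem cls_hclo_5959 : allC (cloChk dD dC dE dCl) 5959 91 = true := by decide +kernel

set_option maxRecDepth 1000000 in
theorem cls_hclo_5960 : allC (cloChk dD dC dE dCl) 5960 91 = true := by decide +kernel

set_option maxRecDepth 1000000 in
theorem cls_hclo_5961 : allC (cloChk dD dC dE dCl) 5961 91 = true := by decide +kernel

set_option maxRecDepth 1000000 in
theorem cls_hclo_5962 : allC (cloChk dD dC dE dCl) 5962 91 = true := by decide +kernel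

set_option maxRecDepth 1000000 in
theorem cls_hclo_5963 : allC (cloChk dD dC dE dCl) 5963 91 = true := by decide +kernel

set_option maxRecDepth 1000000 in
theorem cls_hclo_5964 : allC (cloChk dD dC dE dCl) 5964 91 = true := by decide +kernel

set_option maxRecDepth 1000000 in
theorem cls_hclo_5965 : allC (cloChk dD dC dE dCl) 5965 91 = true := by decide +kernel

set_option maxRecDepth 1000000 in
theorem cls_hclo_5966 : allC (cloChk dD dC dE dCl) 5966 91 = true := by decide +kernel

set_option maxRecDepth 1000000 in
theorem cls_hclo_5967 : allC (cloChk dD dC dE dCl) 5967 91 = true := by decide +kernel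

set_option maxRecDepth 1000000 in
theorem cls_hclo_5968 : allC (cloChk dD dC dE dCl) 5968 91 = true := by decide +kernel

set_option maxRecDepth 1000000 in
theorem cls_hclo_5969 : allC (cloChk dD dC dE dCl) 5969 91 = true := by decide +kernel

set_option maxRecDepth 1000000 in
theorem cls_hclo_5970 : allC (cloChk dD dC dE dCl) 5970 91 = true := by decide +kernel

set_option maxRecDepth 1000000 in
theorem cls_hclo_5971 : allC (cloChk dD dC dE dCl) 5971 91 = true := by decide +kernel

set_option maxRecDepth 1000000 in
theorem cls_hclo_5972 : allC (cloChk dD dC dE dCl) 5972 91 = true := by decide +kernel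

set_option maxRecDepth 1000000 in
theorem cls_hclo_5973 : allC (cloChk dD dC dE dCl) 5973 91 = true := by decide +kernel

set_option maxRecDepth 1000000 in
theorem cls_hclo_5974 : allC (cloChk dD dC dE dCl) 5974 91 = true := by decide +kernel

set_option maxRecDepth 1000000 in
theorem cls_hclo_5975 : allC (cloChk dD dC dE dCl) 5975 91 = true := by decide +kernel

set_option maxRecDepth 1000000 in
theorem cls_hclo_5976 : allC (cloChk dD dC dE dCl) 5976 91 = true := by decide +kernel

set_option maxRecDepth 1000000 in
theorem cls_hclo_5977 : allC (cloChk dD dC dE dCl) 5977 91 = true := by decide +kernel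

set_option maxRecDepth 1000000 in
theorem cls_hclo_5978 : allC (cloChk dD dC dE dCl) 5978 91 = true := by decide +kernel

set_option maxRecDepth 1000000 in
theorem cls_hclo_5979 : allC (cloChk dD dC dE dCl) 5979 91 = true := by decide +kernel

set_option maxRecDepth 1000000 in
theorem cls_hclo_5980 : allC (cloChk dD dC dE dCl) 5980 91 = true := by decide +kernel

set_option maxRecDepth 1000000 in
theorem cls_hclo_5981 : allC (cloChk dD dC dE dCl) 5981 91 = true := by decide +kernel

set_option maxRecDepth 1000000 in
theorem cls_hclo_5982 : allC (cloChk dD dC dE dCl) 5982 91 = true := by decide +kernel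

set_option maxRecDepth 1000000 in
theorem cls_hclo_5983 : allC (cloChk dD dC dE dCl) 5983 91 = true := by decide +kernel

set_option maxRecDepth 1000000 in
theorem cls_hclo_5984 : allC (cloChk dD dC dE dCl) 5984 91 = true := by decide +kernel

set_option maxRecDepth 1000000 in
theorem cls_hclo_5985 : allC (cloChk dD dC dE dCl) 5985 91 = true := by decide +kernel

set_option maxRecDepth 1000000 in
theorem cls_hclo_5986 : allC (cloChk dD dC dE dCl) 5986 91 = true := by decide +kernel

set_option maxRecDepth 1000000 in
theorem cls_hclo_5987 : allC (cloChk dD dC dE dCl) 5987 91 = true := by decide +kernel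

set_option maxRecDepth 1000000 in
theorem cls_hclo_5988 : allC (cloChk dD dC dE dCl) 5988 91 = true := by decide +kernel

set_option maxRecDepth 1000000 in
theorem cls_hclo_5989 : allC (cloChk dD dC dE dCl) 5989 91 = true := by decide +kernel

set_option maxRecDepth 1000000 in
theorem cls_hclo_5990 : allC (cloChk dD dC dE dCl) 5990 91 = true := by decide +kernel

set_option maxRecDepth 1000000 in
theorem cls_hclo_5991 : allC (cloChk dD dC dE dCl) 5991 91 = true := by decide +kernel

set_option maxRecDepth 1000000 in
theorem cls_hclo_5992 : allC (cloChk dD dC dE dCl) 5992 91 = true := by decide +kernel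

set_option maxRecDepth 1000000 in
theorem cls_hclo_5993 : allC (cloChk dD dC dE dCl) 5993 91 = true := by decide +kernel

set_option maxRecDepth 1000000 in
theorem cls_hclo_5994 : allC (cloChk dD dC dE dCl) 5994 91 = true := by decide +kernel

set_option maxRecDepth 1000000 in
theorem cls_hclo_5995 : allC (cloChk dD dC dE dCl) 5995 91 = true := by decide +kernel

set_option maxRecDepth 1000000 in
theorem cls_hclo_5996 : allC (cloChk dD dC dE dCl) 5996 91 = true := by decide +kernel

set_option maxRecDepth 1000000 in
theorem cls_hclo_5997 : allC (cloChk dD dC dE dCl) 5997 91 = true := by decide +kernel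

set_option maxRecDepth 1000000 in
theorem cls_hclo_5998 : allC (cloChk dD dC dE dCl) 5998 91 = true := by decide +kernel

set_option maxRecDepth 1000000 in
theorem cls_hclo_5999 : allC (cloChk dD dC dE dCl) 5999 91 = true := by decide +kernel

end Cfsg.Agent.Helper9.RuO

end
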