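import Mathlib
import Cfsg.Agent.Helper9.RuO.Data

set_option autoImplicit false

/-! Kernel checks of the certificates, a part. -/

noncomputable section

namespace Cfsg.Agent.Helper9.RuO

open Cfsg.Agent.Helper9.OutG Cfsg.Agent.Helper9.J3

set_option maxRecDepth 1000000 in
theorem cls_hclo_600 : allC (cloChk dD dC dE dCl) 600 91 = true := by decide +kernel

set_option maxRecDepth 1000000 in
theorem cls_hclo_601 : allC (cloChk dD dC dE dCl) 601 91 = true := by decide +kernel

set_option maxRecDepth 1000000 in
theorem cls_hclo_602 : allC (cloChk dD dC dE dCl) 602 91 = true := by decide +kernel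

set_option maxRecDepth 1000000 in
theorem cls_hclo_603 : allC (cloChk dD dC dE dCl) 603 91 = true := by decide +kernel

set_option maxRecDepth 1000000 in
theorem cls_hclo_604 : allC (cloChk dD dC dE dCl) 604 91 = true := by decide +kernel

set_option maxRecDepth 1000000 in
theorem cls_hclo_605 : allC (cloChk dD dC dE dCl) 605 91 = true := by decide +kernel

set_option maxRecDepth 1000000 in
theorem cls_hclo_606 : allC (cloChk dD dC dE dCl) 606 91 = true := by decide +kernel

set_option maxRecDepth 1000000 in
theorem cls_hclo_607 : allC (cloChk dD dC dE dCl) 607 91 = true := by decide +kernel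

set_option maxRecDepth 1000000 in
theorem cls_hclo_608 : allC (cloChk dD dC dE dCl) 608 91 = true := by decide +kernel

set_option maxRecDepth 1000000 in
theorem cls_hclo_609 : allC (cloChk dD dC dE dCl) 609 91 = true := by decide +kernel

set_option maxRecDepth 1000000 in
theorem cls_hclo_610 : allC (cloChk dD dC dE dCl) 610 91 = true := by decide +kernel

set_option maxRecDepth 1000000 in
theorem cls_hclo_611 : allC (cloChk dD dC dE dCl) 611 91 = true := by decide +kernel

set_option maxRecDepth 1000000 in
theorem cls_hclo_612 : allC (cloChk dD dC dE dCl) 612 91 = true := by decide +kernel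

set_option maxRecDepth 1000000 in
theorem cls_hclo_613 : allC (cloChk dD dC dE dCl) 613 91 = true := by decide +kernel

set_option maxRecDepth 1000000 in
theorem cls_hclo_614 : allC (cloChk dD dC dE dCl) 614 91 = true := by decide +kernel

set_option maxRecDepth 1000000 in
theorem cls_hclo_615 : allC (cloChk dD dC dE dCl) 615 91 = true := by decide +kernel

set_option maxRecDepth 1000000 in
theorem cls_hclo_616 : allC (cloChk dD dC dE dCl) 616 91 = true := by decide +kernel

set_option maxRecDepth 1000000 in
theorem cls_hclo_617 : allC (cloChk dD dC dE dCl) 617 91 = true := by decide +kernel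

set_option maxRecDepth 1000000 in
theorem cls_hclo_618 : allC (cloChk dD dC dE dCl) 618 91 = true := by decide +kernel

set_option maxRecDepth 1000000 in
theorem cls_hclo_619 : allC (cloChk dD dC dE dCl) 619 91 = true := by decide +kernel

set_option maxRecDepth 1000000 in
theorem cls_hclo_620 : allC (cloChk dD dC dE dCl) 620 91 = true := by decide +kernel

set_option maxRecDepth 1000000 in
theorem cls_hclo_621 : allC (cloChk dD dC dE dCl) 621 91 = true := by decide +kernel

set_option maxRecDepth 1000000 in
theorem cls_hclo_622 : allC (cloChk dD dC dE dCl) 622 91 = true := by decide +kernel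

set_option maxRecDepth 1000000 in
theorem cls_hclo_623 : allC (cloChk dD dC dE dCl) 623 91 = true := by decide +kernel

set_option maxRecDepth 1000000 in
theorem cls_hclo_624 : allC (cloChk dD dC dE dCl) 624 91 = true := by decide +kernel

set_option maxRecDepth 1000000 in
theorem cls_hclo_625 : allC (cloChk dD dC dE dCl) 625 91 = true := by decide +kernel

set_option maxRecDepth 1000000 in
theorem cls_hclo_626 : allC (cloChk dD dC dE dCl) 626 91 = true := by decide +kernel

set_option maxRecDepth 1000000 in
theorem cls_hclo_627 : allC (cloChk dD dC dE dCl) 627 91 = true := by decide +kernel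

set_option maxRecDepth 1000000 in
theorem cls_hclo_628 : allC (cloChk dD dC dE dCl) 628 91 = true := by decide +kernel

set_option maxRecDepth 1000000 in
theorem cls_hclo_629 : allC (cloChk dD dC dE dCl) 629 91 = true := by decide +kernel

set_option maxRecDepth 1000000 in
theorem cls_hclo_630 : allC (cloChk dD dC dE dCl) 630 91 = true := by decide +kernel

set_option maxRecDepth 1000000 in
theorem cls_hclo_631 : allC (cloChk dD dC dE dCl) 631 91 = true := by decide +kernel

set_option maxRecDepth 1000000 in
theorem cls_hclo_632 : allC (cloChk dD dC dE dCl) 632 91 = true := by decide +kernel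

set_option maxRecDepth 1000000 in
theorem cls_hclo_633 : allC (cloChk dD dC dE dCl) 633 91 = true := by decide +kernel

set_option maxRecDepth 1000000 in
theorem cls_hclo_634 : allC (cloChk dD dC dE dCl) 634 91 = true := by decide +kernel

set_option maxRecDepth 1000000 in
theorem cls_hclo_635 : allC (cloChk dD dC dE dCl) 635 91 = true := by decide +kernel

set_option maxRecDepth 1000000 in
theorem cls_hclo_636 : allC (cloChk dD dC dE dCl) 636 91 = true := by decide +kernel

set_option maxRecDepth 1000000 in
theorem cls_hclo_637 : allC (cloChk dD dC dE dCl) 637 91 = true := by decide +kernel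

set_option maxRecDepth 1000000 in
theorem cls_hclo_638 : allC (cloChk dD dC dE dCl) 638 91 = true := by decide +kernel

set_option maxRecDepth 1000000 in
theorem cls_hclo_639 : allC (cloChk dD dC dE dCl) 639 91 = true := by decide +kernel

set_option maxRecDepth 1000000 in
theorem cls_hclo_640 : allC (cloChk dD dC dE dCl) 640 91 = true := by decide +kernel

set_option maxRecDepth 1000000 in
theorem cls_hclo_641 : allC (cloChk dD dC dE dCl) 641 91 = true := by decide +kernel

set_option maxRecDepth 1000000 in
theorem cls_hclo_642 : allC (cloChk dD dC dE dCl) 642 91 = true := by decide +kernel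

set_option maxRecDepth 1000000 in
theorem cls_hclo_643 : allC (cloChk dD dC dE dCl) 643 91 = true := by decide +kernel

set_option maxRecDepth 1000000 in
theorem cls_hclo_644 : allC (cloChk dD dC dE dCl) 644 91 = true := by decide +kernel

set_option maxRecDepth 1000000 in
theorem cls_hclo_645 : allC (cloChk dD dC dE dCl) 645 91 = true := by decide +kernel

set_option maxRecDepth 1000000 in
theorem cls_hclo_646 : allC (cloChk dD dC dE dCl) 646 91 = true := by decide +kernel

set_option maxRecDepth 1000000 in
theorem cls_hclo_647 : allC (cloChk dD dC dE dCl) 647 91 = true := by decide +kernel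

set_option maxRecDepth 1000000 in
theorem cls_hclo_648 : allC (cloChk dD dC dE dCl) 648 91 = true := by decide +kernel

set_option maxRecDepth 1000000 in
theorem cls_hclo_649 : allC (cloChk dD dC dE dCl) 649 91 = true := by decide +kernel

set_option maxRecDepth 1000000 in
theorem cls_hclo_650 : allC (cloChk dD dC dE dCl) 650 91 = true := by decide +kernel

set_option maxRecDepth 1000000 in
theorem cls_hclo_651 : allC (cloChk dD dC dE dCl) 651 91 = true := by decide +kernel

set_option maxRecDepth 1000000 in
theorem cls_hclo_652 : allC (cloChk dD dC dE dCl) 652 91 = true := by decide +kernel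

set_option maxRecDepth 1000000 in
theorem cls_hclo_653 : allC (cloChk dD dC dE dCl) 653 91 = true := by decide +kernel

set_option maxRecDepth 1000000 in
theorem cls_hclo_654 : allC (cloChk dD dC dE dCl) 654 91 = true := by decide +kernel

set_option maxRecDepth 1000000 in
theorem cls_hclo_655 : allC (cloChk dD dC dE dCl) 655 91 = true := by decide +kernel

set_option maxRecDepth 1000000 in
theorem cls_hclo_656 : allC (cloChk dD dC dE dCl) 656 91 = true := by decide +kernel

set_option maxRecDepth 1000000 in
theorem cls_hclo_657 : allC (cloChk dD dC dE dCl) 657 91 = true := by decide +kernel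

set_option maxRecDepth 1000000 in
theorem cls_hclo_658 : allC (cloChk dD dC dE dCl) 658 91 = true := by decide +kernel

set_option maxRecDepth 1000000 in
theorem cls_hclo_659 : allC (cloChk dD dC dE dCl) 659 91 = true := by decide +kernel

set_option maxRecDepth 1000000 in
theorem cls_hclo_660 : allC (cloChk dD dC dE dCl) 660 91 = true := by decide +kernel

set_option maxRecDepth 1000000 in
theorem cls_hclo_661 : allC (cloChk dD dC dE dCl) 661 91 = true := by decide +kernel

set_option maxRecDepth 1000000 in
theorem cls_hclo_662 : allC (cloChk dD dC dE dCl) 662 91 = true := by decide +kernel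

set_option maxRecDepth 1000000 in
theorem cls_hclo_663 : allC (cloChk dD dC dE dCl) 663 91 = true := by decide +kernel

set_option maxRecDepth 1000000 in
theorem cls_hclo_664 : allC (cloChk dD dC dE dCl) 664 91 = true := by decide +kernel

set_option maxRecDepth 1000000 in
theorem cls_hclo_665 : allC (cloChk dD dC dE dCl) 665 91 = true := by decide +kernel

set_option maxRecDepth 1000000 in
theorem cls_hclo_666 : allC (cloChk dD dC dE dCl) 666 91 = true := by decide +kernel

set_option maxRecDepth 1000000 in
theorem cls_hclo_667 : allC (cloChk dD dC dE dCl) 667 91 = true := by decide +kernel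

set_option maxRecDepth 1000000 in
theorem cls_hclo_668 : allC (cloChk dD dC dE dCl) 668 91 = true := by decide +kernel

set_option maxRecDepth 1000000 in
theorem cls_hclo_669 : allC (cloChk dD dC dE dCl) 669 91 = true := by decide +kernel

set_option maxRecDepth 1000000 in
theorem cls_hclo_670 : allC (cloChk dD dC dE dCl) 670 91 = true := by decide +kernel

set_option maxRecDepth 1000000 in
theorem cls_hclo_671 : allC (cloChk dD dC dE dCl) 671 91 = true := by decide +kernel

set_option maxRecDepth 1000000 in
theorem cls_hclo_672 : allC (cloChk dD dC dE dCl) 672 91 = true := by decide +kernel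

set_option maxRecDepth 1000000 in
theorem cls_hclo_673 : allC (cloChk dD dC dE dCl) 673 91 = true := by decide +kernel

set_option maxRecDepth 1000000 in
theorem cls_hclo_674 : allC (cloChk dD dC dE dCl) 674 91 = true := by decide +kernel

set_option maxRecDepth 1000000 in
theorem cls_hclo_675 : allC (cloChk dD dC dE dCl) 675 91 = true := by decide +kernel

set_option maxRecDepth 1000000 in
theorem cls_hclo_676 : allC (cloChk dD dC dE dCl) 676 91 = true := by decide +kernel

set_option maxRecDepth 1000000 in
theorem cls_hclo_677 : allC (cloChk dD dC dE dCl) 677 91 = true := by decide +kernel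

set_option maxRecDepth 1000000 in
theorem cls_hclo_678 : allC (cloChk dD dC dE dCl) 678 91 = true := by decide +kernel

set_option maxRecDepth 1000000 in
theorem cls_hclo_679 : allC (cloChk dD dC dE dCl) 679 91 = true := by decide +kernel

set_option maxRecDepth 1000000 in
theorem cls_hclo_680 : allC (cloChk dD dC dE dCl) 680 91 = true := by decide +kernel

set_option maxRecDepth 1000000 in
theorem cls_hclo_681 : allC (cloChk dD dC dE dCl) 681 91 = true := by decide +kernel

set_option maxRecDepth 1000000 in
theorem cls_hclo_682 : allC (cloChk dD dC dE dCl) 682 91 = true := by decide +kernel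

set_option maxRecDepth 1000000 in
theorem cls_hclo_683 : allC (cloChk dD dC dE dCl) 683 91 = true := by decide +kernel

set_option maxRecDepth 1000000 in
theorem cls_hclo_684 : allC (cloChk dD dC dE dCl) 684 91 = true := by decide +kernel

set_option maxRecDepth 1000000 in
theorem cls_hclo_685 : allC (cloChk dD dC dE dCl) 685 91 = true := by decide +kernel

set_option maxRecDepth 1000000 in
theorem cls_hclo_686 : allC (cloChk dD dC dE dCl) 686 91 = true := by decide +kernel

set_option maxRecDepth 1000000 in
theorem cls_hclo_687 : allC (cloChk dD dC dE dCl) 687 91 = true := by decide +kernel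

set_option maxRecDepth 1000000 in
theorem cls_hclo_688 : allC (cloChk dD dC dE dCl) 688 91 = true := by decide +kernel

set_option maxRecDepth 1000000 in
theorem cls_hclo_689 : allC (cloChk dD dC dE dCl) 689 91 = true := by decide +kernel

set_option maxRecDepth 1000000 in
theorem cls_hclo_690 : allC (cloChk dD dC dE dCl) 690 91 = true := by decide +kernel

set_option maxRecDepth 1000000 in
theorem cls_hclo_691 : allC (cloChk dD dC dE dCl) 691 91 = true := by decide +kernel

set_option maxRecDepth 1000000 in
theorem cls_hclo_692 : allC (cloChk dD dC dE dCl) 692 91 = true := by decide +kernel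

set_option maxRecDepth 1000000 in
theorem cls_hclo_693 : allC (cloChk dD dC dE dCl) 693 91 = true := by decide +kernel

set_option maxRecDepth 1000000 in
theorem cls_hclo_694 : allC (cloChk dD dC dE dCl) 694 91 = true := by decide +kernel

set_option maxRecDepth 1000000 in
theorem cls_hclo_695 : allC (cloChk dD dC dE dCl) 695 91 = true := by decide +kernel

set_option maxRecDepth 1000000 in
theorem cls_hclo_696 : allC (cloChk dD dC dE dCl) 696 91 = true := by decide +kernel

set_option maxRecDepth 1000000 in
theorem cls_hclo_697 : allC (cloChk dD dC dE dCl) 697 91 = true := by decide +kernel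

set_option maxRecDepth 1000000 in
theorem cls_hclo_698 : allC (cloChk dD dC dE dCl) 698 91 = true := by decide +kernel

set_option maxRecDepth 1000000 in
theorem cls_hclo_699 : allC (cloChk dD dC dE dCl) 699 91 = true := by decide +kernel

end Cfsg.Agent.Helper9.RuO

end
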