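import Mathlib
import Cfsg.Agent.Helper9.RuO.Data

set_option autoImplicit false

/-! Kernel checks of the certificates, a part. -/

noncomputable section

namespace Cfsg.Agent.Helper9.RuO

open Cfsg.Agent.Helper9.OutG Cfsg.Agent.Helper9.J3

set_option maxRecDepth 1000000 in
theorem cls_hclo_6000 : allC (cloChk dD dC dE dCl) 6000 91 = true := by decide +kernel

set_option maxRecDepth 1000000 in
theorem cls_hclo_6001 : allC (cloChk dD dC dE dCl) 6001 91 = true := by decide +kernel

set_option maxRecDepth 1000000 in
theorem cls_hclo_6002 : allC (cloChk dD dC dE dCl) 6002 91 = true := by decide +kernel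

set_option maxRecDepth 1000000 in
theorem cls_hclo_6003 : allC (cloChk dD dC dE dCl) 6003 91 = true := by decide +kernel

set_option maxRecDepth 1000000 in
theorem cls_hclo_6004 : allC (cloChk dD dC dE dCl) 6004 91 = true := by decide +kernel

set_option maxRecDepth 1000000 in
theorem cls_hclo_6005 : allC (cloChk dD dC dE dCl) 6005 91 = true := by decide +kernel

set_option maxRecDepth 1000000 in
theorem cls_hclo_6006 : allC (cloChk dD dC dE dCl) 6006 91 = true := by decide +kernel

set_option maxRecDepth 1000000 in
theorem cls_hclo_6007 : allC (cloChk dD dC dE dCl) 6007 91 = true := by decide +kernel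

set_option maxRecDepth 1000000 in
theorem cls_hclo_6008 : allC (cloChk dD dC dE dCl) 6008 91 = true := by decide +kernel

set_option maxRecDepth 1000000 in
theorem cls_hclo_6009 : allC (cloChk dD dC dE dCl) 6009 91 = true := by decide +kernel

set_option maxRecDepth 1000000 in
theorem cls_hclo_6010 : allC (cloChk dD dC dE dCl) 6010 91 = true := by decide +kernel

set_option maxRecDepth 1000000 in
theorem cls_hclo_6011 : allC (cloChk dD dC dE dCl) 6011 91 = true := by decide +kernel

set_option maxRecDepth 1000000 in
theorem cls_hclo_6012 : allC (cloChk dD dC dE dCl) 6012 91 = true := by decide +kernel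

set_option maxRecDepth 1000000 in
theorem cls_hclo_6013 : allC (cloChk dD dC dE dCl) 6013 91 = true := by decide +kernel

set_option maxRecDepth 1000000 in
theorem cls_hclo_6014 : allC (cloChk dD dC dE dCl) 6014 91 = true := by decide +kernel

set_option maxRecDepth 1000000 in
theorem cls_hclo_6015 : allC (cloChk dD dC dE dCl) 6015 91 = true := by decide +kernel

set_option maxRecDepth 1000000 in
theorem cls_hclo_6016 : allC (cloChk dD dC dE dCl) 6016 91 = true := by decide +kernel

set_option maxRecDepth 1000000 in
theorem cls_hclo_6017 : allC (cloChk dD dC dE dCl) 6017 91 = true := by decide +kernel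

set_option maxRecDepth 1000000 in
theorem cls_hclo_6018 : allC (cloChk dD dC dE dCl) 6018 91 = true := by decide +kernel

set_option maxRecDepth 1000000 in
theorem cls_hclo_6019 : allC (cloChk dD dC dE dCl) 6019 91 = true := by decide +kernel

set_option maxRecDepth 1000000 in
theorem cls_hclo_6020 : allC (cloChk dD dC dE dCl) 6020 91 = true := by decide +kernel

set_option maxRecDepth 1000000 in
theorem cls_hclo_6021 : allC (cloChk dD dC dE dCl) 6021 91 = true := by decide +kernel

set_option maxRecDepth 1000000 in
theorem cls_hclo_6022 : allC (cloChk dD dC dE dCl) 6022 91 = true := by decide +kernel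

set_option maxRecDepth 1000000 in
theorem cls_hclo_6023 : allC (cloChk dD dC dE dCl) 6023 91 = true := by decide +kernel

set_option maxRecDepth 1000000 in
theorem cls_hclo_6024 : allC (cloChk dD dC dE dCl) 6024 91 = true := by decide +kernel

set_option maxRecDepth 1000000 in
theorem cls_hclo_6025 : allC (cloChk dD dC dE dCl) 6025 91 = true := by decide +kernel

set_option maxRecDepth 1000000 in
theorem cls_hclo_6026 : allC (cloChk dD dC dE dCl) 6026 91 = true := by decide +kernel

set_option maxRecDepth 1000000 in
theorem cls_hclo_6027 : allC (cloChk dD dC dE dCl) 6027 91 = true := by decide +kernel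

set_option maxRecDepth 1000000 in
theorem cls_hclo_6028 : allC (cloChk dD dC dE dCl) 6028 91 = true := by decide +kernel

set_option maxRecDepth 1000000 in
theorem cls_hclo_6029 : allC (cloChk dD dC dE dCl) 6029 91 = true := by decide +kernel

set_option maxRecDepth 1000000 in
theorem cls_hclo_6030 : allC (cloChk dD dC dE dCl) 6030 91 = true := by decide +kernel

set_option maxRecDepth 1000000 in
theorem cls_hclo_6031 : allC (cloChk dD dC dE dCl) 6031 91 = true := by decide +kernel

set_option maxRecDepth 1000000 in
theorem cls_hclo_6032 : allC (cloChk dD dC dE dCl) 6032 91 = true := by decide +kernel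

set_option maxRecDepth 1000000 in
theorem cls_hclo_6033 : allC (cloChk dD dC dE dCl) 6033 91 = true := by decide +kernel

set_option maxRecDepth 1000000 in
theorem cls_hclo_6034 : allC (cloChk dD dC dE dCl) 6034 91 = true := by decide +kernel

set_option maxRecDepth 1000000 in
theorem cls_hclo_6035 : allC (cloChk dD dC dE dCl) 6035 91 = true := by decide +kernel

set_option maxRecDepth 1000000 in
theorem cls_hclo_6036 : allC (cloChk dD dC dE dCl) 6036 91 = true := by decide +kernel

set_option maxRecDepth 1000000 in
theorem cls_hclo_6037 : allC (cloChk dD dC dE dCl) 6037 91 = true := by decide +kernel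

set_option maxRecDepth 1000000 in
theorem cls_hclo_6038 : allC (cloChk dD dC dE dCl) 6038 91 = true := by decide +kernel

set_option maxRecDepth 1000000 in
theorem cls_hclo_6039 : allC (cloChk dD dC dE dCl) 6039 91 = true := by decide +kernel

set_option maxRecDepth 1000000 in
theorem cls_hclo_6040 : allC (cloChk dD dC dE dCl) 6040 91 = true := by decide +kernel

set_option maxRecDepth 1000000 in
theorem cls_hclo_6041 : allC (cloChk dD dC dE dCl) 6041 91 = true := by decide +kernel

set_option maxRecDepth 1000000 in
theorem cls_hclo_6042 : allC (cloChk dD dC dE dCl) 6042 91 = true := by decide +kernel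

set_option maxRecDepth 1000000 in
theorem cls_hclo_6043 : allC (cloChk dD dC dE dCl) 6043 91 = true := by decide +kernel

set_option maxRecDepth 1000000 in
theorem cls_hclo_6044 : allC (cloChk dD dC dE dCl) 6044 91 = true := by decide +kernel

set_option maxRecDepth 1000000 in
theorem cls_hclo_6045 : allC (cloChk dD dC dE dCl) 6045 91 = true := by decide +kernel

set_option maxRecDepth 1000000 in
theorem cls_hclo_6046 : allC (cloChk dD dC dE dCl) 6046 91 = true := by decide +kernel

set_option maxRecDepth 1000000 in
theorem cls_hclo_6047 : allC (cloChk dD dC dE dCl) 6047 91 = true := by decide +kernel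

set_option maxRecDepth 1000000 in
theorem cls_hclo_6048 : allC (cloChk dD dC dE dCl) 6048 91 = true := by decide +kernel

set_option maxRecDepth 1000000 in
theorem cls_hclo_6049 : allC (cloChk dD dC dE dCl) 6049 91 = true := by decide +kernel

set_option maxRecDepth 1000000 in
theorem cls_hclo_6050 : allC (cloChk dD dC dE dCl) 6050 91 = true := by decide +kernel

set_option maxRecDepth 1000000 in
theorem cls_hclo_6051 : allC (cloChk dD dC dE dCl) 6051 91 = true := by decide +kernel

set_option maxRecDepth 1000000 in
theorem cls_hclo_6052 : allC (cloChk dD dC dE dCl) 6052 91 = true := by decide +kernel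

set_option maxRecDepth 1000000 in
theorem cls_hclo_6053 : allC (cloChk dD dC dE dCl) 6053 91 = true := by decide +kernel

set_option maxRecDepth 1000000 in
theorem cls_hclo_6054 : allC (cloChk dD dC dE dCl) 6054 91 = true := by decide +kernel

set_option maxRecDepth 1000000 in
theorem cls_hclo_6055 : allC (cloChk dD dC dE dCl) 6055 91 = true := by decide +kernel

set_option maxRecDepth 1000000 in
theorem cls_hclo_6056 : allC (cloChk dD dC dE dCl) 6056 91 = true := by decide +kernel

set_option maxRecDepth 1000000 in
theorem cls_hclo_6057 : allC (cloChk dD dC dE dCl) 6057 91 = true := by decide +kernel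

set_option maxRecDepth 1000000 in
theorem cls_hclo_6058 : allC (cloChk dD dC dE dCl) 6058 91 = true := by decide +kernel

set_option maxRecDepth 1000000 in
theorem cls_hclo_6059 : allC (cloChk dD dC dE dCl) 6059 91 = true := by decide +kernel

set_option maxRecDepth 1000000 in
theorem cls_hclo_6060 : allC (cloChk dD dC dE dCl) 6060 91 = true := by decide +kernel

set_option maxRecDepth 1000000 in
theorem cls_hclo_6061 : allC (cloChk dD dC dE dCl) 6061 91 = true := by decide +kernel

set_option maxRecDepth 1000000 in
theorem cls_hclo_6062 : allC (cloChk dD dC dE dCl) 6062 91 = true := by decide +kernel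

set_option maxRecDepth 1000000 in
theorem cls_hclo_6063 : allC (cloChk dD dC dE dCl) 6063 91 = true := by decide +kernel

set_option maxRecDepth 1000000 in
theorem cls_hclo_6064 : allC (cloChk dD dC dE dCl) 6064 91 = true := by decide +kernel

set_option maxRecDepth 1000000 in
theorem cls_hclo_6065 : allC (cloChk dD dC dE dCl) 6065 91 = true := by decide +kernel

set_option maxRecDepth 1000000 in
theorem cls_hclo_6066 : allC (cloChk dD dC dE dCl) 6066 91 = true := by decide +kernel

set_option maxRecDepth 1000000 in
theorem cls_hclo_6067 : allC (cloChk dD dC dE dCl) 6067 91 = true := by decide +kernel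

set_option maxRecDepth 1000000 in
theorem cls_hclo_6068 : allC (cloChk dD dC dE dCl) 6068 91 = true := by decide +kernel

set_option maxRecDepth 1000000 in
theorem cls_hclo_6069 : allC (cloChk dD dC dE dCl) 6069 91 = true := by decide +kernel

set_option maxRecDepth 1000000 in
theorem cls_hclo_6070 : allC (cloChk dD dC dE dCl) 6070 91 = true := by decide +kernel

set_option maxRecDepth 1000000 in
theorem cls_hclo_6071 : allC (cloChk dD dC dE dCl) 6071 91 = true := by decide +kernel

set_option maxRecDepth 1000000 in
theorem cls_hclo_6072 : allC (cloChk dD dC dE dCl) 6072 91 = true := by decide +kernel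

set_option maxRecDepth 1000000 in
theorem cls_hclo_6073 : allC (cloChk dD dC dE dCl) 6073 91 = true := by decide +kernel

set_option maxRecDepth 1000000 in
theorem cls_hclo_6074 : allC (cloChk dD dC dE dCl) 6074 91 = true := by decide +kernel

set_option maxRecDepth 1000000 in
theorem cls_hclo_6075 : allC (cloChk dD dC dE dCl) 6075 91 = true := by decide +kernel

set_option maxRecDepth 1000000 in
theorem cls_hclo_6076 : allC (cloChk dD dC dE dCl) 6076 91 = true := by decide +kernel

set_option maxRecDepth 1000000 in
theorem cls_hclo_6077 : allC (cloChk dD dC dE dCl) 6077 91 = true := by decide +kernel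

set_option maxRecDepth 1000000 in
theorem cls_hclo_6078 : allC (cloChk dD dC dE dCl) 6078 91 = true := by decide +kernel

set_option maxRecDepth 1000000 in
theorem cls_hclo_6079 : allC (cloChk dD dC dE dCl) 6079 91 = true := by decide +kernel

set_option maxRecDepth 1000000 in
theorem cls_hclo_6080 : allC (cloChk dD dC dE dCl) 6080 91 = true := by decide +kernel

set_option maxRecDepth 1000000 in
theorem cls_hclo_6081 : allC (cloChk dD dC dE dCl) 6081 91 = true := by decide +kernel

set_option maxRecDepth 1000000 in
theorem cls_hclo_6082 : allC (cloChk dD dC dE dCl) 6082 91 = true := by decide +kernel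

set_option maxRecDepth 1000000 in
theorem cls_hclo_6083 : allC (cloChk dD dC dE dCl) 6083 91 = true := by decide +kernel

set_option maxRecDepth 1000000 in
theorem cls_hclo_6084 : allC (cloChk dD dC dE dCl) 6084 91 = true := by decide +kernel

set_option maxRecDepth 1000000 in
theorem cls_hclo_6085 : allC (cloChk dD dC dE dCl) 6085 91 = true := by decide +kernel

set_option maxRecDepth 1000000 in
theorem cls_hclo_6086 : allC (cloChk dD dC dE dCl) 6086 91 = true := by decide +kernel

set_option maxRecDepth 1000000 in
theorem cls_hclo_6087 : allC (cloChk dD dC dE dCl) 6087 91 = true := by decide +kernel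

set_option maxRecDepth 1000000 in
theorem cls_hclo_6088 : allC (cloChk dD dC dE dCl) 6088 91 = true := by decide +kernel

set_option maxRecDepth 1000000 in
theorem cls_hclo_6089 : allC (cloChk dD dC dE dCl) 6089 91 = true := by decide +kernel

set_option maxRecDepth 1000000 in
theorem cls_hclo_6090 : allC (cloChk dD dC dE dCl) 6090 91 = true := by decide +kernel

set_option maxRecDepth 1000000 in
theorem cls_hclo_6091 : allC (cloChk dD dC dE dCl) 6091 91 = true := by decide +kernel

set_option maxRecDepth 1000000 in
theorem cls_hclo_6092 : allC (cloChk dD dC dE dCl) 6092 91 = true := by decide +kernel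

set_option maxRecDepth 1000000 in
theorem cls_hclo_6093 : allC (cloChk dD dC dE dCl) 6093 91 = true := by decide +kernel

set_option maxRecDepth 1000000 in
theorem cls_hclo_6094 : allC (cloChk dD dC dE dCl) 6094 91 = true := by decide +kernel

set_option maxRecDepth 1000000 in
theorem cls_hclo_6095 : allC (cloChk dD dC dE dCl) 6095 91 = true := by decide +kernel

set_option maxRecDepth 1000000 in
theorem cls_hclo_6096 : allC (cloChk dD dC dE dCl) 6096 91 = true := by decide +kernel

set_option maxRecDepth 1000000 in
theorem cls_hclo_6097 : allC (cloChk dD dC dE dCl) 6097 91 = true := by decide +kernel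

set_option maxRecDepth 1000000 in
theorem cls_hclo_6098 : allC (cloChk dD dC dE dCl) 6098 91 = true := by decide +kernel

set_option maxRecDepth 1000000 in
theorem cls_hclo_6099 : allC (cloChk dD dC dE dCl) 6099 91 = true := by decide +kernel

end Cfsg.Agent.Helper9.RuO

end
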