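import Mathlib
import Cfsg.Agent.Helper9.RuO.Data

set_option autoImplicit false

/-! Kernel checks of the certificates, a part. -/

noncomputable section

namespace Cfsg.Agent.Helper9.RuO

open Cfsg.Agent.Helper9.OutG Cfsg.Agent.Helper9.J3

set_option maxRecDepth 1000000 in
theorem cls_hclo_6100 : allC (cloChk dD dC dE dCl) 6100 91 = true := by decide +kernel

set_option maxRecDepth 1000000 in
theorem cls_hclo_6101 : allC (cloChk dD dC dE dCl) 6101 91 = true := by decide +kernel

set_option maxRecDepth 1000000 in
theorem cls_hclo_6102 : allC (cloChk dD dC dE dCl) 6102 91 = true := by decide +kernel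

set_option maxRecDepth 1000000 in
theorem cls_hclo_6103 : allC (cloChk dD dC dE dCl) 6103 91 = true := by decide +kernel

set_option maxRecDepth 1000000 in
theorem cls_hclo_6104 : allC (cloChk dD dC dE dCl) 6104 91 = true := by decide +kernel

set_option maxRecDepth 1000000 in
theorem cls_hclo_6105 : allC (cloChk dD dC dE dCl) 6105 91 = true := by decide +kernel

set_option maxRecDepth 1000000 in
theorem cls_hclo_6106 : allC (cloChk dD dC dE dCl) 6106 91 = true := by decide +kernel

set_option maxRecDepth 1000000 in
theorem cls_hclo_6107 : allC (cloChk dD dC dE dCl) 6107 91 = true := by decide +kernel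

set_option maxRecDepth 1000000 in
theorem cls_hclo_6108 : allC (cloChk dD dC dE dCl) 6108 91 = true := by decide +kernel

set_option maxRecDepth 1000000 in
theorem cls_hclo_6109 : allC (cloChk dD dC dE dCl) 6109 91 = true := by decide +kernel

set_option maxRecDepth 1000000 in
theorem cls_hclo_6110 : allC (cloChk dD dC dE dCl) 6110 91 = true := by decide +kernel

set_option maxRecDepth 1000000 in
theorem cls_hclo_6111 : allC (cloChk dD dC dE dCl) 6111 91 = true := by decide +kernel

set_option maxRecDepth 1000000 in
theorem cls_hclo_6112 : allC (cloChk dD dC dE dCl) 6112 91 = true := by decide +kernel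

set_option maxRecDepth 1000000 in
theorem cls_hclo_6113 : allC (cloChk dD dC dE dCl) 6113 91 = true := by decide +kernel

set_option maxRecDepth 1000000 in
theorem cls_hclo_6114 : allC (cloChk dD dC dE dCl) 6114 91 = true := by decide +kernel

set_option maxRecDepth 1000000 in
theorem cls_hclo_6115 : allC (cloChk dD dC dE dCl) 6115 91 = true := by decide +kernel

set_option maxRecDepth 1000000 in
theorem cls_hclo_6116 : allC (cloChk dD dC dE dCl) 6116 91 = true := by decide +kernel

set_option maxRecDepth 1000000 in
theorem cls_hclo_6117 : allC (cloChk dD dC dE dCl) 6117 91 = true := by decide +kernel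

set_option maxRecDepth 1000000 in
theorem cls_hclo_6118 : allC (cloChk dD dC dE dCl) 6118 91 = true := by decide +kernel

set_option maxRecDepth 1000000 in
theorem cls_hclo_6119 : allC (cloChk dD dC dE dCl) 6119 91 = true := by decide +kernel

set_option maxRecDepth 1000000 in
theorem cls_hclo_6120 : allC (cloChk dD dC dE dCl) 6120 91 = true := by decide +kernel

set_option maxRecDepth 1000000 in
theorem cls_hclo_6121 : allC (cloChk dD dC dE dCl) 6121 91 = true := by decide +kernel

set_option maxRecDepth 1000000 in
theorem cls_hclo_6122 : allC (cloChk dD dC dE dCl) 6122 91 = true := by decide +kernel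

set_option maxRecDepth 1000000 in
theorem cls_hclo_6123 : allC (cloChk dD dC dE dCl) 6123 91 = true := by decide +kernel

set_option maxRecDepth 1000000 in
theorem cls_hclo_6124 : allC (cloChk dD dC dE dCl) 6124 91 = true := by decide +kernel

set_option maxRecDepth 1000000 in
theorem cls_hclo_6125 : allC (cloChk dD dC dE dCl) 6125 91 = true := by decide +kernel

set_option maxRecDepth 1000000 in
theorem cls_hclo_6126 : allC (cloChk dD dC dE dCl) 6126 91 = true := by decide +kernel

set_option maxRecDepth 1000000 in
theorem cls_hclo_6127 : allC (cloChk dD dC dE dCl) 6127 91 = true := by decide +kernel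

set_option maxRecDepth 1000000 in
theorem cls_hclo_6128 : allC (cloChk dD dC dE dCl) 6128 91 = true := by decide +kernel

set_option maxRecDepth 1000000 in
theorem cls_hclo_6129 : allC (cloChk dD dC dE dCl) 6129 91 = true := by decide +kernel

set_option maxRecDepth 1000000 in
theorem cls_hclo_6130 : allC (cloChk dD dC dE dCl) 6130 91 = true := by decide +kernel

set_option maxRecDepth 1000000 in
theorem cls_hclo_6131 : allC (cloChk dD dC dE dCl) 6131 91 = true := by decide +kernel

set_option maxRecDepth 1000000 in
theorem cls_hclo_6132 : allC (cloChk dD dC dE dCl) 6132 91 = true := by decide +kernel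

set_option maxRecDepth 1000000 in
theorem cls_hclo_6133 : allC (cloChk dD dC dE dCl) 6133 91 = true := by decide +kernel

set_option maxRecDepth 1000000 in
theorem cls_hclo_6134 : allC (cloChk dD dC dE dCl) 6134 91 = true := by decide +kernel

set_option maxRecDepth 1000000 in
theorem cls_hclo_6135 : allC (cloChk dD dC dE dCl) 6135 91 = true := by decide +kernel

set_option maxRecDepth 1000000 in
theorem cls_hclo_6136 : allC (cloChk dD dC dE dCl) 6136 91 = true := by decide +kernel

set_option maxRecDepth 1000000 in
theorem cls_hclo_6137 : allC (cloChk dD dC dE dCl) 6137 91 = true := by decide +kernel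

set_option maxRecDepth 1000000 in
theorem cls_hclo_6138 : allC (cloChk dD dC dE dCl) 6138 91 = true := by decide +kernel

set_option maxRecDepth 1000000 in
theorem cls_hclo_6139 : allC (cloChk dD dC dE dCl) 6139 91 = true := by decide +kernel

set_option maxRecDepth 1000000 in
theorem cls_hclo_6140 : allC (cloChk dD dC dE dCl) 6140 91 = true := by decide +kernel

set_option maxRecDepth 1000000 in
theorem cls_hclo_6141 : allC (cloChk dD dC dE dCl) 6141 91 = true := by decide +kernel

set_option maxRecDepth 1000000 in
theorem cls_hclo_6142 : allC (cloChk dD dC dE dCl) 6142 91 = true := by decide +kernel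

set_option maxRecDepth 1000000 in
theorem cls_hclo_6143 : allC (cloChk dD dC dE dCl) 6143 91 = true := by decide +kernel

set_option maxRecDepth 1000000 in
theorem cls_hclo_6144 : allC (cloChk dD dC dE dCl) 6144 91 = true := by decide +kernel

set_option maxRecDepth 1000000 in
theorem cls_hclo_6145 : allC (cloChk dD dC dE dCl) 6145 91 = true := by decide +kernel

set_option maxRecDepth 1000000 in
theorem cls_hclo_6146 : allC (cloChk dD dC dE dCl) 6146 91 = true := by decide +kernel

set_option maxRecDepth 1000000 in
theorem cls_hclo_6147 : allC (cloChk dD dC dE dCl) 6147 91 = true := by decide +kernel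

set_option maxRecDepth 1000000 in
theorem cls_hclo_6148 : allC (cloChk dD dC dE dCl) 6148 91 = true := by decide +kernel

set_option maxRecDepth 1000000 in
theorem cls_hclo_6149 : allC (cloChk dD dC dE dCl) 6149 91 = true := by decide +kernel

set_option maxRecDepth 1000000 in
theorem cls_hclo_6150 : allC (cloChk dD dC dE dCl) 6150 91 = true := by decide +kernel

set_option maxRecDepth 1000000 in
theorem cls_hclo_6151 : allC (cloChk dD dC dE dCl) 6151 91 = true := by decide +kernel

set_option maxRecDepth 1000000 in
theorem cls_hclo_6152 : allC (cloChk dD dC dE dCl) 6152 91 = true := by decide +kernel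

set_option maxRecDepth 1000000 in
theorem cls_hclo_6153 : allC (cloChk dD dC dE dCl) 6153 91 = true := by decide +kernel

set_option maxRecDepth 1000000 in
theorem cls_hclo_6154 : allC (cloChk dD dC dE dCl) 6154 91 = true := by decide +kernel

set_option maxRecDepth 1000000 in
theorem cls_hclo_6155 : allC (cloChk dD dC dE dCl) 6155 91 = true := by decide +kernel

set_option maxRecDepth 1000000 in
theorem cls_hclo_6156 : allC (cloChk dD dC dE dCl) 6156 91 = true := by decide +kernel

set_option maxRecDepth 1000000 in
theorem cls_hclo_6157 : allC (cloChk dD dC dE dCl) 6157 91 = true := by decide +kernel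

set_option maxRecDepth 1000000 in
theorem cls_hclo_6158 : allC (cloChk dD dC dE dCl) 6158 91 = true := by decide +kernel

set_option maxRecDepth 1000000 in
theorem cls_hclo_6159 : allC (cloChk dD dC dE dCl) 6159 91 = true := by decide +kernel

set_option maxRecDepth 1000000 in
theorem cls_hclo_6160 : allC (cloChk dD dC dE dCl) 6160 91 = true := by decide +kernel

set_option maxRecDepth 1000000 in
theorem cls_hclo_6161 : allC (cloChk dD dC dE dCl) 6161 91 = true := by decide +kernel

set_option maxRecDepth 1000000 in
theorem cls_hclo_6162 : allC (cloChk dD dC dE dCl) 6162 91 = true := by decide +kernel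

set_option maxRecDepth 1000000 in
theorem cls_hclo_6163 : allC (cloChk dD dC dE dCl) 6163 91 = true := by decide +kernel

set_option maxRecDepth 1000000 in
theorem cls_hclo_6164 : allC (cloChk dD dC dE dCl) 6164 91 = true := by decide +kernel

set_option maxRecDepth 1000000 in
theorem cls_hclo_6165 : allC (cloChk dD dC dE dCl) 6165 91 = true := by decide +kernel

set_option maxRecDepth 1000000 in
theorem cls_hclo_6166 : allC (cloChk dD dC dE dCl) 6166 91 = true := by decide +kernel

set_option maxRecDepth 1000000 in
theorem cls_hclo_6167 : allC (cloChk dD dC dE dCl) 6167 91 = true := by decide +kernel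

set_option maxRecDepth 1000000 in
theorem cls_hclo_6168 : allC (cloChk dD dC dE dCl) 6168 91 = true := by decide +kernel

set_option maxRecDepth 1000000 in
theorem cls_hclo_6169 : allC (cloChk dD dC dE dCl) 6169 91 = true := by decide +kernel

set_option maxRecDepth 1000000 in
theorem cls_hclo_6170 : allC (cloChk dD dC dE dCl) 6170 91 = true := by decide +kernel

set_option maxRecDepth 1000000 in
theorem cls_hclo_6171 : allC (cloChk dD dC dE dCl) 6171 91 = true := by decide +kernel

set_option maxRecDepth 1000000 in
theorem cls_hclo_6172 : allC (cloChk dD dC dE dCl) 6172 91 = true := by decide +kernel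

set_option maxRecDepth 1000000 in
theorem cls_hclo_6173 : allC (cloChk dD dC dE dCl) 6173 91 = true := by decide +kernel

set_option maxRecDepth 1000000 in
theorem cls_hclo_6174 : allC (cloChk dD dC dE dCl) 6174 91 = true := by decide +kernel

set_option maxRecDepth 1000000 in
theorem cls_hclo_6175 : allC (cloChk dD dC dE dCl) 6175 91 = true := by decide +kernel

set_option maxRecDepth 1000000 in
theorem cls_hclo_6176 : allC (cloChk dD dC dE dCl) 6176 91 = true := by decide +kernel

set_option maxRecDepth 1000000 in
theorem cls_hclo_6177 : allC (cloChk dD dC dE dCl) 6177 91 = true := by decide +kernel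

set_option maxRecDepth 1000000 in
theorem cls_hclo_6178 : allC (cloChk dD dC dE dCl) 6178 91 = true := by decide +kernel

set_option maxRecDepth 1000000 in
theorem cls_hclo_6179 : allC (cloChk dD dC dE dCl) 6179 91 = true := by decide +kernel

set_option maxRecDepth 1000000 in
theorem cls_hclo_6180 : allC (cloChk dD dC dE dCl) 6180 91 = true := by decide +kernel

set_option maxRecDepth 1000000 in
theorem cls_hclo_6181 : allC (cloChk dD dC dE dCl) 6181 91 = true := by decide +kernel

set_option maxRecDepth 1000000 in
theorem cls_hclo_6182 : allC (cloChk dD dC dE dCl) 6182 91 = true := by decide +kernel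

set_option maxRecDepth 1000000 in
theorem cls_hclo_6183 : allC (cloChk dD dC dE dCl) 6183 91 = true := by decide +kernel

set_option maxRecDepth 1000000 in
theorem cls_hclo_6184 : allC (cloChk dD dC dE dCl) 6184 91 = true := by decide +kernel

set_option maxRecDepth 1000000 in
theorem cls_hclo_6185 : allC (cloChk dD dC dE dCl) 6185 91 = true := by decide +kernel

set_option maxRecDepth 1000000 in
theorem cls_hclo_6186 : allC (cloChk dD dC dE dCl) 6186 91 = true := by decide +kernel

set_option maxRecDepth 1000000 in
theorem cls_hclo_6187 : allC (cloChk dD dC dE dCl) 6187 91 = true := by decide +kernel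

set_option maxRecDepth 1000000 in
theorem cls_hclo_6188 : allC (cloChk dD dC dE dCl) 6188 91 = true := by decide +kernel

set_option maxRecDepth 1000000 in
theorem cls_hclo_6189 : allC (cloChk dD dC dE dCl) 6189 91 = true := by decide +kernel

set_option maxRecDepth 1000000 in
theorem cls_hclo_6190 : allC (cloChk dD dC dE dCl) 6190 91 = true := by decide +kernel

set_option maxRecDepth 1000000 in
theorem cls_hclo_6191 : allC (cloChk dD dC dE dCl) 6191 91 = true := by decide +kernel

set_option maxRecDepth 1000000 in
theorem cls_hclo_6192 : allC (cloChk dD dC dE dCl) 6192 91 = true := by decide +kernel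

set_option maxRecDepth 1000000 in
theorem cls_hclo_6193 : allC (cloChk dD dC dE dCl) 6193 91 = true := by decide +kernel

set_option maxRecDepth 1000000 in
theorem cls_hclo_6194 : allC (cloChk dD dC dE dCl) 6194 91 = true := by decide +kernel

set_option maxRecDepth 1000000 in
theorem cls_hclo_6195 : allC (cloChk dD dC dE dCl) 6195 91 = true := by decide +kernel

set_option maxRecDepth 1000000 in
theorem cls_hclo_6196 : allC (cloChk dD dC dE dCl) 6196 91 = true := by decide +kernel

set_option maxRecDepth 1000000 in
theorem cls_hclo_6197 : allC (cloChk dD dC dE dCl) 6197 91 = true := by decide +kernel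

set_option maxRecDepth 1000000 in
theorem cls_hclo_6198 : allC (cloChk dD dC dE dCl) 6198 91 = true := by decide +kernel

set_option maxRecDepth 1000000 in
theorem cls_hclo_6199 : allC (cloChk dD dC dE dCl) 6199 91 = true := by decide +kernel

end Cfsg.Agent.Helper9.RuO

end
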