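import Mathlib
import Cfsg.Agent.Helper9.RuO.Data

set_option autoImplicit false

/-! Kernel checks of the certificates, a part. -/

noncomputable section

namespace Cfsg.Agent.Helper9.RuO

open Cfsg.Agent.Helper9.OutG Cfsg.Agent.Helper9.J3

set_option maxRecDepth 1000000 in
theorem cls_hclo_6200 : allC (cloChk dD dC dE dCl) 6200 91 = true := by decide +kernel

set_option maxRecDepth 1000000 in
theorem cls_hclo_6201 : allC (cloChk dD dC dE dCl) 6201 91 = true := by decide +kernel

set_option maxRecDepth 1000000 in
theorem cls_hclo_6202 : allC (cloChk dD dC dE dCl) 6202 91 = true := by decide +kernel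

set_option maxRecDepth 1000000 in
theorem cls_hclo_6203 : allC (cloChk dD dC dE dCl) 6203 91 = true := by decide +kernel

set_option maxRecDepth 1000000 in
theorem cls_hclo_6204 : allC (cloChk dD dC dE dCl) 6204 91 = true := by decide +kernel

set_option maxRecDepth 1000000 in
theorem cls_hclo_6205 : allC (cloChk dD dC dE dCl) 6205 91 = true := by decide +kernel

set_option maxRecDepth 1000000 in
theorem cls_hclo_6206 : allC (cloChk dD dC dE dCl) 6206 91 = true := by decide +kernel

set_option maxRecDepth 1000000 in
theorem cls_hclo_6207 : allC (cloChk dD dC dE dCl) 6207 91 = true := by decide +kernel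

set_option maxRecDepth 1000000 in
theorem cls_hclo_6208 : allC (cloChk dD dC dE dCl) 6208 91 = true := by decide +kernel

set_option maxRecDepth 1000000 in
theorem cls_hclo_6209 : allC (cloChk dD dC dE dCl) 6209 91 = true := by decide +kernel

set_option maxRecDepth 1000000 in
theorem cls_hclo_6210 : allC (cloChk dD dC dE dCl) 6210 91 = true := by decide +kernel

set_option maxRecDepth 1000000 in
theorem cls_hclo_6211 : allC (cloChk dD dC dE dCl) 6211 91 = true := by decide +kernel

set_option maxRecDepth 1000000 in
theorem cls_hclo_6212 : allC (cloChk dD dC dE dCl) 6212 91 = true := by decide +kernel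

set_option maxRecDepth 1000000 in
theorem cls_hclo_6213 : allC (cloChk dD dC dE dCl) 6213 91 = true := by decide +kernel

set_option maxRecDepth 1000000 in
theorem cls_hclo_6214 : allC (cloChk dD dC dE dCl) 6214 91 = true := by decide +kernel

set_option maxRecDepth 1000000 in
theorem cls_hclo_6215 : allC (cloChk dD dC dE dCl) 6215 91 = true := by decide +kernel

set_option maxRecDepth 1000000 in
theorem cls_hclo_6216 : allC (cloChk dD dC dE dCl) 6216 91 = true := by decide +kernel

set_option maxRecDepth 1000000 in
theorem cls_hclo_6217 : allC (cloChk dD dC dE dCl) 6217 91 = true := by decide +kernel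

set_option maxRecDepth 1000000 in
theorem cls_hclo_6218 : allC (cloChk dD dC dE dCl) 6218 91 = true := by decide +kernel

set_option maxRecDepth 1000000 in
theorem cls_hclo_6219 : allC (cloChk dD dC dE dCl) 6219 91 = true := by decide +kernel

set_option maxRecDepth 1000000 in
theorem cls_hclo_6220 : allC (cloChk dD dC dE dCl) 6220 91 = true := by decide +kernel

set_option maxRecDepth 1000000 in
theorem cls_hclo_6221 : allC (cloChk dD dC dE dCl) 6221 91 = true := by decide +kernel

set_option maxRecDepth 1000000 in
theorem cls_hclo_6222 : allC (cloChk dD dC dE dCl) 6222 91 = true := by decide +kernel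

set_option maxRecDepth 1000000 in
theorem cls_hclo_6223 : allC (cloChk dD dC dE dCl) 6223 91 = true := by decide +kernel

set_option maxRecDepth 1000000 in
theorem cls_hclo_6224 : allC (cloChk dD dC dE dCl) 6224 91 = true := by decide +kernel

set_option maxRecDepth 1000000 in
theorem cls_hclo_6225 : allC (cloChk dD dC dE dCl) 6225 91 = true := by decide +kernel

set_option maxRecDepth 1000000 in
theorem cls_hclo_6226 : allC (cloChk dD dC dE dCl) 6226 91 = true := by decide +kernel

set_option maxRecDepth 1000000 in
theorem cls_hclo_6227 : allC (cloChk dD dC dE dCl) 6227 91 = true := by decide +kernel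

set_option maxRecDepth 1000000 in
theorem cls_hclo_6228 : allC (cloChk dD dC dE dCl) 6228 91 = true := by decide +kernel

set_option maxRecDepth 1000000 in
theorem cls_hclo_6229 : allC (cloChk dD dC dE dCl) 6229 91 = true := by decide +kernel

set_option maxRecDepth 1000000 in
theorem cls_hclo_6230 : allC (cloChk dD dC dE dCl) 6230 91 = true := by decide +kernel

set_option maxRecDepth 1000000 in
theorem cls_hclo_6231 : allC (cloChk dD dC dE dCl) 6231 91 = true := by decide +kernel

set_option maxRecDepth 1000000 in
theorem cls_hclo_6232 : allC (cloChk dD dC dE dCl) 6232 91 = true := by decide +kernel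

set_option maxRecDepth 1000000 in
theorem cls_hclo_6233 : allC (cloChk dD dC dE dCl) 6233 91 = true := by decide +kernel

set_option maxRecDepth 1000000 in
theorem cls_hclo_6234 : allC (cloChk dD dC dE dCl) 6234 91 = true := by decide +kernel

set_option maxRecDepth 1000000 in
theorem cls_hclo_6235 : allC (cloChk dD dC dE dCl) 6235 91 = true := by decide +kernel

set_option maxRecDepth 1000000 in
theorem cls_hclo_6236 : allC (cloChk dD dC dE dCl) 6236 91 = true := by decide +kernel

set_option maxRecDepth 1000000 in
theorem cls_hclo_6237 : allC (cloChk dD dC dE dCl) 6237 91 = true := by decide +kernel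

set_option maxRecDepth 1000000 in
theorem cls_hclo_6238 : allC (cloChk dD dC dE dCl) 6238 91 = true := by decide +kernel

set_option maxRecDepth 1000000 in
theorem cls_hclo_6239 : allC (cloChk dD dC dE dCl) 6239 91 = true := by decide +kernel

set_option maxRecDepth 1000000 in
theorem cls_hclo_6240 : allC (cloChk dD dC dE dCl) 6240 91 = true := by decide +kernel

set_option maxRecDepth 1000000 in
theorem cls_hclo_6241 : allC (cloChk dD dC dE dCl) 6241 91 = true := by decide +kernel

set_option maxRecDepth 1000000 in
theorem cls_hclo_6242 : allC (cloChk dD dC dE dCl) 6242 91 = true := by decide +kernel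

set_option maxRecDepth 1000000 in
theorem cls_hclo_6243 : allC (cloChk dD dC dE dCl) 6243 91 = true := by decide +kernel

set_option maxRecDepth 1000000 in
theorem cls_hclo_6244 : allC (cloChk dD dC dE dCl) 6244 91 = true := by decide +kernel

set_option maxRecDepth 1000000 in
theorem cls_hclo_6245 : allC (cloChk dD dC dE dCl) 6245 91 = true := by decide +kernel

set_option maxRecDepth 1000000 in
theorem cls_hclo_6246 : allC (cloChk dD dC dE dCl) 6246 91 = true := by decide +kernel

set_option maxRecDepth 1000000 in
theorem cls_hclo_6247 : allC (cloChk dD dC dE dCl) 6247 91 = true := by decide +kernel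

set_option maxRecDepth 1000000 in
theorem cls_hclo_6248 : allC (cloChk dD dC dE dCl) 6248 91 = true := by decide +kernel

set_option maxRecDepth 1000000 in
theorem cls_hclo_6249 : allC (cloChk dD dC dE dCl) 6249 91 = true := by decide +kernel

set_option maxRecDepth 1000000 in
theorem cls_hclo_6250 : allC (cloChk dD dC dE dCl) 6250 91 = true := by decide +kernel

set_option maxRecDepth 1000000 in
theorem cls_hclo_6251 : allC (cloChk dD dC dE dCl) 6251 91 = true := by decide +kernel

set_option maxRecDepth 1000000 in
theorem cls_hclo_6252 : allC (cloChk dD dC dE dCl) 6252 91 = true := by decide +kernel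

set_option maxRecDepth 1000000 in
theorem cls_hclo_6253 : allC (cloChk dD dC dE dCl) 6253 91 = true := by decide +kernel

set_option maxRecDepth 1000000 in
theorem cls_hclo_6254 : allC (cloChk dD dC dE dCl) 6254 91 = true := by decide +kernel

set_option maxRecDepth 1000000 in
theorem cls_hclo_6255 : allC (cloChk dD dC dE dCl) 6255 91 = true := by decide +kernel

set_option maxRecDepth 1000000 in
theorem cls_hclo_6256 : allC (cloChk dD dC dE dCl) 6256 91 = true := by decide +kernel

set_option maxRecDepth 1000000 in
theorem cls_hclo_6257 : allC (cloChk dD dC dE dCl) 6257 91 = true := by decide +kernel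

set_option maxRecDepth 1000000 in
theorem cls_hclo_6258 : allC (cloChk dD dC dE dCl) 6258 91 = true := by decide +kernel

set_option maxRecDepth 1000000 in
theorem cls_hclo_6259 : allC (cloChk dD dC dE dCl) 6259 91 = true := by decide +kernel

set_option maxRecDepth 1000000 in
theorem cls_hclo_6260 : allC (cloChk dD dC dE dCl) 6260 91 = true := by decide +kernel

set_option maxRecDepth 1000000 in
theorem cls_hclo_6261 : allC (cloChk dD dC dE dCl) 6261 91 = true := by decide +kernel

set_option maxRecDepth 1000000 in
theorem cls_hclo_6262 : allC (cloChk dD dC dE dCl) 6262 91 = true := by decide +kernel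

set_option maxRecDepth 1000000 in
theorem cls_hclo_6263 : allC (cloChk dD dC dE dCl) 6263 91 = true := by decide +kernel

set_option maxRecDepth 1000000 in
theorem cls_hclo_6264 : allC (cloChk dD dC dE dCl) 6264 91 = true := by decide +kernel

set_option maxRecDepth 1000000 in
theorem cls_hclo_6265 : allC (cloChk dD dC dE dCl) 6265 91 = true := by decide +kernel

set_option maxRecDepth 1000000 in
theorem cls_hclo_6266 : allC (cloChk dD dC dE dCl) 6266 91 = true := by decide +kernel

set_option maxRecDepth 1000000 in
theorem cls_hclo_6267 : allC (cloChk dD dC dE dCl) 6267 91 = true := by decide +kernel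

set_option maxRecDepth 1000000 in
theorem cls_hclo_6268 : allC (cloChk dD dC dE dCl) 6268 91 = true := by decide +kernel

set_option maxRecDepth 1000000 in
theorem cls_hclo_6269 : allC (cloChk dD dC dE dCl) 6269 91 = true := by decide +kernel

set_option maxRecDepth 1000000 in
theorem cls_hclo_6270 : allC (cloChk dD dC dE dCl) 6270 91 = true := by decide +kernel

set_option maxRecDepth 1000000 in
theorem cls_hclo_6271 : allC (cloChk dD dC dE dCl) 6271 91 = true := by decide +kernel

set_option maxRecDepth 1000000 in
theorem cls_hclo_6272 : allC (cloChk dD dC dE dCl) 6272 91 = true := by decide +kernel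

set_option maxRecDepth 1000000 in
theorem cls_hclo_6273 : allC (cloChk dD dC dE dCl) 6273 91 = true := by decide +kernel

set_option maxRecDepth 1000000 in
theorem cls_hclo_6274 : allC (cloChk dD dC dE dCl) 6274 91 = true := by decide +kernel

set_option maxRecDepth 1000000 in
theorem cls_hclo_6275 : allC (cloChk dD dC dE dCl) 6275 91 = true := by decide +kernel

set_option maxRecDepth 1000000 in
theorem cls_hclo_6276 : allC (cloChk dD dC dE dCl) 6276 91 = true := by decide +kernel

set_option maxRecDepth 1000000 in
theorem cls_hclo_6277 : allC (cloChk dD dC dE dCl) 6277 91 = true := by decide +kernel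

set_option maxRecDepth 1000000 in
theorem cls_hclo_6278 : allC (cloChk dD dC dE dCl) 6278 91 = true := by decide +kernel

set_option maxRecDepth 1000000 in
theorem cls_hclo_6279 : allC (cloChk dD dC dE dCl) 6279 91 = true := by decide +kernel

set_option maxRecDepth 1000000 in
theorem cls_hclo_6280 : allC (cloChk dD dC dE dCl) 6280 91 = true := by decide +kernel

set_option maxRecDepth 1000000 in
theorem cls_hclo_6281 : allC (cloChk dD dC dE dCl) 6281 91 = true := by decide +kernel

set_option maxRecDepth 1000000 in
theorem cls_hclo_6282 : allC (cloChk dD dC dE dCl) 6282 91 = true := by decide +kernel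

set_option maxRecDepth 1000000 in
theorem cls_hclo_6283 : allC (cloChk dD dC dE dCl) 6283 91 = true := by decide +kernel

set_option maxRecDepth 1000000 in
theorem cls_hclo_6284 : allC (cloChk dD dC dE dCl) 6284 91 = true := by decide +kernel

set_option maxRecDepth 1000000 in
theorem cls_hclo_6285 : allC (cloChk dD dC dE dCl) 6285 91 = true := by decide +kernel

set_option maxRecDepth 1000000 in
theorem cls_hclo_6286 : allC (cloChk dD dC dE dCl) 6286 91 = true := by decide +kernel

set_option maxRecDepth 1000000 in
theorem cls_hclo_6287 : allC (cloChk dD dC dE dCl) 6287 91 = true := by decide +kernel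

set_option maxRecDepth 1000000 in
theorem cls_hclo_6288 : allC (cloChk dD dC dE dCl) 6288 91 = true := by decide +kernel

set_option maxRecDepth 1000000 in
theorem cls_hclo_6289 : allC (cloChk dD dC dE dCl) 6289 91 = true := by decide +kernel

set_option maxRecDepth 1000000 in
theorem cls_hclo_6290 : allC (cloChk dD dC dE dCl) 6290 91 = true := by decide +kernel

set_option maxRecDepth 1000000 in
theorem cls_hclo_6291 : allC (cloChk dD dC dE dCl) 6291 91 = true := by decide +kernel

set_option maxRecDepth 1000000 in
theorem cls_hclo_6292 : allC (cloChk dD dC dE dCl) 6292 91 = true := by decide +kernel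

set_option maxRecDepth 1000000 in
theorem cls_hclo_6293 : allC (cloChk dD dC dE dCl) 6293 91 = true := by decide +kernel

set_option maxRecDepth 1000000 in
theorem cls_hclo_6294 : allC (cloChk dD dC dE dCl) 6294 91 = true := by decide +kernel

set_option maxRecDepth 1000000 in
theorem cls_hclo_6295 : allC (cloChk dD dC dE dCl) 6295 91 = true := by decide +kernel

set_option maxRecDepth 1000000 in
theorem cls_hclo_6296 : allC (cloChk dD dC dE dCl) 6296 91 = true := by decide +kernel

set_option maxRecDepth 1000000 in
theorem cls_hclo_6297 : allC (cloChk dD dC dE dCl) 6297 91 = true := by decide +kernel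

set_option maxRecDepth 1000000 in
theorem cls_hclo_6298 : allC (cloChk dD dC dE dCl) 6298 91 = true := by decide +kernel

set_option maxRecDepth 1000000 in
theorem cls_hclo_6299 : allC (cloChk dD dC dE dCl) 6299 91 = true := by decide +kernel

end Cfsg.Agent.Helper9.RuO

end
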