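import Mathlib
import Cfsg.Agent.Helper9.RuO.Data

set_option autoImplicit false

/-! Kernel checks of the certificates, a part. -/

noncomputable section

namespace Cfsg.Agent.Helper9.RuO

open Cfsg.Agent.Helper9.OutG Cfsg.Agent.Helper9.J3

set_option maxRecDepth 1000000 in
theorem cls_hclo_6300 : allC (cloChk dD dC dE dCl) 6300 91 = true := by decide +kernel

set_option maxRecDepth 1000000 in
theorem cls_hclo_6301 : allC (cloChk dD dC dE dCl) 6301 91 = true := by decide +kernel

set_option maxRecDepth 1000000 in
theorem cls_hclo_6302 : allC (cloChk dD dC dE dCl) 6302 91 = true := by decide +kernel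

set_option maxRecDepth 1000000 in
theorem cls_hclo_6303 : allC (cloChk dD dC dE dCl) 6303 91 = true := by decide +kernel

set_option maxRecDepth 1000000 in
theorem cls_hclo_6304 : allC (cloChk dD dC dE dCl) 6304 91 = true := by decide +kernel

set_option maxRecDepth 1000000 in
theorem cls_hclo_6305 : allC (cloChk dD dC dE dCl) 6305 91 = true := by decide +kernel

set_option maxRecDepth 1000000 in
theorem cls_hclo_6306 : allC (cloChk dD dC dE dCl) 6306 91 = true := by decide +kernel

set_option maxRecDepth 1000000 in
theorem cls_hclo_6307 : allC (cloChk dD dC dE dCl) 6307 91 = true := by decide +kernel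

set_option maxRecDepth 1000000 in
theorem cls_hclo_6308 : allC (cloChk dD dC dE dCl) 6308 91 = true := by decide +kernel

set_option maxRecDepth 1000000 in
theorem cls_hclo_6309 : allC (cloChk dD dC dE dCl) 6309 91 = true := by decide +kernel

set_option maxRecDepth 1000000 in
theorem cls_hclo_6310 : allC (cloChk dD dC dE dCl) 6310 91 = true := by decide +kernel

set_option maxRecDepth 1000000 in
theorem cls_hclo_6311 : allC (cloChk dD dC dE dCl) 6311 91 = true := by decide +kernel

set_option maxRecDepth 1000000 in
theorem cls_hclo_6312 : allC (cloChk dD dC dE dCl) 6312 91 = true := by decide +kernel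

set_option maxRecDepth 1000000 in
theorem cls_hclo_6313 : allC (cloChk dD dC dE dCl) 6313 91 = true := by decide +kernel

set_option maxRecDepth 1000000 in
theorem cls_hclo_6314 : allC (cloChk dD dC dE dCl) 6314 91 = true := by decide +kernel

set_option maxRecDepth 1000000 in
theorem cls_hclo_6315 : allC (cloChk dD dC dE dCl) 6315 91 = true := by decide +kernel

set_option maxRecDepth 1000000 in
theorem cls_hclo_6316 : allC (cloChk dD dC dE dCl) 6316 91 = true := by decide +kernel

set_option maxRecDepth 1000000 in
theorem cls_hclo_6317 : allC (cloChk dD dC dE dCl) 6317 91 = true := by decide +kernel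

set_option maxRecDepth 1000000 in
theorem cls_hclo_6318 : allC (cloChk dD dC dE dCl) 6318 91 = true := by decide +kernel

set_option maxRecDepth 1000000 in
theorem cls_hclo_6319 : allC (cloChk dD dC dE dCl) 6319 91 = true := by decide +kernel

set_option maxRecDepth 1000000 in
theorem cls_hclo_6320 : allC (cloChk dD dC dE dCl) 6320 91 = true := by decide +kernel

set_option maxRecDepth 1000000 in
theorem cls_hclo_6321 : allC (cloChk dD dC dE dCl) 6321 91 = true := by decide +kernel

set_option maxRecDepth 1000000 in
theorem cls_hclo_6322 : allC (cloChk dD dC dE dCl) 6322 91 = true := by decide +kernel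

set_option maxRecDepth 1000000 in
theorem cls_hclo_6323 : allC (cloChk dD dC dE dCl) 6323 91 = true := by decide +kernel

set_option maxRecDepth 1000000 in
theorem cls_hclo_6324 : allC (cloChk dD dC dE dCl) 6324 91 = true := by decide +kernel

set_option maxRecDepth 1000000 in
theorem cls_hclo_6325 : allC (cloChk dD dC dE dCl) 6325 91 = true := by decide +kernel

set_option maxRecDepth 1000000 in
theorem cls_hclo_6326 : allC (cloChk dD dC dE dCl) 6326 91 = true := by decide +kernel

set_option maxRecDepth 1000000 in
theorem cls_hclo_6327 : allC (cloChk dD dC dE dCl) 6327 91 = true := by decide +kernel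

set_option maxRecDepth 1000000 in
theorem cls_hclo_6328 : allC (cloChk dD dC dE dCl) 6328 91 = true := by decide +kernel

set_option maxRecDepth 1000000 in
theorem cls_hclo_6329 : allC (cloChk dD dC dE dCl) 6329 91 = true := by decide +kernel

set_option maxRecDepth 1000000 in
theorem cls_hclo_6330 : allC (cloChk dD dC dE dCl) 6330 91 = true := by decide +kernel

set_option maxRecDepth 1000000 in
theorem cls_hclo_6331 : allC (cloChk dD dC dE dCl) 6331 91 = true := by decide +kernel

set_option maxRecDepth 1000000 in
theorem cls_hclo_6332 : allC (cloChk dD dC dE dCl) 6332 91 = true := by decide +kernel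

set_option maxRecDepth 1000000 in
theorem cls_hclo_6333 : allC (cloChk dD dC dE dCl) 6333 91 = true := by decide +kernel

set_option maxRecDepth 1000000 in
theorem cls_hclo_6334 : allC (cloChk dD dC dE dCl) 6334 91 = true := by decide +kernel

set_option maxRecDepth 1000000 in
theorem cls_hclo_6335 : allC (cloChk dD dC dE dCl) 6335 91 = true := by decide +kernel

set_option maxRecDepth 1000000 in
theorem cls_hclo_6336 : allC (cloChk dD dC dE dCl) 6336 91 = true := by decide +kernel

set_option maxRecDepth 1000000 in
theorem cls_hclo_6337 : allC (cloChk dD dC dE dCl) 6337 91 = true := by decide +kernel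

set_option maxRecDepth 1000000 in
theorem cls_hclo_6338 : allC (cloChk dD dC dE dCl) 6338 91 = true := by decide +kernel

set_option maxRecDepth 1000000 in
theorem cls_hclo_6339 : allC (cloChk dD dC dE dCl) 6339 91 = true := by decide +kernel

set_option maxRecDepth 1000000 in
theorem cls_hclo_6340 : allC (cloChk dD dC dE dCl) 6340 91 = true := by decide +kernel

set_option maxRecDepth 1000000 in
theorem cls_hclo_6341 : allC (cloChk dD dC dE dCl) 6341 91 = true := by decide +kernel

set_option maxRecDepth 1000000 in
theorem cls_hclo_6342 : allC (cloChk dD dC dE dCl) 6342 91 = true := by decide +kernel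

set_option maxRecDepth 1000000 in
theorem cls_hclo_6343 : allC (cloChk dD dC dE dCl) 6343 91 = true := by decide +kernel

set_option maxRecDepth 1000000 in
theorem cls_hclo_6344 : allC (cloChk dD dC dE dCl) 6344 91 = true := by decide +kernel

set_option maxRecDepth 1000000 in
theorem cls_hclo_6345 : allC (cloChk dD dC dE dCl) 6345 91 = true := by decide +kernel

set_option maxRecDepth 1000000 in
theorem cls_hclo_6346 : allC (cloChk dD dC dE dCl) 6346 91 = true := by decide +kernel

set_option maxRecDepth 1000000 in
theorem cls_hclo_6347 : allC (cloChk dD dC dE dCl) 6347 91 = true := by decide +kernel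

set_option maxRecDepth 1000000 in
theorem cls_hclo_6348 : allC (cloChk dD dC dE dCl) 6348 91 = true := by decide +kernel

set_option maxRecDepth 1000000 in
theorem cls_hclo_6349 : allC (cloChk dD dC dE dCl) 6349 91 = true := by decide +kernel

set_option maxRecDepth 1000000 in
theorem cls_hclo_6350 : allC (cloChk dD dC dE dCl) 6350 91 = true := by decide +kernel

set_option maxRecDepth 1000000 in
theorem cls_hclo_6351 : allC (cloChk dD dC dE dCl) 6351 91 = true := by decide +kernel

set_option maxRecDepth 1000000 in
theorem cls_hclo_6352 : allC (cloChk dD dC dE dCl) 6352 91 = true := by decide +kernel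

set_option maxRecDepth 1000000 in
theorem cls_hclo_6353 : allC (cloChk dD dC dE dCl) 6353 91 = true := by decide +kernel

set_option maxRecDepth 1000000 in
theorem cls_hclo_6354 : allC (cloChk dD dC dE dCl) 6354 91 = true := by decide +kernel

set_option maxRecDepth 1000000 in
theorem cls_hclo_6355 : allC (cloChk dD dC dE dCl) 6355 91 = true := by decide +kernel

set_option maxRecDepth 1000000 in
theorem cls_hclo_6356 : allC (cloChk dD dC dE dCl) 6356 91 = true := by decide +kernel

set_option maxRecDepth 1000000 in
theorem cls_hclo_6357 : allC (cloChk dD dC dE dCl) 6357 91 = true := by decide +kernel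

set_option maxRecDepth 1000000 in
theorem cls_hclo_6358 : allC (cloChk dD dC dE dCl) 6358 91 = true := by decide +kernel

set_option maxRecDepth 1000000 in
theorem cls_hclo_6359 : allC (cloChk dD dC dE dCl) 6359 91 = true := by decide +kernel

set_option maxRecDepth 1000000 in
theorem cls_hclo_6360 : allC (cloChk dD dC dE dCl) 6360 91 = true := by decide +kernel

set_option maxRecDepth 1000000 in
theorem cls_hclo_6361 : allC (cloChk dD dC dE dCl) 6361 91 = true := by decide +kernel

set_option maxRecDepth 1000000 in
theorem cls_hclo_6362 : allC (cloChk dD dC dE dCl) 6362 91 = true := by decide +kernel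

set_option maxRecDepth 1000000 in
theorem cls_hclo_6363 : allC (cloChk dD dC dE dCl) 6363 91 = true := by decide +kernel

set_option maxRecDepth 1000000 in
theorem cls_hclo_6364 : allC (cloChk dD dC dE dCl) 6364 91 = true := by decide +kernel

set_option maxRecDepth 1000000 in
theorem cls_hclo_6365 : allC (cloChk dD dC dE dCl) 6365 91 = true := by decide +kernel

set_option maxRecDepth 1000000 in
theorem cls_hclo_6366 : allC (cloChk dD dC dE dCl) 6366 91 = true := by decide +kernel

set_option maxRecDepth 1000000 in
theorem cls_hclo_6367 : allC (cloChk dD dC dE dCl) 6367 91 = true := by decide +kernel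

set_option maxRecDepth 1000000 in
theorem cls_hclo_6368 : allC (cloChk dD dC dE dCl) 6368 91 = true := by decide +kernel

set_option maxRecDepth 1000000 in
theorem cls_hclo_6369 : allC (cloChk dD dC dE dCl) 6369 91 = true := by decide +kernel

set_option maxRecDepth 1000000 in
theorem cls_hclo_6370 : allC (cloChk dD dC dE dCl) 6370 91 = true := by decide +kernel

set_option maxRecDepth 1000000 in
theorem cls_hclo_6371 : allC (cloChk dD dC dE dCl) 6371 91 = true := by decide +kernel

set_option maxRecDepth 1000000 in
theorem cls_hclo_6372 : allC (cloChk dD dC dE dCl) 6372 91 = true := by decide +kernel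

set_option maxRecDepth 1000000 in
theorem cls_hclo_6373 : allC (cloChk dD dC dE dCl) 6373 91 = true := by decide +kernel

set_option maxRecDepth 1000000 in
theorem cls_hclo_6374 : allC (cloChk dD dC dE dCl) 6374 91 = true := by decide +kernel

set_option maxRecDepth 1000000 in
theorem cls_hclo_6375 : allC (cloChk dD dC dE dCl) 6375 91 = true := by decide +kernel

set_option maxRecDepth 1000000 in
theorem cls_hclo_6376 : allC (cloChk dD dC dE dCl) 6376 91 = true := by decide +kernel

set_option maxRecDepth 1000000 in
theorem cls_hclo_6377 : allC (cloChk dD dC dE dCl) 6377 91 = true := by decide +kernel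

set_option maxRecDepth 1000000 in
theorem cls_hclo_6378 : allC (cloChk dD dC dE dCl) 6378 91 = true := by decide +kernel

set_option maxRecDepth 1000000 in
theorem cls_hclo_6379 : allC (cloChk dD dC dE dCl) 6379 91 = true := by decide +kernel

set_option maxRecDepth 1000000 in
theorem cls_hclo_6380 : allC (cloChk dD dC dE dCl) 6380 91 = true := by decide +kernel

set_option maxRecDepth 1000000 in
theorem cls_hclo_6381 : allC (cloChk dD dC dE dCl) 6381 91 = true := by decide +kernel

set_option maxRecDepth 1000000 in
theorem cls_hclo_6382 : allC (cloChk dD dC dE dCl) 6382 91 = true := by decide +kernel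

set_option maxRecDepth 1000000 in
theorem cls_hclo_6383 : allC (cloChk dD dC dE dCl) 6383 91 = true := by decide +kernel

set_option maxRecDepth 1000000 in
theorem cls_hclo_6384 : allC (cloChk dD dC dE dCl) 6384 91 = true := by decide +kernel

set_option maxRecDepth 1000000 in
theorem cls_hclo_6385 : allC (cloChk dD dC dE dCl) 6385 91 = true := by decide +kernel

set_option maxRecDepth 1000000 in
theorem cls_hclo_6386 : allC (cloChk dD dC dE dCl) 6386 91 = true := by decide +kernel

set_option maxRecDepth 1000000 in
theorem cls_hclo_6387 : allC (cloChk dD dC dE dCl) 6387 91 = true := by decide +kernel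

set_option maxRecDepth 1000000 in
theorem cls_hclo_6388 : allC (cloChk dD dC dE dCl) 6388 91 = true := by decide +kernel

set_option maxRecDepth 1000000 in
theorem cls_hclo_6389 : allC (cloChk dD dC dE dCl) 6389 91 = true := by decide +kernel

set_option maxRecDepth 1000000 in
theorem cls_hclo_6390 : allC (cloChk dD dC dE dCl) 6390 91 = true := by decide +kernel

set_option maxRecDepth 1000000 in
theorem cls_hclo_6391 : allC (cloChk dD dC dE dCl) 6391 91 = true := by decide +kernel

set_option maxRecDepth 1000000 in
theorem cls_hclo_6392 : allC (cloChk dD dC dE dCl) 6392 91 = true := by decide +kernel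

set_option maxRecDepth 1000000 in
theorem cls_hclo_6393 : allC (cloChk dD dC dE dCl) 6393 91 = true := by decide +kernel

set_option maxRecDepth 1000000 in
theorem cls_hclo_6394 : allC (cloChk dD dC dE dCl) 6394 91 = true := by decide +kernel

set_option maxRecDepth 1000000 in
theorem cls_hclo_6395 : allC (cloChk dD dC dE dCl) 6395 91 = true := by decide +kernel

set_option maxRecDepth 1000000 in
theorem cls_hclo_6396 : allC (cloChk dD dC dE dCl) 6396 91 = true := by decide +kernel

set_option maxRecDepth 1000000 in
theorem cls_hclo_6397 : allC (cloChk dD dC dE dCl) 6397 91 = true := by decide +kernel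

set_option maxRecDepth 1000000 in
theorem cls_hclo_6398 : allC (cloChk dD dC dE dCl) 6398 91 = true := by decide +kernel

set_option maxRecDepth 1000000 in
theorem cls_hclo_6399 : allC (cloChk dD dC dE dCl) 6399 91 = true := by decide +kernel

end Cfsg.Agent.Helper9.RuO

end
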