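import Mathlib
import Cfsg.Agent.Helper9.RuO.Data

set_option autoImplicit false

/-! Kernel checks of the certificates, a part. -/

noncomputable section

namespace Cfsg.Agent.Helper9.RuO

open Cfsg.Agent.Helper9.OutG Cfsg.Agent.Helper9.J3

set_option maxRecDepth 1000000 in
theorem cls_hclo_6400 : allC (cloChk dD dC dE dCl) 6400 91 = true := by decide +kernel

set_option maxRecDepth 1000000 in
theorem cls_hclo_6401 : allC (cloChk dD dC dE dCl) 6401 91 = true := by decide +kernel

set_option maxRecDepth 1000000 in
theorem cls_hclo_6402 : allC (cloChk dD dC dE dCl) 6402 91 = true := by decide +kernel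

set_option maxRecDepth 1000000 in
theorem cls_hclo_6403 : allC (cloChk dD dC dE dCl) 6403 91 = true := by decide +kernel

set_option maxRecDepth 1000000 in
theorem cls_hclo_6404 : allC (cloChk dD dC dE dCl) 6404 91 = true := by decide +kernel

set_option maxRecDepth 1000000 in
theorem cls_hclo_6405 : allC (cloChk dD dC dE dCl) 6405 91 = true := by decide +kernel

set_option maxRecDepth 1000000 in
theorem cls_hclo_6406 : allC (cloChk dD dC dE dCl) 6406 91 = true := by decide +kernel

set_option maxRecDepth 1000000 in
theorem cls_hclo_6407 : allC (cloChk dD dC dE dCl) 6407 91 = true := by decide +kernel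

set_option maxRecDepth 1000000 in
theorem cls_hclo_6408 : allC (cloChk dD dC dE dCl) 6408 91 = true := by decide +kernel

set_option maxRecDepth 1000000 in
theorem cls_hclo_6409 : allC (cloChk dD dC dE dCl) 6409 91 = true := by decide +kernel

set_option maxRecDepth 1000000 in
theorem cls_hclo_6410 : allC (cloChk dD dC dE dCl) 6410 91 = true := by decide +kernel

set_option maxRecDepth 1000000 in
theorem cls_hclo_6411 : allC (cloChk dD dC dE dCl) 6411 91 = true := by decide +kernel

set_option maxRecDepth 1000000 in
theorem cls_hclo_6412 : allC (cloChk dD dC dE dCl) 6412 91 = true := by decide +kernel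

set_option maxRecDepth 1000000 in
theorem cls_hclo_6413 : allC (cloChk dD dC dE dCl) 6413 91 = true := by decide +kernel

set_option maxRecDepth 1000000 in
theorem cls_hclo_6414 : allC (cloChk dD dC dE dCl) 6414 91 = true := by decide +kernel

set_option maxRecDepth 1000000 in
theorem cls_hclo_6415 : allC (cloChk dD dC dE dCl) 6415 91 = true := by decide +kernel

set_option maxRecDepth 1000000 in
theorem cls_hclo_6416 : allC (cloChk dD dC dE dCl) 6416 91 = true := by decide +kernel

set_option maxRecDepth 1000000 in
theorem cls_hclo_6417 : allC (cloChk dD dC dE dCl) 6417 91 = true := by decide +kernel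

set_option maxRecDepth 1000000 in
theorem cls_hclo_6418 : allC (cloChk dD dC dE dCl) 6418 91 = true := by decide +kernel

set_option maxRecDepth 1000000 in
theorem cls_hclo_6419 : allC (cloChk dD dC dE dCl) 6419 91 = true := by decide +kernel

set_option maxRecDepth 1000000 in
theorem cls_hclo_6420 : allC (cloChk dD dC dE dCl) 6420 91 = true := by decide +kernel

set_option maxRecDepth 1000000 in
theorem cls_hclo_6421 : allC (cloChk dD dC dE dCl) 6421 91 = true := by decide +kernel

set_option maxRecDepth 1000000 in
theorem cls_hclo_6422 : allC (cloChk dD dC dE dCl) 6422 91 = true := by decide +kernel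

set_option maxRecDepth 1000000 in
theorem cls_hclo_6423 : allC (cloChk dD dC dE dCl) 6423 91 = true := by decide +kernel

set_option maxRecDepth 1000000 in
theorem cls_hclo_6424 : allC (cloChk dD dC dE dCl) 6424 91 = true := by decide +kernel

set_option maxRecDepth 1000000 in
theorem cls_hclo_6425 : allC (cloChk dD dC dE dCl) 6425 91 = true := by decide +kernel

set_option maxRecDepth 1000000 in
theorem cls_hclo_6426 : allC (cloChk dD dC dE dCl) 6426 91 = true := by decide +kernel

set_option maxRecDepth 1000000 in
theorem cls_hclo_6427 : allC (cloChk dD dC dE dCl) 6427 91 = true := by decide +kernel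

set_option maxRecDepth 1000000 in
theorem cls_hclo_6428 : allC (cloChk dD dC dE dCl) 6428 91 = true := by decide +kernel

set_option maxRecDepth 1000000 in
theorem cls_hclo_6429 : allC (cloChk dD dC dE dCl) 6429 91 = true := by decide +kernel

set_option maxRecDepth 1000000 in
theorem cls_hclo_6430 : allC (cloChk dD dC dE dCl) 6430 91 = true := by decide +kernel

set_option maxRecDepth 1000000 in
theorem cls_hclo_6431 : allC (cloChk dD dC dE dCl) 6431 91 = true := by decide +kernel

set_option maxRecDepth 1000000 in
theorem cls_hclo_6432 : allC (cloChk dD dC dE dCl) 6432 91 = true := by decide +kernel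

set_option maxRecDepth 1000000 in
theorem cls_hclo_6433 : allC (cloChk dD dC dE dCl) 6433 91 = true := by decide +kernel

set_option maxRecDepth 1000000 in
theorem cls_hclo_6434 : allC (cloChk dD dC dE dCl) 6434 91 = true := by decide +kernel

set_option maxRecDepth 1000000 in
theorem cls_hclo_6435 : allC (cloChk dD dC dE dCl) 6435 91 = true := by decide +kernel

set_option maxRecDepth 1000000 in
theorem cls_hclo_6436 : allC (cloChk dD dC dE dCl) 6436 91 = true := by decide +kernel

set_option maxRecDepth 1000000 in
theorem cls_hclo_6437 : allC (cloChk dD dC dE dCl) 6437 91 = true := by decide +kernel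

set_option maxRecDepth 1000000 in
theorem cls_hclo_6438 : allC (cloChk dD dC dE dCl) 6438 91 = true := by decide +kernel

set_option maxRecDepth 1000000 in
theorem cls_hclo_6439 : allC (cloChk dD dC dE dCl) 6439 91 = true := by decide +kernel

set_option maxRecDepth 1000000 in
theorem cls_hclo_6440 : allC (cloChk dD dC dE dCl) 6440 91 = true := by decide +kernel

set_option maxRecDepth 1000000 in
theorem cls_hclo_6441 : allC (cloChk dD dC dE dCl) 6441 91 = true := by decide +kernel

set_option maxRecDepth 1000000 in
theorem cls_hclo_6442 : allC (cloChk dD dC dE dCl) 6442 91 = true := by decide +kernel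

set_option maxRecDepth 1000000 in
theorem cls_hclo_6443 : allC (cloChk dD dC dE dCl) 6443 91 = true := by decide +kernel

set_option maxRecDepth 1000000 in
theorem cls_hclo_6444 : allC (cloChk dD dC dE dCl) 6444 91 = true := by decide +kernel

set_option maxRecDepth 1000000 in
theorem cls_hclo_6445 : allC (cloChk dD dC dE dCl) 6445 91 = true := by decide +kernel

set_option maxRecDepth 1000000 in
theorem cls_hclo_6446 : allC (cloChk dD dC dE dCl) 6446 91 = true := by decide +kernel

set_option maxRecDepth 1000000 in
theorem cls_hclo_6447 : allC (cloChk dD dC dE dCl) 6447 91 = true := by decide +kernel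

set_option maxRecDepth 1000000 in
theorem cls_hclo_6448 : allC (cloChk dD dC dE dCl) 6448 91 = true := by decide +kernel

set_option maxRecDepth 1000000 in
theorem cls_hclo_6449 : allC (cloChk dD dC dE dCl) 6449 91 = true := by decide +kernel

set_option maxRecDepth 1000000 in
theorem cls_hclo_6450 : allC (cloChk dD dC dE dCl) 6450 91 = true := by decide +kernel

set_option maxRecDepth 1000000 in
theorem cls_hclo_6451 : allC (cloChk dD dC dE dCl) 6451 91 = true := by decide +kernel

set_option maxRecDepth 1000000 in
theorem cls_hclo_6452 : allC (cloChk dD dC dE dCl) 6452 91 = true := by decide +kernel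

set_option maxRecDepth 1000000 in
theorem cls_hclo_6453 : allC (cloChk dD dC dE dCl) 6453 91 = true := by decide +kernel

set_option maxRecDepth 1000000 in
theorem cls_hclo_6454 : allC (cloChk dD dC dE dCl) 6454 91 = true := by decide +kernel

set_option maxRecDepth 1000000 in
theorem cls_hclo_6455 : allC (cloChk dD dC dE dCl) 6455 91 = true := by decide +kernel

set_option maxRecDepth 1000000 in
theorem cls_hclo_6456 : allC (cloChk dD dC dE dCl) 6456 91 = true := by decide +kernel

set_option maxRecDepth 1000000 in
theorem cls_hclo_6457 : allC (cloChk dD dC dE dCl) 6457 91 = true := by decide +kernel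

set_option maxRecDepth 1000000 in
theorem cls_hclo_6458 : allC (cloChk dD dC dE dCl) 6458 91 = true := by decide +kernel

set_option maxRecDepth 1000000 in
theorem cls_hclo_6459 : allC (cloChk dD dC dE dCl) 6459 91 = true := by decide +kernel

set_option maxRecDepth 1000000 in
theorem cls_hclo_6460 : allC (cloChk dD dC dE dCl) 6460 91 = true := by decide +kernel

set_option maxRecDepth 1000000 in
theorem cls_hclo_6461 : allC (cloChk dD dC dE dCl) 6461 91 = true := by decide +kernel

set_option maxRecDepth 1000000 in
theorem cls_hclo_6462 : allC (cloChk dD dC dE dCl) 6462 91 = true := by decide +kernel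

set_option maxRecDepth 1000000 in
theorem cls_hclo_6463 : allC (cloChk dD dC dE dCl) 6463 91 = true := by decide +kernel

set_option maxRecDepth 1000000 in
theorem cls_hclo_6464 : allC (cloChk dD dC dE dCl) 6464 91 = true := by decide +kernel

set_option maxRecDepth 1000000 in
theorem cls_hclo_6465 : allC (cloChk dD dC dE dCl) 6465 91 = true := by decide +kernel

set_option maxRecDepth 1000000 in
theorem cls_hclo_6466 : allC (cloChk dD dC dE dCl) 6466 91 = true := by decide +kernel

set_option maxRecDepth 1000000 in
theorem cls_hclo_6467 : allC (cloChk dD dC dE dCl) 6467 91 = true := by decide +kernel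

set_option maxRecDepth 1000000 in
theorem cls_hclo_6468 : allC (cloChk dD dC dE dCl) 6468 91 = true := by decide +kernel

set_option maxRecDepth 1000000 in
theorem cls_hclo_6469 : allC (cloChk dD dC dE dCl) 6469 91 = true := by decide +kernel

set_option maxRecDepth 1000000 in
theorem cls_hclo_6470 : allC (cloChk dD dC dE dCl) 6470 91 = true := by decide +kernel

set_option maxRecDepth 1000000 in
theorem cls_hclo_6471 : allC (cloChk dD dC dE dCl) 6471 91 = true := by decide +kernel

set_option maxRecDepth 1000000 in
theorem cls_hclo_6472 : allC (cloChk dD dC dE dCl) 6472 91 = true := by decide +kernel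

set_option maxRecDepth 1000000 in
theorem cls_hclo_6473 : allC (cloChk dD dC dE dCl) 6473 91 = true := by decide +kernel

set_option maxRecDepth 1000000 in
theorem cls_hclo_6474 : allC (cloChk dD dC dE dCl) 6474 91 = true := by decide +kernel

set_option maxRecDepth 1000000 in
theorem cls_hclo_6475 : allC (cloChk dD dC dE dCl) 6475 91 = true := by decide +kernel

set_option maxRecDepth 1000000 in
theorem cls_hclo_6476 : allC (cloChk dD dC dE dCl) 6476 91 = true := by decide +kernel

set_option maxRecDepth 1000000 in
theorem cls_hclo_6477 : allC (cloChk dD dC dE dCl) 6477 91 = true := by decide +kernel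

set_option maxRecDepth 1000000 in
theorem cls_hclo_6478 : allC (cloChk dD dC dE dCl) 6478 91 = true := by decide +kernel

set_option maxRecDepth 1000000 in
theorem cls_hclo_6479 : allC (cloChk dD dC dE dCl) 6479 91 = true := by decide +kernel

set_option maxRecDepth 1000000 in
theorem cls_hclo_6480 : allC (cloChk dD dC dE dCl) 6480 91 = true := by decide +kernel

set_option maxRecDepth 1000000 in
theorem cls_hclo_6481 : allC (cloChk dD dC dE dCl) 6481 91 = true := by decide +kernel

set_option maxRecDepth 1000000 in
theorem cls_hclo_6482 : allC (cloChk dD dC dE dCl) 6482 91 = true := by decide +kernel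

set_option maxRecDepth 1000000 in
theorem cls_hclo_6483 : allC (cloChk dD dC dE dCl) 6483 91 = true := by decide +kernel

set_option maxRecDepth 1000000 in
theorem cls_hclo_6484 : allC (cloChk dD dC dE dCl) 6484 91 = true := by decide +kernel

set_option maxRecDepth 1000000 in
theorem cls_hclo_6485 : allC (cloChk dD dC dE dCl) 6485 91 = true := by decide +kernel

set_option maxRecDepth 1000000 in
theorem cls_hclo_6486 : allC (cloChk dD dC dE dCl) 6486 91 = true := by decide +kernel

set_option maxRecDepth 1000000 in
theorem cls_hclo_6487 : allC (cloChk dD dC dE dCl) 6487 91 = true := by decide +kernel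

set_option maxRecDepth 1000000 in
theorem cls_hclo_6488 : allC (cloChk dD dC dE dCl) 6488 91 = true := by decide +kernel

set_option maxRecDepth 1000000 in
theorem cls_hclo_6489 : allC (cloChk dD dC dE dCl) 6489 91 = true := by decide +kernel

set_option maxRecDepth 1000000 in
theorem cls_hclo_6490 : allC (cloChk dD dC dE dCl) 6490 91 = true := by decide +kernel

set_option maxRecDepth 1000000 in
theorem cls_hclo_6491 : allC (cloChk dD dC dE dCl) 6491 91 = true := by decide +kernel

set_option maxRecDepth 1000000 in
theorem cls_hclo_6492 : allC (cloChk dD dC dE dCl) 6492 91 = true := by decide +kernel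

set_option maxRecDepth 1000000 in
theorem cls_hclo_6493 : allC (cloChk dD dC dE dCl) 6493 91 = true := by decide +kernel

set_option maxRecDepth 1000000 in
theorem cls_hclo_6494 : allC (cloChk dD dC dE dCl) 6494 91 = true := by decide +kernel

set_option maxRecDepth 1000000 in
theorem cls_hclo_6495 : allC (cloChk dD dC dE dCl) 6495 91 = true := by decide +kernel

set_option maxRecDepth 1000000 in
theorem cls_hclo_6496 : allC (cloChk dD dC dE dCl) 6496 91 = true := by decide +kernel

set_option maxRecDepth 1000000 in
theorem cls_hclo_6497 : allC (cloChk dD dC dE dCl) 6497 91 = true := by decide +kernel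

set_option maxRecDepth 1000000 in
theorem cls_hclo_6498 : allC (cloChk dD dC dE dCl) 6498 91 = true := by decide +kernel

set_option maxRecDepth 1000000 in
theorem cls_hclo_6499 : allC (cloChk dD dC dE dCl) 6499 91 = true := by decide +kernel

end Cfsg.Agent.Helper9.RuO

end
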