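import Mathlib
import Cfsg.Agent.Helper9.RuO.Data

set_option autoImplicit false

/-! Kernel checks of the certificates, a part. -/

noncomputable section

namespace Cfsg.Agent.Helper9.RuO

open Cfsg.Agent.Helper9.OutG Cfsg.Agent.Helper9.J3

set_option maxRecDepth 1000000 in
theorem cls_hclo_6500 : allC (cloChk dD dC dE dCl) 6500 91 = true := by decide +kernel

set_option maxRecDepth 1000000 in
theorem cls_hclo_6501 : allC (cloChk dD dC dE dCl) 6501 91 = true := by decide +kernel

set_option maxRecDepth 1000000 in
theorem cls_hclo_6502 : allC (cloChk dD dC dE dCl) 6502 91 = true := by decide +kernel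

set_option maxRecDepth 1000000 in
theorem cls_hclo_6503 : allC (cloChk dD dC dE dCl) 6503 91 = true := by decide +kernel

set_option maxRecDepth 1000000 in
theorem cls_hclo_6504 : allC (cloChk dD dC dE dCl) 6504 91 = true := by decide +kernel

set_option maxRecDepth 1000000 in
theorem cls_hclo_6505 : allC (cloChk dD dC dE dCl) 6505 91 = true := by decide +kernel

set_option maxRecDepth 1000000 in
theorem cls_hclo_6506 : allC (cloChk dD dC dE dCl) 6506 91 = true := by decide +kernel

set_option maxRecDepth 1000000 in
theorem cls_hclo_6507 : allC (cloChk dD dC dE dCl) 6507 91 = true := by decide +kernel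

set_option maxRecDepth 1000000 in
theorem cls_hclo_6508 : allC (cloChk dD dC dE dCl) 6508 91 = true := by decide +kernel

set_option maxRecDepth 1000000 in
theorem cls_hclo_6509 : allC (cloChk dD dC dE dCl) 6509 91 = true := by decide +kernel

set_option maxRecDepth 1000000 in
theorem cls_hclo_6510 : allC (cloChk dD dC dE dCl) 6510 91 = true := by decide +kernel

set_option maxRecDepth 1000000 in
theorem cls_hclo_6511 : allC (cloChk dD dC dE dCl) 6511 91 = true := by decide +kernel

set_option maxRecDepth 1000000 in
theorem cls_hclo_6512 : allC (cloChk dD dC dE dCl) 6512 91 = true := by decide +kernel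

set_option maxRecDepth 1000000 in
theorem cls_hclo_6513 : allC (cloChk dD dC dE dCl) 6513 91 = true := by decide +kernel

set_option maxRecDepth 1000000 in
theorem cls_hclo_6514 : allC (cloChk dD dC dE dCl) 6514 91 = true := by decide +kernel

set_option maxRecDepth 1000000 in
theorem cls_hclo_6515 : allC (cloChk dD dC dE dCl) 6515 91 = true := by decide +kernel

set_option maxRecDepth 1000000 in
theorem cls_hclo_6516 : allC (cloChk dD dC dE dCl) 6516 91 = true := by decide +kernel

set_option maxRecDepth 1000000 in
theorem cls_hclo_6517 : allC (cloChk dD dC dE dCl) 6517 91 = true := by decide +kernel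

set_option maxRecDepth 1000000 in
theorem cls_hclo_6518 : allC (cloChk dD dC dE dCl) 6518 91 = true := by decide +kernel

set_option maxRecDepth 1000000 in
theorem cls_hclo_6519 : allC (cloChk dD dC dE dCl) 6519 91 = true := by decide +kernel

set_option maxRecDepth 1000000 in
theorem cls_hclo_6520 : allC (cloChk dD dC dE dCl) 6520 91 = true := by decide +kernel

set_option maxRecDepth 1000000 in
theorem cls_hclo_6521 : allC (cloChk dD dC dE dCl) 6521 91 = true := by decide +kernel

set_option maxRecDepth 1000000 in
theorem cls_hclo_6522 : allC (cloChk dD dC dE dCl) 6522 91 = true := by decide +kernel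

set_option maxRecDepth 1000000 in
theorem cls_hclo_6523 : allC (cloChk dD dC dE dCl) 6523 91 = true := by decide +kernel

set_option maxRecDepth 1000000 in
theorem cls_hclo_6524 : allC (cloChk dD dC dE dCl) 6524 91 = true := by decide +kernel

end Cfsg.Agent.Helper9.RuO

end
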