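import Mathlib
import Cfsg.Agent.Helper9.RuO.Data

set_option autoImplicit false

/-! Kernel checks of the certificates, a part. -/

noncomputable section

namespace Cfsg.Agent.Helper9.RuO

open Cfsg.Agent.Helper9.OutG Cfsg.Agent.Helper9.J3

set_option maxRecDepth 1000000 in
theorem cls_hclo_700 : allC (cloChk dD dC dE dCl) 700 91 = true := by decide +kernel

set_option maxRecDepth 1000000 in
theorem cls_hclo_701 : allC (cloChk dD dC dE dCl) 701 91 = true := by decide +kernel

set_option maxRecDepth 1000000 in
theorem cls_hclo_702 : allC (cloChk dD dC dE dCl) 702 91 = true := by decide +kernel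

set_option maxRecDepth 1000000 in
theorem cls_hclo_703 : allC (cloChk dD dC dE dCl) 703 91 = true := by decide +kernel

set_option maxRecDepth 1000000 in
theorem cls_hclo_704 : allC (cloChk dD dC dE dCl) 704 91 = true := by decide +kernel

set_option maxRecDepth 1000000 in
theorem cls_hclo_705 : allC (cloChk dD dC dE dCl) 705 91 = true := by decide +kernel

set_option maxRecDepth 1000000 in
theorem cls_hclo_706 : allC (cloChk dD dC dE dCl) 706 91 = true := by decide +kernel

set_option maxRecDepth 1000000 in
theorem cls_hclo_707 : allC (cloChk dD dC dE dCl) 707 91 = true := by decide +kernel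

set_option maxRecDepth 1000000 in
theorem cls_hclo_708 : allC (cloChk dD dC dE dCl) 708 91 = true := by decide +kernel

set_option maxRecDepth 1000000 in
theorem cls_hclo_709 : allC (cloChk dD dC dE dCl) 709 91 = true := by decide +kernel

set_option maxRecDepth 1000000 in
theorem cls_hclo_710 : allC (cloChk dD dC dE dCl) 710 91 = true := by decide +kernel

set_option maxRecDepth 1000000 in
theorem cls_hclo_711 : allC (cloChk dD dC dE dCl) 711 91 = true := by decide +kernel

set_option maxRecDepth 1000000 in
theorem cls_hclo_712 : allC (cloChk dD dC dE dCl) 712 91 = true := by decide +kernel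

set_option maxRecDepth 1000000 in
theorem cls_hclo_713 : allC (cloChk dD dC dE dCl) 713 91 = true := by decide +kernel

set_option maxRecDepth 1000000 in
theorem cls_hclo_714 : allC (cloChk dD dC dE dCl) 714 91 = true := by decide +kernel

set_option maxRecDepth 1000000 in
theorem cls_hclo_715 : allC (cloChk dD dC dE dCl) 715 91 = true := by decide +kernel

set_option maxRecDepth 1000000 in
theorem cls_hclo_716 : allC (cloChk dD dC dE dCl) 716 91 = true := by decide +kernel

set_option maxRecDepth 1000000 in
theorem cls_hclo_717 : allC (cloChk dD dC dE dCl) 717 91 = true := by decide +kernel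

set_option maxRecDepth 1000000 in
theorem cls_hclo_718 : allC (cloChk dD dC dE dCl) 718 91 = true := by decide +kernel

set_option maxRecDepth 1000000 in
theorem cls_hclo_719 : allC (cloChk dD dC dE dCl) 719 91 = true := by decide +kernel

set_option maxRecDepth 1000000 in
theorem cls_hclo_720 : allC (cloChk dD dC dE dCl) 720 91 = true := by decide +kernel

set_option maxRecDepth 1000000 in
theorem cls_hclo_721 : allC (cloChk dD dC dE dCl) 721 91 = true := by decide +kernel

set_option maxRecDepth 1000000 in
theorem cls_hclo_722 : allC (cloChk dD dC dE dCl) 722 91 = true := by decide +kernel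

set_option maxRecDepth 1000000 in
theorem cls_hclo_723 : allC (cloChk dD dC dE dCl) 723 91 = true := by decide +kernel

set_option maxRecDepth 1000000 in
theorem cls_hclo_724 : allC (cloChk dD dC dE dCl) 724 91 = true := by decide +kernel

set_option maxRecDepth 1000000 in
theorem cls_hclo_725 : allC (cloChk dD dC dE dCl) 725 91 = true := by decide +kernel

set_option maxRecDepth 1000000 in
theorem cls_hclo_726 : allC (cloChk dD dC dE dCl) 726 91 = true := by decide +kernel

set_option maxRecDepth 1000000 in
theorem cls_hclo_727 : allC (cloChk dD dC dE dCl) 727 91 = true := by decide +kernel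

set_option maxRecDepth 1000000 in
theorem cls_hclo_728 : allC (cloChk dD dC dE dCl) 728 91 = true := by decide +kernel

set_option maxRecDepth 1000000 in
theorem cls_hclo_729 : allC (cloChk dD dC dE dCl) 729 91 = true := by decide +kernel

set_option maxRecDepth 1000000 in
theorem cls_hclo_730 : allC (cloChk dD dC dE dCl) 730 91 = true := by decide +kernel

set_option maxRecDepth 1000000 in
theorem cls_hclo_731 : allC (cloChk dD dC dE dCl) 731 91 = true := by decide +kernel

set_option maxRecDepth 1000000 in
theorem cls_hclo_732 : allC (cloChk dD dC dE dCl) 732 91 = true := by decide +kernel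

set_option maxRecDepth 1000000 in
theorem cls_hclo_733 : allC (cloChk dD dC dE dCl) 733 91 = true := by decide +kernel

set_option maxRecDepth 1000000 in
theorem cls_hclo_734 : allC (cloChk dD dC dE dCl) 734 91 = true := by decide +kernel

set_option maxRecDepth 1000000 in
theorem cls_hclo_735 : allC (cloChk dD dC dE dCl) 735 91 = true := by decide +kernel

set_option maxRecDepth 1000000 in
theorem cls_hclo_736 : allC (cloChk dD dC dE dCl) 736 91 = true := by decide +kernel

set_option maxRecDepth 1000000 in
theorem cls_hclo_737 : allC (cloChk dD dC dE dCl) 737 91 = true := by decide +kernel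

set_option maxRecDepth 1000000 in
theorem cls_hclo_738 : allC (cloChk dD dC dE dCl) 738 91 = true := by decide +kernel

set_option maxRecDepth 1000000 in
theorem cls_hclo_739 : allC (cloChk dD dC dE dCl) 739 91 = true := by decide +kernel

set_option maxRecDepth 1000000 in
theorem cls_hclo_740 : allC (cloChk dD dC dE dCl) 740 91 = true := by decide +kernel

set_option maxRecDepth 1000000 in
theorem cls_hclo_741 : allC (cloChk dD dC dE dCl) 741 91 = true := by decide +kernel

set_option maxRecDepth 1000000 in
theorem cls_hclo_742 : allC (cloChk dD dC dE dCl) 742 91 = true := by decide +kernel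

set_option maxRecDepth 1000000 in
theorem cls_hclo_743 : allC (cloChk dD dC dE dCl) 743 91 = true := by decide +kernel

set_option maxRecDepth 1000000 in
theorem cls_hclo_744 : allC (cloChk dD dC dE dCl) 744 91 = true := by decide +kernel

set_option maxRecDepth 1000000 in
theorem cls_hclo_745 : allC (cloChk dD dC dE dCl) 745 91 = true := by decide +kernel

set_option maxRecDepth 1000000 in
theorem cls_hclo_746 : allC (cloChk dD dC dE dCl) 746 91 = true := by decide +kernel

set_option maxRecDepth 1000000 in
theorem cls_hclo_747 : allC (cloChk dD dC dE dCl) 747 91 = true := by decide +kernel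

set_option maxRecDepth 1000000 in
theorem cls_hclo_748 : allC (cloChk dD dC dE dCl) 748 91 = true := by decide +kernel

set_option maxRecDepth 1000000 in
theorem cls_hclo_749 : allC (cloChk dD dC dE dCl) 749 91 = true := by decide +kernel

set_option maxRecDepth 1000000 in
theorem cls_hclo_750 : allC (cloChk dD dC dE dCl) 750 91 = true := by decide +kernel

set_option maxRecDepth 1000000 in
theorem cls_hclo_751 : allC (cloChk dD dC dE dCl) 751 91 = true := by decide +kernel

set_option maxRecDepth 1000000 in
theorem cls_hclo_752 : allC (cloChk dD dC dE dCl) 752 91 = true := by decide +kernel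

set_option maxRecDepth 1000000 in
theorem cls_hclo_753 : allC (cloChk dD dC dE dCl) 753 91 = true := by decide +kernel

set_option maxRecDepth 1000000 in
theorem cls_hclo_754 : allC (cloChk dD dC dE dCl) 754 91 = true := by decide +kernel

set_option maxRecDepth 1000000 in
theorem cls_hclo_755 : allC (cloChk dD dC dE dCl) 755 91 = true := by decide +kernel

set_option maxRecDepth 1000000 in
theorem cls_hclo_756 : allC (cloChk dD dC dE dCl) 756 91 = true := by decide +kernel

set_option maxRecDepth 1000000 in
theorem cls_hclo_757 : allC (cloChk dD dC dE dCl) 757 91 = true := by decide +kernel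

set_option maxRecDepth 1000000 in
theorem cls_hclo_758 : allC (cloChk dD dC dE dCl) 758 91 = true := by decide +kernel

set_option maxRecDepth 1000000 in
theorem cls_hclo_759 : allC (cloChk dD dC dE dCl) 759 91 = true := by decide +kernel

set_option maxRecDepth 1000000 in
theorem cls_hclo_760 : allC (cloChk dD dC dE dCl) 760 91 = true := by decide +kernel

set_option maxRecDepth 1000000 in
theorem cls_hclo_761 : allC (cloChk dD dC dE dCl) 761 91 = true := by decide +kernel

set_option maxRecDepth 1000000 in
theorem cls_hclo_762 : allC (cloChk dD dC dE dCl) 762 91 = true := by decide +kernel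

set_option maxRecDepth 1000000 in
theorem cls_hclo_763 : allC (cloChk dD dC dE dCl) 763 91 = true := by decide +kernel

set_option maxRecDepth 1000000 in
theorem cls_hclo_764 : allC (cloChk dD dC dE dCl) 764 91 = true := by decide +kernel

set_option maxRecDepth 1000000 in
theorem cls_hclo_765 : allC (cloChk dD dC dE dCl) 765 91 = true := by decide +kernel

set_option maxRecDepth 1000000 in
theorem cls_hclo_766 : allC (cloChk dD dC dE dCl) 766 91 = true := by decide +kernel

set_option maxRecDepth 1000000 in
theorem cls_hclo_767 : allC (cloChk dD dC dE dCl) 767 91 = true := by decide +kernel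

set_option maxRecDepth 1000000 in
theorem cls_hclo_768 : allC (cloChk dD dC dE dCl) 768 91 = true := by decide +kernel

set_option maxRecDepth 1000000 in
theorem cls_hclo_769 : allC (cloChk dD dC dE dCl) 769 91 = true := by decide +kernel

set_option maxRecDepth 1000000 in
theorem cls_hclo_770 : allC (cloChk dD dC dE dCl) 770 91 = true := by decide +kernel

set_option maxRecDepth 1000000 in
theorem cls_hclo_771 : allC (cloChk dD dC dE dCl) 771 91 = true := by decide +kernel

set_option maxRecDepth 1000000 in
theorem cls_hclo_772 : allC (cloChk dD dC dE dCl) 772 91 = true := by decide +kernel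

set_option maxRecDepth 1000000 in
theorem cls_hclo_773 : allC (cloChk dD dC dE dCl) 773 91 = true := by decide +kernel

set_option maxRecDepth 1000000 in
theorem cls_hclo_774 : allC (cloChk dD dC dE dCl) 774 91 = true := by decide +kernel

set_option maxRecDepth 1000000 in
theorem cls_hclo_775 : allC (cloChk dD dC dE dCl) 775 91 = true := by decide +kernel

set_option maxRecDepth 1000000 in
theorem cls_hclo_776 : allC (cloChk dD dC dE dCl) 776 91 = true := by decide +kernel

set_option maxRecDepth 1000000 in
theorem cls_hclo_777 : allC (cloChk dD dC dE dCl) 777 91 = true := by decide +kernel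

set_option maxRecDepth 1000000 in
theorem cls_hclo_778 : allC (cloChk dD dC dE dCl) 778 91 = true := by decide +kernel

set_option maxRecDepth 1000000 in
theorem cls_hclo_779 : allC (cloChk dD dC dE dCl) 779 91 = true := by decide +kernel

set_option maxRecDepth 1000000 in
theorem cls_hclo_780 : allC (cloChk dD dC dE dCl) 780 91 = true := by decide +kernel

set_option maxRecDepth 1000000 in
theorem cls_hclo_781 : allC (cloChk dD dC dE dCl) 781 91 = true := by decide +kernel

set_option maxRecDepth 1000000 in
theorem cls_hclo_782 : allC (cloChk dD dC dE dCl) 782 91 = true := by decide +kernel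

set_option maxRecDepth 1000000 in
theorem cls_hclo_783 : allC (cloChk dD dC dE dCl) 783 91 = true := by decide +kernel

set_option maxRecDepth 1000000 in
theorem cls_hclo_784 : allC (cloChk dD dC dE dCl) 784 91 = true := by decide +kernel

set_option maxRecDepth 1000000 in
theorem cls_hclo_785 : allC (cloChk dD dC dE dCl) 785 91 = true := by decide +kernel

set_option maxRecDepth 1000000 in
theorem cls_hclo_786 : allC (cloChk dD dC dE dCl) 786 91 = true := by decide +kernel

set_option maxRecDepth 1000000 in
theorem cls_hclo_787 : allC (cloChk dD dC dE dCl) 787 91 = true := by decide +kernel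

set_option maxRecDepth 1000000 in
theorem cls_hclo_788 : allC (cloChk dD dC dE dCl) 788 91 = true := by decide +kernel

set_option maxRecDepth 1000000 in
theorem cls_hclo_789 : allC (cloChk dD dC dE dCl) 789 91 = true := by decide +kernel

set_option maxRecDepth 1000000 in
theorem cls_hclo_790 : allC (cloChk dD dC dE dCl) 790 91 = true := by decide +kernel

set_option maxRecDepth 1000000 in
theorem cls_hclo_791 : allC (cloChk dD dC dE dCl) 791 91 = true := by decide +kernel

set_option maxRecDepth 1000000 in
theorem cls_hclo_792 : allC (cloChk dD dC dE dCl) 792 91 = true := by decide +kernel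

set_option maxRecDepth 1000000 in
theorem cls_hclo_793 : allC (cloChk dD dC dE dCl) 793 91 = true := by decide +kernel

set_option maxRecDepth 1000000 in
theorem cls_hclo_794 : allC (cloChk dD dC dE dCl) 794 91 = true := by decide +kernel

set_option maxRecDepth 1000000 in
theorem cls_hclo_795 : allC (cloChk dD dC dE dCl) 795 91 = true := by decide +kernel

set_option maxRecDepth 1000000 in
theorem cls_hclo_796 : allC (cloChk dD dC dE dCl) 796 91 = true := by decide +kernel

set_option maxRecDepth 1000000 in
theorem cls_hclo_797 : allC (cloChk dD dC dE dCl) 797 91 = true := by decide +kernel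

set_option maxRecDepth 1000000 in
theorem cls_hclo_798 : allC (cloChk dD dC dE dCl) 798 91 = true := by decide +kernel

set_option maxRecDepth 1000000 in
theorem cls_hclo_799 : allC (cloChk dD dC dE dCl) 799 91 = true := by decide +kernel

end Cfsg.Agent.Helper9.RuO

end
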