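import Mathlib
import Cfsg.Agent.Helper9.RuO.Data

set_option autoImplicit false

/-! Kernel checks of the certificates, a part. -/

noncomputable section

namespace Cfsg.Agent.Helper9.RuO

open Cfsg.Agent.Helper9.OutG Cfsg.Agent.Helper9.J3

set_option maxRecDepth 1000000 in
theorem cls_hclo_900 : allC (cloChk dD dC dE dCl) 900 91 = true := by decide +kernel

set_option maxRecDepth 1000000 in
theorem cls_hclo_901 : allC (cloChk dD dC dE dCl) 901 91 = true := by decide +kernel

set_option maxRecDepth 1000000 in
theorem cls_hclo_902 : allC (cloChk dD dC dE dCl) 902 91 = true := by decide +kernel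

set_option maxRecDepth 1000000 in
theorem cls_hclo_903 : allC (cloChk dD dC dE dCl) 903 91 = true := by decide +kernel

set_option maxRecDepth 1000000 in
theorem cls_hclo_904 : allC (cloChk dD dC dE dCl) 904 91 = true := by decide +kernel

set_option maxRecDepth 1000000 in
theorem cls_hclo_905 : allC (cloChk dD dC dE dCl) 905 91 = true := by decide +kernel

set_option maxRecDepth 1000000 in
theorem cls_hclo_906 : allC (cloChk dD dC dE dCl) 906 91 = true := by decide +kernel

set_option maxRecDepth 1000000 in
theorem cls_hclo_907 : allC (cloChk dD dC dE dCl) 907 91 = true := by decide +kernel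

set_option maxRecDepth 1000000 in
theorem cls_hclo_908 : allC (cloChk dD dC dE dCl) 908 91 = true := by decide +kernel

set_option maxRecDepth 1000000 in
theorem cls_hclo_909 : allC (cloChk dD dC dE dCl) 909 91 = true := by decide +kernel

set_option maxRecDepth 1000000 in
theorem cls_hclo_910 : allC (cloChk dD dC dE dCl) 910 91 = true := by decide +kernel

set_option maxRecDepth 1000000 in
theorem cls_hclo_911 : allC (cloChk dD dC dE dCl) 911 91 = true := by decide +kernel

set_option maxRecDepth 1000000 in
theorem cls_hclo_912 : allC (cloChk dD dC dE dCl) 912 91 = true := by decide +kernel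

set_option maxRecDepth 1000000 in
theorem cls_hclo_913 : allC (cloChk dD dC dE dCl) 913 91 = true := by decide +kernel

set_option maxRecDepth 1000000 in
theorem cls_hclo_914 : allC (cloChk dD dC dE dCl) 914 91 = true := by decide +kernel

set_option maxRecDepth 1000000 in
theorem cls_hclo_915 : allC (cloChk dD dC dE dCl) 915 91 = true := by decide +kernel

set_option maxRecDepth 1000000 in
theorem cls_hclo_916 : allC (cloChk dD dC dE dCl) 916 91 = true := by decide +kernel

set_option maxRecDepth 1000000 in
theorem cls_hclo_917 : allC (cloChk dD dC dE dCl) 917 91 = true := by decide +kernel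

set_option maxRecDepth 1000000 in
theorem cls_hclo_918 : allC (cloChk dD dC dE dCl) 918 91 = true := by decide +kernel

set_option maxRecDepth 1000000 in
theorem cls_hclo_919 : allC (cloChk dD dC dE dCl) 919 91 = true := by decide +kernel

set_option maxRecDepth 1000000 in
theorem cls_hclo_920 : allC (cloChk dD dC dE dCl) 920 91 = true := by decide +kernel

set_option maxRecDepth 1000000 in
theorem cls_hclo_921 : allC (cloChk dD dC dE dCl) 921 91 = true := by decide +kernel

set_option maxRecDepth 1000000 in
theorem cls_hclo_922 : allC (cloChk dD dC dE dCl) 922 91 = true := by decide +kernel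

set_option maxRecDepth 1000000 in
theorem cls_hclo_923 : allC (cloChk dD dC dE dCl) 923 91 = true := by decide +kernel

set_option maxRecDepth 1000000 in
theorem cls_hclo_924 : allC (cloChk dD dC dE dCl) 924 91 = true := by decide +kernel

set_option maxRecDepth 1000000 in
theorem cls_hclo_925 : allC (cloChk dD dC dE dCl) 925 91 = true := by decide +kernel

set_option maxRecDepth 1000000 in
theorem cls_hclo_926 : allC (cloChk dD dC dE dCl) 926 91 = true := by decide +kernel

set_option maxRecDepth 1000000 in
theorem cls_hclo_927 : allC (cloChk dD dC dE dCl) 927 91 = true := by decide +kernel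

set_option maxRecDepth 1000000 in
theorem cls_hclo_928 : allC (cloChk dD dC dE dCl) 928 91 = true := by decide +kernel

set_option maxRecDepth 1000000 in
theorem cls_hclo_929 : allC (cloChk dD dC dE dCl) 929 91 = true := by decide +kernel

set_option maxRecDepth 1000000 in
theorem cls_hclo_930 : allC (cloChk dD dC dE dCl) 930 91 = true := by decide +kernel

set_option maxRecDepth 1000000 in
theorem cls_hclo_931 : allC (cloChk dD dC dE dCl) 931 91 = true := by decide +kernel

set_option maxRecDepth 1000000 in
theorem cls_hclo_932 : allC (cloChk dD dC dE dCl) 932 91 = true := by decide +kernel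

set_option maxRecDepth 1000000 in
theorem cls_hclo_933 : allC (cloChk dD dC dE dCl) 933 91 = true := by decide +kernel

set_option maxRecDepth 1000000 in
theorem cls_hclo_934 : allC (cloChk dD dC dE dCl) 934 91 = true := by decide +kernel

set_option maxRecDepth 1000000 in
theorem cls_hclo_935 : allC (cloChk dD dC dE dCl) 935 91 = true := by decide +kernel

set_option maxRecDepth 1000000 in
theorem cls_hclo_936 : allC (cloChk dD dC dE dCl) 936 91 = true := by decide +kernel

set_option maxRecDepth 1000000 in
theorem cls_hclo_937 : allC (cloChk dD dC dE dCl) 937 91 = true := by decide +kernel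

set_option maxRecDepth 1000000 in
theorem cls_hclo_938 : allC (cloChk dD dC dE dCl) 938 91 = true := by decide +kernel

set_option maxRecDepth 1000000 in
theorem cls_hclo_939 : allC (cloChk dD dC dE dCl) 939 91 = true := by decide +kernel

set_option maxRecDepth 1000000 in
theorem cls_hclo_940 : allC (cloChk dD dC dE dCl) 940 91 = true := by decide +kernel

set_option maxRecDepth 1000000 in
theorem cls_hclo_941 : allC (cloChk dD dC dE dCl) 941 91 = true := by decide +kernel

set_option maxRecDepth 1000000 in
theorem cls_hclo_942 : allC (cloChk dD dC dE dCl) 942 91 = true := by decide +kernel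

set_option maxRecDepth 1000000 in
theorem cls_hclo_943 : allC (cloChk dD dC dE dCl) 943 91 = true := by decide +kernel

set_option maxRecDepth 1000000 in
theorem cls_hclo_944 : allC (cloChk dD dC dE dCl) 944 91 = true := by decide +kernel

set_option maxRecDepth 1000000 in
theorem cls_hclo_945 : allC (cloChk dD dC dE dCl) 945 91 = true := by decide +kernel

set_option maxRecDepth 1000000 in
theorem cls_hclo_946 : allC (cloChk dD dC dE dCl) 946 91 = true := by decide +kernel

set_option maxRecDepth 1000000 in
theorem cls_hclo_947 : allC (cloChk dD dC dE dCl) 947 91 = true := by decide +kernel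

set_option maxRecDepth 1000000 in
theorem cls_hclo_948 : allC (cloChk dD dC dE dCl) 948 91 = true := by decide +kernel

set_option maxRecDepth 1000000 in
theorem cls_hclo_949 : allC (cloChk dD dC dE dCl) 949 91 = true := by decide +kernel

set_option maxRecDepth 1000000 in
theorem cls_hclo_950 : allC (cloChk dD dC dE dCl) 950 91 = true := by decide +kernel

set_option maxRecDepth 1000000 in
theorem cls_hclo_951 : allC (cloChk dD dC dE dCl) 951 91 = true := by decide +kernel

set_option maxRecDepth 1000000 in
theorem cls_hclo_952 : allC (cloChk dD dC dE dCl) 952 91 = true := by decide +kernel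

set_option maxRecDepth 1000000 in
theorem cls_hclo_953 : allC (cloChk dD dC dE dCl) 953 91 = true := by decide +kernel

set_option maxRecDepth 1000000 in
theorem cls_hclo_954 : allC (cloChk dD dC dE dCl) 954 91 = true := by decide +kernel

set_option maxRecDepth 1000000 in
theorem cls_hclo_955 : allC (cloChk dD dC dE dCl) 955 91 = true := by decide +kernel

set_option maxRecDepth 1000000 in
theorem cls_hclo_956 : allC (cloChk dD dC dE dCl) 956 91 = true := by decide +kernel

set_option maxRecDepth 1000000 in
theorem cls_hclo_957 : allC (cloChk dD dC dE dCl) 957 91 = true := by decide +kernel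

set_option maxRecDepth 1000000 in
theorem cls_hclo_958 : allC (cloChk dD dC dE dCl) 958 91 = true := by decide +kernel

set_option maxRecDepth 1000000 in
theorem cls_hclo_959 : allC (cloChk dD dC dE dCl) 959 91 = true := by decide +kernel

set_option maxRecDepth 1000000 in
theorem cls_hclo_960 : allC (cloChk dD dC dE dCl) 960 91 = true := by decide +kernel

set_option maxRecDepth 1000000 in
theorem cls_hclo_961 : allC (cloChk dD dC dE dCl) 961 91 = true := by decide +kernel

set_option maxRecDepth 1000000 in
theorem cls_hclo_962 : allC (cloChk dD dC dE dCl) 962 91 = true := by decide +kernel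

set_option maxRecDepth 1000000 in
theorem cls_hclo_963 : allC (cloChk dD dC dE dCl) 963 91 = true := by decide +kernel

set_option maxRecDepth 1000000 in
theorem cls_hclo_964 : allC (cloChk dD dC dE dCl) 964 91 = true := by decide +kernel

set_option maxRecDepth 1000000 in
theorem cls_hclo_965 : allC (cloChk dD dC dE dCl) 965 91 = true := by decide +kernel

set_option maxRecDepth 1000000 in
theorem cls_hclo_966 : allC (cloChk dD dC dE dCl) 966 91 = true := by decide +kernel

set_option maxRecDepth 1000000 in
theorem cls_hclo_967 : allC (cloChk dD dC dE dCl) 967 91 = true := by decide +kernel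

set_option maxRecDepth 1000000 in
theorem cls_hclo_968 : allC (cloChk dD dC dE dCl) 968 91 = true := by decide +kernel

set_option maxRecDepth 1000000 in
theorem cls_hclo_969 : allC (cloChk dD dC dE dCl) 969 91 = true := by decide +kernel

set_option maxRecDepth 1000000 in
theorem cls_hclo_970 : allC (cloChk dD dC dE dCl) 970 91 = true := by decide +kernel

set_option maxRecDepth 1000000 in
theorem cls_hclo_971 : allC (cloChk dD dC dE dCl) 971 91 = true := by decide +kernel

set_option maxRecDepth 1000000 in
theorem cls_hclo_972 : allC (cloChk dD dC dE dCl) 972 91 = true := by decide +kernel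

set_option maxRecDepth 1000000 in
theorem cls_hclo_973 : allC (cloChk dD dC dE dCl) 973 91 = true := by decide +kernel

set_option maxRecDepth 1000000 in
theorem cls_hclo_974 : allC (cloChk dD dC dE dCl) 974 91 = true := by decide +kernel

set_option maxRecDepth 1000000 in
theorem cls_hclo_975 : allC (cloChk dD dC dE dCl) 975 91 = true := by decide +kernel

set_option maxRecDepth 1000000 in
theorem cls_hclo_976 : allC (cloChk dD dC dE dCl) 976 91 = true := by decide +kernel

set_option maxRecDepth 1000000 in
theorem cls_hclo_977 : allC (cloChk dD dC dE dCl) 977 91 = true := by decide +kernel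

set_option maxRecDepth 1000000 in
theorem cls_hclo_978 : allC (cloChk dD dC dE dCl) 978 91 = true := by decide +kernel

set_option maxRecDepth 1000000 in
theorem cls_hclo_979 : allC (cloChk dD dC dE dCl) 979 91 = true := by decide +kernel

set_option maxRecDepth 1000000 in
theorem cls_hclo_980 : allC (cloChk dD dC dE dCl) 980 91 = true := by decide +kernel

set_option maxRecDepth 1000000 in
theorem cls_hclo_981 : allC (cloChk dD dC dE dCl) 981 91 = true := by decide +kernel

set_option maxRecDepth 1000000 in
theorem cls_hclo_982 : allC (cloChk dD dC dE dCl) 982 91 = true := by decide +kernel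

set_option maxRecDepth 1000000 in
theorem cls_hclo_983 : allC (cloChk dD dC dE dCl) 983 91 = true := by decide +kernel

set_option maxRecDepth 1000000 in
theorem cls_hclo_984 : allC (cloChk dD dC dE dCl) 984 91 = true := by decide +kernel

set_option maxRecDepth 1000000 in
theorem cls_hclo_985 : allC (cloChk dD dC dE dCl) 985 91 = true := by decide +kernel

set_option maxRecDepth 1000000 in
theorem cls_hclo_986 : allC (cloChk dD dC dE dCl) 986 91 = true := by decide +kernel

set_option maxRecDepth 1000000 in
theorem cls_hclo_987 : allC (cloChk dD dC dE dCl) 987 91 = true := by decide +kernel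

set_option maxRecDepth 1000000 in
theorem cls_hclo_988 : allC (cloChk dD dC dE dCl) 988 91 = true := by decide +kernel

set_option maxRecDepth 1000000 in
theorem cls_hclo_989 : allC (cloChk dD dC dE dCl) 989 91 = true := by decide +kernel

set_option maxRecDepth 1000000 in
theorem cls_hclo_990 : allC (cloChk dD dC dE dCl) 990 91 = true := by decide +kernel

set_option maxRecDepth 1000000 in
theorem cls_hclo_991 : allC (cloChk dD dC dE dCl) 991 91 = true := by decide +kernel

set_option maxRecDepth 1000000 in
theorem cls_hclo_992 : allC (cloChk dD dC dE dCl) 992 91 = true := by decide +kernel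

set_option maxRecDepth 1000000 in
theorem cls_hclo_993 : allC (cloChk dD dC dE dCl) 993 91 = true := by decide +kernel

set_option maxRecDepth 1000000 in
theorem cls_hclo_994 : allC (cloChk dD dC dE dCl) 994 91 = true := by decide +kernel

set_option maxRecDepth 1000000 in
theorem cls_hclo_995 : allC (cloChk dD dC dE dCl) 995 91 = true := by decide +kernel

set_option maxRecDepth 1000000 in
theorem cls_hclo_996 : allC (cloChk dD dC dE dCl) 996 91 = true := by decide +kernel

set_option maxRecDepth 1000000 in
theorem cls_hclo_997 : allC (cloChk dD dC dE dCl) 997 91 = true := by decide +kernel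

set_option maxRecDepth 1000000 in
theorem cls_hclo_998 : allC (cloChk dD dC dE dCl) 998 91 = true := by decide +kernel

set_option maxRecDepth 1000000 in
theorem cls_hclo_999 : allC (cloChk dD dC dE dCl) 999 91 = true := by decide +kernel

end Cfsg.Agent.Helper9.RuO

end
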