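import Mathlib
import Cfsg.Agent.Helper9.RuO.Data

set_option autoImplicit false

/-! Kernel checks of the certificates, a part. -/

noncomputable section

namespace Cfsg.Agent.Helper9.RuO

open Cfsg.Agent.Helper9.OutG Cfsg.Agent.Helper9.J3

set_option maxRecDepth 1000000 in
theorem dw_b_0 : allC (dwChk dD) 0 1 = true := by decide +kernel

set_option maxRecDepth 1000000 in
theorem dw_b_1 : allC (dwChk dD) 1 1 = true := by decide +kernel

set_option maxRecDepth 1000000 in
theorem dw_b_2 : allC (dwChk dD) 2 1 = true := by decide +kernel

set_option maxRecDepth 1000000 in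
theorem dw_b_3 : allC (dwChk dD) 3 1 = true := by decide +kernel

set_option maxRecDepth 1000000 in
theorem dw_b_4 : allC (dwChk dD) 4 1 = true := by decide +kernel

set_option maxRecDepth 1000000 in
theorem dw_b_5 : allC (dwChk dD) 5 1 = true := by decide +kernel

set_option maxRecDepth 1000000 in
theorem dw_b_6 : allC (dwChk dD) 6 1 = true := by decide +kernel

set_option maxRecDepth 1000000 in
theorem dw_b_7 : allC (dwChk dD) 7 1 = true := by decide +kernel

set_option maxRecDepth 1000000 in
theorem dw_b_8 : allC (dwChk dD) 8 1 = true := by decide +kernel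

set_option maxRecDepth 1000000 in
theorem dw_b_9 : allC (dwChk dD) 9 1 = true := by decide +kernel

set_option maxRecDepth 1000000 in
theorem dw_b_10 : allC (dwChk dD) 10 1 = true := by decide +kernel

set_option maxRecDepth 1000000 in
theorem dw_b_11 : allC (dwChk dD) 11 1 = true := by decide +kernel

set_option maxRecDepth 1000000 in
theorem dw_b_12 : allC (dwChk dD) 12 1 = true := by decide +kernel

set_option maxRecDepth 1000000 in
theorem dw_b_13 : allC (dwChk dD) 13 1 = true := by decide +kernel

set_option maxRecDepth 1000000 in
theorem dw_b_14 : allC (dwChk dD) 14 1 = true := by decide +kernel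

set_option maxRecDepth 1000000 in
theorem dw_b_15 : allC (dwChk dD) 15 1 = true := by decide +kernel

set_option maxRecDepth 1000000 in
theorem dw_b_16 : allC (dwChk dD) 16 1 = true := by decide +kernel

set_option maxRecDepth 1000000 in
theorem dw_b_17 : allC (dwChk dD) 17 1 = true := by decide +kernel

set_option maxRecDepth 1000000 in
theorem dw_b_18 : allC (dwChk dD) 18 1 = true := by decide +kernel

set_option maxRecDepth 1000000 in
theorem dw_b_19 : allC (dwChk dD) 19 1 = true := by decide +kernel

set_option maxRecDepth 1000000 in
theorem dw_b_20 : allC (dwChk dD) 20 1 = true := by decide +kernel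

set_option maxRecDepth 1000000 in
theorem dw_b_21 : allC (dwChk dD) 21 1 = true := by decide +kernel

set_option maxRecDepth 1000000 in
theorem dw_b_22 : allC (dwChk dD) 22 1 = true := by decide +kernel

set_option maxRecDepth 1000000 in
theorem dw_b_23 : allC (dwChk dD) 23 1 = true := by decide +kernel

set_option maxRecDepth 1000000 in
theorem dw_b_24 : allC (dwChk dD) 24 1 = true := by decide +kernel

set_option maxRecDepth 1000000 in
theorem dw_b_25 : allC (dwChk dD) 25 1 = true := by decide +kernel

set_option maxRecDepth 1000000 in
theorem dw_b_26 : allC (dwChk dD) 26 1 = true := by decide +kernel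

set_option maxRecDepth 1000000 in
theorem dw_b_27 : allC (dwChk dD) 27 1 = true := by decide +kernel

set_option maxRecDepth 1000000 in
theorem dw_b_28 : allC (dwChk dD) 28 1 = true := by decide +kernel

set_option maxRecDepth 1000000 in
theorem dw_b_29 : allC (dwChk dD) 29 1 = true := by decide +kernel

set_option maxRecDepth 1000000 in
theorem dw_b_30 : allC (dwChk dD) 30 1 = true := by decide +kernel

set_option maxRecDepth 1000000 in
theorem dw_b_31 : allC (dwChk dD) 31 1 = true := by decide +kernel

set_option maxRecDepth 1000000 in
theorem dw_b_32 : allC (dwChk dD) 32 1 = true := by decide +kernel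

set_option maxRecDepth 1000000 in
theorem dw_b_33 : allC (dwChk dD) 33 1 = true := by decide +kernel

set_option maxRecDepth 1000000 in
theorem dw_b_34 : allC (dwChk dD) 34 1 = true := by decide +kernel

set_option maxRecDepth 1000000 in
theorem dw_b_35 : allC (dwChk dD) 35 1 = true := by decide +kernel

set_option maxRecDepth 1000000 in
theorem dw_b_36 : allC (dwChk dD) 36 1 = true := by decide +kernel

set_option maxRecDepth 1000000 in
theorem dw_b_37 : allC (dwChk dD) 37 1 = true := by decide +kernel

set_option maxRecDepth 1000000 in
theorem dw_b_38 : allC (dwChk dD) 38 1 = true := by decide +kernel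

set_option maxRecDepth 1000000 in
theorem dw_b_39 : allC (dwChk dD) 39 1 = true := by decide +kernel

set_option maxRecDepth 1000000 in
theorem dw_b_40 : allC (dwChk dD) 40 1 = true := by decide +kernel

set_option maxRecDepth 1000000 in
theorem dw_b_41 : allC (dwChk dD) 41 1 = true := by decide +kernel

set_option maxRecDepth 1000000 in
theorem dw_b_42 : allC (dwChk dD) 42 1 = true := by decide +kernel

set_option maxRecDepth 1000000 in
theorem dw_b_43 : allC (dwChk dD) 43 1 = true := by decide +kernel

set_option maxRecDepth 1000000 in
theorem dw_b_44 : allC (dwChk dD) 44 1 = true := by decide +kernel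

set_option maxRecDepth 1000000 in
theorem dw_b_45 : allC (dwChk dD) 45 1 = true := by decide +kernel

set_option maxRecDepth 1000000 in
theorem dw_b_46 : allC (dwChk dD) 46 1 = true := by decide +kernel

set_option maxRecDepth 1000000 in
theorem dw_b_47 : allC (dwChk dD) 47 1 = true := by decide +kernel

set_option maxRecDepth 1000000 in
theorem dw_b_48 : allC (dwChk dD) 48 1 = true := by decide +kernel

set_option maxRecDepth 1000000 in
theorem dw_b_49 : allC (dwChk dD) 49 1 = true := by decide +kernel

set_option maxRecDepth 1000000 in
theorem dw_b_50 : allC (dwChk dD) 50 1 = true := by decide +kernel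

set_option maxRecDepth 1000000 in
theorem dw_b_51 : allC (dwChk dD) 51 1 = true := by decide +kernel

set_option maxRecDepth 1000000 in
theorem dw_b_52 : allC (dwChk dD) 52 1 = true := by decide +kernel

set_option maxRecDepth 1000000 in
theorem dw_b_53 : allC (dwChk dD) 53 1 = true := by decide +kernel

set_option maxRecDepth 1000000 in
theorem dw_b_54 : allC (dwChk dD) 54 1 = true := by decide +kernel

set_option maxRecDepth 1000000 in
theorem dw_b_55 : allC (dwChk dD) 55 1 = true := by decide +kernel

set_option maxRecDepth 1000000 in
theorem dw_b_56 : allC (dwChk dD) 56 1 = true := by decide +kernel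

set_option maxRecDepth 1000000 in
theorem dw_b_57 : allC (dwChk dD) 57 1 = true := by decide +kernel

set_option maxRecDepth 1000000 in
theorem dw_b_58 : allC (dwChk dD) 58 1 = true := by decide +kernel

set_option maxRecDepth 1000000 in
theorem dw_b_59 : allC (dwChk dD) 59 1 = true := by decide +kernel

set_option maxRecDepth 1000000 in
theorem dw_b_60 : allC (dwChk dD) 60 1 = true := by decide +kernel

set_option maxRecDepth 1000000 in
theorem dw_b_61 : allC (dwChk dD) 61 1 = true := by decide +kernel

set_option maxRecDepth 1000000 in
theorem dw_b_62 : allC (dwChk dD) 62 1 = true := by decide +kernel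

set_option maxRecDepth 1000000 in
theorem dw_b_63 : allC (dwChk dD) 63 1 = true := by decide +kernel

set_option maxRecDepth 1000000 in
theorem dw_b_64 : allC (dwChk dD) 64 1 = true := by decide +kernel

set_option maxRecDepth 1000000 in
theorem dw_b_65 : allC (dwChk dD) 65 1 = true := by decide +kernel

set_option maxRecDepth 1000000 in
theorem dw_b_66 : allC (dwChk dD) 66 1 = true := by decide +kernel

set_option maxRecDepth 1000000 in
theorem dw_b_67 : allC (dwChk dD) 67 1 = true := by decide +kernel

set_option maxRecDepth 1000000 in
theorem dw_b_68 : allC (dwChk dD) 68 1 = true := by decide +kernel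

set_option maxRecDepth 1000000 in
theorem dw_b_69 : allC (dwChk dD) 69 1 = true := by decide +kernel

set_option maxRecDepth 1000000 in
theorem dw_b_70 : allC (dwChk dD) 70 1 = true := by decide +kernel

set_option maxRecDepth 1000000 in
theorem dw_b_71 : allC (dwChk dD) 71 1 = true := by decide +kernel

set_option maxRecDepth 1000000 in
theorem dw_b_72 : allC (dwChk dD) 72 1 = true := by decide +kernel

set_option maxRecDepth 1000000 in
theorem dw_b_73 : allC (dwChk dD) 73 1 = true := by decide +kernel

set_option maxRecDepth 1000000 in
theorem dw_b_74 : allC (dwChk dD) 74 1 = true := by decide +kernel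

set_option maxRecDepth 1000000 in
theorem dw_b_75 : allC (dwChk dD) 75 1 = true := by decide +kernel

set_option maxRecDepth 1000000 in
theorem dw_b_76 : allC (dwChk dD) 76 1 = true := by decide +kernel

set_option maxRecDepth 1000000 in
theorem dw_b_77 : allC (dwChk dD) 77 1 = true := by decide +kernel

set_option maxRecDepth 1000000 in
theorem dw_b_78 : allC (dwChk dD) 78 1 = true := by decide +kernel

set_option maxRecDepth 1000000 in
theorem dw_b_79 : allC (dwChk dD) 79 1 = true := by decide +kernel

set_option maxRecDepth 1000000 in
theorem dw_b_80 : allC (dwChk dD) 80 1 = true := by decide +kernel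

set_option maxRecDepth 1000000 in
theorem dw_b_81 : allC (dwChk dD) 81 1 = true := by decide +kernel

set_option maxRecDepth 1000000 in
theorem dw_b_82 : allC (dwChk dD) 82 1 = true := by decide +kernel

set_option maxRecDepth 1000000 in
theorem dw_b_83 : allC (dwChk dD) 83 1 = true := by decide +kernel

set_option maxRecDepth 1000000 in
theorem dw_b_84 : allC (dwChk dD) 84 1 = true := by decide +kernel

set_option maxRecDepth 1000000 in
theorem dw_b_85 : allC (dwChk dD) 85 1 = true := by decide +kernel

set_option maxRecDepth 1000000 in
theorem dw_b_86 : allC (dwChk dD) 86 1 = true := by decide +kernel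

set_option maxRecDepth 1000000 in
theorem dw_b_87 : allC (dwChk dD) 87 1 = true := by decide +kernel

set_option maxRecDepth 1000000 in
theorem dw_b_88 : allC (dwChk dD) 88 1 = true := by decide +kernel

set_option maxRecDepth 1000000 in
theorem dw_b_89 : allC (dwChk dD) 89 1 = true := by decide +kernel

end Cfsg.Agent.Helper9.RuO

end
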