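import Mathlib
import Cfsg.Agent.Helper9.RuO.Data

set_option autoImplicit false

/-! Kernel checks of the certificates, a part. -/

noncomputable section

namespace Cfsg.Agent.Helper9.RuO

open Cfsg.Agent.Helper9.OutG Cfsg.Agent.Helper9.J3

set_option maxRecDepth 1000000 in
theorem gen_hlw_0 : allC (fun l => andB (abW dD dE dD.K (nthW dE.lw l)) (allB (fun x => Nat.beq (T dD l x) (evalT dD (nthW dE.lw l) x)) dD.n)) 0 1 = true := by decide +kernel

set_option maxRecDepth 1000000 in
theorem gen_hlw_1 : allC (fun l => andB (abW dD dE dD.K (nthW dE.lw l)) (allB (fun x => Nat.beq (T dD l x) (evalT dD (nthW dE.lw l) x)) dD.n)) 1 1 = true := by decide +kernel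

set_option maxRecDepth 1000000 in
theorem gen_hlw_2 : allC (fun l => andB (abW dD dE dD.K (nthW dE.lw l)) (allB (fun x => Nat.beq (T dD l x) (evalT dD (nthW dE.lw l) x)) dD.n)) 2 1 = true := by decide +kernel

set_option maxRecDepth 1000000 in
theorem gen_hlw_3 : allC (fun l => andB (abW dD dE dD.K (nthW dE.lw l)) (allB (fun x => Nat.beq (T dD l x) (evalT dD (nthW dE.lw l) x)) dD.n)) 3 1 = true := by decide +kernel

set_option maxRecDepth 1000000 in
theorem gen_hlw_4 : allC (fun l => andB (abW dD dE dD.K (nthW dE.lw l)) (allB (fun x => Nat.beq (T dD l x) (evalT dD (nthW dE.lw l) x)) dD.n)) 4 1 = true := by decide +kernel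

set_option maxRecDepth 1000000 in
theorem gen_hlw_5 : allC (fun l => andB (abW dD dE dD.K (nthW dE.lw l)) (allB (fun x => Nat.beq (T dD l x) (evalT dD (nthW dE.lw l) x)) dD.n)) 5 1 = true := by decide +kernel

set_option maxRecDepth 1000000 in
theorem gen_hlw_6 : allC (fun l => andB (abW dD dE dD.K (nthW dE.lw l)) (allB (fun x => Nat.beq (T dD l x) (evalT dD (nthW dE.lw l) x)) dD.n)) 6 1 = true := by decide +kernel

set_option maxRecDepth 1000000 in
theorem gen_hlw_7 : allC (fun l => andB (abW dD dE dD.K (nthW dE.lw l)) (allB (fun x => Nat.beq (T dD l x) (evalT dD (nthW dE.lw l) x)) dD.n)) 7 1 = true := by decide +kernel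

set_option maxRecDepth 1000000 in
theorem gen_hlw_8 : allC (fun l => andB (abW dD dE dD.K (nthW dE.lw l)) (allB (fun x => Nat.beq (T dD l x) (evalT dD (nthW dE.lw l) x)) dD.n)) 8 1 = true := by decide +kernel

set_option maxRecDepth 1000000 in
theorem gen_hlw_9 : allC (fun l => andB (abW dD dE dD.K (nthW dE.lw l)) (allB (fun x => Nat.beq (T dD l x) (evalT dD (nthW dE.lw l) x)) dD.n)) 9 1 = true := by decide +kernel

end Cfsg.Agent.Helper9.RuO

end
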