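import Mathlib
import Cfsg.Agent.Helper9.RuO.Data

set_option autoImplicit false

/-! Kernel checks of the certificates, a part. -/

noncomputable section

namespace Cfsg.Agent.Helper9.RuO

open Cfsg.Agent.Helper9.OutG Cfsg.Agent.Helper9.J3

set_option maxRecDepth 1000000 in
theorem tst_htst_0 : allC (testChk dD dC dE dCl dTs) 0 25 = true := by decide +kernel

set_option maxRecDepth 1000000 in
theorem tst_htst_1 : allC (testChk dD dC dE dCl dTs) 1 25 = true := by decide +kernel

set_option maxRecDepth 1000000 in
theorem tst_htst_2 : allC (testChk dD dC dE dCl dTs) 2 25 = true := by decide +kernel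

set_option maxRecDepth 1000000 in
theorem tst_htst_3 : allC (testChk dD dC dE dCl dTs) 3 25 = true := by decide +kernel

set_option maxRecDepth 1000000 in
theorem tst_htst_4 : allC (testChk dD dC dE dCl dTs) 4 25 = true := by decide +kernel

set_option maxRecDepth 1000000 in
theorem tst_htst_5 : allC (testChk dD dC dE dCl dTs) 5 25 = true := by decide +kernel

set_option maxRecDepth 1000000 in
theorem tst_htst_6 : allC (testChk dD dC dE dCl dTs) 6 25 = true := by decide +kernel

set_option maxRecDepth 1000000 in
theorem tst_htst_7 : allC (testChk dD dC dE dCl dTs) 7 25 = true := by decide +kernel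

set_option maxRecDepth 1000000 in
theorem tst_htst_8 : allC (testChk dD dC dE dCl dTs) 8 25 = true := by decide +kernel

set_option maxRecDepth 1000000 in
theorem tst_htst_9 : allC (testChk dD dC dE dCl dTs) 9 25 = true := by decide +kernel

set_option maxRecDepth 1000000 in
theorem tst_htst_10 : allC (testChk dD dC dE dCl dTs) 10 25 = true := by decide +kernel

set_option maxRecDepth 1000000 in
theorem tst_htst_11 : allC (testChk dD dC dE dCl dTs) 11 25 = true := by decide +kernel

set_option maxRecDepth 1000000 in
theorem tst_htst_12 : allC (testChk dD dC dE dCl dTs) 12 25 = true := by decide +kernel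

set_option maxRecDepth 1000000 in
theorem tst_htst_13 : allC (testChk dD dC dE dCl dTs) 13 25 = true := by decide +kernel

set_option maxRecDepth 1000000 in
theorem tst_htst_14 : allC (testChk dD dC dE dCl dTs) 14 25 = true := by decide +kernel

set_option maxRecDepth 1000000 in
theorem tst_htst_15 : allC (testChk dD dC dE dCl dTs) 15 25 = true := by decide +kernel

set_option maxRecDepth 1000000 in
theorem tst_htst_16 : allC (testChk dD dC dE dCl dTs) 16 25 = true := by decide +kernel

set_option maxRecDepth 1000000 in
theorem tst_htst_17 : allC (testChk dD dC dE dCl dTs) 17 25 = true := by decide +kernel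

set_option maxRecDepth 1000000 in
theorem tst_htst_18 : allC (testChk dD dC dE dCl dTs) 18 25 = true := by decide +kernel

set_option maxRecDepth 1000000 in
theorem tst_htst_19 : allC (testChk dD dC dE dCl dTs) 19 25 = true := by decide +kernel

set_option maxRecDepth 1000000 in
theorem tst_htst_20 : allC (testChk dD dC dE dCl dTs) 20 25 = true := by decide +kernel

set_option maxRecDepth 1000000 in
theorem tst_htst_21 : allC (testChk dD dC dE dCl dTs) 21 25 = true := by decide +kernel

set_option maxRecDepth 1000000 in
theorem tst_htst_22 : allC (testChk dD dC dE dCl dTs) 22 25 = true := by decide +kernel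

set_option maxRecDepth 1000000 in
theorem tst_htst_23 : allC (testChk dD dC dE dCl dTs) 23 25 = true := by decide +kernel

set_option maxRecDepth 1000000 in
theorem tst_htst_24 : allC (testChk dD dC dE dCl dTs) 24 25 = true := by decide +kernel

set_option maxRecDepth 1000000 in
theorem tst_htst_25 : allC (testChk dD dC dE dCl dTs) 25 25 = true := by decide +kernel

set_option maxRecDepth 1000000 in
theorem tst_htst_26 : allC (testChk dD dC dE dCl dTs) 26 25 = true := by decide +kernel

set_option maxRecDepth 1000000 in
theorem tst_htst_27 : allC (testChk dD dC dE dCl dTs) 27 25 = true := by decide +kernel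

set_option maxRecDepth 1000000 in
theorem tst_htst_28 : allC (testChk dD dC dE dCl dTs) 28 25 = true := by decide +kernel

set_option maxRecDepth 1000000 in
theorem tst_htst_29 : allC (testChk dD dC dE dCl dTs) 29 25 = true := by decide +kernel

set_option maxRecDepth 1000000 in
theorem tst_htst_30 : allC (testChk dD dC dE dCl dTs) 30 25 = true := by decide +kernel

set_option maxRecDepth 1000000 in
theorem tst_htst_31 : allC (testChk dD dC dE dCl dTs) 31 25 = true := by decide +kernel

set_option maxRecDepth 1000000 in
theorem tst_htst_32 : allC (testChk dD dC dE dCl dTs) 32 25 = true := by decide +kernel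

set_option maxRecDepth 1000000 in
theorem tst_htst_33 : allC (testChk dD dC dE dCl dTs) 33 25 = true := by decide +kernel

set_option maxRecDepth 1000000 in
theorem tst_htst_34 : allC (testChk dD dC dE dCl dTs) 34 25 = true := by decide +kernel

set_option maxRecDepth 1000000 in
theorem tst_htst_35 : allC (testChk dD dC dE dCl dTs) 35 25 = true := by decide +kernel

set_option maxRecDepth 1000000 in
theorem tst_htst_36 : allC (testChk dD dC dE dCl dTs) 36 25 = true := by decide +kernel

set_option maxRecDepth 1000000 in
theorem tst_htst_37 : allC (testChk dD dC dE dCl dTs) 37 25 = true := by decide +kernel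

set_option maxRecDepth 1000000 in
theorem tst_htst_38 : allC (testChk dD dC dE dCl dTs) 38 25 = true := by decide +kernel

set_option maxRecDepth 1000000 in
theorem tst_htst_39 : allC (testChk dD dC dE dCl dTs) 39 25 = true := by decide +kernel

set_option maxRecDepth 1000000 in
theorem tst_htst_40 : allC (testChk dD dC dE dCl dTs) 40 25 = true := by decide +kernel

set_option maxRecDepth 1000000 in
theorem tst_htst_41 : allC (testChk dD dC dE dCl dTs) 41 25 = true := by decide +kernel

set_option maxRecDepth 1000000 in
theorem tst_htst_42 : allC (testChk dD dC dE dCl dTs) 42 25 = true := by decide +kernel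

set_option maxRecDepth 1000000 in
theorem tst_htst_43 : allC (testChk dD dC dE dCl dTs) 43 25 = true := by decide +kernel

set_option maxRecDepth 1000000 in
theorem tst_htst_44 : allC (testChk dD dC dE dCl dTs) 44 25 = true := by decide +kernel

set_option maxRecDepth 1000000 in
theorem tst_htst_45 : allC (testChk dD dC dE dCl dTs) 45 25 = true := by decide +kernel

set_option maxRecDepth 1000000 in
theorem tst_htst_46 : allC (testChk dD dC dE dCl dTs) 46 25 = true := by decide +kernel

set_option maxRecDepth 1000000 in
theorem tst_htst_47 : allC (testChk dD dC dE dCl dTs) 47 25 = true := by decide +kernel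

set_option maxRecDepth 1000000 in
theorem tst_htst_48 : allC (testChk dD dC dE dCl dTs) 48 25 = true := by decide +kernel

set_option maxRecDepth 1000000 in
theorem tst_htst_49 : allC (testChk dD dC dE dCl dTs) 49 25 = true := by decide +kernel

set_option maxRecDepth 1000000 in
theorem tst_htst_50 : allC (testChk dD dC dE dCl dTs) 50 25 = true := by decide +kernel

set_option maxRecDepth 1000000 in
theorem tst_htst_51 : allC (testChk dD dC dE dCl dTs) 51 25 = true := by decide +kernel

set_option maxRecDepth 1000000 in
theorem tst_htst_52 : allC (testChk dD dC dE dCl dTs) 52 25 = true := by decide +kernel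

set_option maxRecDepth 1000000 in
theorem tst_htst_53 : allC (testChk dD dC dE dCl dTs) 53 25 = true := by decide +kernel

set_option maxRecDepth 1000000 in
theorem tst_htst_54 : allC (testChk dD dC dE dCl dTs) 54 25 = true := by decide +kernel

set_option maxRecDepth 1000000 in
theorem tst_htst_55 : allC (testChk dD dC dE dCl dTs) 55 25 = true := by decide +kernel

set_option maxRecDepth 1000000 in
theorem tst_htst_56 : allC (testChk dD dC dE dCl dTs) 56 25 = true := by decide +kernel

set_option maxRecDepth 1000000 in
theorem tst_htst_57 : allC (testChk dD dC dE dCl dTs) 57 25 = true := by decide +kernel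

set_option maxRecDepth 1000000 in
theorem tst_htst_58 : allC (testChk dD dC dE dCl dTs) 58 25 = true := by decide +kernel

set_option maxRecDepth 1000000 in
theorem tst_htst_59 : allC (testChk dD dC dE dCl dTs) 59 25 = true := by decide +kernel

set_option maxRecDepth 1000000 in
theorem tst_htst_60 : allC (testChk dD dC dE dCl dTs) 60 25 = true := by decide +kernel

set_option maxRecDepth 1000000 in
theorem tst_htst_61 : allC (testChk dD dC dE dCl dTs) 61 25 = true := by decide +kernel

set_option maxRecDepth 1000000 in
theorem tst_htst_62 : allC (testChk dD dC dE dCl dTs) 62 25 = true := by decide +kernel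

set_option maxRecDepth 1000000 in
theorem tst_htst_63 : allC (testChk dD dC dE dCl dTs) 63 25 = true := by decide +kernel

set_option maxRecDepth 1000000 in
theorem tst_htst_64 : allC (testChk dD dC dE dCl dTs) 64 25 = true := by decide +kernel

set_option maxRecDepth 1000000 in
theorem tst_htst_65 : allC (testChk dD dC dE dCl dTs) 65 25 = true := by decide +kernel

set_option maxRecDepth 1000000 in
theorem tst_htst_66 : allC (testChk dD dC dE dCl dTs) 66 25 = true := by decide +kernel

set_option maxRecDepth 1000000 in
theorem tst_htst_67 : allC (testChk dD dC dE dCl dTs) 67 25 = true := by decide +kernel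

set_option maxRecDepth 1000000 in
theorem tst_htst_68 : allC (testChk dD dC dE dCl dTs) 68 25 = true := by decide +kernel

set_option maxRecDepth 1000000 in
theorem tst_htst_69 : allC (testChk dD dC dE dCl dTs) 69 25 = true := by decide +kernel

set_option maxRecDepth 1000000 in
theorem tst_htst_70 : allC (testChk dD dC dE dCl dTs) 70 25 = true := by decide +kernel

set_option maxRecDepth 1000000 in
theorem tst_htst_71 : allC (testChk dD dC dE dCl dTs) 71 25 = true := by decide +kernel

set_option maxRecDepth 1000000 in
theorem tst_htst_72 : allC (testChk dD dC dE dCl dTs) 72 25 = true := by decide +kernel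

set_option maxRecDepth 1000000 in
theorem tst_htst_73 : allC (testChk dD dC dE dCl dTs) 73 25 = true := by decide +kernel

set_option maxRecDepth 1000000 in
theorem tst_htst_74 : allC (testChk dD dC dE dCl dTs) 74 25 = true := by decide +kernel

set_option maxRecDepth 1000000 in
theorem tst_htst_75 : allC (testChk dD dC dE dCl dTs) 75 25 = true := by decide +kernel

set_option maxRecDepth 1000000 in
theorem tst_htst_76 : allC (testChk dD dC dE dCl dTs) 76 25 = true := by decide +kernel

set_option maxRecDepth 1000000 in
theorem tst_htst_77 : allC (testChk dD dC dE dCl dTs) 77 25 = true := by decide +kernel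

set_option maxRecDepth 1000000 in
theorem tst_htst_78 : allC (testChk dD dC dE dCl dTs) 78 25 = true := by decide +kernel

set_option maxRecDepth 1000000 in
theorem tst_htst_79 : allC (testChk dD dC dE dCl dTs) 79 25 = true := by decide +kernel

set_option maxRecDepth 1000000 in
theorem tst_htst_80 : allC (testChk dD dC dE dCl dTs) 80 25 = true := by decide +kernel

set_option maxRecDepth 1000000 in
theorem tst_htst_81 : allC (testChk dD dC dE dCl dTs) 81 25 = true := by decide +kernel

set_option maxRecDepth 1000000 in
theorem tst_htst_82 : allC (testChk dD dC dE dCl dTs) 82 25 = true := by decide +kernel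

set_option maxRecDepth 1000000 in
theorem tst_htst_83 : allC (testChk dD dC dE dCl dTs) 83 25 = true := by decide +kernel

set_option maxRecDepth 1000000 in
theorem tst_htst_84 : allC (testChk dD dC dE dCl dTs) 84 25 = true := by decide +kernel

set_option maxRecDepth 1000000 in
theorem tst_htst_85 : allC (testChk dD dC dE dCl dTs) 85 25 = true := by decide +kernel

set_option maxRecDepth 1000000 in
theorem tst_htst_86 : allC (testChk dD dC dE dCl dTs) 86 25 = true := by decide +kernel

set_option maxRecDepth 1000000 in
theorem tst_htst_87 : allC (testChk dD dC dE dCl dTs) 87 25 = true := by decide +kernel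

set_option maxRecDepth 1000000 in
theorem tst_htst_88 : allC (testChk dD dC dE dCl dTs) 88 25 = true := by decide +kernel

set_option maxRecDepth 1000000 in
theorem tst_htst_89 : allC (testChk dD dC dE dCl dTs) 89 25 = true := by decide +kernel

set_option maxRecDepth 1000000 in
theorem tst_htst_90 : allC (testChk dD dC dE dCl dTs) 90 25 = true := by decide +kernel

set_option maxRecDepth 1000000 in
theorem tst_htst_91 : allC (testChk dD dC dE dCl dTs) 91 25 = true := by decide +kernel

set_option maxRecDepth 1000000 in
theorem tst_htst_92 : allC (testChk dD dC dE dCl dTs) 92 25 = true := by decide +kernel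

set_option maxRecDepth 1000000 in
theorem tst_htst_93 : allC (testChk dD dC dE dCl dTs) 93 25 = true := by decide +kernel

set_option maxRecDepth 1000000 in
theorem tst_htst_94 : allC (testChk dD dC dE dCl dTs) 94 25 = true := by decide +kernel

set_option maxRecDepth 1000000 in
theorem tst_htst_95 : allC (testChk dD dC dE dCl dTs) 95 25 = true := by decide +kernel

set_option maxRecDepth 1000000 in
theorem tst_htst_96 : allC (testChk dD dC dE dCl dTs) 96 25 = true := by decide +kernel

set_option maxRecDepth 1000000 in
theorem tst_htst_97 : allC (testChk dD dC dE dCl dTs) 97 25 = true := by decide +kernel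

set_option maxRecDepth 1000000 in
theorem tst_htst_98 : allC (testChk dD dC dE dCl dTs) 98 25 = true := by decide +kernel

set_option maxRecDepth 1000000 in
theorem tst_htst_99 : allC (testChk dD dC dE dCl dTs) 99 25 = true := by decide +kernel

end Cfsg.Agent.Helper9.RuO

end
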