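import Mathlib
import Cfsg.Agent.Helper9.RuO.Data

set_option autoImplicit false

/-! Kernel checks of the certificates, a part. -/

noncomputable section

namespace Cfsg.Agent.Helper9.RuO

open Cfsg.Agent.Helper9.OutG Cfsg.Agent.Helper9.J3

set_option maxRecDepth 1000000 in
theorem tst_htst_100 : allC (testChk dD dC dE dCl dTs) 100 25 = true := by decide +kernel

set_option maxRecDepth 1000000 in
theorem tst_htst_101 : allC (testChk dD dC dE dCl dTs) 101 25 = true := by decide +kernel

set_option maxRecDepth 1000000 in
theorem tst_htst_102 : allC (testChk dD dC dE dCl dTs) 102 25 = true := by decide +kernel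

set_option maxRecDepth 1000000 in
theorem tst_htst_103 : allC (testChk dD dC dE dCl dTs) 103 25 = true := by decide +kernel

set_option maxRecDepth 1000000 in
theorem tst_htst_104 : allC (testChk dD dC dE dCl dTs) 104 25 = true := by decide +kernel

set_option maxRecDepth 1000000 in
theorem tst_htst_105 : allC (testChk dD dC dE dCl dTs) 105 25 = true := by decide +kernel

set_option maxRecDepth 1000000 in
theorem tst_htst_106 : allC (testChk dD dC dE dCl dTs) 106 25 = true := by decide +kernel

set_option maxRecDepth 1000000 in
theorem tst_htst_107 : allC (testChk dD dC dE dCl dTs) 107 25 = true := by decide +kernel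

set_option maxRecDepth 1000000 in
theorem tst_htst_108 : allC (testChk dD dC dE dCl dTs) 108 25 = true := by decide +kernel

set_option maxRecDepth 1000000 in
theorem tst_htst_109 : allC (testChk dD dC dE dCl dTs) 109 25 = true := by decide +kernel

set_option maxRecDepth 1000000 in
theorem tst_htst_110 : allC (testChk dD dC dE dCl dTs) 110 25 = true := by decide +kernel

set_option maxRecDepth 1000000 in
theorem tst_htst_111 : allC (testChk dD dC dE dCl dTs) 111 25 = true := by decide +kernel

set_option maxRecDepth 1000000 in
theorem tst_htst_112 : allC (testChk dD dC dE dCl dTs) 112 25 = true := by decide +kernel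

set_option maxRecDepth 1000000 in
theorem tst_htst_113 : allC (testChk dD dC dE dCl dTs) 113 25 = true := by decide +kernel

set_option maxRecDepth 1000000 in
theorem tst_htst_114 : allC (testChk dD dC dE dCl dTs) 114 25 = true := by decide +kernel

set_option maxRecDepth 1000000 in
theorem tst_htst_115 : allC (testChk dD dC dE dCl dTs) 115 25 = true := by decide +kernel

set_option maxRecDepth 1000000 in
theorem tst_htst_116 : allC (testChk dD dC dE dCl dTs) 116 25 = true := by decide +kernel

set_option maxRecDepth 1000000 in
theorem tst_htst_117 : allC (testChk dD dC dE dCl dTs) 117 25 = true := by decide +kernel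

set_option maxRecDepth 1000000 in
theorem tst_htst_118 : allC (testChk dD dC dE dCl dTs) 118 25 = true := by decide +kernel

set_option maxRecDepth 1000000 in
theorem tst_htst_119 : allC (testChk dD dC dE dCl dTs) 119 25 = true := by decide +kernel

set_option maxRecDepth 1000000 in
theorem tst_htst_120 : allC (testChk dD dC dE dCl dTs) 120 25 = true := by decide +kernel

set_option maxRecDepth 1000000 in
theorem tst_htst_121 : allC (testChk dD dC dE dCl dTs) 121 25 = true := by decide +kernel

set_option maxRecDepth 1000000 in
theorem tst_htst_122 : allC (testChk dD dC dE dCl dTs) 122 25 = true := by decide +kernel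

set_option maxRecDepth 1000000 in
theorem tst_htst_123 : allC (testChk dD dC dE dCl dTs) 123 25 = true := by decide +kernel

set_option maxRecDepth 1000000 in
theorem tst_htst_124 : allC (testChk dD dC dE dCl dTs) 124 25 = true := by decide +kernel

set_option maxRecDepth 1000000 in
theorem tst_htst_125 : allC (testChk dD dC dE dCl dTs) 125 25 = true := by decide +kernel

set_option maxRecDepth 1000000 in
theorem tst_htst_126 : allC (testChk dD dC dE dCl dTs) 126 25 = true := by decide +kernel

set_option maxRecDepth 1000000 in
theorem tst_htst_127 : allC (testChk dD dC dE dCl dTs) 127 25 = true := by decide +kernel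

set_option maxRecDepth 1000000 in
theorem tst_htst_128 : allC (testChk dD dC dE dCl dTs) 128 25 = true := by decide +kernel

set_option maxRecDepth 1000000 in
theorem tst_htst_129 : allC (testChk dD dC dE dCl dTs) 129 25 = true := by decide +kernel

set_option maxRecDepth 1000000 in
theorem tst_htst_130 : allC (testChk dD dC dE dCl dTs) 130 25 = true := by decide +kernel

set_option maxRecDepth 1000000 in
theorem tst_htst_131 : allC (testChk dD dC dE dCl dTs) 131 25 = true := by decide +kernel

set_option maxRecDepth 1000000 in
theorem tst_htst_132 : allC (testChk dD dC dE dCl dTs) 132 25 = true := by decide +kernel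

set_option maxRecDepth 1000000 in
theorem tst_htst_133 : allC (testChk dD dC dE dCl dTs) 133 25 = true := by decide +kernel

set_option maxRecDepth 1000000 in
theorem tst_htst_134 : allC (testChk dD dC dE dCl dTs) 134 25 = true := by decide +kernel

set_option maxRecDepth 1000000 in
theorem tst_htst_135 : allC (testChk dD dC dE dCl dTs) 135 25 = true := by decide +kernel

set_option maxRecDepth 1000000 in
theorem tst_htst_136 : allC (testChk dD dC dE dCl dTs) 136 25 = true := by decide +kernel

set_option maxRecDepth 1000000 in
theorem tst_htst_137 : allC (testChk dD dC dE dCl dTs) 137 25 = true := by decide +kernel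

set_option maxRecDepth 1000000 in
theorem tst_htst_138 : allC (testChk dD dC dE dCl dTs) 138 25 = true := by decide +kernel

set_option maxRecDepth 1000000 in
theorem tst_htst_139 : allC (testChk dD dC dE dCl dTs) 139 25 = true := by decide +kernel

set_option maxRecDepth 1000000 in
theorem tst_htst_140 : allC (testChk dD dC dE dCl dTs) 140 25 = true := by decide +kernel

set_option maxRecDepth 1000000 in
theorem tst_htst_141 : allC (testChk dD dC dE dCl dTs) 141 25 = true := by decide +kernel

set_option maxRecDepth 1000000 in
theorem tst_htst_142 : allC (testChk dD dC dE dCl dTs) 142 25 = true := by decide +kernel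

set_option maxRecDepth 1000000 in
theorem tst_htst_143 : allC (testChk dD dC dE dCl dTs) 143 25 = true := by decide +kernel

set_option maxRecDepth 1000000 in
theorem tst_htst_144 : allC (testChk dD dC dE dCl dTs) 144 25 = true := by decide +kernel

set_option maxRecDepth 1000000 in
theorem tst_htst_145 : allC (testChk dD dC dE dCl dTs) 145 25 = true := by decide +kernel

set_option maxRecDepth 1000000 in
theorem tst_htst_146 : allC (testChk dD dC dE dCl dTs) 146 25 = true := by decide +kernel

set_option maxRecDepth 1000000 in
theorem tst_htst_147 : allC (testChk dD dC dE dCl dTs) 147 25 = true := by decide +kernel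

set_option maxRecDepth 1000000 in
theorem tst_htst_148 : allC (testChk dD dC dE dCl dTs) 148 25 = true := by decide +kernel

set_option maxRecDepth 1000000 in
theorem tst_htst_149 : allC (testChk dD dC dE dCl dTs) 149 25 = true := by decide +kernel

set_option maxRecDepth 1000000 in
theorem tst_htst_150 : allC (testChk dD dC dE dCl dTs) 150 25 = true := by decide +kernel

set_option maxRecDepth 1000000 in
theorem tst_htst_151 : allC (testChk dD dC dE dCl dTs) 151 25 = true := by decide +kernel

set_option maxRecDepth 1000000 in
theorem tst_htst_152 : allC (testChk dD dC dE dCl dTs) 152 25 = true := by decide +kernel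

set_option maxRecDepth 1000000 in
theorem tst_htst_153 : allC (testChk dD dC dE dCl dTs) 153 25 = true := by decide +kernel

set_option maxRecDepth 1000000 in
theorem tst_htst_154 : allC (testChk dD dC dE dCl dTs) 154 25 = true := by decide +kernel

set_option maxRecDepth 1000000 in
theorem tst_htst_155 : allC (testChk dD dC dE dCl dTs) 155 25 = true := by decide +kernel

set_option maxRecDepth 1000000 in
theorem tst_htst_156 : allC (testChk dD dC dE dCl dTs) 156 25 = true := by decide +kernel

set_option maxRecDepth 1000000 in
theorem tst_htst_157 : allC (testChk dD dC dE dCl dTs) 157 25 = true := by decide +kernel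

set_option maxRecDepth 1000000 in
theorem tst_htst_158 : allC (testChk dD dC dE dCl dTs) 158 25 = true := by decide +kernel

set_option maxRecDepth 1000000 in
theorem tst_htst_159 : allC (testChk dD dC dE dCl dTs) 159 25 = true := by decide +kernel

set_option maxRecDepth 1000000 in
theorem tst_htst_160 : allC (testChk dD dC dE dCl dTs) 160 25 = true := by decide +kernel

set_option maxRecDepth 1000000 in
theorem tst_htst_161 : allC (testChk dD dC dE dCl dTs) 161 25 = true := by decide +kernel

set_option maxRecDepth 1000000 in
theorem tst_htst_162 : allC (testChk dD dC dE dCl dTs) 162 25 = true := by decide +kernel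

set_option maxRecDepth 1000000 in
theorem tst_htst_163 : allC (testChk dD dC dE dCl dTs) 163 25 = true := by decide +kernel

set_option maxRecDepth 1000000 in
theorem tst_htst_164 : allC (testChk dD dC dE dCl dTs) 164 25 = true := by decide +kernel

set_option maxRecDepth 1000000 in
theorem tst_htst_165 : allC (testChk dD dC dE dCl dTs) 165 25 = true := by decide +kernel

set_option maxRecDepth 1000000 in
theorem tst_htst_166 : allC (testChk dD dC dE dCl dTs) 166 25 = true := by decide +kernel

set_option maxRecDepth 1000000 in
theorem tst_htst_167 : allC (testChk dD dC dE dCl dTs) 167 25 = true := by decide +kernel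

set_option maxRecDepth 1000000 in
theorem tst_htst_168 : allC (testChk dD dC dE dCl dTs) 168 25 = true := by decide +kernel

set_option maxRecDepth 1000000 in
theorem tst_htst_169 : allC (testChk dD dC dE dCl dTs) 169 25 = true := by decide +kernel

set_option maxRecDepth 1000000 in
theorem tst_htst_170 : allC (testChk dD dC dE dCl dTs) 170 25 = true := by decide +kernel

set_option maxRecDepth 1000000 in
theorem tst_htst_171 : allC (testChk dD dC dE dCl dTs) 171 25 = true := by decide +kernel

set_option maxRecDepth 1000000 in
theorem tst_htst_172 : allC (testChk dD dC dE dCl dTs) 172 25 = true := by decide +kernel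

set_option maxRecDepth 1000000 in
theorem tst_htst_173 : allC (testChk dD dC dE dCl dTs) 173 25 = true := by decide +kernel

set_option maxRecDepth 1000000 in
theorem tst_htst_174 : allC (testChk dD dC dE dCl dTs) 174 25 = true := by decide +kernel

set_option maxRecDepth 1000000 in
theorem tst_htst_175 : allC (testChk dD dC dE dCl dTs) 175 25 = true := by decide +kernel

set_option maxRecDepth 1000000 in
theorem tst_htst_176 : allC (testChk dD dC dE dCl dTs) 176 25 = true := by decide +kernel

set_option maxRecDepth 1000000 in
theorem tst_htst_177 : allC (testChk dD dC dE dCl dTs) 177 25 = true := by decide +kernel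

set_option maxRecDepth 1000000 in
theorem tst_htst_178 : allC (testChk dD dC dE dCl dTs) 178 25 = true := by decide +kernel

set_option maxRecDepth 1000000 in
theorem tst_htst_179 : allC (testChk dD dC dE dCl dTs) 179 25 = true := by decide +kernel

set_option maxRecDepth 1000000 in
theorem tst_htst_180 : allC (testChk dD dC dE dCl dTs) 180 25 = true := by decide +kernel

set_option maxRecDepth 1000000 in
theorem tst_htst_181 : allC (testChk dD dC dE dCl dTs) 181 25 = true := by decide +kernel

set_option maxRecDepth 1000000 in
theorem tst_htst_182 : allC (testChk dD dC dE dCl dTs) 182 25 = true := by decide +kernel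

set_option maxRecDepth 1000000 in
theorem tst_htst_183 : allC (testChk dD dC dE dCl dTs) 183 25 = true := by decide +kernel

set_option maxRecDepth 1000000 in
theorem tst_htst_184 : allC (testChk dD dC dE dCl dTs) 184 25 = true := by decide +kernel

set_option maxRecDepth 1000000 in
theorem tst_htst_185 : allC (testChk dD dC dE dCl dTs) 185 25 = true := by decide +kernel

set_option maxRecDepth 1000000 in
theorem tst_htst_186 : allC (testChk dD dC dE dCl dTs) 186 25 = true := by decide +kernel

set_option maxRecDepth 1000000 in
theorem tst_htst_187 : allC (testChk dD dC dE dCl dTs) 187 25 = true := by decide +kernel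

set_option maxRecDepth 1000000 in
theorem tst_htst_188 : allC (testChk dD dC dE dCl dTs) 188 25 = true := by decide +kernel

set_option maxRecDepth 1000000 in
theorem tst_htst_189 : allC (testChk dD dC dE dCl dTs) 189 25 = true := by decide +kernel

set_option maxRecDepth 1000000 in
theorem tst_htst_190 : allC (testChk dD dC dE dCl dTs) 190 25 = true := by decide +kernel

set_option maxRecDepth 1000000 in
theorem tst_htst_191 : allC (testChk dD dC dE dCl dTs) 191 25 = true := by decide +kernel

set_option maxRecDepth 1000000 in
theorem tst_htst_192 : allC (testChk dD dC dE dCl dTs) 192 25 = true := by decide +kernel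

set_option maxRecDepth 1000000 in
theorem tst_htst_193 : allC (testChk dD dC dE dCl dTs) 193 25 = true := by decide +kernel

set_option maxRecDepth 1000000 in
theorem tst_htst_194 : allC (testChk dD dC dE dCl dTs) 194 25 = true := by decide +kernel

set_option maxRecDepth 1000000 in
theorem tst_htst_195 : allC (testChk dD dC dE dCl dTs) 195 25 = true := by decide +kernel

set_option maxRecDepth 1000000 in
theorem tst_htst_196 : allC (testChk dD dC dE dCl dTs) 196 25 = true := by decide +kernel

set_option maxRecDepth 1000000 in
theorem tst_htst_197 : allC (testChk dD dC dE dCl dTs) 197 25 = true := by decide +kernel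

set_option maxRecDepth 1000000 in
theorem tst_htst_198 : allC (testChk dD dC dE dCl dTs) 198 25 = true := by decide +kernel

set_option maxRecDepth 1000000 in
theorem tst_htst_199 : allC (testChk dD dC dE dCl dTs) 199 25 = true := by decide +kernel

end Cfsg.Agent.Helper9.RuO

end
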