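import Mathlib
import Cfsg.Agent.Helper9.RuO.Data

set_option autoImplicit false

/-! Kernel checks of the certificates, a part. -/

noncomputable section

namespace Cfsg.Agent.Helper9.RuO

open Cfsg.Agent.Helper9.OutG Cfsg.Agent.Helper9.J3

set_option maxRecDepth 1000000 in
theorem tst_htst_1000 : allC (testChk dD dC dE dCl dTs) 1000 25 = true := by decide +kernel

set_option maxRecDepth 1000000 in
theorem tst_htst_1001 : allC (testChk dD dC dE dCl dTs) 1001 25 = true := by decide +kernel

set_option maxRecDepth 1000000 in
theorem tst_htst_1002 : allC (testChk dD dC dE dCl dTs) 1002 25 = true := by decide +kernel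

set_option maxRecDepth 1000000 in
theorem tst_htst_1003 : allC (testChk dD dC dE dCl dTs) 1003 25 = true := by decide +kernel

set_option maxRecDepth 1000000 in
theorem tst_htst_1004 : allC (testChk dD dC dE dCl dTs) 1004 25 = true := by decide +kernel

set_option maxRecDepth 1000000 in
theorem tst_htst_1005 : allC (testChk dD dC dE dCl dTs) 1005 25 = true := by decide +kernel

set_option maxRecDepth 1000000 in
theorem tst_htst_1006 : allC (testChk dD dC dE dCl dTs) 1006 25 = true := by decide +kernel

set_option maxRecDepth 1000000 in
theorem tst_htst_1007 : allC (testChk dD dC dE dCl dTs) 1007 25 = true := by decide +kernel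

set_option maxRecDepth 1000000 in
theorem tst_htst_1008 : allC (testChk dD dC dE dCl dTs) 1008 25 = true := by decide +kernel

set_option maxRecDepth 1000000 in
theorem tst_htst_1009 : allC (testChk dD dC dE dCl dTs) 1009 25 = true := by decide +kernel

set_option maxRecDepth 1000000 in
theorem tst_htst_1010 : allC (testChk dD dC dE dCl dTs) 1010 25 = true := by decide +kernel

set_option maxRecDepth 1000000 in
theorem tst_htst_1011 : allC (testChk dD dC dE dCl dTs) 1011 25 = true := by decide +kernel

set_option maxRecDepth 1000000 in
theorem tst_htst_1012 : allC (testChk dD dC dE dCl dTs) 1012 25 = true := by decide +kernel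

set_option maxRecDepth 1000000 in
theorem tst_htst_1013 : allC (testChk dD dC dE dCl dTs) 1013 25 = true := by decide +kernel

set_option maxRecDepth 1000000 in
theorem tst_htst_1014 : allC (testChk dD dC dE dCl dTs) 1014 25 = true := by decide +kernel

set_option maxRecDepth 1000000 in
theorem tst_htst_1015 : allC (testChk dD dC dE dCl dTs) 1015 25 = true := by decide +kernel

set_option maxRecDepth 1000000 in
theorem tst_htst_1016 : allC (testChk dD dC dE dCl dTs) 1016 25 = true := by decide +kernel

set_option maxRecDepth 1000000 in
theorem tst_htst_1017 : allC (testChk dD dC dE dCl dTs) 1017 25 = true := by decide +kernel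

set_option maxRecDepth 1000000 in
theorem tst_htst_1018 : allC (testChk dD dC dE dCl dTs) 1018 25 = true := by decide +kernel

set_option maxRecDepth 1000000 in
theorem tst_htst_1019 : allC (testChk dD dC dE dCl dTs) 1019 25 = true := by decide +kernel

set_option maxRecDepth 1000000 in
theorem tst_htst_1020 : allC (testChk dD dC dE dCl dTs) 1020 25 = true := by decide +kernel

set_option maxRecDepth 1000000 in
theorem tst_htst_1021 : allC (testChk dD dC dE dCl dTs) 1021 25 = true := by decide +kernel

set_option maxRecDepth 1000000 in
theorem tst_htst_1022 : allC (testChk dD dC dE dCl dTs) 1022 25 = true := by decide +kernel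

set_option maxRecDepth 1000000 in
theorem tst_htst_1023 : allC (testChk dD dC dE dCl dTs) 1023 25 = true := by decide +kernel

set_option maxRecDepth 1000000 in
theorem tst_htst_1024 : allC (testChk dD dC dE dCl dTs) 1024 25 = true := by decide +kernel

set_option maxRecDepth 1000000 in
theorem tst_htst_1025 : allC (testChk dD dC dE dCl dTs) 1025 25 = true := by decide +kernel

set_option maxRecDepth 1000000 in
theorem tst_htst_1026 : allC (testChk dD dC dE dCl dTs) 1026 25 = true := by decide +kernel

set_option maxRecDepth 1000000 in
theorem tst_htst_1027 : allC (testChk dD dC dE dCl dTs) 1027 25 = true := by decide +kernel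

set_option maxRecDepth 1000000 in
theorem tst_htst_1028 : allC (testChk dD dC dE dCl dTs) 1028 25 = true := by decide +kernel

set_option maxRecDepth 1000000 in
theorem tst_htst_1029 : allC (testChk dD dC dE dCl dTs) 1029 25 = true := by decide +kernel

set_option maxRecDepth 1000000 in
theorem tst_htst_1030 : allC (testChk dD dC dE dCl dTs) 1030 25 = true := by decide +kernel

set_option maxRecDepth 1000000 in
theorem tst_htst_1031 : allC (testChk dD dC dE dCl dTs) 1031 25 = true := by decide +kernel

set_option maxRecDepth 1000000 in
theorem tst_htst_1032 : allC (testChk dD dC dE dCl dTs) 1032 25 = true := by decide +kernel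

set_option maxRecDepth 1000000 in
theorem tst_htst_1033 : allC (testChk dD dC dE dCl dTs) 1033 25 = true := by decide +kernel

set_option maxRecDepth 1000000 in
theorem tst_htst_1034 : allC (testChk dD dC dE dCl dTs) 1034 25 = true := by decide +kernel

set_option maxRecDepth 1000000 in
theorem tst_htst_1035 : allC (testChk dD dC dE dCl dTs) 1035 25 = true := by decide +kernel

set_option maxRecDepth 1000000 in
theorem tst_htst_1036 : allC (testChk dD dC dE dCl dTs) 1036 25 = true := by decide +kernel

set_option maxRecDepth 1000000 in
theorem tst_htst_1037 : allC (testChk dD dC dE dCl dTs) 1037 25 = true := by decide +kernel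

set_option maxRecDepth 1000000 in
theorem tst_htst_1038 : allC (testChk dD dC dE dCl dTs) 1038 25 = true := by decide +kernel

set_option maxRecDepth 1000000 in
theorem tst_htst_1039 : allC (testChk dD dC dE dCl dTs) 1039 25 = true := by decide +kernel

set_option maxRecDepth 1000000 in
theorem tst_htst_1040 : allC (testChk dD dC dE dCl dTs) 1040 25 = true := by decide +kernel

set_option maxRecDepth 1000000 in
theorem tst_htst_1041 : allC (testChk dD dC dE dCl dTs) 1041 25 = true := by decide +kernel

set_option maxRecDepth 1000000 in
theorem tst_htst_1042 : allC (testChk dD dC dE dCl dTs) 1042 25 = true := by decide +kernel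

set_option maxRecDepth 1000000 in
theorem tst_htst_1043 : allC (testChk dD dC dE dCl dTs) 1043 25 = true := by decide +kernel

set_option maxRecDepth 1000000 in
theorem tst_htst_1044 : allC (testChk dD dC dE dCl dTs) 1044 25 = true := by decide +kernel

set_option maxRecDepth 1000000 in
theorem tst_htst_1045 : allC (testChk dD dC dE dCl dTs) 1045 25 = true := by decide +kernel

set_option maxRecDepth 1000000 in
theorem tst_htst_1046 : allC (testChk dD dC dE dCl dTs) 1046 25 = true := by decide +kernel

set_option maxRecDepth 1000000 in
theorem tst_htst_1047 : allC (testChk dD dC dE dCl dTs) 1047 25 = true := by decide +kernel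

set_option maxRecDepth 1000000 in
theorem tst_htst_1048 : allC (testChk dD dC dE dCl dTs) 1048 25 = true := by decide +kernel

set_option maxRecDepth 1000000 in
theorem tst_htst_1049 : allC (testChk dD dC dE dCl dTs) 1049 25 = true := by decide +kernel

set_option maxRecDepth 1000000 in
theorem tst_htst_1050 : allC (testChk dD dC dE dCl dTs) 1050 25 = true := by decide +kernel

set_option maxRecDepth 1000000 in
theorem tst_htst_1051 : allC (testChk dD dC dE dCl dTs) 1051 25 = true := by decide +kernel

set_option maxRecDepth 1000000 in
theorem tst_htst_1052 : allC (testChk dD dC dE dCl dTs) 1052 25 = true := by decide +kernel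

set_option maxRecDepth 1000000 in
theorem tst_htst_1053 : allC (testChk dD dC dE dCl dTs) 1053 25 = true := by decide +kernel

set_option maxRecDepth 1000000 in
theorem tst_htst_1054 : allC (testChk dD dC dE dCl dTs) 1054 25 = true := by decide +kernel

set_option maxRecDepth 1000000 in
theorem tst_htst_1055 : allC (testChk dD dC dE dCl dTs) 1055 25 = true := by decide +kernel

set_option maxRecDepth 1000000 in
theorem tst_htst_1056 : allC (testChk dD dC dE dCl dTs) 1056 25 = true := by decide +kernel

set_option maxRecDepth 1000000 in
theorem tst_htst_1057 : allC (testChk dD dC dE dCl dTs) 1057 25 = true := by decide +kernel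

set_option maxRecDepth 1000000 in
theorem tst_htst_1058 : allC (testChk dD dC dE dCl dTs) 1058 25 = true := by decide +kernel

set_option maxRecDepth 1000000 in
theorem tst_htst_1059 : allC (testChk dD dC dE dCl dTs) 1059 25 = true := by decide +kernel

set_option maxRecDepth 1000000 in
theorem tst_htst_1060 : allC (testChk dD dC dE dCl dTs) 1060 25 = true := by decide +kernel

set_option maxRecDepth 1000000 in
theorem tst_htst_1061 : allC (testChk dD dC dE dCl dTs) 1061 25 = true := by decide +kernel

set_option maxRecDepth 1000000 in
theorem tst_htst_1062 : allC (testChk dD dC dE dCl dTs) 1062 25 = true := by decide +kernel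

set_option maxRecDepth 1000000 in
theorem tst_htst_1063 : allC (testChk dD dC dE dCl dTs) 1063 25 = true := by decide +kernel

set_option maxRecDepth 1000000 in
theorem tst_htst_1064 : allC (testChk dD dC dE dCl dTs) 1064 25 = true := by decide +kernel

set_option maxRecDepth 1000000 in
theorem tst_htst_1065 : allC (testChk dD dC dE dCl dTs) 1065 25 = true := by decide +kernel

set_option maxRecDepth 1000000 in
theorem tst_htst_1066 : allC (testChk dD dC dE dCl dTs) 1066 25 = true := by decide +kernel

set_option maxRecDepth 1000000 in
theorem tst_htst_1067 : allC (testChk dD dC dE dCl dTs) 1067 25 = true := by decide +kernel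

set_option maxRecDepth 1000000 in
theorem tst_htst_1068 : allC (testChk dD dC dE dCl dTs) 1068 25 = true := by decide +kernel

set_option maxRecDepth 1000000 in
theorem tst_htst_1069 : allC (testChk dD dC dE dCl dTs) 1069 25 = true := by decide +kernel

set_option maxRecDepth 1000000 in
theorem tst_htst_1070 : allC (testChk dD dC dE dCl dTs) 1070 25 = true := by decide +kernel

set_option maxRecDepth 1000000 in
theorem tst_htst_1071 : allC (testChk dD dC dE dCl dTs) 1071 25 = true := by decide +kernel

set_option maxRecDepth 1000000 in
theorem tst_htst_1072 : allC (testChk dD dC dE dCl dTs) 1072 25 = true := by decide +kernel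

set_option maxRecDepth 1000000 in
theorem tst_htst_1073 : allC (testChk dD dC dE dCl dTs) 1073 25 = true := by decide +kernel

set_option maxRecDepth 1000000 in
theorem tst_htst_1074 : allC (testChk dD dC dE dCl dTs) 1074 25 = true := by decide +kernel

set_option maxRecDepth 1000000 in
theorem tst_htst_1075 : allC (testChk dD dC dE dCl dTs) 1075 25 = true := by decide +kernel

set_option maxRecDepth 1000000 in
theorem tst_htst_1076 : allC (testChk dD dC dE dCl dTs) 1076 25 = true := by decide +kernel

set_option maxRecDepth 1000000 in
theorem tst_htst_1077 : allC (testChk dD dC dE dCl dTs) 1077 25 = true := by decide +kernel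

set_option maxRecDepth 1000000 in
theorem tst_htst_1078 : allC (testChk dD dC dE dCl dTs) 1078 25 = true := by decide +kernel

set_option maxRecDepth 1000000 in
theorem tst_htst_1079 : allC (testChk dD dC dE dCl dTs) 1079 25 = true := by decide +kernel

set_option maxRecDepth 1000000 in
theorem tst_htst_1080 : allC (testChk dD dC dE dCl dTs) 1080 25 = true := by decide +kernel

set_option maxRecDepth 1000000 in
theorem tst_htst_1081 : allC (testChk dD dC dE dCl dTs) 1081 25 = true := by decide +kernel

set_option maxRecDepth 1000000 in
theorem tst_htst_1082 : allC (testChk dD dC dE dCl dTs) 1082 25 = true := by decide +kernel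

set_option maxRecDepth 1000000 in
theorem tst_htst_1083 : allC (testChk dD dC dE dCl dTs) 1083 25 = true := by decide +kernel

set_option maxRecDepth 1000000 in
theorem tst_htst_1084 : allC (testChk dD dC dE dCl dTs) 1084 25 = true := by decide +kernel

set_option maxRecDepth 1000000 in
theorem tst_htst_1085 : allC (testChk dD dC dE dCl dTs) 1085 25 = true := by decide +kernel

set_option maxRecDepth 1000000 in
theorem tst_htst_1086 : allC (testChk dD dC dE dCl dTs) 1086 25 = true := by decide +kernel

set_option maxRecDepth 1000000 in
theorem tst_htst_1087 : allC (testChk dD dC dE dCl dTs) 1087 25 = true := by decide +kernel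

set_option maxRecDepth 1000000 in
theorem tst_htst_1088 : allC (testChk dD dC dE dCl dTs) 1088 25 = true := by decide +kernel

set_option maxRecDepth 1000000 in
theorem tst_htst_1089 : allC (testChk dD dC dE dCl dTs) 1089 25 = true := by decide +kernel

set_option maxRecDepth 1000000 in
theorem tst_htst_1090 : allC (testChk dD dC dE dCl dTs) 1090 25 = true := by decide +kernel

set_option maxRecDepth 1000000 in
theorem tst_htst_1091 : allC (testChk dD dC dE dCl dTs) 1091 25 = true := by decide +kernel

set_option maxRecDepth 1000000 in
theorem tst_htst_1092 : allC (testChk dD dC dE dCl dTs) 1092 25 = true := by decide +kernel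

set_option maxRecDepth 1000000 in
theorem tst_htst_1093 : allC (testChk dD dC dE dCl dTs) 1093 25 = true := by decide +kernel

set_option maxRecDepth 1000000 in
theorem tst_htst_1094 : allC (testChk dD dC dE dCl dTs) 1094 25 = true := by decide +kernel

set_option maxRecDepth 1000000 in
theorem tst_htst_1095 : allC (testChk dD dC dE dCl dTs) 1095 25 = true := by decide +kernel

set_option maxRecDepth 1000000 in
theorem tst_htst_1096 : allC (testChk dD dC dE dCl dTs) 1096 25 = true := by decide +kernel

set_option maxRecDepth 1000000 in
theorem tst_htst_1097 : allC (testChk dD dC dE dCl dTs) 1097 25 = true := by decide +kernel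

set_option maxRecDepth 1000000 in
theorem tst_htst_1098 : allC (testChk dD dC dE dCl dTs) 1098 25 = true := by decide +kernel

set_option maxRecDepth 1000000 in
theorem tst_htst_1099 : allC (testChk dD dC dE dCl dTs) 1099 25 = true := by decide +kernel

end Cfsg.Agent.Helper9.RuO

end
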