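import Mathlib
import Cfsg.Agent.Helper9.RuO.Data

set_option autoImplicit false

/-! Kernel checks of the certificates, a part. -/

noncomputable section

namespace Cfsg.Agent.Helper9.RuO

open Cfsg.Agent.Helper9.OutG Cfsg.Agent.Helper9.J3

set_option maxRecDepth 1000000 in
theorem tst_htst_1100 : allC (testChk dD dC dE dCl dTs) 1100 25 = true := by decide +kernel

set_option maxRecDepth 1000000 in
theorem tst_htst_1101 : allC (testChk dD dC dE dCl dTs) 1101 25 = true := by decide +kernel

set_option maxRecDepth 1000000 in
theorem tst_htst_1102 : allC (testChk dD dC dE dCl dTs) 1102 25 = true := by decide +kernel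

set_option maxRecDepth 1000000 in
theorem tst_htst_1103 : allC (testChk dD dC dE dCl dTs) 1103 25 = true := by decide +kernel

set_option maxRecDepth 1000000 in
theorem tst_htst_1104 : allC (testChk dD dC dE dCl dTs) 1104 25 = true := by decide +kernel

set_option maxRecDepth 1000000 in
theorem tst_htst_1105 : allC (testChk dD dC dE dCl dTs) 1105 25 = true := by decide +kernel

set_option maxRecDepth 1000000 in
theorem tst_htst_1106 : allC (testChk dD dC dE dCl dTs) 1106 25 = true := by decide +kernel

set_option maxRecDepth 1000000 in
theorem tst_htst_1107 : allC (testChk dD dC dE dCl dTs) 1107 25 = true := by decide +kernel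

set_option maxRecDepth 1000000 in
theorem tst_htst_1108 : allC (testChk dD dC dE dCl dTs) 1108 25 = true := by decide +kernel

set_option maxRecDepth 1000000 in
theorem tst_htst_1109 : allC (testChk dD dC dE dCl dTs) 1109 25 = true := by decide +kernel

set_option maxRecDepth 1000000 in
theorem tst_htst_1110 : allC (testChk dD dC dE dCl dTs) 1110 25 = true := by decide +kernel

set_option maxRecDepth 1000000 in
theorem tst_htst_1111 : allC (testChk dD dC dE dCl dTs) 1111 25 = true := by decide +kernel

set_option maxRecDepth 1000000 in
theorem tst_htst_1112 : allC (testChk dD dC dE dCl dTs) 1112 25 = true := by decide +kernel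

set_option maxRecDepth 1000000 in
theorem tst_htst_1113 : allC (testChk dD dC dE dCl dTs) 1113 25 = true := by decide +kernel

set_option maxRecDepth 1000000 in
theorem tst_htst_1114 : allC (testChk dD dC dE dCl dTs) 1114 25 = true := by decide +kernel

set_option maxRecDepth 1000000 in
theorem tst_htst_1115 : allC (testChk dD dC dE dCl dTs) 1115 25 = true := by decide +kernel

set_option maxRecDepth 1000000 in
theorem tst_htst_1116 : allC (testChk dD dC dE dCl dTs) 1116 25 = true := by decide +kernel

set_option maxRecDepth 1000000 in
theorem tst_htst_1117 : allC (testChk dD dC dE dCl dTs) 1117 25 = true := by decide +kernel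

set_option maxRecDepth 1000000 in
theorem tst_htst_1118 : allC (testChk dD dC dE dCl dTs) 1118 25 = true := by decide +kernel

set_option maxRecDepth 1000000 in
theorem tst_htst_1119 : allC (testChk dD dC dE dCl dTs) 1119 25 = true := by decide +kernel

set_option maxRecDepth 1000000 in
theorem tst_htst_1120 : allC (testChk dD dC dE dCl dTs) 1120 25 = true := by decide +kernel

set_option maxRecDepth 1000000 in
theorem tst_htst_1121 : allC (testChk dD dC dE dCl dTs) 1121 25 = true := by decide +kernel

set_option maxRecDepth 1000000 in
theorem tst_htst_1122 : allC (testChk dD dC dE dCl dTs) 1122 25 = true := by decide +kernel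

set_option maxRecDepth 1000000 in
theorem tst_htst_1123 : allC (testChk dD dC dE dCl dTs) 1123 25 = true := by decide +kernel

set_option maxRecDepth 1000000 in
theorem tst_htst_1124 : allC (testChk dD dC dE dCl dTs) 1124 25 = true := by decide +kernel

set_option maxRecDepth 1000000 in
theorem tst_htst_1125 : allC (testChk dD dC dE dCl dTs) 1125 25 = true := by decide +kernel

set_option maxRecDepth 1000000 in
theorem tst_htst_1126 : allC (testChk dD dC dE dCl dTs) 1126 25 = true := by decide +kernel

set_option maxRecDepth 1000000 in
theorem tst_htst_1127 : allC (testChk dD dC dE dCl dTs) 1127 25 = true := by decide +kernel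

set_option maxRecDepth 1000000 in
theorem tst_htst_1128 : allC (testChk dD dC dE dCl dTs) 1128 25 = true := by decide +kernel

set_option maxRecDepth 1000000 in
theorem tst_htst_1129 : allC (testChk dD dC dE dCl dTs) 1129 25 = true := by decide +kernel

set_option maxRecDepth 1000000 in
theorem tst_htst_1130 : allC (testChk dD dC dE dCl dTs) 1130 25 = true := by decide +kernel

set_option maxRecDepth 1000000 in
theorem tst_htst_1131 : allC (testChk dD dC dE dCl dTs) 1131 25 = true := by decide +kernel

set_option maxRecDepth 1000000 in
theorem tst_htst_1132 : allC (testChk dD dC dE dCl dTs) 1132 25 = true := by decide +kernel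

set_option maxRecDepth 1000000 in
theorem tst_htst_1133 : allC (testChk dD dC dE dCl dTs) 1133 25 = true := by decide +kernel

set_option maxRecDepth 1000000 in
theorem tst_htst_1134 : allC (testChk dD dC dE dCl dTs) 1134 25 = true := by decide +kernel

set_option maxRecDepth 1000000 in
theorem tst_htst_1135 : allC (testChk dD dC dE dCl dTs) 1135 25 = true := by decide +kernel

set_option maxRecDepth 1000000 in
theorem tst_htst_1136 : allC (testChk dD dC dE dCl dTs) 1136 25 = true := by decide +kernel

set_option maxRecDepth 1000000 in
theorem tst_htst_1137 : allC (testChk dD dC dE dCl dTs) 1137 25 = true := by decide +kernel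

set_option maxRecDepth 1000000 in
theorem tst_htst_1138 : allC (testChk dD dC dE dCl dTs) 1138 25 = true := by decide +kernel

set_option maxRecDepth 1000000 in
theorem tst_htst_1139 : allC (testChk dD dC dE dCl dTs) 1139 25 = true := by decide +kernel

set_option maxRecDepth 1000000 in
theorem tst_htst_1140 : allC (testChk dD dC dE dCl dTs) 1140 25 = true := by decide +kernel

set_option maxRecDepth 1000000 in
theorem tst_htst_1141 : allC (testChk dD dC dE dCl dTs) 1141 25 = true := by decide +kernel

set_option maxRecDepth 1000000 in
theorem tst_htst_1142 : allC (testChk dD dC dE dCl dTs) 1142 25 = true := by decide +kernel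

set_option maxRecDepth 1000000 in
theorem tst_htst_1143 : allC (testChk dD dC dE dCl dTs) 1143 25 = true := by decide +kernel

set_option maxRecDepth 1000000 in
theorem tst_htst_1144 : allC (testChk dD dC dE dCl dTs) 1144 25 = true := by decide +kernel

set_option maxRecDepth 1000000 in
theorem tst_htst_1145 : allC (testChk dD dC dE dCl dTs) 1145 25 = true := by decide +kernel

set_option maxRecDepth 1000000 in
theorem tst_htst_1146 : allC (testChk dD dC dE dCl dTs) 1146 25 = true := by decide +kernel

set_option maxRecDepth 1000000 in
theorem tst_htst_1147 : allC (testChk dD dC dE dCl dTs) 1147 25 = true := by decide +kernel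

set_option maxRecDepth 1000000 in
theorem tst_htst_1148 : allC (testChk dD dC dE dCl dTs) 1148 25 = true := by decide +kernel

set_option maxRecDepth 1000000 in
theorem tst_htst_1149 : allC (testChk dD dC dE dCl dTs) 1149 25 = true := by decide +kernel

set_option maxRecDepth 1000000 in
theorem tst_htst_1150 : allC (testChk dD dC dE dCl dTs) 1150 25 = true := by decide +kernel

set_option maxRecDepth 1000000 in
theorem tst_htst_1151 : allC (testChk dD dC dE dCl dTs) 1151 25 = true := by decide +kernel

set_option maxRecDepth 1000000 in
theorem tst_htst_1152 : allC (testChk dD dC dE dCl dTs) 1152 25 = true := by decide +kernel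

set_option maxRecDepth 1000000 in
theorem tst_htst_1153 : allC (testChk dD dC dE dCl dTs) 1153 25 = true := by decide +kernel

set_option maxRecDepth 1000000 in
theorem tst_htst_1154 : allC (testChk dD dC dE dCl dTs) 1154 25 = true := by decide +kernel

set_option maxRecDepth 1000000 in
theorem tst_htst_1155 : allC (testChk dD dC dE dCl dTs) 1155 25 = true := by decide +kernel

set_option maxRecDepth 1000000 in
theorem tst_htst_1156 : allC (testChk dD dC dE dCl dTs) 1156 25 = true := by decide +kernel

set_option maxRecDepth 1000000 in
theorem tst_htst_1157 : allC (testChk dD dC dE dCl dTs) 1157 25 = true := by decide +kernel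

set_option maxRecDepth 1000000 in
theorem tst_htst_1158 : allC (testChk dD dC dE dCl dTs) 1158 25 = true := by decide +kernel

set_option maxRecDepth 1000000 in
theorem tst_htst_1159 : allC (testChk dD dC dE dCl dTs) 1159 25 = true := by decide +kernel

set_option maxRecDepth 1000000 in
theorem tst_htst_1160 : allC (testChk dD dC dE dCl dTs) 1160 25 = true := by decide +kernel

set_option maxRecDepth 1000000 in
theorem tst_htst_1161 : allC (testChk dD dC dE dCl dTs) 1161 25 = true := by decide +kernel

set_option maxRecDepth 1000000 in
theorem tst_htst_1162 : allC (testChk dD dC dE dCl dTs) 1162 25 = true := by decide +kernel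

set_option maxRecDepth 1000000 in
theorem tst_htst_1163 : allC (testChk dD dC dE dCl dTs) 1163 25 = true := by decide +kernel

set_option maxRecDepth 1000000 in
theorem tst_htst_1164 : allC (testChk dD dC dE dCl dTs) 1164 25 = true := by decide +kernel

set_option maxRecDepth 1000000 in
theorem tst_htst_1165 : allC (testChk dD dC dE dCl dTs) 1165 25 = true := by decide +kernel

set_option maxRecDepth 1000000 in
theorem tst_htst_1166 : allC (testChk dD dC dE dCl dTs) 1166 25 = true := by decide +kernel

set_option maxRecDepth 1000000 in
theorem tst_htst_1167 : allC (testChk dD dC dE dCl dTs) 1167 25 = true := by decide +kernel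

set_option maxRecDepth 1000000 in
theorem tst_htst_1168 : allC (testChk dD dC dE dCl dTs) 1168 25 = true := by decide +kernel

set_option maxRecDepth 1000000 in
theorem tst_htst_1169 : allC (testChk dD dC dE dCl dTs) 1169 25 = true := by decide +kernel

set_option maxRecDepth 1000000 in
theorem tst_htst_1170 : allC (testChk dD dC dE dCl dTs) 1170 25 = true := by decide +kernel

set_option maxRecDepth 1000000 in
theorem tst_htst_1171 : allC (testChk dD dC dE dCl dTs) 1171 25 = true := by decide +kernel

set_option maxRecDepth 1000000 in
theorem tst_htst_1172 : allC (testChk dD dC dE dCl dTs) 1172 25 = true := by decide +kernel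

set_option maxRecDepth 1000000 in
theorem tst_htst_1173 : allC (testChk dD dC dE dCl dTs) 1173 25 = true := by decide +kernel

set_option maxRecDepth 1000000 in
theorem tst_htst_1174 : allC (testChk dD dC dE dCl dTs) 1174 25 = true := by decide +kernel

set_option maxRecDepth 1000000 in
theorem tst_htst_1175 : allC (testChk dD dC dE dCl dTs) 1175 25 = true := by decide +kernel

set_option maxRecDepth 1000000 in
theorem tst_htst_1176 : allC (testChk dD dC dE dCl dTs) 1176 25 = true := by decide +kernel

set_option maxRecDepth 1000000 in
theorem tst_htst_1177 : allC (testChk dD dC dE dCl dTs) 1177 25 = true := by decide +kernel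

set_option maxRecDepth 1000000 in
theorem tst_htst_1178 : allC (testChk dD dC dE dCl dTs) 1178 25 = true := by decide +kernel

set_option maxRecDepth 1000000 in
theorem tst_htst_1179 : allC (testChk dD dC dE dCl dTs) 1179 25 = true := by decide +kernel

set_option maxRecDepth 1000000 in
theorem tst_htst_1180 : allC (testChk dD dC dE dCl dTs) 1180 25 = true := by decide +kernel

set_option maxRecDepth 1000000 in
theorem tst_htst_1181 : allC (testChk dD dC dE dCl dTs) 1181 25 = true := by decide +kernel

set_option maxRecDepth 1000000 in
theorem tst_htst_1182 : allC (testChk dD dC dE dCl dTs) 1182 25 = true := by decide +kernel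

set_option maxRecDepth 1000000 in
theorem tst_htst_1183 : allC (testChk dD dC dE dCl dTs) 1183 25 = true := by decide +kernel

set_option maxRecDepth 1000000 in
theorem tst_htst_1184 : allC (testChk dD dC dE dCl dTs) 1184 25 = true := by decide +kernel

set_option maxRecDepth 1000000 in
theorem tst_htst_1185 : allC (testChk dD dC dE dCl dTs) 1185 25 = true := by decide +kernel

set_option maxRecDepth 1000000 in
theorem tst_htst_1186 : allC (testChk dD dC dE dCl dTs) 1186 25 = true := by decide +kernel

set_option maxRecDepth 1000000 in
theorem tst_htst_1187 : allC (testChk dD dC dE dCl dTs) 1187 25 = true := by decide +kernel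

set_option maxRecDepth 1000000 in
theorem tst_htst_1188 : allC (testChk dD dC dE dCl dTs) 1188 25 = true := by decide +kernel

set_option maxRecDepth 1000000 in
theorem tst_htst_1189 : allC (testChk dD dC dE dCl dTs) 1189 25 = true := by decide +kernel

set_option maxRecDepth 1000000 in
theorem tst_htst_1190 : allC (testChk dD dC dE dCl dTs) 1190 25 = true := by decide +kernel

set_option maxRecDepth 1000000 in
theorem tst_htst_1191 : allC (testChk dD dC dE dCl dTs) 1191 25 = true := by decide +kernel

set_option maxRecDepth 1000000 in
theorem tst_htst_1192 : allC (testChk dD dC dE dCl dTs) 1192 25 = true := by decide +kernel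

set_option maxRecDepth 1000000 in
theorem tst_htst_1193 : allC (testChk dD dC dE dCl dTs) 1193 25 = true := by decide +kernel

set_option maxRecDepth 1000000 in
theorem tst_htst_1194 : allC (testChk dD dC dE dCl dTs) 1194 25 = true := by decide +kernel

set_option maxRecDepth 1000000 in
theorem tst_htst_1195 : allC (testChk dD dC dE dCl dTs) 1195 25 = true := by decide +kernel

set_option maxRecDepth 1000000 in
theorem tst_htst_1196 : allC (testChk dD dC dE dCl dTs) 1196 25 = true := by decide +kernel

set_option maxRecDepth 1000000 in
theorem tst_htst_1197 : allC (testChk dD dC dE dCl dTs) 1197 25 = true := by decide +kernel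

set_option maxRecDepth 1000000 in
theorem tst_htst_1198 : allC (testChk dD dC dE dCl dTs) 1198 25 = true := by decide +kernel

set_option maxRecDepth 1000000 in
theorem tst_htst_1199 : allC (testChk dD dC dE dCl dTs) 1199 25 = true := by decide +kernel

end Cfsg.Agent.Helper9.RuO

end
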