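import Mathlib
import Cfsg.Agent.Helper9.RuO.Data

set_option autoImplicit false

/-! Kernel checks of the certificates, a part. -/

noncomputable section

namespace Cfsg.Agent.Helper9.RuO

open Cfsg.Agent.Helper9.OutG Cfsg.Agent.Helper9.J3

set_option maxRecDepth 1000000 in
theorem tst_htst_1200 : allC (testChk dD dC dE dCl dTs) 1200 25 = true := by decide +kernel

set_option maxRecDepth 1000000 in
theorem tst_htst_1201 : allC (testChk dD dC dE dCl dTs) 1201 25 = true := by decide +kernel

set_option maxRecDepth 1000000 in
theorem tst_htst_1202 : allC (testChk dD dC dE dCl dTs) 1202 25 = true := by decide +kernel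

set_option maxRecDepth 1000000 in
theorem tst_htst_1203 : allC (testChk dD dC dE dCl dTs) 1203 25 = true := by decide +kernel

set_option maxRecDepth 1000000 in
theorem tst_htst_1204 : allC (testChk dD dC dE dCl dTs) 1204 25 = true := by decide +kernel

set_option maxRecDepth 1000000 in
theorem tst_htst_1205 : allC (testChk dD dC dE dCl dTs) 1205 25 = true := by decide +kernel

set_option maxRecDepth 1000000 in
theorem tst_htst_1206 : allC (testChk dD dC dE dCl dTs) 1206 25 = true := by decide +kernel

set_option maxRecDepth 1000000 in
theorem tst_htst_1207 : allC (testChk dD dC dE dCl dTs) 1207 25 = true := by decide +kernel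

set_option maxRecDepth 1000000 in
theorem tst_htst_1208 : allC (testChk dD dC dE dCl dTs) 1208 25 = true := by decide +kernel

set_option maxRecDepth 1000000 in
theorem tst_htst_1209 : allC (testChk dD dC dE dCl dTs) 1209 25 = true := by decide +kernel

set_option maxRecDepth 1000000 in
theorem tst_htst_1210 : allC (testChk dD dC dE dCl dTs) 1210 25 = true := by decide +kernel

set_option maxRecDepth 1000000 in
theorem tst_htst_1211 : allC (testChk dD dC dE dCl dTs) 1211 25 = true := by decide +kernel

set_option maxRecDepth 1000000 in
theorem tst_htst_1212 : allC (testChk dD dC dE dCl dTs) 1212 25 = true := by decide +kernel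

set_option maxRecDepth 1000000 in
theorem tst_htst_1213 : allC (testChk dD dC dE dCl dTs) 1213 25 = true := by decide +kernel

set_option maxRecDepth 1000000 in
theorem tst_htst_1214 : allC (testChk dD dC dE dCl dTs) 1214 25 = true := by decide +kernel

set_option maxRecDepth 1000000 in
theorem tst_htst_1215 : allC (testChk dD dC dE dCl dTs) 1215 25 = true := by decide +kernel

set_option maxRecDepth 1000000 in
theorem tst_htst_1216 : allC (testChk dD dC dE dCl dTs) 1216 25 = true := by decide +kernel

set_option maxRecDepth 1000000 in
theorem tst_htst_1217 : allC (testChk dD dC dE dCl dTs) 1217 25 = true := by decide +kernel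

set_option maxRecDepth 1000000 in
theorem tst_htst_1218 : allC (testChk dD dC dE dCl dTs) 1218 25 = true := by decide +kernel

set_option maxRecDepth 1000000 in
theorem tst_htst_1219 : allC (testChk dD dC dE dCl dTs) 1219 25 = true := by decide +kernel

set_option maxRecDepth 1000000 in
theorem tst_htst_1220 : allC (testChk dD dC dE dCl dTs) 1220 25 = true := by decide +kernel

set_option maxRecDepth 1000000 in
theorem tst_htst_1221 : allC (testChk dD dC dE dCl dTs) 1221 25 = true := by decide +kernel

set_option maxRecDepth 1000000 in
theorem tst_htst_1222 : allC (testChk dD dC dE dCl dTs) 1222 25 = true := by decide +kernel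

set_option maxRecDepth 1000000 in
theorem tst_htst_1223 : allC (testChk dD dC dE dCl dTs) 1223 25 = true := by decide +kernel

set_option maxRecDepth 1000000 in
theorem tst_htst_1224 : allC (testChk dD dC dE dCl dTs) 1224 25 = true := by decide +kernel

set_option maxRecDepth 1000000 in
theorem tst_htst_1225 : allC (testChk dD dC dE dCl dTs) 1225 25 = true := by decide +kernel

set_option maxRecDepth 1000000 in
theorem tst_htst_1226 : allC (testChk dD dC dE dCl dTs) 1226 25 = true := by decide +kernel

set_option maxRecDepth 1000000 in
theorem tst_htst_1227 : allC (testChk dD dC dE dCl dTs) 1227 25 = true := by decide +kernel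

set_option maxRecDepth 1000000 in
theorem tst_htst_1228 : allC (testChk dD dC dE dCl dTs) 1228 25 = true := by decide +kernel

set_option maxRecDepth 1000000 in
theorem tst_htst_1229 : allC (testChk dD dC dE dCl dTs) 1229 25 = true := by decide +kernel

set_option maxRecDepth 1000000 in
theorem tst_htst_1230 : allC (testChk dD dC dE dCl dTs) 1230 25 = true := by decide +kernel

set_option maxRecDepth 1000000 in
theorem tst_htst_1231 : allC (testChk dD dC dE dCl dTs) 1231 25 = true := by decide +kernel

set_option maxRecDepth 1000000 in
theorem tst_htst_1232 : allC (testChk dD dC dE dCl dTs) 1232 25 = true := by decide +kernel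

set_option maxRecDepth 1000000 in
theorem tst_htst_1233 : allC (testChk dD dC dE dCl dTs) 1233 25 = true := by decide +kernel

set_option maxRecDepth 1000000 in
theorem tst_htst_1234 : allC (testChk dD dC dE dCl dTs) 1234 25 = true := by decide +kernel

set_option maxRecDepth 1000000 in
theorem tst_htst_1235 : allC (testChk dD dC dE dCl dTs) 1235 25 = true := by decide +kernel

set_option maxRecDepth 1000000 in
theorem tst_htst_1236 : allC (testChk dD dC dE dCl dTs) 1236 25 = true := by decide +kernel

set_option maxRecDepth 1000000 in
theorem tst_htst_1237 : allC (testChk dD dC dE dCl dTs) 1237 25 = true := by decide +kernel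

set_option maxRecDepth 1000000 in
theorem tst_htst_1238 : allC (testChk dD dC dE dCl dTs) 1238 25 = true := by decide +kernel

set_option maxRecDepth 1000000 in
theorem tst_htst_1239 : allC (testChk dD dC dE dCl dTs) 1239 25 = true := by decide +kernel

set_option maxRecDepth 1000000 in
theorem tst_htst_1240 : allC (testChk dD dC dE dCl dTs) 1240 25 = true := by decide +kernel

set_option maxRecDepth 1000000 in
theorem tst_htst_1241 : allC (testChk dD dC dE dCl dTs) 1241 25 = true := by decide +kernel

set_option maxRecDepth 1000000 in
theorem tst_htst_1242 : allC (testChk dD dC dE dCl dTs) 1242 25 = true := by decide +kernel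

set_option maxRecDepth 1000000 in
theorem tst_htst_1243 : allC (testChk dD dC dE dCl dTs) 1243 25 = true := by decide +kernel

set_option maxRecDepth 1000000 in
theorem tst_htst_1244 : allC (testChk dD dC dE dCl dTs) 1244 25 = true := by decide +kernel

set_option maxRecDepth 1000000 in
theorem tst_htst_1245 : allC (testChk dD dC dE dCl dTs) 1245 25 = true := by decide +kernel

set_option maxRecDepth 1000000 in
theorem tst_htst_1246 : allC (testChk dD dC dE dCl dTs) 1246 25 = true := by decide +kernel

set_option maxRecDepth 1000000 in
theorem tst_htst_1247 : allC (testChk dD dC dE dCl dTs) 1247 25 = true := by decide +kernel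

set_option maxRecDepth 1000000 in
theorem tst_htst_1248 : allC (testChk dD dC dE dCl dTs) 1248 25 = true := by decide +kernel

set_option maxRecDepth 1000000 in
theorem tst_htst_1249 : allC (testChk dD dC dE dCl dTs) 1249 25 = true := by decide +kernel

set_option maxRecDepth 1000000 in
theorem tst_htst_1250 : allC (testChk dD dC dE dCl dTs) 1250 25 = true := by decide +kernel

set_option maxRecDepth 1000000 in
theorem tst_htst_1251 : allC (testChk dD dC dE dCl dTs) 1251 25 = true := by decide +kernel

set_option maxRecDepth 1000000 in
theorem tst_htst_1252 : allC (testChk dD dC dE dCl dTs) 1252 25 = true := by decide +kernel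

set_option maxRecDepth 1000000 in
theorem tst_htst_1253 : allC (testChk dD dC dE dCl dTs) 1253 25 = true := by decide +kernel

set_option maxRecDepth 1000000 in
theorem tst_htst_1254 : allC (testChk dD dC dE dCl dTs) 1254 25 = true := by decide +kernel

set_option maxRecDepth 1000000 in
theorem tst_htst_1255 : allC (testChk dD dC dE dCl dTs) 1255 25 = true := by decide +kernel

set_option maxRecDepth 1000000 in
theorem tst_htst_1256 : allC (testChk dD dC dE dCl dTs) 1256 25 = true := by decide +kernel

set_option maxRecDepth 1000000 in
theorem tst_htst_1257 : allC (testChk dD dC dE dCl dTs) 1257 25 = true := by decide +kernel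

set_option maxRecDepth 1000000 in
theorem tst_htst_1258 : allC (testChk dD dC dE dCl dTs) 1258 25 = true := by decide +kernel

set_option maxRecDepth 1000000 in
theorem tst_htst_1259 : allC (testChk dD dC dE dCl dTs) 1259 25 = true := by decide +kernel

set_option maxRecDepth 1000000 in
theorem tst_htst_1260 : allC (testChk dD dC dE dCl dTs) 1260 25 = true := by decide +kernel

set_option maxRecDepth 1000000 in
theorem tst_htst_1261 : allC (testChk dD dC dE dCl dTs) 1261 25 = true := by decide +kernel

set_option maxRecDepth 1000000 in
theorem tst_htst_1262 : allC (testChk dD dC dE dCl dTs) 1262 25 = true := by decide +kernel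

set_option maxRecDepth 1000000 in
theorem tst_htst_1263 : allC (testChk dD dC dE dCl dTs) 1263 25 = true := by decide +kernel

set_option maxRecDepth 1000000 in
theorem tst_htst_1264 : allC (testChk dD dC dE dCl dTs) 1264 25 = true := by decide +kernel

set_option maxRecDepth 1000000 in
theorem tst_htst_1265 : allC (testChk dD dC dE dCl dTs) 1265 25 = true := by decide +kernel

set_option maxRecDepth 1000000 in
theorem tst_htst_1266 : allC (testChk dD dC dE dCl dTs) 1266 25 = true := by decide +kernel

set_option maxRecDepth 1000000 in
theorem tst_htst_1267 : allC (testChk dD dC dE dCl dTs) 1267 25 = true := by decide +kernel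

set_option maxRecDepth 1000000 in
theorem tst_htst_1268 : allC (testChk dD dC dE dCl dTs) 1268 25 = true := by decide +kernel

set_option maxRecDepth 1000000 in
theorem tst_htst_1269 : allC (testChk dD dC dE dCl dTs) 1269 25 = true := by decide +kernel

set_option maxRecDepth 1000000 in
theorem tst_htst_1270 : allC (testChk dD dC dE dCl dTs) 1270 25 = true := by decide +kernel

set_option maxRecDepth 1000000 in
theorem tst_htst_1271 : allC (testChk dD dC dE dCl dTs) 1271 25 = true := by decide +kernel

set_option maxRecDepth 1000000 in
theorem tst_htst_1272 : allC (testChk dD dC dE dCl dTs) 1272 25 = true := by decide +kernel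

set_option maxRecDepth 1000000 in
theorem tst_htst_1273 : allC (testChk dD dC dE dCl dTs) 1273 25 = true := by decide +kernel

set_option maxRecDepth 1000000 in
theorem tst_htst_1274 : allC (testChk dD dC dE dCl dTs) 1274 25 = true := by decide +kernel

set_option maxRecDepth 1000000 in
theorem tst_htst_1275 : allC (testChk dD dC dE dCl dTs) 1275 25 = true := by decide +kernel

set_option maxRecDepth 1000000 in
theorem tst_htst_1276 : allC (testChk dD dC dE dCl dTs) 1276 25 = true := by decide +kernel

set_option maxRecDepth 1000000 in
theorem tst_htst_1277 : allC (testChk dD dC dE dCl dTs) 1277 25 = true := by decide +kernel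

set_option maxRecDepth 1000000 in
theorem tst_htst_1278 : allC (testChk dD dC dE dCl dTs) 1278 25 = true := by decide +kernel

set_option maxRecDepth 1000000 in
theorem tst_htst_1279 : allC (testChk dD dC dE dCl dTs) 1279 25 = true := by decide +kernel

set_option maxRecDepth 1000000 in
theorem tst_htst_1280 : allC (testChk dD dC dE dCl dTs) 1280 25 = true := by decide +kernel

set_option maxRecDepth 1000000 in
theorem tst_htst_1281 : allC (testChk dD dC dE dCl dTs) 1281 25 = true := by decide +kernel

set_option maxRecDepth 1000000 in
theorem tst_htst_1282 : allC (testChk dD dC dE dCl dTs) 1282 25 = true := by decide +kernel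

set_option maxRecDepth 1000000 in
theorem tst_htst_1283 : allC (testChk dD dC dE dCl dTs) 1283 25 = true := by decide +kernel

set_option maxRecDepth 1000000 in
theorem tst_htst_1284 : allC (testChk dD dC dE dCl dTs) 1284 25 = true := by decide +kernel

set_option maxRecDepth 1000000 in
theorem tst_htst_1285 : allC (testChk dD dC dE dCl dTs) 1285 25 = true := by decide +kernel

set_option maxRecDepth 1000000 in
theorem tst_htst_1286 : allC (testChk dD dC dE dCl dTs) 1286 25 = true := by decide +kernel

set_option maxRecDepth 1000000 in
theorem tst_htst_1287 : allC (testChk dD dC dE dCl dTs) 1287 25 = true := by decide +kernel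

set_option maxRecDepth 1000000 in
theorem tst_htst_1288 : allC (testChk dD dC dE dCl dTs) 1288 25 = true := by decide +kernel

set_option maxRecDepth 1000000 in
theorem tst_htst_1289 : allC (testChk dD dC dE dCl dTs) 1289 25 = true := by decide +kernel

set_option maxRecDepth 1000000 in
theorem tst_htst_1290 : allC (testChk dD dC dE dCl dTs) 1290 25 = true := by decide +kernel

set_option maxRecDepth 1000000 in
theorem tst_htst_1291 : allC (testChk dD dC dE dCl dTs) 1291 25 = true := by decide +kernel

set_option maxRecDepth 1000000 in
theorem tst_htst_1292 : allC (testChk dD dC dE dCl dTs) 1292 25 = true := by decide +kernel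

set_option maxRecDepth 1000000 in
theorem tst_htst_1293 : allC (testChk dD dC dE dCl dTs) 1293 25 = true := by decide +kernel

set_option maxRecDepth 1000000 in
theorem tst_htst_1294 : allC (testChk dD dC dE dCl dTs) 1294 25 = true := by decide +kernel

set_option maxRecDepth 1000000 in
theorem tst_htst_1295 : allC (testChk dD dC dE dCl dTs) 1295 25 = true := by decide +kernel

set_option maxRecDepth 1000000 in
theorem tst_htst_1296 : allC (testChk dD dC dE dCl dTs) 1296 25 = true := by decide +kernel

set_option maxRecDepth 1000000 in
theorem tst_htst_1297 : allC (testChk dD dC dE dCl dTs) 1297 25 = true := by decide +kernel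

set_option maxRecDepth 1000000 in
theorem tst_htst_1298 : allC (testChk dD dC dE dCl dTs) 1298 25 = true := by decide +kernel

set_option maxRecDepth 1000000 in
theorem tst_htst_1299 : allC (testChk dD dC dE dCl dTs) 1299 25 = true := by decide +kernel

end Cfsg.Agent.Helper9.RuO

end
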