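import Mathlib
import Cfsg.Agent.Helper9.RuO.Data

set_option autoImplicit false

/-! Kernel checks of the certificates, a part. -/

noncomputable section

namespace Cfsg.Agent.Helper9.RuO

open Cfsg.Agent.Helper9.OutG Cfsg.Agent.Helper9.J3

set_option maxRecDepth 1000000 in
theorem tst_htst_1300 : allC (testChk dD dC dE dCl dTs) 1300 25 = true := by decide +kernel

set_option maxRecDepth 1000000 in
theorem tst_htst_1301 : allC (testChk dD dC dE dCl dTs) 1301 25 = true := by decide +kernel

set_option maxRecDepth 1000000 in
theorem tst_htst_1302 : allC (testChk dD dC dE dCl dTs) 1302 25 = true := by decide +kernel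

set_option maxRecDepth 1000000 in
theorem tst_htst_1303 : allC (testChk dD dC dE dCl dTs) 1303 25 = true := by decide +kernel

set_option maxRecDepth 1000000 in
theorem tst_htst_1304 : allC (testChk dD dC dE dCl dTs) 1304 25 = true := by decide +kernel

set_option maxRecDepth 1000000 in
theorem tst_htst_1305 : allC (testChk dD dC dE dCl dTs) 1305 25 = true := by decide +kernel

set_option maxRecDepth 1000000 in
theorem tst_htst_1306 : allC (testChk dD dC dE dCl dTs) 1306 25 = true := by decide +kernel

set_option maxRecDepth 1000000 in
theorem tst_htst_1307 : allC (testChk dD dC dE dCl dTs) 1307 25 = true := by decide +kernel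

set_option maxRecDepth 1000000 in
theorem tst_htst_1308 : allC (testChk dD dC dE dCl dTs) 1308 25 = true := by decide +kernel

set_option maxRecDepth 1000000 in
theorem tst_htst_1309 : allC (testChk dD dC dE dCl dTs) 1309 25 = true := by decide +kernel

set_option maxRecDepth 1000000 in
theorem tst_htst_1310 : allC (testChk dD dC dE dCl dTs) 1310 25 = true := by decide +kernel

set_option maxRecDepth 1000000 in
theorem tst_htst_1311 : allC (testChk dD dC dE dCl dTs) 1311 25 = true := by decide +kernel

set_option maxRecDepth 1000000 in
theorem tst_htst_1312 : allC (testChk dD dC dE dCl dTs) 1312 25 = true := by decide +kernel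

set_option maxRecDepth 1000000 in
theorem tst_htst_1313 : allC (testChk dD dC dE dCl dTs) 1313 25 = true := by decide +kernel

set_option maxRecDepth 1000000 in
theorem tst_htst_1314 : allC (testChk dD dC dE dCl dTs) 1314 25 = true := by decide +kernel

set_option maxRecDepth 1000000 in
theorem tst_htst_1315 : allC (testChk dD dC dE dCl dTs) 1315 25 = true := by decide +kernel

set_option maxRecDepth 1000000 in
theorem tst_htst_1316 : allC (testChk dD dC dE dCl dTs) 1316 25 = true := by decide +kernel

set_option maxRecDepth 1000000 in
theorem tst_htst_1317 : allC (testChk dD dC dE dCl dTs) 1317 25 = true := by decide +kernel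

set_option maxRecDepth 1000000 in
theorem tst_htst_1318 : allC (testChk dD dC dE dCl dTs) 1318 25 = true := by decide +kernel

set_option maxRecDepth 1000000 in
theorem tst_htst_1319 : allC (testChk dD dC dE dCl dTs) 1319 25 = true := by decide +kernel

set_option maxRecDepth 1000000 in
theorem tst_htst_1320 : allC (testChk dD dC dE dCl dTs) 1320 25 = true := by decide +kernel

set_option maxRecDepth 1000000 in
theorem tst_htst_1321 : allC (testChk dD dC dE dCl dTs) 1321 25 = true := by decide +kernel

set_option maxRecDepth 1000000 in
theorem tst_htst_1322 : allC (testChk dD dC dE dCl dTs) 1322 25 = true := by decide +kernel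

set_option maxRecDepth 1000000 in
theorem tst_htst_1323 : allC (testChk dD dC dE dCl dTs) 1323 25 = true := by decide +kernel

set_option maxRecDepth 1000000 in
theorem tst_htst_1324 : allC (testChk dD dC dE dCl dTs) 1324 25 = true := by decide +kernel

set_option maxRecDepth 1000000 in
theorem tst_htst_1325 : allC (testChk dD dC dE dCl dTs) 1325 25 = true := by decide +kernel

set_option maxRecDepth 1000000 in
theorem tst_htst_1326 : allC (testChk dD dC dE dCl dTs) 1326 25 = true := by decide +kernel

set_option maxRecDepth 1000000 in
theorem tst_htst_1327 : allC (testChk dD dC dE dCl dTs) 1327 25 = true := by decide +kernel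

set_option maxRecDepth 1000000 in
theorem tst_htst_1328 : allC (testChk dD dC dE dCl dTs) 1328 25 = true := by decide +kernel

set_option maxRecDepth 1000000 in
theorem tst_htst_1329 : allC (testChk dD dC dE dCl dTs) 1329 25 = true := by decide +kernel

set_option maxRecDepth 1000000 in
theorem tst_htst_1330 : allC (testChk dD dC dE dCl dTs) 1330 25 = true := by decide +kernel

set_option maxRecDepth 1000000 in
theorem tst_htst_1331 : allC (testChk dD dC dE dCl dTs) 1331 25 = true := by decide +kernel

set_option maxRecDepth 1000000 in
theorem tst_htst_1332 : allC (testChk dD dC dE dCl dTs) 1332 25 = true := by decide +kernel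

set_option maxRecDepth 1000000 in
theorem tst_htst_1333 : allC (testChk dD dC dE dCl dTs) 1333 25 = true := by decide +kernel

set_option maxRecDepth 1000000 in
theorem tst_htst_1334 : allC (testChk dD dC dE dCl dTs) 1334 25 = true := by decide +kernel

set_option maxRecDepth 1000000 in
theorem tst_htst_1335 : allC (testChk dD dC dE dCl dTs) 1335 25 = true := by decide +kernel

set_option maxRecDepth 1000000 in
theorem tst_htst_1336 : allC (testChk dD dC dE dCl dTs) 1336 25 = true := by decide +kernel

set_option maxRecDepth 1000000 in
theorem tst_htst_1337 : allC (testChk dD dC dE dCl dTs) 1337 25 = true := by decide +kernel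

set_option maxRecDepth 1000000 in
theorem tst_htst_1338 : allC (testChk dD dC dE dCl dTs) 1338 25 = true := by decide +kernel

set_option maxRecDepth 1000000 in
theorem tst_htst_1339 : allC (testChk dD dC dE dCl dTs) 1339 25 = true := by decide +kernel

set_option maxRecDepth 1000000 in
theorem tst_htst_1340 : allC (testChk dD dC dE dCl dTs) 1340 25 = true := by decide +kernel

set_option maxRecDepth 1000000 in
theorem tst_htst_1341 : allC (testChk dD dC dE dCl dTs) 1341 25 = true := by decide +kernel

set_option maxRecDepth 1000000 in
theorem tst_htst_1342 : allC (testChk dD dC dE dCl dTs) 1342 25 = true := by decide +kernel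

set_option maxRecDepth 1000000 in
theorem tst_htst_1343 : allC (testChk dD dC dE dCl dTs) 1343 25 = true := by decide +kernel

set_option maxRecDepth 1000000 in
theorem tst_htst_1344 : allC (testChk dD dC dE dCl dTs) 1344 25 = true := by decide +kernel

set_option maxRecDepth 1000000 in
theorem tst_htst_1345 : allC (testChk dD dC dE dCl dTs) 1345 25 = true := by decide +kernel

set_option maxRecDepth 1000000 in
theorem tst_htst_1346 : allC (testChk dD dC dE dCl dTs) 1346 25 = true := by decide +kernel

set_option maxRecDepth 1000000 in
theorem tst_htst_1347 : allC (testChk dD dC dE dCl dTs) 1347 25 = true := by decide +kernel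

set_option maxRecDepth 1000000 in
theorem tst_htst_1348 : allC (testChk dD dC dE dCl dTs) 1348 25 = true := by decide +kernel

set_option maxRecDepth 1000000 in
theorem tst_htst_1349 : allC (testChk dD dC dE dCl dTs) 1349 25 = true := by decide +kernel

set_option maxRecDepth 1000000 in
theorem tst_htst_1350 : allC (testChk dD dC dE dCl dTs) 1350 25 = true := by decide +kernel

set_option maxRecDepth 1000000 in
theorem tst_htst_1351 : allC (testChk dD dC dE dCl dTs) 1351 25 = true := by decide +kernel

set_option maxRecDepth 1000000 in
theorem tst_htst_1352 : allC (testChk dD dC dE dCl dTs) 1352 25 = true := by decide +kernel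

set_option maxRecDepth 1000000 in
theorem tst_htst_1353 : allC (testChk dD dC dE dCl dTs) 1353 25 = true := by decide +kernel

set_option maxRecDepth 1000000 in
theorem tst_htst_1354 : allC (testChk dD dC dE dCl dTs) 1354 25 = true := by decide +kernel

set_option maxRecDepth 1000000 in
theorem tst_htst_1355 : allC (testChk dD dC dE dCl dTs) 1355 25 = true := by decide +kernel

set_option maxRecDepth 1000000 in
theorem tst_htst_1356 : allC (testChk dD dC dE dCl dTs) 1356 25 = true := by decide +kernel

set_option maxRecDepth 1000000 in
theorem tst_htst_1357 : allC (testChk dD dC dE dCl dTs) 1357 25 = true := by decide +kernel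

set_option maxRecDepth 1000000 in
theorem tst_htst_1358 : allC (testChk dD dC dE dCl dTs) 1358 25 = true := by decide +kernel

set_option maxRecDepth 1000000 in
theorem tst_htst_1359 : allC (testChk dD dC dE dCl dTs) 1359 25 = true := by decide +kernel

set_option maxRecDepth 1000000 in
theorem tst_htst_1360 : allC (testChk dD dC dE dCl dTs) 1360 25 = true := by decide +kernel

set_option maxRecDepth 1000000 in
theorem tst_htst_1361 : allC (testChk dD dC dE dCl dTs) 1361 25 = true := by decide +kernel

set_option maxRecDepth 1000000 in
theorem tst_htst_1362 : allC (testChk dD dC dE dCl dTs) 1362 25 = true := by decide +kernel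

set_option maxRecDepth 1000000 in
theorem tst_htst_1363 : allC (testChk dD dC dE dCl dTs) 1363 25 = true := by decide +kernel

set_option maxRecDepth 1000000 in
theorem tst_htst_1364 : allC (testChk dD dC dE dCl dTs) 1364 25 = true := by decide +kernel

set_option maxRecDepth 1000000 in
theorem tst_htst_1365 : allC (testChk dD dC dE dCl dTs) 1365 25 = true := by decide +kernel

set_option maxRecDepth 1000000 in
theorem tst_htst_1366 : allC (testChk dD dC dE dCl dTs) 1366 25 = true := by decide +kernel

set_option maxRecDepth 1000000 in
theorem tst_htst_1367 : allC (testChk dD dC dE dCl dTs) 1367 25 = true := by decide +kernel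

set_option maxRecDepth 1000000 in
theorem tst_htst_1368 : allC (testChk dD dC dE dCl dTs) 1368 25 = true := by decide +kernel

set_option maxRecDepth 1000000 in
theorem tst_htst_1369 : allC (testChk dD dC dE dCl dTs) 1369 25 = true := by decide +kernel

set_option maxRecDepth 1000000 in
theorem tst_htst_1370 : allC (testChk dD dC dE dCl dTs) 1370 25 = true := by decide +kernel

set_option maxRecDepth 1000000 in
theorem tst_htst_1371 : allC (testChk dD dC dE dCl dTs) 1371 25 = true := by decide +kernel

set_option maxRecDepth 1000000 in
theorem tst_htst_1372 : allC (testChk dD dC dE dCl dTs) 1372 25 = true := by decide +kernel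

set_option maxRecDepth 1000000 in
theorem tst_htst_1373 : allC (testChk dD dC dE dCl dTs) 1373 25 = true := by decide +kernel

set_option maxRecDepth 1000000 in
theorem tst_htst_1374 : allC (testChk dD dC dE dCl dTs) 1374 25 = true := by decide +kernel

set_option maxRecDepth 1000000 in
theorem tst_htst_1375 : allC (testChk dD dC dE dCl dTs) 1375 25 = true := by decide +kernel

set_option maxRecDepth 1000000 in
theorem tst_htst_1376 : allC (testChk dD dC dE dCl dTs) 1376 25 = true := by decide +kernel

set_option maxRecDepth 1000000 in
theorem tst_htst_1377 : allC (testChk dD dC dE dCl dTs) 1377 25 = true := by decide +kernel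

set_option maxRecDepth 1000000 in
theorem tst_htst_1378 : allC (testChk dD dC dE dCl dTs) 1378 25 = true := by decide +kernel

set_option maxRecDepth 1000000 in
theorem tst_htst_1379 : allC (testChk dD dC dE dCl dTs) 1379 25 = true := by decide +kernel

set_option maxRecDepth 1000000 in
theorem tst_htst_1380 : allC (testChk dD dC dE dCl dTs) 1380 25 = true := by decide +kernel

set_option maxRecDepth 1000000 in
theorem tst_htst_1381 : allC (testChk dD dC dE dCl dTs) 1381 25 = true := by decide +kernel

set_option maxRecDepth 1000000 in
theorem tst_htst_1382 : allC (testChk dD dC dE dCl dTs) 1382 25 = true := by decide +kernel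

set_option maxRecDepth 1000000 in
theorem tst_htst_1383 : allC (testChk dD dC dE dCl dTs) 1383 25 = true := by decide +kernel

set_option maxRecDepth 1000000 in
theorem tst_htst_1384 : allC (testChk dD dC dE dCl dTs) 1384 25 = true := by decide +kernel

set_option maxRecDepth 1000000 in
theorem tst_htst_1385 : allC (testChk dD dC dE dCl dTs) 1385 25 = true := by decide +kernel

set_option maxRecDepth 1000000 in
theorem tst_htst_1386 : allC (testChk dD dC dE dCl dTs) 1386 25 = true := by decide +kernel

set_option maxRecDepth 1000000 in
theorem tst_htst_1387 : allC (testChk dD dC dE dCl dTs) 1387 25 = true := by decide +kernel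

set_option maxRecDepth 1000000 in
theorem tst_htst_1388 : allC (testChk dD dC dE dCl dTs) 1388 25 = true := by decide +kernel

set_option maxRecDepth 1000000 in
theorem tst_htst_1389 : allC (testChk dD dC dE dCl dTs) 1389 25 = true := by decide +kernel

set_option maxRecDepth 1000000 in
theorem tst_htst_1390 : allC (testChk dD dC dE dCl dTs) 1390 25 = true := by decide +kernel

set_option maxRecDepth 1000000 in
theorem tst_htst_1391 : allC (testChk dD dC dE dCl dTs) 1391 25 = true := by decide +kernel

set_option maxRecDepth 1000000 in
theorem tst_htst_1392 : allC (testChk dD dC dE dCl dTs) 1392 25 = true := by decide +kernel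

set_option maxRecDepth 1000000 in
theorem tst_htst_1393 : allC (testChk dD dC dE dCl dTs) 1393 25 = true := by decide +kernel

set_option maxRecDepth 1000000 in
theorem tst_htst_1394 : allC (testChk dD dC dE dCl dTs) 1394 25 = true := by decide +kernel

set_option maxRecDepth 1000000 in
theorem tst_htst_1395 : allC (testChk dD dC dE dCl dTs) 1395 25 = true := by decide +kernel

set_option maxRecDepth 1000000 in
theorem tst_htst_1396 : allC (testChk dD dC dE dCl dTs) 1396 25 = true := by decide +kernel

set_option maxRecDepth 1000000 in
theorem tst_htst_1397 : allC (testChk dD dC dE dCl dTs) 1397 25 = true := by decide +kernel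

set_option maxRecDepth 1000000 in
theorem tst_htst_1398 : allC (testChk dD dC dE dCl dTs) 1398 25 = true := by decide +kernel

set_option maxRecDepth 1000000 in
theorem tst_htst_1399 : allC (testChk dD dC dE dCl dTs) 1399 25 = true := by decide +kernel

end Cfsg.Agent.Helper9.RuO

end
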