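import Mathlib
import Cfsg.Agent.Helper9.RuO.Data

set_option autoImplicit false

/-! Kernel checks of the certificates, a part. -/

noncomputable section

namespace Cfsg.Agent.Helper9.RuO

open Cfsg.Agent.Helper9.OutG Cfsg.Agent.Helper9.J3

set_option maxRecDepth 1000000 in
theorem tst_htst_1400 : allC (testChk dD dC dE dCl dTs) 1400 25 = true := by decide +kernel

set_option maxRecDepth 1000000 in
theorem tst_htst_1401 : allC (testChk dD dC dE dCl dTs) 1401 25 = true := by decide +kernel

set_option maxRecDepth 1000000 in
theorem tst_htst_1402 : allC (testChk dD dC dE dCl dTs) 1402 25 = true := by decide +kernel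

set_option maxRecDepth 1000000 in
theorem tst_htst_1403 : allC (testChk dD dC dE dCl dTs) 1403 25 = true := by decide +kernel

set_option maxRecDepth 1000000 in
theorem tst_htst_1404 : allC (testChk dD dC dE dCl dTs) 1404 25 = true := by decide +kernel

set_option maxRecDepth 1000000 in
theorem tst_htst_1405 : allC (testChk dD dC dE dCl dTs) 1405 25 = true := by decide +kernel

set_option maxRecDepth 1000000 in
theorem tst_htst_1406 : allC (testChk dD dC dE dCl dTs) 1406 25 = true := by decide +kernel

set_option maxRecDepth 1000000 in
theorem tst_htst_1407 : allC (testChk dD dC dE dCl dTs) 1407 25 = true := by decide +kernel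

set_option maxRecDepth 1000000 in
theorem tst_htst_1408 : allC (testChk dD dC dE dCl dTs) 1408 25 = true := by decide +kernel

set_option maxRecDepth 1000000 in
theorem tst_htst_1409 : allC (testChk dD dC dE dCl dTs) 1409 25 = true := by decide +kernel

set_option maxRecDepth 1000000 in
theorem tst_htst_1410 : allC (testChk dD dC dE dCl dTs) 1410 25 = true := by decide +kernel

set_option maxRecDepth 1000000 in
theorem tst_htst_1411 : allC (testChk dD dC dE dCl dTs) 1411 25 = true := by decide +kernel

set_option maxRecDepth 1000000 in
theorem tst_htst_1412 : allC (testChk dD dC dE dCl dTs) 1412 25 = true := by decide +kernel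

set_option maxRecDepth 1000000 in
theorem tst_htst_1413 : allC (testChk dD dC dE dCl dTs) 1413 25 = true := by decide +kernel

set_option maxRecDepth 1000000 in
theorem tst_htst_1414 : allC (testChk dD dC dE dCl dTs) 1414 25 = true := by decide +kernel

set_option maxRecDepth 1000000 in
theorem tst_htst_1415 : allC (testChk dD dC dE dCl dTs) 1415 25 = true := by decide +kernel

set_option maxRecDepth 1000000 in
theorem tst_htst_1416 : allC (testChk dD dC dE dCl dTs) 1416 25 = true := by decide +kernel

set_option maxRecDepth 1000000 in
theorem tst_htst_1417 : allC (testChk dD dC dE dCl dTs) 1417 25 = true := by decide +kernel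

set_option maxRecDepth 1000000 in
theorem tst_htst_1418 : allC (testChk dD dC dE dCl dTs) 1418 25 = true := by decide +kernel

set_option maxRecDepth 1000000 in
theorem tst_htst_1419 : allC (testChk dD dC dE dCl dTs) 1419 25 = true := by decide +kernel

set_option maxRecDepth 1000000 in
theorem tst_htst_1420 : allC (testChk dD dC dE dCl dTs) 1420 25 = true := by decide +kernel

set_option maxRecDepth 1000000 in
theorem tst_htst_1421 : allC (testChk dD dC dE dCl dTs) 1421 25 = true := by decide +kernel

set_option maxRecDepth 1000000 in
theorem tst_htst_1422 : allC (testChk dD dC dE dCl dTs) 1422 25 = true := by decide +kernel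

set_option maxRecDepth 1000000 in
theorem tst_htst_1423 : allC (testChk dD dC dE dCl dTs) 1423 25 = true := by decide +kernel

set_option maxRecDepth 1000000 in
theorem tst_htst_1424 : allC (testChk dD dC dE dCl dTs) 1424 25 = true := by decide +kernel

set_option maxRecDepth 1000000 in
theorem tst_htst_1425 : allC (testChk dD dC dE dCl dTs) 1425 25 = true := by decide +kernel

set_option maxRecDepth 1000000 in
theorem tst_htst_1426 : allC (testChk dD dC dE dCl dTs) 1426 25 = true := by decide +kernel

set_option maxRecDepth 1000000 in
theorem tst_htst_1427 : allC (testChk dD dC dE dCl dTs) 1427 25 = true := by decide +kernel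

set_option maxRecDepth 1000000 in
theorem tst_htst_1428 : allC (testChk dD dC dE dCl dTs) 1428 25 = true := by decide +kernel

set_option maxRecDepth 1000000 in
theorem tst_htst_1429 : allC (testChk dD dC dE dCl dTs) 1429 25 = true := by decide +kernel

set_option maxRecDepth 1000000 in
theorem tst_htst_1430 : allC (testChk dD dC dE dCl dTs) 1430 25 = true := by decide +kernel

set_option maxRecDepth 1000000 in
theorem tst_htst_1431 : allC (testChk dD dC dE dCl dTs) 1431 25 = true := by decide +kernel

set_option maxRecDepth 1000000 in
theorem tst_htst_1432 : allC (testChk dD dC dE dCl dTs) 1432 25 = true := by decide +kernel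

set_option maxRecDepth 1000000 in
theorem tst_htst_1433 : allC (testChk dD dC dE dCl dTs) 1433 25 = true := by decide +kernel

set_option maxRecDepth 1000000 in
theorem tst_htst_1434 : allC (testChk dD dC dE dCl dTs) 1434 25 = true := by decide +kernel

set_option maxRecDepth 1000000 in
theorem tst_htst_1435 : allC (testChk dD dC dE dCl dTs) 1435 25 = true := by decide +kernel

set_option maxRecDepth 1000000 in
theorem tst_htst_1436 : allC (testChk dD dC dE dCl dTs) 1436 25 = true := by decide +kernel

set_option maxRecDepth 1000000 in
theorem tst_htst_1437 : allC (testChk dD dC dE dCl dTs) 1437 25 = true := by decide +kernel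

set_option maxRecDepth 1000000 in
theorem tst_htst_1438 : allC (testChk dD dC dE dCl dTs) 1438 25 = true := by decide +kernel

set_option maxRecDepth 1000000 in
theorem tst_htst_1439 : allC (testChk dD dC dE dCl dTs) 1439 25 = true := by decide +kernel

set_option maxRecDepth 1000000 in
theorem tst_htst_1440 : allC (testChk dD dC dE dCl dTs) 1440 25 = true := by decide +kernel

set_option maxRecDepth 1000000 in
theorem tst_htst_1441 : allC (testChk dD dC dE dCl dTs) 1441 25 = true := by decide +kernel

set_option maxRecDepth 1000000 in
theorem tst_htst_1442 : allC (testChk dD dC dE dCl dTs) 1442 25 = true := by decide +kernel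

set_option maxRecDepth 1000000 in
theorem tst_htst_1443 : allC (testChk dD dC dE dCl dTs) 1443 25 = true := by decide +kernel

set_option maxRecDepth 1000000 in
theorem tst_htst_1444 : allC (testChk dD dC dE dCl dTs) 1444 25 = true := by decide +kernel

set_option maxRecDepth 1000000 in
theorem tst_htst_1445 : allC (testChk dD dC dE dCl dTs) 1445 25 = true := by decide +kernel

set_option maxRecDepth 1000000 in
theorem tst_htst_1446 : allC (testChk dD dC dE dCl dTs) 1446 25 = true := by decide +kernel

set_option maxRecDepth 1000000 in
theorem tst_htst_1447 : allC (testChk dD dC dE dCl dTs) 1447 25 = true := by decide +kernel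

set_option maxRecDepth 1000000 in
theorem tst_htst_1448 : allC (testChk dD dC dE dCl dTs) 1448 25 = true := by decide +kernel

set_option maxRecDepth 1000000 in
theorem tst_htst_1449 : allC (testChk dD dC dE dCl dTs) 1449 25 = true := by decide +kernel

set_option maxRecDepth 1000000 in
theorem tst_htst_1450 : allC (testChk dD dC dE dCl dTs) 1450 25 = true := by decide +kernel

set_option maxRecDepth 1000000 in
theorem tst_htst_1451 : allC (testChk dD dC dE dCl dTs) 1451 25 = true := by decide +kernel

set_option maxRecDepth 1000000 in
theorem tst_htst_1452 : allC (testChk dD dC dE dCl dTs) 1452 25 = true := by decide +kernel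

set_option maxRecDepth 1000000 in
theorem tst_htst_1453 : allC (testChk dD dC dE dCl dTs) 1453 25 = true := by decide +kernel

set_option maxRecDepth 1000000 in
theorem tst_htst_1454 : allC (testChk dD dC dE dCl dTs) 1454 25 = true := by decide +kernel

set_option maxRecDepth 1000000 in
theorem tst_htst_1455 : allC (testChk dD dC dE dCl dTs) 1455 25 = true := by decide +kernel

set_option maxRecDepth 1000000 in
theorem tst_htst_1456 : allC (testChk dD dC dE dCl dTs) 1456 25 = true := by decide +kernel

set_option maxRecDepth 1000000 in
theorem tst_htst_1457 : allC (testChk dD dC dE dCl dTs) 1457 25 = true := by decide +kernel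

set_option maxRecDepth 1000000 in
theorem tst_htst_1458 : allC (testChk dD dC dE dCl dTs) 1458 25 = true := by decide +kernel

set_option maxRecDepth 1000000 in
theorem tst_htst_1459 : allC (testChk dD dC dE dCl dTs) 1459 25 = true := by decide +kernel

set_option maxRecDepth 1000000 in
theorem tst_htst_1460 : allC (testChk dD dC dE dCl dTs) 1460 25 = true := by decide +kernel

set_option maxRecDepth 1000000 in
theorem tst_htst_1461 : allC (testChk dD dC dE dCl dTs) 1461 25 = true := by decide +kernel

set_option maxRecDepth 1000000 in
theorem tst_htst_1462 : allC (testChk dD dC dE dCl dTs) 1462 25 = true := by decide +kernel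

set_option maxRecDepth 1000000 in
theorem tst_htst_1463 : allC (testChk dD dC dE dCl dTs) 1463 25 = true := by decide +kernel

set_option maxRecDepth 1000000 in
theorem tst_htst_1464 : allC (testChk dD dC dE dCl dTs) 1464 25 = true := by decide +kernel

set_option maxRecDepth 1000000 in
theorem tst_htst_1465 : allC (testChk dD dC dE dCl dTs) 1465 25 = true := by decide +kernel

set_option maxRecDepth 1000000 in
theorem tst_htst_1466 : allC (testChk dD dC dE dCl dTs) 1466 25 = true := by decide +kernel

set_option maxRecDepth 1000000 in
theorem tst_htst_1467 : allC (testChk dD dC dE dCl dTs) 1467 25 = true := by decide +kernel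

set_option maxRecDepth 1000000 in
theorem tst_htst_1468 : allC (testChk dD dC dE dCl dTs) 1468 25 = true := by decide +kernel

set_option maxRecDepth 1000000 in
theorem tst_htst_1469 : allC (testChk dD dC dE dCl dTs) 1469 25 = true := by decide +kernel

set_option maxRecDepth 1000000 in
theorem tst_htst_1470 : allC (testChk dD dC dE dCl dTs) 1470 25 = true := by decide +kernel

set_option maxRecDepth 1000000 in
theorem tst_htst_1471 : allC (testChk dD dC dE dCl dTs) 1471 25 = true := by decide +kernel

set_option maxRecDepth 1000000 in
theorem tst_htst_1472 : allC (testChk dD dC dE dCl dTs) 1472 25 = true := by decide +kernel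

set_option maxRecDepth 1000000 in
theorem tst_htst_1473 : allC (testChk dD dC dE dCl dTs) 1473 25 = true := by decide +kernel

set_option maxRecDepth 1000000 in
theorem tst_htst_1474 : allC (testChk dD dC dE dCl dTs) 1474 25 = true := by decide +kernel

set_option maxRecDepth 1000000 in
theorem tst_htst_1475 : allC (testChk dD dC dE dCl dTs) 1475 25 = true := by decide +kernel

set_option maxRecDepth 1000000 in
theorem tst_htst_1476 : allC (testChk dD dC dE dCl dTs) 1476 25 = true := by decide +kernel

set_option maxRecDepth 1000000 in
theorem tst_htst_1477 : allC (testChk dD dC dE dCl dTs) 1477 25 = true := by decide +kernel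

set_option maxRecDepth 1000000 in
theorem tst_htst_1478 : allC (testChk dD dC dE dCl dTs) 1478 25 = true := by decide +kernel

set_option maxRecDepth 1000000 in
theorem tst_htst_1479 : allC (testChk dD dC dE dCl dTs) 1479 25 = true := by decide +kernel

set_option maxRecDepth 1000000 in
theorem tst_htst_1480 : allC (testChk dD dC dE dCl dTs) 1480 25 = true := by decide +kernel

set_option maxRecDepth 1000000 in
theorem tst_htst_1481 : allC (testChk dD dC dE dCl dTs) 1481 25 = true := by decide +kernel

set_option maxRecDepth 1000000 in
theorem tst_htst_1482 : allC (testChk dD dC dE dCl dTs) 1482 25 = true := by decide +kernel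

set_option maxRecDepth 1000000 in
theorem tst_htst_1483 : allC (testChk dD dC dE dCl dTs) 1483 25 = true := by decide +kernel

set_option maxRecDepth 1000000 in
theorem tst_htst_1484 : allC (testChk dD dC dE dCl dTs) 1484 25 = true := by decide +kernel

set_option maxRecDepth 1000000 in
theorem tst_htst_1485 : allC (testChk dD dC dE dCl dTs) 1485 25 = true := by decide +kernel

set_option maxRecDepth 1000000 in
theorem tst_htst_1486 : allC (testChk dD dC dE dCl dTs) 1486 25 = true := by decide +kernel

set_option maxRecDepth 1000000 in
theorem tst_htst_1487 : allC (testChk dD dC dE dCl dTs) 1487 25 = true := by decide +kernel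

set_option maxRecDepth 1000000 in
theorem tst_htst_1488 : allC (testChk dD dC dE dCl dTs) 1488 25 = true := by decide +kernel

set_option maxRecDepth 1000000 in
theorem tst_htst_1489 : allC (testChk dD dC dE dCl dTs) 1489 25 = true := by decide +kernel

set_option maxRecDepth 1000000 in
theorem tst_htst_1490 : allC (testChk dD dC dE dCl dTs) 1490 25 = true := by decide +kernel

set_option maxRecDepth 1000000 in
theorem tst_htst_1491 : allC (testChk dD dC dE dCl dTs) 1491 25 = true := by decide +kernel

set_option maxRecDepth 1000000 in
theorem tst_htst_1492 : allC (testChk dD dC dE dCl dTs) 1492 25 = true := by decide +kernel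

set_option maxRecDepth 1000000 in
theorem tst_htst_1493 : allC (testChk dD dC dE dCl dTs) 1493 25 = true := by decide +kernel

set_option maxRecDepth 1000000 in
theorem tst_htst_1494 : allC (testChk dD dC dE dCl dTs) 1494 25 = true := by decide +kernel

set_option maxRecDepth 1000000 in
theorem tst_htst_1495 : allC (testChk dD dC dE dCl dTs) 1495 25 = true := by decide +kernel

set_option maxRecDepth 1000000 in
theorem tst_htst_1496 : allC (testChk dD dC dE dCl dTs) 1496 25 = true := by decide +kernel

set_option maxRecDepth 1000000 in
theorem tst_htst_1497 : allC (testChk dD dC dE dCl dTs) 1497 25 = true := by decide +kernel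

set_option maxRecDepth 1000000 in
theorem tst_htst_1498 : allC (testChk dD dC dE dCl dTs) 1498 25 = true := by decide +kernel

set_option maxRecDepth 1000000 in
theorem tst_htst_1499 : allC (testChk dD dC dE dCl dTs) 1499 25 = true := by decide +kernel

end Cfsg.Agent.Helper9.RuO

end
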