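import Mathlib
import Cfsg.Agent.Helper9.RuO.Data

set_option autoImplicit false

/-! Kernel checks of the certificates, a part. -/

noncomputable section

namespace Cfsg.Agent.Helper9.RuO

open Cfsg.Agent.Helper9.OutG Cfsg.Agent.Helper9.J3

set_option maxRecDepth 1000000 in
theorem tst_htst_1500 : allC (testChk dD dC dE dCl dTs) 1500 25 = true := by decide +kernel

set_option maxRecDepth 1000000 in
theorem tst_htst_1501 : allC (testChk dD dC dE dCl dTs) 1501 25 = true := by decide +kernel

set_option maxRecDepth 1000000 in
theorem tst_htst_1502 : allC (testChk dD dC dE dCl dTs) 1502 25 = true := by decide +kernel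

set_option maxRecDepth 1000000 in
theorem tst_htst_1503 : allC (testChk dD dC dE dCl dTs) 1503 25 = true := by decide +kernel

set_option maxRecDepth 1000000 in
theorem tst_htst_1504 : allC (testChk dD dC dE dCl dTs) 1504 25 = true := by decide +kernel

set_option maxRecDepth 1000000 in
theorem tst_htst_1505 : allC (testChk dD dC dE dCl dTs) 1505 25 = true := by decide +kernel

set_option maxRecDepth 1000000 in
theorem tst_htst_1506 : allC (testChk dD dC dE dCl dTs) 1506 25 = true := by decide +kernel

set_option maxRecDepth 1000000 in
theorem tst_htst_1507 : allC (testChk dD dC dE dCl dTs) 1507 25 = true := by decide +kernel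

set_option maxRecDepth 1000000 in
theorem tst_htst_1508 : allC (testChk dD dC dE dCl dTs) 1508 25 = true := by decide +kernel

set_option maxRecDepth 1000000 in
theorem tst_htst_1509 : allC (testChk dD dC dE dCl dTs) 1509 25 = true := by decide +kernel

set_option maxRecDepth 1000000 in
theorem tst_htst_1510 : allC (testChk dD dC dE dCl dTs) 1510 25 = true := by decide +kernel

set_option maxRecDepth 1000000 in
theorem tst_htst_1511 : allC (testChk dD dC dE dCl dTs) 1511 25 = true := by decide +kernel

set_option maxRecDepth 1000000 in
theorem tst_htst_1512 : allC (testChk dD dC dE dCl dTs) 1512 25 = true := by decide +kernel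

set_option maxRecDepth 1000000 in
theorem tst_htst_1513 : allC (testChk dD dC dE dCl dTs) 1513 25 = true := by decide +kernel

set_option maxRecDepth 1000000 in
theorem tst_htst_1514 : allC (testChk dD dC dE dCl dTs) 1514 25 = true := by decide +kernel

set_option maxRecDepth 1000000 in
theorem tst_htst_1515 : allC (testChk dD dC dE dCl dTs) 1515 25 = true := by decide +kernel

set_option maxRecDepth 1000000 in
theorem tst_htst_1516 : allC (testChk dD dC dE dCl dTs) 1516 25 = true := by decide +kernel

set_option maxRecDepth 1000000 in
theorem tst_htst_1517 : allC (testChk dD dC dE dCl dTs) 1517 25 = true := by decide +kernel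

set_option maxRecDepth 1000000 in
theorem tst_htst_1518 : allC (testChk dD dC dE dCl dTs) 1518 25 = true := by decide +kernel

set_option maxRecDepth 1000000 in
theorem tst_htst_1519 : allC (testChk dD dC dE dCl dTs) 1519 25 = true := by decide +kernel

set_option maxRecDepth 1000000 in
theorem tst_htst_1520 : allC (testChk dD dC dE dCl dTs) 1520 25 = true := by decide +kernel

set_option maxRecDepth 1000000 in
theorem tst_htst_1521 : allC (testChk dD dC dE dCl dTs) 1521 25 = true := by decide +kernel

set_option maxRecDepth 1000000 in
theorem tst_htst_1522 : allC (testChk dD dC dE dCl dTs) 1522 25 = true := by decide +kernel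

set_option maxRecDepth 1000000 in
theorem tst_htst_1523 : allC (testChk dD dC dE dCl dTs) 1523 25 = true := by decide +kernel

set_option maxRecDepth 1000000 in
theorem tst_htst_1524 : allC (testChk dD dC dE dCl dTs) 1524 25 = true := by decide +kernel

set_option maxRecDepth 1000000 in
theorem tst_htst_1525 : allC (testChk dD dC dE dCl dTs) 1525 25 = true := by decide +kernel

set_option maxRecDepth 1000000 in
theorem tst_htst_1526 : allC (testChk dD dC dE dCl dTs) 1526 25 = true := by decide +kernel

set_option maxRecDepth 1000000 in
theorem tst_htst_1527 : allC (testChk dD dC dE dCl dTs) 1527 25 = true := by decide +kernel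

set_option maxRecDepth 1000000 in
theorem tst_htst_1528 : allC (testChk dD dC dE dCl dTs) 1528 25 = true := by decide +kernel

set_option maxRecDepth 1000000 in
theorem tst_htst_1529 : allC (testChk dD dC dE dCl dTs) 1529 25 = true := by decide +kernel

set_option maxRecDepth 1000000 in
theorem tst_htst_1530 : allC (testChk dD dC dE dCl dTs) 1530 25 = true := by decide +kernel

set_option maxRecDepth 1000000 in
theorem tst_htst_1531 : allC (testChk dD dC dE dCl dTs) 1531 25 = true := by decide +kernel

set_option maxRecDepth 1000000 in
theorem tst_htst_1532 : allC (testChk dD dC dE dCl dTs) 1532 25 = true := by decide +kernel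

set_option maxRecDepth 1000000 in
theorem tst_htst_1533 : allC (testChk dD dC dE dCl dTs) 1533 25 = true := by decide +kernel

set_option maxRecDepth 1000000 in
theorem tst_htst_1534 : allC (testChk dD dC dE dCl dTs) 1534 25 = true := by decide +kernel

set_option maxRecDepth 1000000 in
theorem tst_htst_1535 : allC (testChk dD dC dE dCl dTs) 1535 25 = true := by decide +kernel

set_option maxRecDepth 1000000 in
theorem tst_htst_1536 : allC (testChk dD dC dE dCl dTs) 1536 25 = true := by decide +kernel

set_option maxRecDepth 1000000 in
theorem tst_htst_1537 : allC (testChk dD dC dE dCl dTs) 1537 25 = true := by decide +kernel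

set_option maxRecDepth 1000000 in
theorem tst_htst_1538 : allC (testChk dD dC dE dCl dTs) 1538 25 = true := by decide +kernel

set_option maxRecDepth 1000000 in
theorem tst_htst_1539 : allC (testChk dD dC dE dCl dTs) 1539 25 = true := by decide +kernel

set_option maxRecDepth 1000000 in
theorem tst_htst_1540 : allC (testChk dD dC dE dCl dTs) 1540 25 = true := by decide +kernel

set_option maxRecDepth 1000000 in
theorem tst_htst_1541 : allC (testChk dD dC dE dCl dTs) 1541 25 = true := by decide +kernel

set_option maxRecDepth 1000000 in
theorem tst_htst_1542 : allC (testChk dD dC dE dCl dTs) 1542 25 = true := by decide +kernel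

set_option maxRecDepth 1000000 in
theorem tst_htst_1543 : allC (testChk dD dC dE dCl dTs) 1543 25 = true := by decide +kernel

set_option maxRecDepth 1000000 in
theorem tst_htst_1544 : allC (testChk dD dC dE dCl dTs) 1544 25 = true := by decide +kernel

set_option maxRecDepth 1000000 in
theorem tst_htst_1545 : allC (testChk dD dC dE dCl dTs) 1545 25 = true := by decide +kernel

set_option maxRecDepth 1000000 in
theorem tst_htst_1546 : allC (testChk dD dC dE dCl dTs) 1546 25 = true := by decide +kernel

set_option maxRecDepth 1000000 in
theorem tst_htst_1547 : allC (testChk dD dC dE dCl dTs) 1547 25 = true := by decide +kernel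

set_option maxRecDepth 1000000 in
theorem tst_htst_1548 : allC (testChk dD dC dE dCl dTs) 1548 25 = true := by decide +kernel

set_option maxRecDepth 1000000 in
theorem tst_htst_1549 : allC (testChk dD dC dE dCl dTs) 1549 25 = true := by decide +kernel

set_option maxRecDepth 1000000 in
theorem tst_htst_1550 : allC (testChk dD dC dE dCl dTs) 1550 25 = true := by decide +kernel

set_option maxRecDepth 1000000 in
theorem tst_htst_1551 : allC (testChk dD dC dE dCl dTs) 1551 25 = true := by decide +kernel

set_option maxRecDepth 1000000 in
theorem tst_htst_1552 : allC (testChk dD dC dE dCl dTs) 1552 25 = true := by decide +kernel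

set_option maxRecDepth 1000000 in
theorem tst_htst_1553 : allC (testChk dD dC dE dCl dTs) 1553 25 = true := by decide +kernel

set_option maxRecDepth 1000000 in
theorem tst_htst_1554 : allC (testChk dD dC dE dCl dTs) 1554 25 = true := by decide +kernel

set_option maxRecDepth 1000000 in
theorem tst_htst_1555 : allC (testChk dD dC dE dCl dTs) 1555 25 = true := by decide +kernel

set_option maxRecDepth 1000000 in
theorem tst_htst_1556 : allC (testChk dD dC dE dCl dTs) 1556 25 = true := by decide +kernel

set_option maxRecDepth 1000000 in
theorem tst_htst_1557 : allC (testChk dD dC dE dCl dTs) 1557 25 = true := by decide +kernel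

set_option maxRecDepth 1000000 in
theorem tst_htst_1558 : allC (testChk dD dC dE dCl dTs) 1558 25 = true := by decide +kernel

set_option maxRecDepth 1000000 in
theorem tst_htst_1559 : allC (testChk dD dC dE dCl dTs) 1559 25 = true := by decide +kernel

set_option maxRecDepth 1000000 in
theorem tst_htst_1560 : allC (testChk dD dC dE dCl dTs) 1560 25 = true := by decide +kernel

set_option maxRecDepth 1000000 in
theorem tst_htst_1561 : allC (testChk dD dC dE dCl dTs) 1561 25 = true := by decide +kernel

set_option maxRecDepth 1000000 in
theorem tst_htst_1562 : allC (testChk dD dC dE dCl dTs) 1562 25 = true := by decide +kernel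

set_option maxRecDepth 1000000 in
theorem tst_htst_1563 : allC (testChk dD dC dE dCl dTs) 1563 25 = true := by decide +kernel

set_option maxRecDepth 1000000 in
theorem tst_htst_1564 : allC (testChk dD dC dE dCl dTs) 1564 25 = true := by decide +kernel

set_option maxRecDepth 1000000 in
theorem tst_htst_1565 : allC (testChk dD dC dE dCl dTs) 1565 25 = true := by decide +kernel

set_option maxRecDepth 1000000 in
theorem tst_htst_1566 : allC (testChk dD dC dE dCl dTs) 1566 25 = true := by decide +kernel

set_option maxRecDepth 1000000 in
theorem tst_htst_1567 : allC (testChk dD dC dE dCl dTs) 1567 25 = true := by decide +kernel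

set_option maxRecDepth 1000000 in
theorem tst_htst_1568 : allC (testChk dD dC dE dCl dTs) 1568 25 = true := by decide +kernel

set_option maxRecDepth 1000000 in
theorem tst_htst_1569 : allC (testChk dD dC dE dCl dTs) 1569 25 = true := by decide +kernel

set_option maxRecDepth 1000000 in
theorem tst_htst_1570 : allC (testChk dD dC dE dCl dTs) 1570 25 = true := by decide +kernel

set_option maxRecDepth 1000000 in
theorem tst_htst_1571 : allC (testChk dD dC dE dCl dTs) 1571 25 = true := by decide +kernel

set_option maxRecDepth 1000000 in
theorem tst_htst_1572 : allC (testChk dD dC dE dCl dTs) 1572 25 = true := by decide +kernel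

set_option maxRecDepth 1000000 in
theorem tst_htst_1573 : allC (testChk dD dC dE dCl dTs) 1573 25 = true := by decide +kernel

set_option maxRecDepth 1000000 in
theorem tst_htst_1574 : allC (testChk dD dC dE dCl dTs) 1574 25 = true := by decide +kernel

set_option maxRecDepth 1000000 in
theorem tst_htst_1575 : allC (testChk dD dC dE dCl dTs) 1575 25 = true := by decide +kernel

set_option maxRecDepth 1000000 in
theorem tst_htst_1576 : allC (testChk dD dC dE dCl dTs) 1576 25 = true := by decide +kernel

set_option maxRecDepth 1000000 in
theorem tst_htst_1577 : allC (testChk dD dC dE dCl dTs) 1577 25 = true := by decide +kernel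

set_option maxRecDepth 1000000 in
theorem tst_htst_1578 : allC (testChk dD dC dE dCl dTs) 1578 25 = true := by decide +kernel

set_option maxRecDepth 1000000 in
theorem tst_htst_1579 : allC (testChk dD dC dE dCl dTs) 1579 25 = true := by decide +kernel

set_option maxRecDepth 1000000 in
theorem tst_htst_1580 : allC (testChk dD dC dE dCl dTs) 1580 25 = true := by decide +kernel

set_option maxRecDepth 1000000 in
theorem tst_htst_1581 : allC (testChk dD dC dE dCl dTs) 1581 25 = true := by decide +kernel

set_option maxRecDepth 1000000 in
theorem tst_htst_1582 : allC (testChk dD dC dE dCl dTs) 1582 25 = true := by decide +kernel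

set_option maxRecDepth 1000000 in
theorem tst_htst_1583 : allC (testChk dD dC dE dCl dTs) 1583 25 = true := by decide +kernel

set_option maxRecDepth 1000000 in
theorem tst_htst_1584 : allC (testChk dD dC dE dCl dTs) 1584 25 = true := by decide +kernel

set_option maxRecDepth 1000000 in
theorem tst_htst_1585 : allC (testChk dD dC dE dCl dTs) 1585 25 = true := by decide +kernel

set_option maxRecDepth 1000000 in
theorem tst_htst_1586 : allC (testChk dD dC dE dCl dTs) 1586 25 = true := by decide +kernel

set_option maxRecDepth 1000000 in
theorem tst_htst_1587 : allC (testChk dD dC dE dCl dTs) 1587 25 = true := by decide +kernel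

set_option maxRecDepth 1000000 in
theorem tst_htst_1588 : allC (testChk dD dC dE dCl dTs) 1588 25 = true := by decide +kernel

set_option maxRecDepth 1000000 in
theorem tst_htst_1589 : allC (testChk dD dC dE dCl dTs) 1589 25 = true := by decide +kernel

set_option maxRecDepth 1000000 in
theorem tst_htst_1590 : allC (testChk dD dC dE dCl dTs) 1590 25 = true := by decide +kernel

set_option maxRecDepth 1000000 in
theorem tst_htst_1591 : allC (testChk dD dC dE dCl dTs) 1591 25 = true := by decide +kernel

set_option maxRecDepth 1000000 in
theorem tst_htst_1592 : allC (testChk dD dC dE dCl dTs) 1592 25 = true := by decide +kernel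

set_option maxRecDepth 1000000 in
theorem tst_htst_1593 : allC (testChk dD dC dE dCl dTs) 1593 25 = true := by decide +kernel

set_option maxRecDepth 1000000 in
theorem tst_htst_1594 : allC (testChk dD dC dE dCl dTs) 1594 25 = true := by decide +kernel

set_option maxRecDepth 1000000 in
theorem tst_htst_1595 : allC (testChk dD dC dE dCl dTs) 1595 25 = true := by decide +kernel

set_option maxRecDepth 1000000 in
theorem tst_htst_1596 : allC (testChk dD dC dE dCl dTs) 1596 25 = true := by decide +kernel

set_option maxRecDepth 1000000 in
theorem tst_htst_1597 : allC (testChk dD dC dE dCl dTs) 1597 25 = true := by decide +kernel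

set_option maxRecDepth 1000000 in
theorem tst_htst_1598 : allC (testChk dD dC dE dCl dTs) 1598 25 = true := by decide +kernel

set_option maxRecDepth 1000000 in
theorem tst_htst_1599 : allC (testChk dD dC dE dCl dTs) 1599 25 = true := by decide +kernel

end Cfsg.Agent.Helper9.RuO

end
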