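import Mathlib
import Cfsg.Agent.Helper9.RuO.Data

set_option autoImplicit false

/-! Kernel checks of the certificates, a part. -/

noncomputable section

namespace Cfsg.Agent.Helper9.RuO

open Cfsg.Agent.Helper9.OutG Cfsg.Agent.Helper9.J3

set_option maxRecDepth 1000000 in
theorem tst_htst_1600 : allC (testChk dD dC dE dCl dTs) 1600 25 = true := by decide +kernel

set_option maxRecDepth 1000000 in
theorem tst_htst_1601 : allC (testChk dD dC dE dCl dTs) 1601 25 = true := by decide +kernel

set_option maxRecDepth 1000000 in
theorem tst_htst_1602 : allC (testChk dD dC dE dCl dTs) 1602 25 = true := by decide +kernel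

set_option maxRecDepth 1000000 in
theorem tst_htst_1603 : allC (testChk dD dC dE dCl dTs) 1603 25 = true := by decide +kernel

set_option maxRecDepth 1000000 in
theorem tst_htst_1604 : allC (testChk dD dC dE dCl dTs) 1604 25 = true := by decide +kernel

set_option maxRecDepth 1000000 in
theorem tst_htst_1605 : allC (testChk dD dC dE dCl dTs) 1605 25 = true := by decide +kernel

set_option maxRecDepth 1000000 in
theorem tst_htst_1606 : allC (testChk dD dC dE dCl dTs) 1606 25 = true := by decide +kernel

set_option maxRecDepth 1000000 in
theorem tst_htst_1607 : allC (testChk dD dC dE dCl dTs) 1607 25 = true := by decide +kernel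

set_option maxRecDepth 1000000 in
theorem tst_htst_1608 : allC (testChk dD dC dE dCl dTs) 1608 25 = true := by decide +kernel

set_option maxRecDepth 1000000 in
theorem tst_htst_1609 : allC (testChk dD dC dE dCl dTs) 1609 25 = true := by decide +kernel

set_option maxRecDepth 1000000 in
theorem tst_htst_1610 : allC (testChk dD dC dE dCl dTs) 1610 25 = true := by decide +kernel

set_option maxRecDepth 1000000 in
theorem tst_htst_1611 : allC (testChk dD dC dE dCl dTs) 1611 25 = true := by decide +kernel

set_option maxRecDepth 1000000 in
theorem tst_htst_1612 : allC (testChk dD dC dE dCl dTs) 1612 25 = true := by decide +kernel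

set_option maxRecDepth 1000000 in
theorem tst_htst_1613 : allC (testChk dD dC dE dCl dTs) 1613 25 = true := by decide +kernel

set_option maxRecDepth 1000000 in
theorem tst_htst_1614 : allC (testChk dD dC dE dCl dTs) 1614 25 = true := by decide +kernel

set_option maxRecDepth 1000000 in
theorem tst_htst_1615 : allC (testChk dD dC dE dCl dTs) 1615 25 = true := by decide +kernel

set_option maxRecDepth 1000000 in
theorem tst_htst_1616 : allC (testChk dD dC dE dCl dTs) 1616 25 = true := by decide +kernel

set_option maxRecDepth 1000000 in
theorem tst_htst_1617 : allC (testChk dD dC dE dCl dTs) 1617 25 = true := by decide +kernel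

set_option maxRecDepth 1000000 in
theorem tst_htst_1618 : allC (testChk dD dC dE dCl dTs) 1618 25 = true := by decide +kernel

set_option maxRecDepth 1000000 in
theorem tst_htst_1619 : allC (testChk dD dC dE dCl dTs) 1619 25 = true := by decide +kernel

set_option maxRecDepth 1000000 in
theorem tst_htst_1620 : allC (testChk dD dC dE dCl dTs) 1620 25 = true := by decide +kernel

set_option maxRecDepth 1000000 in
theorem tst_htst_1621 : allC (testChk dD dC dE dCl dTs) 1621 25 = true := by decide +kernel

set_option maxRecDepth 1000000 in
theorem tst_htst_1622 : allC (testChk dD dC dE dCl dTs) 1622 25 = true := by decide +kernel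

set_option maxRecDepth 1000000 in
theorem tst_htst_1623 : allC (testChk dD dC dE dCl dTs) 1623 25 = true := by decide +kernel

set_option maxRecDepth 1000000 in
theorem tst_htst_1624 : allC (testChk dD dC dE dCl dTs) 1624 25 = true := by decide +kernel

set_option maxRecDepth 1000000 in
theorem tst_htst_1625 : allC (testChk dD dC dE dCl dTs) 1625 25 = true := by decide +kernel

set_option maxRecDepth 1000000 in
theorem tst_htst_1626 : allC (testChk dD dC dE dCl dTs) 1626 25 = true := by decide +kernel

set_option maxRecDepth 1000000 in
theorem tst_htst_1627 : allC (testChk dD dC dE dCl dTs) 1627 25 = true := by decide +kernel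

set_option maxRecDepth 1000000 in
theorem tst_htst_1628 : allC (testChk dD dC dE dCl dTs) 1628 25 = true := by decide +kernel

set_option maxRecDepth 1000000 in
theorem tst_htst_1629 : allC (testChk dD dC dE dCl dTs) 1629 25 = true := by decide +kernel

set_option maxRecDepth 1000000 in
theorem tst_htst_1630 : allC (testChk dD dC dE dCl dTs) 1630 25 = true := by decide +kernel

set_option maxRecDepth 1000000 in
theorem tst_htst_1631 : allC (testChk dD dC dE dCl dTs) 1631 25 = true := by decide +kernel

set_option maxRecDepth 1000000 in
theorem tst_htst_1632 : allC (testChk dD dC dE dCl dTs) 1632 25 = true := by decide +kernel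

set_option maxRecDepth 1000000 in
theorem tst_htst_1633 : allC (testChk dD dC dE dCl dTs) 1633 25 = true := by decide +kernel

set_option maxRecDepth 1000000 in
theorem tst_htst_1634 : allC (testChk dD dC dE dCl dTs) 1634 25 = true := by decide +kernel

set_option maxRecDepth 1000000 in
theorem tst_htst_1635 : allC (testChk dD dC dE dCl dTs) 1635 25 = true := by decide +kernel

set_option maxRecDepth 1000000 in
theorem tst_htst_1636 : allC (testChk dD dC dE dCl dTs) 1636 25 = true := by decide +kernel

set_option maxRecDepth 1000000 in
theorem tst_htst_1637 : allC (testChk dD dC dE dCl dTs) 1637 25 = true := by decide +kernel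

end Cfsg.Agent.Helper9.RuO

end
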