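import Mathlib
import Cfsg.Agent.Helper9.RuO.Data

set_option autoImplicit false

/-! Kernel checks of the certificates, a part. -/

noncomputable section

namespace Cfsg.Agent.Helper9.RuO

open Cfsg.Agent.Helper9.OutG Cfsg.Agent.Helper9.J3

set_option maxRecDepth 1000000 in
theorem tst_htst_300 : allC (testChk dD dC dE dCl dTs) 300 25 = true := by decide +kernel

set_option maxRecDepth 1000000 in
theorem tst_htst_301 : allC (testChk dD dC dE dCl dTs) 301 25 = true := by decide +kernel

set_option maxRecDepth 1000000 in
theorem tst_htst_302 : allC (testChk dD dC dE dCl dTs) 302 25 = true := by decide +kernel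

set_option maxRecDepth 1000000 in
theorem tst_htst_303 : allC (testChk dD dC dE dCl dTs) 303 25 = true := by decide +kernel

set_option maxRecDepth 1000000 in
theorem tst_htst_304 : allC (testChk dD dC dE dCl dTs) 304 25 = true := by decide +kernel

set_option maxRecDepth 1000000 in
theorem tst_htst_305 : allC (testChk dD dC dE dCl dTs) 305 25 = true := by decide +kernel

set_option maxRecDepth 1000000 in
theorem tst_htst_306 : allC (testChk dD dC dE dCl dTs) 306 25 = true := by decide +kernel

set_option maxRecDepth 1000000 in
theorem tst_htst_307 : allC (testChk dD dC dE dCl dTs) 307 25 = true := by decide +kernel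

set_option maxRecDepth 1000000 in
theorem tst_htst_308 : allC (testChk dD dC dE dCl dTs) 308 25 = true := by decide +kernel

set_option maxRecDepth 1000000 in
theorem tst_htst_309 : allC (testChk dD dC dE dCl dTs) 309 25 = true := by decide +kernel

set_option maxRecDepth 1000000 in
theorem tst_htst_310 : allC (testChk dD dC dE dCl dTs) 310 25 = true := by decide +kernel

set_option maxRecDepth 1000000 in
theorem tst_htst_311 : allC (testChk dD dC dE dCl dTs) 311 25 = true := by decide +kernel

set_option maxRecDepth 1000000 in
theorem tst_htst_312 : allC (testChk dD dC dE dCl dTs) 312 25 = true := by decide +kernel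

set_option maxRecDepth 1000000 in
theorem tst_htst_313 : allC (testChk dD dC dE dCl dTs) 313 25 = true := by decide +kernel

set_option maxRecDepth 1000000 in
theorem tst_htst_314 : allC (testChk dD dC dE dCl dTs) 314 25 = true := by decide +kernel

set_option maxRecDepth 1000000 in
theorem tst_htst_315 : allC (testChk dD dC dE dCl dTs) 315 25 = true := by decide +kernel

set_option maxRecDepth 1000000 in
theorem tst_htst_316 : allC (testChk dD dC dE dCl dTs) 316 25 = true := by decide +kernel

set_option maxRecDepth 1000000 in
theorem tst_htst_317 : allC (testChk dD dC dE dCl dTs) 317 25 = true := by decide +kernel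

set_option maxRecDepth 1000000 in
theorem tst_htst_318 : allC (testChk dD dC dE dCl dTs) 318 25 = true := by decide +kernel

set_option maxRecDepth 1000000 in
theorem tst_htst_319 : allC (testChk dD dC dE dCl dTs) 319 25 = true := by decide +kernel

set_option maxRecDepth 1000000 in
theorem tst_htst_320 : allC (testChk dD dC dE dCl dTs) 320 25 = true := by decide +kernel

set_option maxRecDepth 1000000 in
theorem tst_htst_321 : allC (testChk dD dC dE dCl dTs) 321 25 = true := by decide +kernel

set_option maxRecDepth 1000000 in
theorem tst_htst_322 : allC (testChk dD dC dE dCl dTs) 322 25 = true := by decide +kernel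

set_option maxRecDepth 1000000 in
theorem tst_htst_323 : allC (testChk dD dC dE dCl dTs) 323 25 = true := by decide +kernel

set_option maxRecDepth 1000000 in
theorem tst_htst_324 : allC (testChk dD dC dE dCl dTs) 324 25 = true := by decide +kernel

set_option maxRecDepth 1000000 in
theorem tst_htst_325 : allC (testChk dD dC dE dCl dTs) 325 25 = true := by decide +kernel

set_option maxRecDepth 1000000 in
theorem tst_htst_326 : allC (testChk dD dC dE dCl dTs) 326 25 = true := by decide +kernel

set_option maxRecDepth 1000000 in
theorem tst_htst_327 : allC (testChk dD dC dE dCl dTs) 327 25 = true := by decide +kernel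

set_option maxRecDepth 1000000 in
theorem tst_htst_328 : allC (testChk dD dC dE dCl dTs) 328 25 = true := by decide +kernel

set_option maxRecDepth 1000000 in
theorem tst_htst_329 : allC (testChk dD dC dE dCl dTs) 329 25 = true := by decide +kernel

set_option maxRecDepth 1000000 in
theorem tst_htst_330 : allC (testChk dD dC dE dCl dTs) 330 25 = true := by decide +kernel

set_option maxRecDepth 1000000 in
theorem tst_htst_331 : allC (testChk dD dC dE dCl dTs) 331 25 = true := by decide +kernel

set_option maxRecDepth 1000000 in
theorem tst_htst_332 : allC (testChk dD dC dE dCl dTs) 332 25 = true := by decide +kernel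

set_option maxRecDepth 1000000 in
theorem tst_htst_333 : allC (testChk dD dC dE dCl dTs) 333 25 = true := by decide +kernel

set_option maxRecDepth 1000000 in
theorem tst_htst_334 : allC (testChk dD dC dE dCl dTs) 334 25 = true := by decide +kernel

set_option maxRecDepth 1000000 in
theorem tst_htst_335 : allC (testChk dD dC dE dCl dTs) 335 25 = true := by decide +kernel

set_option maxRecDepth 1000000 in
theorem tst_htst_336 : allC (testChk dD dC dE dCl dTs) 336 25 = true := by decide +kernel

set_option maxRecDepth 1000000 in
theorem tst_htst_337 : allC (testChk dD dC dE dCl dTs) 337 25 = true := by decide +kernel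

set_option maxRecDepth 1000000 in
theorem tst_htst_338 : allC (testChk dD dC dE dCl dTs) 338 25 = true := by decide +kernel

set_option maxRecDepth 1000000 in
theorem tst_htst_339 : allC (testChk dD dC dE dCl dTs) 339 25 = true := by decide +kernel

set_option maxRecDepth 1000000 in
theorem tst_htst_340 : allC (testChk dD dC dE dCl dTs) 340 25 = true := by decide +kernel

set_option maxRecDepth 1000000 in
theorem tst_htst_341 : allC (testChk dD dC dE dCl dTs) 341 25 = true := by decide +kernel

set_option maxRecDepth 1000000 in
theorem tst_htst_342 : allC (testChk dD dC dE dCl dTs) 342 25 = true := by decide +kernel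

set_option maxRecDepth 1000000 in
theorem tst_htst_343 : allC (testChk dD dC dE dCl dTs) 343 25 = true := by decide +kernel

set_option maxRecDepth 1000000 in
theorem tst_htst_344 : allC (testChk dD dC dE dCl dTs) 344 25 = true := by decide +kernel

set_option maxRecDepth 1000000 in
theorem tst_htst_345 : allC (testChk dD dC dE dCl dTs) 345 25 = true := by decide +kernel

set_option maxRecDepth 1000000 in
theorem tst_htst_346 : allC (testChk dD dC dE dCl dTs) 346 25 = true := by decide +kernel

set_option maxRecDepth 1000000 in
theorem tst_htst_347 : allC (testChk dD dC dE dCl dTs) 347 25 = true := by decide +kernel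

set_option maxRecDepth 1000000 in
theorem tst_htst_348 : allC (testChk dD dC dE dCl dTs) 348 25 = true := by decide +kernel

set_option maxRecDepth 1000000 in
theorem tst_htst_349 : allC (testChk dD dC dE dCl dTs) 349 25 = true := by decide +kernel

set_option maxRecDepth 1000000 in
theorem tst_htst_350 : allC (testChk dD dC dE dCl dTs) 350 25 = true := by decide +kernel

set_option maxRecDepth 1000000 in
theorem tst_htst_351 : allC (testChk dD dC dE dCl dTs) 351 25 = true := by decide +kernel

set_option maxRecDepth 1000000 in
theorem tst_htst_352 : allC (testChk dD dC dE dCl dTs) 352 25 = true := by decide +kernel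

set_option maxRecDepth 1000000 in
theorem tst_htst_353 : allC (testChk dD dC dE dCl dTs) 353 25 = true := by decide +kernel

set_option maxRecDepth 1000000 in
theorem tst_htst_354 : allC (testChk dD dC dE dCl dTs) 354 25 = true := by decide +kernel

set_option maxRecDepth 1000000 in
theorem tst_htst_355 : allC (testChk dD dC dE dCl dTs) 355 25 = true := by decide +kernel

set_option maxRecDepth 1000000 in
theorem tst_htst_356 : allC (testChk dD dC dE dCl dTs) 356 25 = true := by decide +kernel

set_option maxRecDepth 1000000 in
theorem tst_htst_357 : allC (testChk dD dC dE dCl dTs) 357 25 = true := by decide +kernel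

set_option maxRecDepth 1000000 in
theorem tst_htst_358 : allC (testChk dD dC dE dCl dTs) 358 25 = true := by decide +kernel

set_option maxRecDepth 1000000 in
theorem tst_htst_359 : allC (testChk dD dC dE dCl dTs) 359 25 = true := by decide +kernel

set_option maxRecDepth 1000000 in
theorem tst_htst_360 : allC (testChk dD dC dE dCl dTs) 360 25 = true := by decide +kernel

set_option maxRecDepth 1000000 in
theorem tst_htst_361 : allC (testChk dD dC dE dCl dTs) 361 25 = true := by decide +kernel

set_option maxRecDepth 1000000 in
theorem tst_htst_362 : allC (testChk dD dC dE dCl dTs) 362 25 = true := by decide +kernel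

set_option maxRecDepth 1000000 in
theorem tst_htst_363 : allC (testChk dD dC dE dCl dTs) 363 25 = true := by decide +kernel

set_option maxRecDepth 1000000 in
theorem tst_htst_364 : allC (testChk dD dC dE dCl dTs) 364 25 = true := by decide +kernel

set_option maxRecDepth 1000000 in
theorem tst_htst_365 : allC (testChk dD dC dE dCl dTs) 365 25 = true := by decide +kernel

set_option maxRecDepth 1000000 in
theorem tst_htst_366 : allC (testChk dD dC dE dCl dTs) 366 25 = true := by decide +kernel

set_option maxRecDepth 1000000 in
theorem tst_htst_367 : allC (testChk dD dC dE dCl dTs) 367 25 = true := by decide +kernel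

set_option maxRecDepth 1000000 in
theorem tst_htst_368 : allC (testChk dD dC dE dCl dTs) 368 25 = true := by decide +kernel

set_option maxRecDepth 1000000 in
theorem tst_htst_369 : allC (testChk dD dC dE dCl dTs) 369 25 = true := by decide +kernel

set_option maxRecDepth 1000000 in
theorem tst_htst_370 : allC (testChk dD dC dE dCl dTs) 370 25 = true := by decide +kernel

set_option maxRecDepth 1000000 in
theorem tst_htst_371 : allC (testChk dD dC dE dCl dTs) 371 25 = true := by decide +kernel

set_option maxRecDepth 1000000 in
theorem tst_htst_372 : allC (testChk dD dC dE dCl dTs) 372 25 = true := by decide +kernel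

set_option maxRecDepth 1000000 in
theorem tst_htst_373 : allC (testChk dD dC dE dCl dTs) 373 25 = true := by decide +kernel

set_option maxRecDepth 1000000 in
theorem tst_htst_374 : allC (testChk dD dC dE dCl dTs) 374 25 = true := by decide +kernel

set_option maxRecDepth 1000000 in
theorem tst_htst_375 : allC (testChk dD dC dE dCl dTs) 375 25 = true := by decide +kernel

set_option maxRecDepth 1000000 in
theorem tst_htst_376 : allC (testChk dD dC dE dCl dTs) 376 25 = true := by decide +kernel

set_option maxRecDepth 1000000 in
theorem tst_htst_377 : allC (testChk dD dC dE dCl dTs) 377 25 = true := by decide +kernel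

set_option maxRecDepth 1000000 in
theorem tst_htst_378 : allC (testChk dD dC dE dCl dTs) 378 25 = true := by decide +kernel

set_option maxRecDepth 1000000 in
theorem tst_htst_379 : allC (testChk dD dC dE dCl dTs) 379 25 = true := by decide +kernel

set_option maxRecDepth 1000000 in
theorem tst_htst_380 : allC (testChk dD dC dE dCl dTs) 380 25 = true := by decide +kernel

set_option maxRecDepth 1000000 in
theorem tst_htst_381 : allC (testChk dD dC dE dCl dTs) 381 25 = true := by decide +kernel

set_option maxRecDepth 1000000 in
theorem tst_htst_382 : allC (testChk dD dC dE dCl dTs) 382 25 = true := by decide +kernel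

set_option maxRecDepth 1000000 in
theorem tst_htst_383 : allC (testChk dD dC dE dCl dTs) 383 25 = true := by decide +kernel

set_option maxRecDepth 1000000 in
theorem tst_htst_384 : allC (testChk dD dC dE dCl dTs) 384 25 = true := by decide +kernel

set_option maxRecDepth 1000000 in
theorem tst_htst_385 : allC (testChk dD dC dE dCl dTs) 385 25 = true := by decide +kernel

set_option maxRecDepth 1000000 in
theorem tst_htst_386 : allC (testChk dD dC dE dCl dTs) 386 25 = true := by decide +kernel

set_option maxRecDepth 1000000 in
theorem tst_htst_387 : allC (testChk dD dC dE dCl dTs) 387 25 = true := by decide +kernel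

set_option maxRecDepth 1000000 in
theorem tst_htst_388 : allC (testChk dD dC dE dCl dTs) 388 25 = true := by decide +kernel

set_option maxRecDepth 1000000 in
theorem tst_htst_389 : allC (testChk dD dC dE dCl dTs) 389 25 = true := by decide +kernel

set_option maxRecDepth 1000000 in
theorem tst_htst_390 : allC (testChk dD dC dE dCl dTs) 390 25 = true := by decide +kernel

set_option maxRecDepth 1000000 in
theorem tst_htst_391 : allC (testChk dD dC dE dCl dTs) 391 25 = true := by decide +kernel

set_option maxRecDepth 1000000 in
theorem tst_htst_392 : allC (testChk dD dC dE dCl dTs) 392 25 = true := by decide +kernel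

set_option maxRecDepth 1000000 in
theorem tst_htst_393 : allC (testChk dD dC dE dCl dTs) 393 25 = true := by decide +kernel

set_option maxRecDepth 1000000 in
theorem tst_htst_394 : allC (testChk dD dC dE dCl dTs) 394 25 = true := by decide +kernel

set_option maxRecDepth 1000000 in
theorem tst_htst_395 : allC (testChk dD dC dE dCl dTs) 395 25 = true := by decide +kernel

set_option maxRecDepth 1000000 in
theorem tst_htst_396 : allC (testChk dD dC dE dCl dTs) 396 25 = true := by decide +kernel

set_option maxRecDepth 1000000 in
theorem tst_htst_397 : allC (testChk dD dC dE dCl dTs) 397 25 = true := by decide +kernel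

set_option maxRecDepth 1000000 in
theorem tst_htst_398 : allC (testChk dD dC dE dCl dTs) 398 25 = true := by decide +kernel

set_option maxRecDepth 1000000 in
theorem tst_htst_399 : allC (testChk dD dC dE dCl dTs) 399 25 = true := by decide +kernel

end Cfsg.Agent.Helper9.RuO

end
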