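import Mathlib
import Cfsg.Agent.Helper9.RuO.Data

set_option autoImplicit false

/-! Kernel checks of the certificates, a part. -/

noncomputable section

namespace Cfsg.Agent.Helper9.RuO

open Cfsg.Agent.Helper9.OutG Cfsg.Agent.Helper9.J3

set_option maxRecDepth 1000000 in
theorem tst_htst_400 : allC (testChk dD dC dE dCl dTs) 400 25 = true := by decide +kernel

set_option maxRecDepth 1000000 in
theorem tst_htst_401 : allC (testChk dD dC dE dCl dTs) 401 25 = true := by decide +kernel

set_option maxRecDepth 1000000 in
theorem tst_htst_402 : allC (testChk dD dC dE dCl dTs) 402 25 = true := by decide +kernel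

set_option maxRecDepth 1000000 in
theorem tst_htst_403 : allC (testChk dD dC dE dCl dTs) 403 25 = true := by decide +kernel

set_option maxRecDepth 1000000 in
theorem tst_htst_404 : allC (testChk dD dC dE dCl dTs) 404 25 = true := by decide +kernel

set_option maxRecDepth 1000000 in
theorem tst_htst_405 : allC (testChk dD dC dE dCl dTs) 405 25 = true := by decide +kernel

set_option maxRecDepth 1000000 in
theorem tst_htst_406 : allC (testChk dD dC dE dCl dTs) 406 25 = true := by decide +kernel

set_option maxRecDepth 1000000 in
theorem tst_htst_407 : allC (testChk dD dC dE dCl dTs) 407 25 = true := by decide +kernel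

set_option maxRecDepth 1000000 in
theorem tst_htst_408 : allC (testChk dD dC dE dCl dTs) 408 25 = true := by decide +kernel

set_option maxRecDepth 1000000 in
theorem tst_htst_409 : allC (testChk dD dC dE dCl dTs) 409 25 = true := by decide +kernel

set_option maxRecDepth 1000000 in
theorem tst_htst_410 : allC (testChk dD dC dE dCl dTs) 410 25 = true := by decide +kernel

set_option maxRecDepth 1000000 in
theorem tst_htst_411 : allC (testChk dD dC dE dCl dTs) 411 25 = true := by decide +kernel

set_option maxRecDepth 1000000 in
theorem tst_htst_412 : allC (testChk dD dC dE dCl dTs) 412 25 = true := by decide +kernel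

set_option maxRecDepth 1000000 in
theorem tst_htst_413 : allC (testChk dD dC dE dCl dTs) 413 25 = true := by decide +kernel

set_option maxRecDepth 1000000 in
theorem tst_htst_414 : allC (testChk dD dC dE dCl dTs) 414 25 = true := by decide +kernel

set_option maxRecDepth 1000000 in
theorem tst_htst_415 : allC (testChk dD dC dE dCl dTs) 415 25 = true := by decide +kernel

set_option maxRecDepth 1000000 in
theorem tst_htst_416 : allC (testChk dD dC dE dCl dTs) 416 25 = true := by decide +kernel

set_option maxRecDepth 1000000 in
theorem tst_htst_417 : allC (testChk dD dC dE dCl dTs) 417 25 = true := by decide +kernel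

set_option maxRecDepth 1000000 in
theorem tst_htst_418 : allC (testChk dD dC dE dCl dTs) 418 25 = true := by decide +kernel

set_option maxRecDepth 1000000 in
theorem tst_htst_419 : allC (testChk dD dC dE dCl dTs) 419 25 = true := by decide +kernel

set_option maxRecDepth 1000000 in
theorem tst_htst_420 : allC (testChk dD dC dE dCl dTs) 420 25 = true := by decide +kernel

set_option maxRecDepth 1000000 in
theorem tst_htst_421 : allC (testChk dD dC dE dCl dTs) 421 25 = true := by decide +kernel

set_option maxRecDepth 1000000 in
theorem tst_htst_422 : allC (testChk dD dC dE dCl dTs) 422 25 = true := by decide +kernel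

set_option maxRecDepth 1000000 in
theorem tst_htst_423 : allC (testChk dD dC dE dCl dTs) 423 25 = true := by decide +kernel

set_option maxRecDepth 1000000 in
theorem tst_htst_424 : allC (testChk dD dC dE dCl dTs) 424 25 = true := by decide +kernel

set_option maxRecDepth 1000000 in
theorem tst_htst_425 : allC (testChk dD dC dE dCl dTs) 425 25 = true := by decide +kernel

set_option maxRecDepth 1000000 in
theorem tst_htst_426 : allC (testChk dD dC dE dCl dTs) 426 25 = true := by decide +kernel

set_option maxRecDepth 1000000 in
theorem tst_htst_427 : allC (testChk dD dC dE dCl dTs) 427 25 = true := by decide +kernel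

set_option maxRecDepth 1000000 in
theorem tst_htst_428 : allC (testChk dD dC dE dCl dTs) 428 25 = true := by decide +kernel

set_option maxRecDepth 1000000 in
theorem tst_htst_429 : allC (testChk dD dC dE dCl dTs) 429 25 = true := by decide +kernel

set_option maxRecDepth 1000000 in
theorem tst_htst_430 : allC (testChk dD dC dE dCl dTs) 430 25 = true := by decide +kernel

set_option maxRecDepth 1000000 in
theorem tst_htst_431 : allC (testChk dD dC dE dCl dTs) 431 25 = true := by decide +kernel

set_option maxRecDepth 1000000 in
theorem tst_htst_432 : allC (testChk dD dC dE dCl dTs) 432 25 = true := by decide +kernel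

set_option maxRecDepth 1000000 in
theorem tst_htst_433 : allC (testChk dD dC dE dCl dTs) 433 25 = true := by decide +kernel

set_option maxRecDepth 1000000 in
theorem tst_htst_434 : allC (testChk dD dC dE dCl dTs) 434 25 = true := by decide +kernel

set_option maxRecDepth 1000000 in
theorem tst_htst_435 : allC (testChk dD dC dE dCl dTs) 435 25 = true := by decide +kernel

set_option maxRecDepth 1000000 in
theorem tst_htst_436 : allC (testChk dD dC dE dCl dTs) 436 25 = true := by decide +kernel

set_option maxRecDepth 1000000 in
theorem tst_htst_437 : allC (testChk dD dC dE dCl dTs) 437 25 = true := by decide +kernel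

set_option maxRecDepth 1000000 in
theorem tst_htst_438 : allC (testChk dD dC dE dCl dTs) 438 25 = true := by decide +kernel

set_option maxRecDepth 1000000 in
theorem tst_htst_439 : allC (testChk dD dC dE dCl dTs) 439 25 = true := by decide +kernel

set_option maxRecDepth 1000000 in
theorem tst_htst_440 : allC (testChk dD dC dE dCl dTs) 440 25 = true := by decide +kernel

set_option maxRecDepth 1000000 in
theorem tst_htst_441 : allC (testChk dD dC dE dCl dTs) 441 25 = true := by decide +kernel

set_option maxRecDepth 1000000 in
theorem tst_htst_442 : allC (testChk dD dC dE dCl dTs) 442 25 = true := by decide +kernel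

set_option maxRecDepth 1000000 in
theorem tst_htst_443 : allC (testChk dD dC dE dCl dTs) 443 25 = true := by decide +kernel

set_option maxRecDepth 1000000 in
theorem tst_htst_444 : allC (testChk dD dC dE dCl dTs) 444 25 = true := by decide +kernel

set_option maxRecDepth 1000000 in
theorem tst_htst_445 : allC (testChk dD dC dE dCl dTs) 445 25 = true := by decide +kernel

set_option maxRecDepth 1000000 in
theorem tst_htst_446 : allC (testChk dD dC dE dCl dTs) 446 25 = true := by decide +kernel

set_option maxRecDepth 1000000 in
theorem tst_htst_447 : allC (testChk dD dC dE dCl dTs) 447 25 = true := by decide +kernel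

set_option maxRecDepth 1000000 in
theorem tst_htst_448 : allC (testChk dD dC dE dCl dTs) 448 25 = true := by decide +kernel

set_option maxRecDepth 1000000 in
theorem tst_htst_449 : allC (testChk dD dC dE dCl dTs) 449 25 = true := by decide +kernel

set_option maxRecDepth 1000000 in
theorem tst_htst_450 : allC (testChk dD dC dE dCl dTs) 450 25 = true := by decide +kernel

set_option maxRecDepth 1000000 in
theorem tst_htst_451 : allC (testChk dD dC dE dCl dTs) 451 25 = true := by decide +kernel

set_option maxRecDepth 1000000 in
theorem tst_htst_452 : allC (testChk dD dC dE dCl dTs) 452 25 = true := by decide +kernel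

set_option maxRecDepth 1000000 in
theorem tst_htst_453 : allC (testChk dD dC dE dCl dTs) 453 25 = true := by decide +kernel

set_option maxRecDepth 1000000 in
theorem tst_htst_454 : allC (testChk dD dC dE dCl dTs) 454 25 = true := by decide +kernel

set_option maxRecDepth 1000000 in
theorem tst_htst_455 : allC (testChk dD dC dE dCl dTs) 455 25 = true := by decide +kernel

set_option maxRecDepth 1000000 in
theorem tst_htst_456 : allC (testChk dD dC dE dCl dTs) 456 25 = true := by decide +kernel

set_option maxRecDepth 1000000 in
theorem tst_htst_457 : allC (testChk dD dC dE dCl dTs) 457 25 = true := by decide +kernel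

set_option maxRecDepth 1000000 in
theorem tst_htst_458 : allC (testChk dD dC dE dCl dTs) 458 25 = true := by decide +kernel

set_option maxRecDepth 1000000 in
theorem tst_htst_459 : allC (testChk dD dC dE dCl dTs) 459 25 = true := by decide +kernel

set_option maxRecDepth 1000000 in
theorem tst_htst_460 : allC (testChk dD dC dE dCl dTs) 460 25 = true := by decide +kernel

set_option maxRecDepth 1000000 in
theorem tst_htst_461 : allC (testChk dD dC dE dCl dTs) 461 25 = true := by decide +kernel

set_option maxRecDepth 1000000 in
theorem tst_htst_462 : allC (testChk dD dC dE dCl dTs) 462 25 = true := by decide +kernel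

set_option maxRecDepth 1000000 in
theorem tst_htst_463 : allC (testChk dD dC dE dCl dTs) 463 25 = true := by decide +kernel

set_option maxRecDepth 1000000 in
theorem tst_htst_464 : allC (testChk dD dC dE dCl dTs) 464 25 = true := by decide +kernel

set_option maxRecDepth 1000000 in
theorem tst_htst_465 : allC (testChk dD dC dE dCl dTs) 465 25 = true := by decide +kernel

set_option maxRecDepth 1000000 in
theorem tst_htst_466 : allC (testChk dD dC dE dCl dTs) 466 25 = true := by decide +kernel

set_option maxRecDepth 1000000 in
theorem tst_htst_467 : allC (testChk dD dC dE dCl dTs) 467 25 = true := by decide +kernel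

set_option maxRecDepth 1000000 in
theorem tst_htst_468 : allC (testChk dD dC dE dCl dTs) 468 25 = true := by decide +kernel

set_option maxRecDepth 1000000 in
theorem tst_htst_469 : allC (testChk dD dC dE dCl dTs) 469 25 = true := by decide +kernel

set_option maxRecDepth 1000000 in
theorem tst_htst_470 : allC (testChk dD dC dE dCl dTs) 470 25 = true := by decide +kernel

set_option maxRecDepth 1000000 in
theorem tst_htst_471 : allC (testChk dD dC dE dCl dTs) 471 25 = true := by decide +kernel

set_option maxRecDepth 1000000 in
theorem tst_htst_472 : allC (testChk dD dC dE dCl dTs) 472 25 = true := by decide +kernel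

set_option maxRecDepth 1000000 in
theorem tst_htst_473 : allC (testChk dD dC dE dCl dTs) 473 25 = true := by decide +kernel

set_option maxRecDepth 1000000 in
theorem tst_htst_474 : allC (testChk dD dC dE dCl dTs) 474 25 = true := by decide +kernel

set_option maxRecDepth 1000000 in
theorem tst_htst_475 : allC (testChk dD dC dE dCl dTs) 475 25 = true := by decide +kernel

set_option maxRecDepth 1000000 in
theorem tst_htst_476 : allC (testChk dD dC dE dCl dTs) 476 25 = true := by decide +kernel

set_option maxRecDepth 1000000 in
theorem tst_htst_477 : allC (testChk dD dC dE dCl dTs) 477 25 = true := by decide +kernel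

set_option maxRecDepth 1000000 in
theorem tst_htst_478 : allC (testChk dD dC dE dCl dTs) 478 25 = true := by decide +kernel

set_option maxRecDepth 1000000 in
theorem tst_htst_479 : allC (testChk dD dC dE dCl dTs) 479 25 = true := by decide +kernel

set_option maxRecDepth 1000000 in
theorem tst_htst_480 : allC (testChk dD dC dE dCl dTs) 480 25 = true := by decide +kernel

set_option maxRecDepth 1000000 in
theorem tst_htst_481 : allC (testChk dD dC dE dCl dTs) 481 25 = true := by decide +kernel

set_option maxRecDepth 1000000 in
theorem tst_htst_482 : allC (testChk dD dC dE dCl dTs) 482 25 = true := by decide +kernel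

set_option maxRecDepth 1000000 in
theorem tst_htst_483 : allC (testChk dD dC dE dCl dTs) 483 25 = true := by decide +kernel

set_option maxRecDepth 1000000 in
theorem tst_htst_484 : allC (testChk dD dC dE dCl dTs) 484 25 = true := by decide +kernel

set_option maxRecDepth 1000000 in
theorem tst_htst_485 : allC (testChk dD dC dE dCl dTs) 485 25 = true := by decide +kernel

set_option maxRecDepth 1000000 in
theorem tst_htst_486 : allC (testChk dD dC dE dCl dTs) 486 25 = true := by decide +kernel

set_option maxRecDepth 1000000 in
theorem tst_htst_487 : allC (testChk dD dC dE dCl dTs) 487 25 = true := by decide +kernel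

set_option maxRecDepth 1000000 in
theorem tst_htst_488 : allC (testChk dD dC dE dCl dTs) 488 25 = true := by decide +kernel

set_option maxRecDepth 1000000 in
theorem tst_htst_489 : allC (testChk dD dC dE dCl dTs) 489 25 = true := by decide +kernel

set_option maxRecDepth 1000000 in
theorem tst_htst_490 : allC (testChk dD dC dE dCl dTs) 490 25 = true := by decide +kernel

set_option maxRecDepth 1000000 in
theorem tst_htst_491 : allC (testChk dD dC dE dCl dTs) 491 25 = true := by decide +kernel

set_option maxRecDepth 1000000 in
theorem tst_htst_492 : allC (testChk dD dC dE dCl dTs) 492 25 = true := by decide +kernel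

set_option maxRecDepth 1000000 in
theorem tst_htst_493 : allC (testChk dD dC dE dCl dTs) 493 25 = true := by decide +kernel

set_option maxRecDepth 1000000 in
theorem tst_htst_494 : allC (testChk dD dC dE dCl dTs) 494 25 = true := by decide +kernel

set_option maxRecDepth 1000000 in
theorem tst_htst_495 : allC (testChk dD dC dE dCl dTs) 495 25 = true := by decide +kernel

set_option maxRecDepth 1000000 in
theorem tst_htst_496 : allC (testChk dD dC dE dCl dTs) 496 25 = true := by decide +kernel

set_option maxRecDepth 1000000 in
theorem tst_htst_497 : allC (testChk dD dC dE dCl dTs) 497 25 = true := by decide +kernel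

set_option maxRecDepth 1000000 in
theorem tst_htst_498 : allC (testChk dD dC dE dCl dTs) 498 25 = true := by decide +kernel

set_option maxRecDepth 1000000 in
theorem tst_htst_499 : allC (testChk dD dC dE dCl dTs) 499 25 = true := by decide +kernel

end Cfsg.Agent.Helper9.RuO

end
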