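import Mathlib
import Cfsg.Agent.Helper9.RuO.Data

set_option autoImplicit false

/-! Kernel checks of the certificates, a part. -/

noncomputable section

namespace Cfsg.Agent.Helper9.RuO

open Cfsg.Agent.Helper9.OutG Cfsg.Agent.Helper9.J3

set_option maxRecDepth 1000000 in
theorem tst_htst_500 : allC (testChk dD dC dE dCl dTs) 500 25 = true := by decide +kernel

set_option maxRecDepth 1000000 in
theorem tst_htst_501 : allC (testChk dD dC dE dCl dTs) 501 25 = true := by decide +kernel

set_option maxRecDepth 1000000 in
theorem tst_htst_502 : allC (testChk dD dC dE dCl dTs) 502 25 = true := by decide +kernel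

set_option maxRecDepth 1000000 in
theorem tst_htst_503 : allC (testChk dD dC dE dCl dTs) 503 25 = true := by decide +kernel

set_option maxRecDepth 1000000 in
theorem tst_htst_504 : allC (testChk dD dC dE dCl dTs) 504 25 = true := by decide +kernel

set_option maxRecDepth 1000000 in
theorem tst_htst_505 : allC (testChk dD dC dE dCl dTs) 505 25 = true := by decide +kernel

set_option maxRecDepth 1000000 in
theorem tst_htst_506 : allC (testChk dD dC dE dCl dTs) 506 25 = true := by decide +kernel

set_option maxRecDepth 1000000 in
theorem tst_htst_507 : allC (testChk dD dC dE dCl dTs) 507 25 = true := by decide +kernel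

set_option maxRecDepth 1000000 in
theorem tst_htst_508 : allC (testChk dD dC dE dCl dTs) 508 25 = true := by decide +kernel

set_option maxRecDepth 1000000 in
theorem tst_htst_509 : allC (testChk dD dC dE dCl dTs) 509 25 = true := by decide +kernel

set_option maxRecDepth 1000000 in
theorem tst_htst_510 : allC (testChk dD dC dE dCl dTs) 510 25 = true := by decide +kernel

set_option maxRecDepth 1000000 in
theorem tst_htst_511 : allC (testChk dD dC dE dCl dTs) 511 25 = true := by decide +kernel

set_option maxRecDepth 1000000 in
theorem tst_htst_512 : allC (testChk dD dC dE dCl dTs) 512 25 = true := by decide +kernel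

set_option maxRecDepth 1000000 in
theorem tst_htst_513 : allC (testChk dD dC dE dCl dTs) 513 25 = true := by decide +kernel

set_option maxRecDepth 1000000 in
theorem tst_htst_514 : allC (testChk dD dC dE dCl dTs) 514 25 = true := by decide +kernel

set_option maxRecDepth 1000000 in
theorem tst_htst_515 : allC (testChk dD dC dE dCl dTs) 515 25 = true := by decide +kernel

set_option maxRecDepth 1000000 in
theorem tst_htst_516 : allC (testChk dD dC dE dCl dTs) 516 25 = true := by decide +kernel

set_option maxRecDepth 1000000 in
theorem tst_htst_517 : allC (testChk dD dC dE dCl dTs) 517 25 = true := by decide +kernel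

set_option maxRecDepth 1000000 in
theorem tst_htst_518 : allC (testChk dD dC dE dCl dTs) 518 25 = true := by decide +kernel

set_option maxRecDepth 1000000 in
theorem tst_htst_519 : allC (testChk dD dC dE dCl dTs) 519 25 = true := by decide +kernel

set_option maxRecDepth 1000000 in
theorem tst_htst_520 : allC (testChk dD dC dE dCl dTs) 520 25 = true := by decide +kernel

set_option maxRecDepth 1000000 in
theorem tst_htst_521 : allC (testChk dD dC dE dCl dTs) 521 25 = true := by decide +kernel

set_option maxRecDepth 1000000 in
theorem tst_htst_522 : allC (testChk dD dC dE dCl dTs) 522 25 = true := by decide +kernel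

set_option maxRecDepth 1000000 in
theorem tst_htst_523 : allC (testChk dD dC dE dCl dTs) 523 25 = true := by decide +kernel

set_option maxRecDepth 1000000 in
theorem tst_htst_524 : allC (testChk dD dC dE dCl dTs) 524 25 = true := by decide +kernel

set_option maxRecDepth 1000000 in
theorem tst_htst_525 : allC (testChk dD dC dE dCl dTs) 525 25 = true := by decide +kernel

set_option maxRecDepth 1000000 in
theorem tst_htst_526 : allC (testChk dD dC dE dCl dTs) 526 25 = true := by decide +kernel

set_option maxRecDepth 1000000 in
theorem tst_htst_527 : allC (testChk dD dC dE dCl dTs) 527 25 = true := by decide +kernel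

set_option maxRecDepth 1000000 in
theorem tst_htst_528 : allC (testChk dD dC dE dCl dTs) 528 25 = true := by decide +kernel

set_option maxRecDepth 1000000 in
theorem tst_htst_529 : allC (testChk dD dC dE dCl dTs) 529 25 = true := by decide +kernel

set_option maxRecDepth 1000000 in
theorem tst_htst_530 : allC (testChk dD dC dE dCl dTs) 530 25 = true := by decide +kernel

set_option maxRecDepth 1000000 in
theorem tst_htst_531 : allC (testChk dD dC dE dCl dTs) 531 25 = true := by decide +kernel

set_option maxRecDepth 1000000 in
theorem tst_htst_532 : allC (testChk dD dC dE dCl dTs) 532 25 = true := by decide +kernel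

set_option maxRecDepth 1000000 in
theorem tst_htst_533 : allC (testChk dD dC dE dCl dTs) 533 25 = true := by decide +kernel

set_option maxRecDepth 1000000 in
theorem tst_htst_534 : allC (testChk dD dC dE dCl dTs) 534 25 = true := by decide +kernel

set_option maxRecDepth 1000000 in
theorem tst_htst_535 : allC (testChk dD dC dE dCl dTs) 535 25 = true := by decide +kernel

set_option maxRecDepth 1000000 in
theorem tst_htst_536 : allC (testChk dD dC dE dCl dTs) 536 25 = true := by decide +kernel

set_option maxRecDepth 1000000 in
theorem tst_htst_537 : allC (testChk dD dC dE dCl dTs) 537 25 = true := by decide +kernel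

set_option maxRecDepth 1000000 in
theorem tst_htst_538 : allC (testChk dD dC dE dCl dTs) 538 25 = true := by decide +kernel

set_option maxRecDepth 1000000 in
theorem tst_htst_539 : allC (testChk dD dC dE dCl dTs) 539 25 = true := by decide +kernel

set_option maxRecDepth 1000000 in
theorem tst_htst_540 : allC (testChk dD dC dE dCl dTs) 540 25 = true := by decide +kernel

set_option maxRecDepth 1000000 in
theorem tst_htst_541 : allC (testChk dD dC dE dCl dTs) 541 25 = true := by decide +kernel

set_option maxRecDepth 1000000 in
theorem tst_htst_542 : allC (testChk dD dC dE dCl dTs) 542 25 = true := by decide +kernel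

set_option maxRecDepth 1000000 in
theorem tst_htst_543 : allC (testChk dD dC dE dCl dTs) 543 25 = true := by decide +kernel

set_option maxRecDepth 1000000 in
theorem tst_htst_544 : allC (testChk dD dC dE dCl dTs) 544 25 = true := by decide +kernel

set_option maxRecDepth 1000000 in
theorem tst_htst_545 : allC (testChk dD dC dE dCl dTs) 545 25 = true := by decide +kernel

set_option maxRecDepth 1000000 in
theorem tst_htst_546 : allC (testChk dD dC dE dCl dTs) 546 25 = true := by decide +kernel

set_option maxRecDepth 1000000 in
theorem tst_htst_547 : allC (testChk dD dC dE dCl dTs) 547 25 = true := by decide +kernel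

set_option maxRecDepth 1000000 in
theorem tst_htst_548 : allC (testChk dD dC dE dCl dTs) 548 25 = true := by decide +kernel

set_option maxRecDepth 1000000 in
theorem tst_htst_549 : allC (testChk dD dC dE dCl dTs) 549 25 = true := by decide +kernel

set_option maxRecDepth 1000000 in
theorem tst_htst_550 : allC (testChk dD dC dE dCl dTs) 550 25 = true := by decide +kernel

set_option maxRecDepth 1000000 in
theorem tst_htst_551 : allC (testChk dD dC dE dCl dTs) 551 25 = true := by decide +kernel

set_option maxRecDepth 1000000 in
theorem tst_htst_552 : allC (testChk dD dC dE dCl dTs) 552 25 = true := by decide +kernel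

set_option maxRecDepth 1000000 in
theorem tst_htst_553 : allC (testChk dD dC dE dCl dTs) 553 25 = true := by decide +kernel

set_option maxRecDepth 1000000 in
theorem tst_htst_554 : allC (testChk dD dC dE dCl dTs) 554 25 = true := by decide +kernel

set_option maxRecDepth 1000000 in
theorem tst_htst_555 : allC (testChk dD dC dE dCl dTs) 555 25 = true := by decide +kernel

set_option maxRecDepth 1000000 in
theorem tst_htst_556 : allC (testChk dD dC dE dCl dTs) 556 25 = true := by decide +kernel

set_option maxRecDepth 1000000 in
theorem tst_htst_557 : allC (testChk dD dC dE dCl dTs) 557 25 = true := by decide +kernel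

set_option maxRecDepth 1000000 in
theorem tst_htst_558 : allC (testChk dD dC dE dCl dTs) 558 25 = true := by decide +kernel

set_option maxRecDepth 1000000 in
theorem tst_htst_559 : allC (testChk dD dC dE dCl dTs) 559 25 = true := by decide +kernel

set_option maxRecDepth 1000000 in
theorem tst_htst_560 : allC (testChk dD dC dE dCl dTs) 560 25 = true := by decide +kernel

set_option maxRecDepth 1000000 in
theorem tst_htst_561 : allC (testChk dD dC dE dCl dTs) 561 25 = true := by decide +kernel

set_option maxRecDepth 1000000 in
theorem tst_htst_562 : allC (testChk dD dC dE dCl dTs) 562 25 = true := by decide +kernel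

set_option maxRecDepth 1000000 in
theorem tst_htst_563 : allC (testChk dD dC dE dCl dTs) 563 25 = true := by decide +kernel

set_option maxRecDepth 1000000 in
theorem tst_htst_564 : allC (testChk dD dC dE dCl dTs) 564 25 = true := by decide +kernel

set_option maxRecDepth 1000000 in
theorem tst_htst_565 : allC (testChk dD dC dE dCl dTs) 565 25 = true := by decide +kernel

set_option maxRecDepth 1000000 in
theorem tst_htst_566 : allC (testChk dD dC dE dCl dTs) 566 25 = true := by decide +kernel

set_option maxRecDepth 1000000 in
theorem tst_htst_567 : allC (testChk dD dC dE dCl dTs) 567 25 = true := by decide +kernel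

set_option maxRecDepth 1000000 in
theorem tst_htst_568 : allC (testChk dD dC dE dCl dTs) 568 25 = true := by decide +kernel

set_option maxRecDepth 1000000 in
theorem tst_htst_569 : allC (testChk dD dC dE dCl dTs) 569 25 = true := by decide +kernel

set_option maxRecDepth 1000000 in
theorem tst_htst_570 : allC (testChk dD dC dE dCl dTs) 570 25 = true := by decide +kernel

set_option maxRecDepth 1000000 in
theorem tst_htst_571 : allC (testChk dD dC dE dCl dTs) 571 25 = true := by decide +kernel

set_option maxRecDepth 1000000 in
theorem tst_htst_572 : allC (testChk dD dC dE dCl dTs) 572 25 = true := by decide +kernel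

set_option maxRecDepth 1000000 in
theorem tst_htst_573 : allC (testChk dD dC dE dCl dTs) 573 25 = true := by decide +kernel

set_option maxRecDepth 1000000 in
theorem tst_htst_574 : allC (testChk dD dC dE dCl dTs) 574 25 = true := by decide +kernel

set_option maxRecDepth 1000000 in
theorem tst_htst_575 : allC (testChk dD dC dE dCl dTs) 575 25 = true := by decide +kernel

set_option maxRecDepth 1000000 in
theorem tst_htst_576 : allC (testChk dD dC dE dCl dTs) 576 25 = true := by decide +kernel

set_option maxRecDepth 1000000 in
theorem tst_htst_577 : allC (testChk dD dC dE dCl dTs) 577 25 = true := by decide +kernel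

set_option maxRecDepth 1000000 in
theorem tst_htst_578 : allC (testChk dD dC dE dCl dTs) 578 25 = true := by decide +kernel

set_option maxRecDepth 1000000 in
theorem tst_htst_579 : allC (testChk dD dC dE dCl dTs) 579 25 = true := by decide +kernel

set_option maxRecDepth 1000000 in
theorem tst_htst_580 : allC (testChk dD dC dE dCl dTs) 580 25 = true := by decide +kernel

set_option maxRecDepth 1000000 in
theorem tst_htst_581 : allC (testChk dD dC dE dCl dTs) 581 25 = true := by decide +kernel

set_option maxRecDepth 1000000 in
theorem tst_htst_582 : allC (testChk dD dC dE dCl dTs) 582 25 = true := by decide +kernel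

set_option maxRecDepth 1000000 in
theorem tst_htst_583 : allC (testChk dD dC dE dCl dTs) 583 25 = true := by decide +kernel

set_option maxRecDepth 1000000 in
theorem tst_htst_584 : allC (testChk dD dC dE dCl dTs) 584 25 = true := by decide +kernel

set_option maxRecDepth 1000000 in
theorem tst_htst_585 : allC (testChk dD dC dE dCl dTs) 585 25 = true := by decide +kernel

set_option maxRecDepth 1000000 in
theorem tst_htst_586 : allC (testChk dD dC dE dCl dTs) 586 25 = true := by decide +kernel

set_option maxRecDepth 1000000 in
theorem tst_htst_587 : allC (testChk dD dC dE dCl dTs) 587 25 = true := by decide +kernel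

set_option maxRecDepth 1000000 in
theorem tst_htst_588 : allC (testChk dD dC dE dCl dTs) 588 25 = true := by decide +kernel

set_option maxRecDepth 1000000 in
theorem tst_htst_589 : allC (testChk dD dC dE dCl dTs) 589 25 = true := by decide +kernel

set_option maxRecDepth 1000000 in
theorem tst_htst_590 : allC (testChk dD dC dE dCl dTs) 590 25 = true := by decide +kernel

set_option maxRecDepth 1000000 in
theorem tst_htst_591 : allC (testChk dD dC dE dCl dTs) 591 25 = true := by decide +kernel

set_option maxRecDepth 1000000 in
theorem tst_htst_592 : allC (testChk dD dC dE dCl dTs) 592 25 = true := by decide +kernel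

set_option maxRecDepth 1000000 in
theorem tst_htst_593 : allC (testChk dD dC dE dCl dTs) 593 25 = true := by decide +kernel

set_option maxRecDepth 1000000 in
theorem tst_htst_594 : allC (testChk dD dC dE dCl dTs) 594 25 = true := by decide +kernel

set_option maxRecDepth 1000000 in
theorem tst_htst_595 : allC (testChk dD dC dE dCl dTs) 595 25 = true := by decide +kernel

set_option maxRecDepth 1000000 in
theorem tst_htst_596 : allC (testChk dD dC dE dCl dTs) 596 25 = true := by decide +kernel

set_option maxRecDepth 1000000 in
theorem tst_htst_597 : allC (testChk dD dC dE dCl dTs) 597 25 = true := by decide +kernel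

set_option maxRecDepth 1000000 in
theorem tst_htst_598 : allC (testChk dD dC dE dCl dTs) 598 25 = true := by decide +kernel

set_option maxRecDepth 1000000 in
theorem tst_htst_599 : allC (testChk dD dC dE dCl dTs) 599 25 = true := by decide +kernel

end Cfsg.Agent.Helper9.RuO

end
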