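import Mathlib
import Cfsg.Agent.Helper9.RuO.Data

set_option autoImplicit false

/-! Kernel checks of the certificates, a part. -/

noncomputable section

namespace Cfsg.Agent.Helper9.RuO

open Cfsg.Agent.Helper9.OutG Cfsg.Agent.Helper9.J3

set_option maxRecDepth 1000000 in
theorem tst_htst_600 : allC (testChk dD dC dE dCl dTs) 600 25 = true := by decide +kernel

set_option maxRecDepth 1000000 in
theorem tst_htst_601 : allC (testChk dD dC dE dCl dTs) 601 25 = true := by decide +kernel

set_option maxRecDepth 1000000 in
theorem tst_htst_602 : allC (testChk dD dC dE dCl dTs) 602 25 = true := by decide +kernel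

set_option maxRecDepth 1000000 in
theorem tst_htst_603 : allC (testChk dD dC dE dCl dTs) 603 25 = true := by decide +kernel

set_option maxRecDepth 1000000 in
theorem tst_htst_604 : allC (testChk dD dC dE dCl dTs) 604 25 = true := by decide +kernel

set_option maxRecDepth 1000000 in
theorem tst_htst_605 : allC (testChk dD dC dE dCl dTs) 605 25 = true := by decide +kernel

set_option maxRecDepth 1000000 in
theorem tst_htst_606 : allC (testChk dD dC dE dCl dTs) 606 25 = true := by decide +kernel

set_option maxRecDepth 1000000 in
theorem tst_htst_607 : allC (testChk dD dC dE dCl dTs) 607 25 = true := by decide +kernel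

set_option maxRecDepth 1000000 in
theorem tst_htst_608 : allC (testChk dD dC dE dCl dTs) 608 25 = true := by decide +kernel

set_option maxRecDepth 1000000 in
theorem tst_htst_609 : allC (testChk dD dC dE dCl dTs) 609 25 = true := by decide +kernel

set_option maxRecDepth 1000000 in
theorem tst_htst_610 : allC (testChk dD dC dE dCl dTs) 610 25 = true := by decide +kernel

set_option maxRecDepth 1000000 in
theorem tst_htst_611 : allC (testChk dD dC dE dCl dTs) 611 25 = true := by decide +kernel

set_option maxRecDepth 1000000 in
theorem tst_htst_612 : allC (testChk dD dC dE dCl dTs) 612 25 = true := by decide +kernel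

set_option maxRecDepth 1000000 in
theorem tst_htst_613 : allC (testChk dD dC dE dCl dTs) 613 25 = true := by decide +kernel

set_option maxRecDepth 1000000 in
theorem tst_htst_614 : allC (testChk dD dC dE dCl dTs) 614 25 = true := by decide +kernel

set_option maxRecDepth 1000000 in
theorem tst_htst_615 : allC (testChk dD dC dE dCl dTs) 615 25 = true := by decide +kernel

set_option maxRecDepth 1000000 in
theorem tst_htst_616 : allC (testChk dD dC dE dCl dTs) 616 25 = true := by decide +kernel

set_option maxRecDepth 1000000 in
theorem tst_htst_617 : allC (testChk dD dC dE dCl dTs) 617 25 = true := by decide +kernel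

set_option maxRecDepth 1000000 in
theorem tst_htst_618 : allC (testChk dD dC dE dCl dTs) 618 25 = true := by decide +kernel

set_option maxRecDepth 1000000 in
theorem tst_htst_619 : allC (testChk dD dC dE dCl dTs) 619 25 = true := by decide +kernel

set_option maxRecDepth 1000000 in
theorem tst_htst_620 : allC (testChk dD dC dE dCl dTs) 620 25 = true := by decide +kernel

set_option maxRecDepth 1000000 in
theorem tst_htst_621 : allC (testChk dD dC dE dCl dTs) 621 25 = true := by decide +kernel

set_option maxRecDepth 1000000 in
theorem tst_htst_622 : allC (testChk dD dC dE dCl dTs) 622 25 = true := by decide +kernel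

set_option maxRecDepth 1000000 in
theorem tst_htst_623 : allC (testChk dD dC dE dCl dTs) 623 25 = true := by decide +kernel

set_option maxRecDepth 1000000 in
theorem tst_htst_624 : allC (testChk dD dC dE dCl dTs) 624 25 = true := by decide +kernel

set_option maxRecDepth 1000000 in
theorem tst_htst_625 : allC (testChk dD dC dE dCl dTs) 625 25 = true := by decide +kernel

set_option maxRecDepth 1000000 in
theorem tst_htst_626 : allC (testChk dD dC dE dCl dTs) 626 25 = true := by decide +kernel

set_option maxRecDepth 1000000 in
theorem tst_htst_627 : allC (testChk dD dC dE dCl dTs) 627 25 = true := by decide +kernel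

set_option maxRecDepth 1000000 in
theorem tst_htst_628 : allC (testChk dD dC dE dCl dTs) 628 25 = true := by decide +kernel

set_option maxRecDepth 1000000 in
theorem tst_htst_629 : allC (testChk dD dC dE dCl dTs) 629 25 = true := by decide +kernel

set_option maxRecDepth 1000000 in
theorem tst_htst_630 : allC (testChk dD dC dE dCl dTs) 630 25 = true := by decide +kernel

set_option maxRecDepth 1000000 in
theorem tst_htst_631 : allC (testChk dD dC dE dCl dTs) 631 25 = true := by decide +kernel

set_option maxRecDepth 1000000 in
theorem tst_htst_632 : allC (testChk dD dC dE dCl dTs) 632 25 = true := by decide +kernel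

set_option maxRecDepth 1000000 in
theorem tst_htst_633 : allC (testChk dD dC dE dCl dTs) 633 25 = true := by decide +kernel

set_option maxRecDepth 1000000 in
theorem tst_htst_634 : allC (testChk dD dC dE dCl dTs) 634 25 = true := by decide +kernel

set_option maxRecDepth 1000000 in
theorem tst_htst_635 : allC (testChk dD dC dE dCl dTs) 635 25 = true := by decide +kernel

set_option maxRecDepth 1000000 in
theorem tst_htst_636 : allC (testChk dD dC dE dCl dTs) 636 25 = true := by decide +kernel

set_option maxRecDepth 1000000 in
theorem tst_htst_637 : allC (testChk dD dC dE dCl dTs) 637 25 = true := by decide +kernel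

set_option maxRecDepth 1000000 in
theorem tst_htst_638 : allC (testChk dD dC dE dCl dTs) 638 25 = true := by decide +kernel

set_option maxRecDepth 1000000 in
theorem tst_htst_639 : allC (testChk dD dC dE dCl dTs) 639 25 = true := by decide +kernel

set_option maxRecDepth 1000000 in
theorem tst_htst_640 : allC (testChk dD dC dE dCl dTs) 640 25 = true := by decide +kernel

set_option maxRecDepth 1000000 in
theorem tst_htst_641 : allC (testChk dD dC dE dCl dTs) 641 25 = true := by decide +kernel

set_option maxRecDepth 1000000 in
theorem tst_htst_642 : allC (testChk dD dC dE dCl dTs) 642 25 = true := by decide +kernel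

set_option maxRecDepth 1000000 in
theorem tst_htst_643 : allC (testChk dD dC dE dCl dTs) 643 25 = true := by decide +kernel

set_option maxRecDepth 1000000 in
theorem tst_htst_644 : allC (testChk dD dC dE dCl dTs) 644 25 = true := by decide +kernel

set_option maxRecDepth 1000000 in
theorem tst_htst_645 : allC (testChk dD dC dE dCl dTs) 645 25 = true := by decide +kernel

set_option maxRecDepth 1000000 in
theorem tst_htst_646 : allC (testChk dD dC dE dCl dTs) 646 25 = true := by decide +kernel

set_option maxRecDepth 1000000 in
theorem tst_htst_647 : allC (testChk dD dC dE dCl dTs) 647 25 = true := by decide +kernel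

set_option maxRecDepth 1000000 in
theorem tst_htst_648 : allC (testChk dD dC dE dCl dTs) 648 25 = true := by decide +kernel

set_option maxRecDepth 1000000 in
theorem tst_htst_649 : allC (testChk dD dC dE dCl dTs) 649 25 = true := by decide +kernel

set_option maxRecDepth 1000000 in
theorem tst_htst_650 : allC (testChk dD dC dE dCl dTs) 650 25 = true := by decide +kernel

set_option maxRecDepth 1000000 in
theorem tst_htst_651 : allC (testChk dD dC dE dCl dTs) 651 25 = true := by decide +kernel

set_option maxRecDepth 1000000 in
theorem tst_htst_652 : allC (testChk dD dC dE dCl dTs) 652 25 = true := by decide +kernel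

set_option maxRecDepth 1000000 in
theorem tst_htst_653 : allC (testChk dD dC dE dCl dTs) 653 25 = true := by decide +kernel

set_option maxRecDepth 1000000 in
theorem tst_htst_654 : allC (testChk dD dC dE dCl dTs) 654 25 = true := by decide +kernel

set_option maxRecDepth 1000000 in
theorem tst_htst_655 : allC (testChk dD dC dE dCl dTs) 655 25 = true := by decide +kernel

set_option maxRecDepth 1000000 in
theorem tst_htst_656 : allC (testChk dD dC dE dCl dTs) 656 25 = true := by decide +kernel

set_option maxRecDepth 1000000 in
theorem tst_htst_657 : allC (testChk dD dC dE dCl dTs) 657 25 = true := by decide +kernel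

set_option maxRecDepth 1000000 in
theorem tst_htst_658 : allC (testChk dD dC dE dCl dTs) 658 25 = true := by decide +kernel

set_option maxRecDepth 1000000 in
theorem tst_htst_659 : allC (testChk dD dC dE dCl dTs) 659 25 = true := by decide +kernel

set_option maxRecDepth 1000000 in
theorem tst_htst_660 : allC (testChk dD dC dE dCl dTs) 660 25 = true := by decide +kernel

set_option maxRecDepth 1000000 in
theorem tst_htst_661 : allC (testChk dD dC dE dCl dTs) 661 25 = true := by decide +kernel

set_option maxRecDepth 1000000 in
theorem tst_htst_662 : allC (testChk dD dC dE dCl dTs) 662 25 = true := by decide +kernel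

set_option maxRecDepth 1000000 in
theorem tst_htst_663 : allC (testChk dD dC dE dCl dTs) 663 25 = true := by decide +kernel

set_option maxRecDepth 1000000 in
theorem tst_htst_664 : allC (testChk dD dC dE dCl dTs) 664 25 = true := by decide +kernel

set_option maxRecDepth 1000000 in
theorem tst_htst_665 : allC (testChk dD dC dE dCl dTs) 665 25 = true := by decide +kernel

set_option maxRecDepth 1000000 in
theorem tst_htst_666 : allC (testChk dD dC dE dCl dTs) 666 25 = true := by decide +kernel

set_option maxRecDepth 1000000 in
theorem tst_htst_667 : allC (testChk dD dC dE dCl dTs) 667 25 = true := by decide +kernel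

set_option maxRecDepth 1000000 in
theorem tst_htst_668 : allC (testChk dD dC dE dCl dTs) 668 25 = true := by decide +kernel

set_option maxRecDepth 1000000 in
theorem tst_htst_669 : allC (testChk dD dC dE dCl dTs) 669 25 = true := by decide +kernel

set_option maxRecDepth 1000000 in
theorem tst_htst_670 : allC (testChk dD dC dE dCl dTs) 670 25 = true := by decide +kernel

set_option maxRecDepth 1000000 in
theorem tst_htst_671 : allC (testChk dD dC dE dCl dTs) 671 25 = true := by decide +kernel

set_option maxRecDepth 1000000 in
theorem tst_htst_672 : allC (testChk dD dC dE dCl dTs) 672 25 = true := by decide +kernel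

set_option maxRecDepth 1000000 in
theorem tst_htst_673 : allC (testChk dD dC dE dCl dTs) 673 25 = true := by decide +kernel

set_option maxRecDepth 1000000 in
theorem tst_htst_674 : allC (testChk dD dC dE dCl dTs) 674 25 = true := by decide +kernel

set_option maxRecDepth 1000000 in
theorem tst_htst_675 : allC (testChk dD dC dE dCl dTs) 675 25 = true := by decide +kernel

set_option maxRecDepth 1000000 in
theorem tst_htst_676 : allC (testChk dD dC dE dCl dTs) 676 25 = true := by decide +kernel

set_option maxRecDepth 1000000 in
theorem tst_htst_677 : allC (testChk dD dC dE dCl dTs) 677 25 = true := by decide +kernel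

set_option maxRecDepth 1000000 in
theorem tst_htst_678 : allC (testChk dD dC dE dCl dTs) 678 25 = true := by decide +kernel

set_option maxRecDepth 1000000 in
theorem tst_htst_679 : allC (testChk dD dC dE dCl dTs) 679 25 = true := by decide +kernel

set_option maxRecDepth 1000000 in
theorem tst_htst_680 : allC (testChk dD dC dE dCl dTs) 680 25 = true := by decide +kernel

set_option maxRecDepth 1000000 in
theorem tst_htst_681 : allC (testChk dD dC dE dCl dTs) 681 25 = true := by decide +kernel

set_option maxRecDepth 1000000 in
theorem tst_htst_682 : allC (testChk dD dC dE dCl dTs) 682 25 = true := by decide +kernel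

set_option maxRecDepth 1000000 in
theorem tst_htst_683 : allC (testChk dD dC dE dCl dTs) 683 25 = true := by decide +kernel

set_option maxRecDepth 1000000 in
theorem tst_htst_684 : allC (testChk dD dC dE dCl dTs) 684 25 = true := by decide +kernel

set_option maxRecDepth 1000000 in
theorem tst_htst_685 : allC (testChk dD dC dE dCl dTs) 685 25 = true := by decide +kernel

set_option maxRecDepth 1000000 in
theorem tst_htst_686 : allC (testChk dD dC dE dCl dTs) 686 25 = true := by decide +kernel

set_option maxRecDepth 1000000 in
theorem tst_htst_687 : allC (testChk dD dC dE dCl dTs) 687 25 = true := by decide +kernel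

set_option maxRecDepth 1000000 in
theorem tst_htst_688 : allC (testChk dD dC dE dCl dTs) 688 25 = true := by decide +kernel

set_option maxRecDepth 1000000 in
theorem tst_htst_689 : allC (testChk dD dC dE dCl dTs) 689 25 = true := by decide +kernel

set_option maxRecDepth 1000000 in
theorem tst_htst_690 : allC (testChk dD dC dE dCl dTs) 690 25 = true := by decide +kernel

set_option maxRecDepth 1000000 in
theorem tst_htst_691 : allC (testChk dD dC dE dCl dTs) 691 25 = true := by decide +kernel

set_option maxRecDepth 1000000 in
theorem tst_htst_692 : allC (testChk dD dC dE dCl dTs) 692 25 = true := by decide +kernel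

set_option maxRecDepth 1000000 in
theorem tst_htst_693 : allC (testChk dD dC dE dCl dTs) 693 25 = true := by decide +kernel

set_option maxRecDepth 1000000 in
theorem tst_htst_694 : allC (testChk dD dC dE dCl dTs) 694 25 = true := by decide +kernel

set_option maxRecDepth 1000000 in
theorem tst_htst_695 : allC (testChk dD dC dE dCl dTs) 695 25 = true := by decide +kernel

set_option maxRecDepth 1000000 in
theorem tst_htst_696 : allC (testChk dD dC dE dCl dTs) 696 25 = true := by decide +kernel

set_option maxRecDepth 1000000 in
theorem tst_htst_697 : allC (testChk dD dC dE dCl dTs) 697 25 = true := by decide +kernel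

set_option maxRecDepth 1000000 in
theorem tst_htst_698 : allC (testChk dD dC dE dCl dTs) 698 25 = true := by decide +kernel

set_option maxRecDepth 1000000 in
theorem tst_htst_699 : allC (testChk dD dC dE dCl dTs) 699 25 = true := by decide +kernel

end Cfsg.Agent.Helper9.RuO

end
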