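import Mathlib
import Cfsg.Agent.Helper9.RuO.Data

set_option autoImplicit false

/-! Kernel checks of the certificates, a part. -/

noncomputable section

namespace Cfsg.Agent.Helper9.RuO

open Cfsg.Agent.Helper9.OutG Cfsg.Agent.Helper9.J3

set_option maxRecDepth 1000000 in
theorem tst_htst_700 : allC (testChk dD dC dE dCl dTs) 700 25 = true := by decide +kernel

set_option maxRecDepth 1000000 in
theorem tst_htst_701 : allC (testChk dD dC dE dCl dTs) 701 25 = true := by decide +kernel

set_option maxRecDepth 1000000 in
theorem tst_htst_702 : allC (testChk dD dC dE dCl dTs) 702 25 = true := by decide +kernel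

set_option maxRecDepth 1000000 in
theorem tst_htst_703 : allC (testChk dD dC dE dCl dTs) 703 25 = true := by decide +kernel

set_option maxRecDepth 1000000 in
theorem tst_htst_704 : allC (testChk dD dC dE dCl dTs) 704 25 = true := by decide +kernel

set_option maxRecDepth 1000000 in
theorem tst_htst_705 : allC (testChk dD dC dE dCl dTs) 705 25 = true := by decide +kernel

set_option maxRecDepth 1000000 in
theorem tst_htst_706 : allC (testChk dD dC dE dCl dTs) 706 25 = true := by decide +kernel

set_option maxRecDepth 1000000 in
theorem tst_htst_707 : allC (testChk dD dC dE dCl dTs) 707 25 = true := by decide +kernel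

set_option maxRecDepth 1000000 in
theorem tst_htst_708 : allC (testChk dD dC dE dCl dTs) 708 25 = true := by decide +kernel

set_option maxRecDepth 1000000 in
theorem tst_htst_709 : allC (testChk dD dC dE dCl dTs) 709 25 = true := by decide +kernel

set_option maxRecDepth 1000000 in
theorem tst_htst_710 : allC (testChk dD dC dE dCl dTs) 710 25 = true := by decide +kernel

set_option maxRecDepth 1000000 in
theorem tst_htst_711 : allC (testChk dD dC dE dCl dTs) 711 25 = true := by decide +kernel

set_option maxRecDepth 1000000 in
theorem tst_htst_712 : allC (testChk dD dC dE dCl dTs) 712 25 = true := by decide +kernel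

set_option maxRecDepth 1000000 in
theorem tst_htst_713 : allC (testChk dD dC dE dCl dTs) 713 25 = true := by decide +kernel

set_option maxRecDepth 1000000 in
theorem tst_htst_714 : allC (testChk dD dC dE dCl dTs) 714 25 = true := by decide +kernel

set_option maxRecDepth 1000000 in
theorem tst_htst_715 : allC (testChk dD dC dE dCl dTs) 715 25 = true := by decide +kernel

set_option maxRecDepth 1000000 in
theorem tst_htst_716 : allC (testChk dD dC dE dCl dTs) 716 25 = true := by decide +kernel

set_option maxRecDepth 1000000 in
theorem tst_htst_717 : allC (testChk dD dC dE dCl dTs) 717 25 = true := by decide +kernel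

set_option maxRecDepth 1000000 in
theorem tst_htst_718 : allC (testChk dD dC dE dCl dTs) 718 25 = true := by decide +kernel

set_option maxRecDepth 1000000 in
theorem tst_htst_719 : allC (testChk dD dC dE dCl dTs) 719 25 = true := by decide +kernel

set_option maxRecDepth 1000000 in
theorem tst_htst_720 : allC (testChk dD dC dE dCl dTs) 720 25 = true := by decide +kernel

set_option maxRecDepth 1000000 in
theorem tst_htst_721 : allC (testChk dD dC dE dCl dTs) 721 25 = true := by decide +kernel

set_option maxRecDepth 1000000 in
theorem tst_htst_722 : allC (testChk dD dC dE dCl dTs) 722 25 = true := by decide +kernel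

set_option maxRecDepth 1000000 in
theorem tst_htst_723 : allC (testChk dD dC dE dCl dTs) 723 25 = true := by decide +kernel

set_option maxRecDepth 1000000 in
theorem tst_htst_724 : allC (testChk dD dC dE dCl dTs) 724 25 = true := by decide +kernel

set_option maxRecDepth 1000000 in
theorem tst_htst_725 : allC (testChk dD dC dE dCl dTs) 725 25 = true := by decide +kernel

set_option maxRecDepth 1000000 in
theorem tst_htst_726 : allC (testChk dD dC dE dCl dTs) 726 25 = true := by decide +kernel

set_option maxRecDepth 1000000 in
theorem tst_htst_727 : allC (testChk dD dC dE dCl dTs) 727 25 = true := by decide +kernel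

set_option maxRecDepth 1000000 in
theorem tst_htst_728 : allC (testChk dD dC dE dCl dTs) 728 25 = true := by decide +kernel

set_option maxRecDepth 1000000 in
theorem tst_htst_729 : allC (testChk dD dC dE dCl dTs) 729 25 = true := by decide +kernel

set_option maxRecDepth 1000000 in
theorem tst_htst_730 : allC (testChk dD dC dE dCl dTs) 730 25 = true := by decide +kernel

set_option maxRecDepth 1000000 in
theorem tst_htst_731 : allC (testChk dD dC dE dCl dTs) 731 25 = true := by decide +kernel

set_option maxRecDepth 1000000 in
theorem tst_htst_732 : allC (testChk dD dC dE dCl dTs) 732 25 = true := by decide +kernel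

set_option maxRecDepth 1000000 in
theorem tst_htst_733 : allC (testChk dD dC dE dCl dTs) 733 25 = true := by decide +kernel

set_option maxRecDepth 1000000 in
theorem tst_htst_734 : allC (testChk dD dC dE dCl dTs) 734 25 = true := by decide +kernel

set_option maxRecDepth 1000000 in
theorem tst_htst_735 : allC (testChk dD dC dE dCl dTs) 735 25 = true := by decide +kernel

set_option maxRecDepth 1000000 in
theorem tst_htst_736 : allC (testChk dD dC dE dCl dTs) 736 25 = true := by decide +kernel

set_option maxRecDepth 1000000 in
theorem tst_htst_737 : allC (testChk dD dC dE dCl dTs) 737 25 = true := by decide +kernel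

set_option maxRecDepth 1000000 in
theorem tst_htst_738 : allC (testChk dD dC dE dCl dTs) 738 25 = true := by decide +kernel

set_option maxRecDepth 1000000 in
theorem tst_htst_739 : allC (testChk dD dC dE dCl dTs) 739 25 = true := by decide +kernel

set_option maxRecDepth 1000000 in
theorem tst_htst_740 : allC (testChk dD dC dE dCl dTs) 740 25 = true := by decide +kernel

set_option maxRecDepth 1000000 in
theorem tst_htst_741 : allC (testChk dD dC dE dCl dTs) 741 25 = true := by decide +kernel

set_option maxRecDepth 1000000 in
theorem tst_htst_742 : allC (testChk dD dC dE dCl dTs) 742 25 = true := by decide +kernel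

set_option maxRecDepth 1000000 in
theorem tst_htst_743 : allC (testChk dD dC dE dCl dTs) 743 25 = true := by decide +kernel

set_option maxRecDepth 1000000 in
theorem tst_htst_744 : allC (testChk dD dC dE dCl dTs) 744 25 = true := by decide +kernel

set_option maxRecDepth 1000000 in
theorem tst_htst_745 : allC (testChk dD dC dE dCl dTs) 745 25 = true := by decide +kernel

set_option maxRecDepth 1000000 in
theorem tst_htst_746 : allC (testChk dD dC dE dCl dTs) 746 25 = true := by decide +kernel

set_option maxRecDepth 1000000 in
theorem tst_htst_747 : allC (testChk dD dC dE dCl dTs) 747 25 = true := by decide +kernel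

set_option maxRecDepth 1000000 in
theorem tst_htst_748 : allC (testChk dD dC dE dCl dTs) 748 25 = true := by decide +kernel

set_option maxRecDepth 1000000 in
theorem tst_htst_749 : allC (testChk dD dC dE dCl dTs) 749 25 = true := by decide +kernel

set_option maxRecDepth 1000000 in
theorem tst_htst_750 : allC (testChk dD dC dE dCl dTs) 750 25 = true := by decide +kernel

set_option maxRecDepth 1000000 in
theorem tst_htst_751 : allC (testChk dD dC dE dCl dTs) 751 25 = true := by decide +kernel

set_option maxRecDepth 1000000 in
theorem tst_htst_752 : allC (testChk dD dC dE dCl dTs) 752 25 = true := by decide +kernel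

set_option maxRecDepth 1000000 in
theorem tst_htst_753 : allC (testChk dD dC dE dCl dTs) 753 25 = true := by decide +kernel

set_option maxRecDepth 1000000 in
theorem tst_htst_754 : allC (testChk dD dC dE dCl dTs) 754 25 = true := by decide +kernel

set_option maxRecDepth 1000000 in
theorem tst_htst_755 : allC (testChk dD dC dE dCl dTs) 755 25 = true := by decide +kernel

set_option maxRecDepth 1000000 in
theorem tst_htst_756 : allC (testChk dD dC dE dCl dTs) 756 25 = true := by decide +kernel

set_option maxRecDepth 1000000 in
theorem tst_htst_757 : allC (testChk dD dC dE dCl dTs) 757 25 = true := by decide +kernel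

set_option maxRecDepth 1000000 in
theorem tst_htst_758 : allC (testChk dD dC dE dCl dTs) 758 25 = true := by decide +kernel

set_option maxRecDepth 1000000 in
theorem tst_htst_759 : allC (testChk dD dC dE dCl dTs) 759 25 = true := by decide +kernel

set_option maxRecDepth 1000000 in
theorem tst_htst_760 : allC (testChk dD dC dE dCl dTs) 760 25 = true := by decide +kernel

set_option maxRecDepth 1000000 in
theorem tst_htst_761 : allC (testChk dD dC dE dCl dTs) 761 25 = true := by decide +kernel

set_option maxRecDepth 1000000 in
theorem tst_htst_762 : allC (testChk dD dC dE dCl dTs) 762 25 = true := by decide +kernel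

set_option maxRecDepth 1000000 in
theorem tst_htst_763 : allC (testChk dD dC dE dCl dTs) 763 25 = true := by decide +kernel

set_option maxRecDepth 1000000 in
theorem tst_htst_764 : allC (testChk dD dC dE dCl dTs) 764 25 = true := by decide +kernel

set_option maxRecDepth 1000000 in
theorem tst_htst_765 : allC (testChk dD dC dE dCl dTs) 765 25 = true := by decide +kernel

set_option maxRecDepth 1000000 in
theorem tst_htst_766 : allC (testChk dD dC dE dCl dTs) 766 25 = true := by decide +kernel

set_option maxRecDepth 1000000 in
theorem tst_htst_767 : allC (testChk dD dC dE dCl dTs) 767 25 = true := by decide +kernel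

set_option maxRecDepth 1000000 in
theorem tst_htst_768 : allC (testChk dD dC dE dCl dTs) 768 25 = true := by decide +kernel

set_option maxRecDepth 1000000 in
theorem tst_htst_769 : allC (testChk dD dC dE dCl dTs) 769 25 = true := by decide +kernel

set_option maxRecDepth 1000000 in
theorem tst_htst_770 : allC (testChk dD dC dE dCl dTs) 770 25 = true := by decide +kernel

set_option maxRecDepth 1000000 in
theorem tst_htst_771 : allC (testChk dD dC dE dCl dTs) 771 25 = true := by decide +kernel

set_option maxRecDepth 1000000 in
theorem tst_htst_772 : allC (testChk dD dC dE dCl dTs) 772 25 = true := by decide +kernel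

set_option maxRecDepth 1000000 in
theorem tst_htst_773 : allC (testChk dD dC dE dCl dTs) 773 25 = true := by decide +kernel

set_option maxRecDepth 1000000 in
theorem tst_htst_774 : allC (testChk dD dC dE dCl dTs) 774 25 = true := by decide +kernel

set_option maxRecDepth 1000000 in
theorem tst_htst_775 : allC (testChk dD dC dE dCl dTs) 775 25 = true := by decide +kernel

set_option maxRecDepth 1000000 in
theorem tst_htst_776 : allC (testChk dD dC dE dCl dTs) 776 25 = true := by decide +kernel

set_option maxRecDepth 1000000 in
theorem tst_htst_777 : allC (testChk dD dC dE dCl dTs) 777 25 = true := by decide +kernel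

set_option maxRecDepth 1000000 in
theorem tst_htst_778 : allC (testChk dD dC dE dCl dTs) 778 25 = true := by decide +kernel

set_option maxRecDepth 1000000 in
theorem tst_htst_779 : allC (testChk dD dC dE dCl dTs) 779 25 = true := by decide +kernel

set_option maxRecDepth 1000000 in
theorem tst_htst_780 : allC (testChk dD dC dE dCl dTs) 780 25 = true := by decide +kernel

set_option maxRecDepth 1000000 in
theorem tst_htst_781 : allC (testChk dD dC dE dCl dTs) 781 25 = true := by decide +kernel

set_option maxRecDepth 1000000 in
theorem tst_htst_782 : allC (testChk dD dC dE dCl dTs) 782 25 = true := by decide +kernel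

set_option maxRecDepth 1000000 in
theorem tst_htst_783 : allC (testChk dD dC dE dCl dTs) 783 25 = true := by decide +kernel

set_option maxRecDepth 1000000 in
theorem tst_htst_784 : allC (testChk dD dC dE dCl dTs) 784 25 = true := by decide +kernel

set_option maxRecDepth 1000000 in
theorem tst_htst_785 : allC (testChk dD dC dE dCl dTs) 785 25 = true := by decide +kernel

set_option maxRecDepth 1000000 in
theorem tst_htst_786 : allC (testChk dD dC dE dCl dTs) 786 25 = true := by decide +kernel

set_option maxRecDepth 1000000 in
theorem tst_htst_787 : allC (testChk dD dC dE dCl dTs) 787 25 = true := by decide +kernel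

set_option maxRecDepth 1000000 in
theorem tst_htst_788 : allC (testChk dD dC dE dCl dTs) 788 25 = true := by decide +kernel

set_option maxRecDepth 1000000 in
theorem tst_htst_789 : allC (testChk dD dC dE dCl dTs) 789 25 = true := by decide +kernel

set_option maxRecDepth 1000000 in
theorem tst_htst_790 : allC (testChk dD dC dE dCl dTs) 790 25 = true := by decide +kernel

set_option maxRecDepth 1000000 in
theorem tst_htst_791 : allC (testChk dD dC dE dCl dTs) 791 25 = true := by decide +kernel

set_option maxRecDepth 1000000 in
theorem tst_htst_792 : allC (testChk dD dC dE dCl dTs) 792 25 = true := by decide +kernel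

set_option maxRecDepth 1000000 in
theorem tst_htst_793 : allC (testChk dD dC dE dCl dTs) 793 25 = true := by decide +kernel

set_option maxRecDepth 1000000 in
theorem tst_htst_794 : allC (testChk dD dC dE dCl dTs) 794 25 = true := by decide +kernel

set_option maxRecDepth 1000000 in
theorem tst_htst_795 : allC (testChk dD dC dE dCl dTs) 795 25 = true := by decide +kernel

set_option maxRecDepth 1000000 in
theorem tst_htst_796 : allC (testChk dD dC dE dCl dTs) 796 25 = true := by decide +kernel

set_option maxRecDepth 1000000 in
theorem tst_htst_797 : allC (testChk dD dC dE dCl dTs) 797 25 = true := by decide +kernel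

set_option maxRecDepth 1000000 in
theorem tst_htst_798 : allC (testChk dD dC dE dCl dTs) 798 25 = true := by decide +kernel

set_option maxRecDepth 1000000 in
theorem tst_htst_799 : allC (testChk dD dC dE dCl dTs) 799 25 = true := by decide +kernel

end Cfsg.Agent.Helper9.RuO

end
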