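import Mathlib
import Cfsg.Agent.Helper9.RuO.Data

set_option autoImplicit false

/-! Kernel checks of the certificates, a part. -/

noncomputable section

namespace Cfsg.Agent.Helper9.RuO

open Cfsg.Agent.Helper9.OutG Cfsg.Agent.Helper9.J3

set_option maxRecDepth 1000000 in
theorem tst_htst_800 : allC (testChk dD dC dE dCl dTs) 800 25 = true := by decide +kernel

set_option maxRecDepth 1000000 in
theorem tst_htst_801 : allC (testChk dD dC dE dCl dTs) 801 25 = true := by decide +kernel

set_option maxRecDepth 1000000 in
theorem tst_htst_802 : allC (testChk dD dC dE dCl dTs) 802 25 = true := by decide +kernel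

set_option maxRecDepth 1000000 in
theorem tst_htst_803 : allC (testChk dD dC dE dCl dTs) 803 25 = true := by decide +kernel

set_option maxRecDepth 1000000 in
theorem tst_htst_804 : allC (testChk dD dC dE dCl dTs) 804 25 = true := by decide +kernel

set_option maxRecDepth 1000000 in
theorem tst_htst_805 : allC (testChk dD dC dE dCl dTs) 805 25 = true := by decide +kernel

set_option maxRecDepth 1000000 in
theorem tst_htst_806 : allC (testChk dD dC dE dCl dTs) 806 25 = true := by decide +kernel

set_option maxRecDepth 1000000 in
theorem tst_htst_807 : allC (testChk dD dC dE dCl dTs) 807 25 = true := by decide +kernel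

set_option maxRecDepth 1000000 in
theorem tst_htst_808 : allC (testChk dD dC dE dCl dTs) 808 25 = true := by decide +kernel

set_option maxRecDepth 1000000 in
theorem tst_htst_809 : allC (testChk dD dC dE dCl dTs) 809 25 = true := by decide +kernel

set_option maxRecDepth 1000000 in
theorem tst_htst_810 : allC (testChk dD dC dE dCl dTs) 810 25 = true := by decide +kernel

set_option maxRecDepth 1000000 in
theorem tst_htst_811 : allC (testChk dD dC dE dCl dTs) 811 25 = true := by decide +kernel

set_option maxRecDepth 1000000 in
theorem tst_htst_812 : allC (testChk dD dC dE dCl dTs) 812 25 = true := by decide +kernel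

set_option maxRecDepth 1000000 in
theorem tst_htst_813 : allC (testChk dD dC dE dCl dTs) 813 25 = true := by decide +kernel

set_option maxRecDepth 1000000 in
theorem tst_htst_814 : allC (testChk dD dC dE dCl dTs) 814 25 = true := by decide +kernel

set_option maxRecDepth 1000000 in
theorem tst_htst_815 : allC (testChk dD dC dE dCl dTs) 815 25 = true := by decide +kernel

set_option maxRecDepth 1000000 in
theorem tst_htst_816 : allC (testChk dD dC dE dCl dTs) 816 25 = true := by decide +kernel

set_option maxRecDepth 1000000 in
theorem tst_htst_817 : allC (testChk dD dC dE dCl dTs) 817 25 = true := by decide +kernel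

set_option maxRecDepth 1000000 in
theorem tst_htst_818 : allC (testChk dD dC dE dCl dTs) 818 25 = true := by decide +kernel

set_option maxRecDepth 1000000 in
theorem tst_htst_819 : allC (testChk dD dC dE dCl dTs) 819 25 = true := by decide +kernel

set_option maxRecDepth 1000000 in
theorem tst_htst_820 : allC (testChk dD dC dE dCl dTs) 820 25 = true := by decide +kernel

set_option maxRecDepth 1000000 in
theorem tst_htst_821 : allC (testChk dD dC dE dCl dTs) 821 25 = true := by decide +kernel

set_option maxRecDepth 1000000 in
theorem tst_htst_822 : allC (testChk dD dC dE dCl dTs) 822 25 = true := by decide +kernel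

set_option maxRecDepth 1000000 in
theorem tst_htst_823 : allC (testChk dD dC dE dCl dTs) 823 25 = true := by decide +kernel

set_option maxRecDepth 1000000 in
theorem tst_htst_824 : allC (testChk dD dC dE dCl dTs) 824 25 = true := by decide +kernel

set_option maxRecDepth 1000000 in
theorem tst_htst_825 : allC (testChk dD dC dE dCl dTs) 825 25 = true := by decide +kernel

set_option maxRecDepth 1000000 in
theorem tst_htst_826 : allC (testChk dD dC dE dCl dTs) 826 25 = true := by decide +kernel

set_option maxRecDepth 1000000 in
theorem tst_htst_827 : allC (testChk dD dC dE dCl dTs) 827 25 = true := by decide +kernel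

set_option maxRecDepth 1000000 in
theorem tst_htst_828 : allC (testChk dD dC dE dCl dTs) 828 25 = true := by decide +kernel

set_option maxRecDepth 1000000 in
theorem tst_htst_829 : allC (testChk dD dC dE dCl dTs) 829 25 = true := by decide +kernel

set_option maxRecDepth 1000000 in
theorem tst_htst_830 : allC (testChk dD dC dE dCl dTs) 830 25 = true := by decide +kernel

set_option maxRecDepth 1000000 in
theorem tst_htst_831 : allC (testChk dD dC dE dCl dTs) 831 25 = true := by decide +kernel

set_option maxRecDepth 1000000 in
theorem tst_htst_832 : allC (testChk dD dC dE dCl dTs) 832 25 = true := by decide +kernel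

set_option maxRecDepth 1000000 in
theorem tst_htst_833 : allC (testChk dD dC dE dCl dTs) 833 25 = true := by decide +kernel

set_option maxRecDepth 1000000 in
theorem tst_htst_834 : allC (testChk dD dC dE dCl dTs) 834 25 = true := by decide +kernel

set_option maxRecDepth 1000000 in
theorem tst_htst_835 : allC (testChk dD dC dE dCl dTs) 835 25 = true := by decide +kernel

set_option maxRecDepth 1000000 in
theorem tst_htst_836 : allC (testChk dD dC dE dCl dTs) 836 25 = true := by decide +kernel

set_option maxRecDepth 1000000 in
theorem tst_htst_837 : allC (testChk dD dC dE dCl dTs) 837 25 = true := by decide +kernel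

set_option maxRecDepth 1000000 in
theorem tst_htst_838 : allC (testChk dD dC dE dCl dTs) 838 25 = true := by decide +kernel

set_option maxRecDepth 1000000 in
theorem tst_htst_839 : allC (testChk dD dC dE dCl dTs) 839 25 = true := by decide +kernel

set_option maxRecDepth 1000000 in
theorem tst_htst_840 : allC (testChk dD dC dE dCl dTs) 840 25 = true := by decide +kernel

set_option maxRecDepth 1000000 in
theorem tst_htst_841 : allC (testChk dD dC dE dCl dTs) 841 25 = true := by decide +kernel

set_option maxRecDepth 1000000 in
theorem tst_htst_842 : allC (testChk dD dC dE dCl dTs) 842 25 = true := by decide +kernel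

set_option maxRecDepth 1000000 in
theorem tst_htst_843 : allC (testChk dD dC dE dCl dTs) 843 25 = true := by decide +kernel

set_option maxRecDepth 1000000 in
theorem tst_htst_844 : allC (testChk dD dC dE dCl dTs) 844 25 = true := by decide +kernel

set_option maxRecDepth 1000000 in
theorem tst_htst_845 : allC (testChk dD dC dE dCl dTs) 845 25 = true := by decide +kernel

set_option maxRecDepth 1000000 in
theorem tst_htst_846 : allC (testChk dD dC dE dCl dTs) 846 25 = true := by decide +kernel

set_option maxRecDepth 1000000 in
theorem tst_htst_847 : allC (testChk dD dC dE dCl dTs) 847 25 = true := by decide +kernel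

set_option maxRecDepth 1000000 in
theorem tst_htst_848 : allC (testChk dD dC dE dCl dTs) 848 25 = true := by decide +kernel

set_option maxRecDepth 1000000 in
theorem tst_htst_849 : allC (testChk dD dC dE dCl dTs) 849 25 = true := by decide +kernel

set_option maxRecDepth 1000000 in
theorem tst_htst_850 : allC (testChk dD dC dE dCl dTs) 850 25 = true := by decide +kernel

set_option maxRecDepth 1000000 in
theorem tst_htst_851 : allC (testChk dD dC dE dCl dTs) 851 25 = true := by decide +kernel

set_option maxRecDepth 1000000 in
theorem tst_htst_852 : allC (testChk dD dC dE dCl dTs) 852 25 = true := by decide +kernel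

set_option maxRecDepth 1000000 in
theorem tst_htst_853 : allC (testChk dD dC dE dCl dTs) 853 25 = true := by decide +kernel

set_option maxRecDepth 1000000 in
theorem tst_htst_854 : allC (testChk dD dC dE dCl dTs) 854 25 = true := by decide +kernel

set_option maxRecDepth 1000000 in
theorem tst_htst_855 : allC (testChk dD dC dE dCl dTs) 855 25 = true := by decide +kernel

set_option maxRecDepth 1000000 in
theorem tst_htst_856 : allC (testChk dD dC dE dCl dTs) 856 25 = true := by decide +kernel

set_option maxRecDepth 1000000 in
theorem tst_htst_857 : allC (testChk dD dC dE dCl dTs) 857 25 = true := by decide +kernel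

set_option maxRecDepth 1000000 in
theorem tst_htst_858 : allC (testChk dD dC dE dCl dTs) 858 25 = true := by decide +kernel

set_option maxRecDepth 1000000 in
theorem tst_htst_859 : allC (testChk dD dC dE dCl dTs) 859 25 = true := by decide +kernel

set_option maxRecDepth 1000000 in
theorem tst_htst_860 : allC (testChk dD dC dE dCl dTs) 860 25 = true := by decide +kernel

set_option maxRecDepth 1000000 in
theorem tst_htst_861 : allC (testChk dD dC dE dCl dTs) 861 25 = true := by decide +kernel

set_option maxRecDepth 1000000 in
theorem tst_htst_862 : allC (testChk dD dC dE dCl dTs) 862 25 = true := by decide +kernel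

set_option maxRecDepth 1000000 in
theorem tst_htst_863 : allC (testChk dD dC dE dCl dTs) 863 25 = true := by decide +kernel

set_option maxRecDepth 1000000 in
theorem tst_htst_864 : allC (testChk dD dC dE dCl dTs) 864 25 = true := by decide +kernel

set_option maxRecDepth 1000000 in
theorem tst_htst_865 : allC (testChk dD dC dE dCl dTs) 865 25 = true := by decide +kernel

set_option maxRecDepth 1000000 in
theorem tst_htst_866 : allC (testChk dD dC dE dCl dTs) 866 25 = true := by decide +kernel

set_option maxRecDepth 1000000 in
theorem tst_htst_867 : allC (testChk dD dC dE dCl dTs) 867 25 = true := by decide +kernel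

set_option maxRecDepth 1000000 in
theorem tst_htst_868 : allC (testChk dD dC dE dCl dTs) 868 25 = true := by decide +kernel

set_option maxRecDepth 1000000 in
theorem tst_htst_869 : allC (testChk dD dC dE dCl dTs) 869 25 = true := by decide +kernel

set_option maxRecDepth 1000000 in
theorem tst_htst_870 : allC (testChk dD dC dE dCl dTs) 870 25 = true := by decide +kernel

set_option maxRecDepth 1000000 in
theorem tst_htst_871 : allC (testChk dD dC dE dCl dTs) 871 25 = true := by decide +kernel

set_option maxRecDepth 1000000 in
theorem tst_htst_872 : allC (testChk dD dC dE dCl dTs) 872 25 = true := by decide +kernel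

set_option maxRecDepth 1000000 in
theorem tst_htst_873 : allC (testChk dD dC dE dCl dTs) 873 25 = true := by decide +kernel

set_option maxRecDepth 1000000 in
theorem tst_htst_874 : allC (testChk dD dC dE dCl dTs) 874 25 = true := by decide +kernel

set_option maxRecDepth 1000000 in
theorem tst_htst_875 : allC (testChk dD dC dE dCl dTs) 875 25 = true := by decide +kernel

set_option maxRecDepth 1000000 in
theorem tst_htst_876 : allC (testChk dD dC dE dCl dTs) 876 25 = true := by decide +kernel

set_option maxRecDepth 1000000 in
theorem tst_htst_877 : allC (testChk dD dC dE dCl dTs) 877 25 = true := by decide +kernel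

set_option maxRecDepth 1000000 in
theorem tst_htst_878 : allC (testChk dD dC dE dCl dTs) 878 25 = true := by decide +kernel

set_option maxRecDepth 1000000 in
theorem tst_htst_879 : allC (testChk dD dC dE dCl dTs) 879 25 = true := by decide +kernel

set_option maxRecDepth 1000000 in
theorem tst_htst_880 : allC (testChk dD dC dE dCl dTs) 880 25 = true := by decide +kernel

set_option maxRecDepth 1000000 in
theorem tst_htst_881 : allC (testChk dD dC dE dCl dTs) 881 25 = true := by decide +kernel

set_option maxRecDepth 1000000 in
theorem tst_htst_882 : allC (testChk dD dC dE dCl dTs) 882 25 = true := by decide +kernel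

set_option maxRecDepth 1000000 in
theorem tst_htst_883 : allC (testChk dD dC dE dCl dTs) 883 25 = true := by decide +kernel

set_option maxRecDepth 1000000 in
theorem tst_htst_884 : allC (testChk dD dC dE dCl dTs) 884 25 = true := by decide +kernel

set_option maxRecDepth 1000000 in
theorem tst_htst_885 : allC (testChk dD dC dE dCl dTs) 885 25 = true := by decide +kernel

set_option maxRecDepth 1000000 in
theorem tst_htst_886 : allC (testChk dD dC dE dCl dTs) 886 25 = true := by decide +kernel

set_option maxRecDepth 1000000 in
theorem tst_htst_887 : allC (testChk dD dC dE dCl dTs) 887 25 = true := by decide +kernel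

set_option maxRecDepth 1000000 in
theorem tst_htst_888 : allC (testChk dD dC dE dCl dTs) 888 25 = true := by decide +kernel

set_option maxRecDepth 1000000 in
theorem tst_htst_889 : allC (testChk dD dC dE dCl dTs) 889 25 = true := by decide +kernel

set_option maxRecDepth 1000000 in
theorem tst_htst_890 : allC (testChk dD dC dE dCl dTs) 890 25 = true := by decide +kernel

set_option maxRecDepth 1000000 in
theorem tst_htst_891 : allC (testChk dD dC dE dCl dTs) 891 25 = true := by decide +kernel

set_option maxRecDepth 1000000 in
theorem tst_htst_892 : allC (testChk dD dC dE dCl dTs) 892 25 = true := by decide +kernel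

set_option maxRecDepth 1000000 in
theorem tst_htst_893 : allC (testChk dD dC dE dCl dTs) 893 25 = true := by decide +kernel

set_option maxRecDepth 1000000 in
theorem tst_htst_894 : allC (testChk dD dC dE dCl dTs) 894 25 = true := by decide +kernel

set_option maxRecDepth 1000000 in
theorem tst_htst_895 : allC (testChk dD dC dE dCl dTs) 895 25 = true := by decide +kernel

set_option maxRecDepth 1000000 in
theorem tst_htst_896 : allC (testChk dD dC dE dCl dTs) 896 25 = true := by decide +kernel

set_option maxRecDepth 1000000 in
theorem tst_htst_897 : allC (testChk dD dC dE dCl dTs) 897 25 = true := by decide +kernel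

set_option maxRecDepth 1000000 in
theorem tst_htst_898 : allC (testChk dD dC dE dCl dTs) 898 25 = true := by decide +kernel

set_option maxRecDepth 1000000 in
theorem tst_htst_899 : allC (testChk dD dC dE dCl dTs) 899 25 = true := by decide +kernel

end Cfsg.Agent.Helper9.RuO

end
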