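import Mathlib
import Cfsg.Agent.Helper9.RuO.Data

set_option autoImplicit false

/-! Kernel checks of the certificates, a part. -/

noncomputable section

namespace Cfsg.Agent.Helper9.RuO

open Cfsg.Agent.Helper9.OutG Cfsg.Agent.Helper9.J3

set_option maxRecDepth 1000000 in
theorem tst_htst_900 : allC (testChk dD dC dE dCl dTs) 900 25 = true := by decide +kernel

set_option maxRecDepth 1000000 in
theorem tst_htst_901 : allC (testChk dD dC dE dCl dTs) 901 25 = true := by decide +kernel

set_option maxRecDepth 1000000 in
theorem tst_htst_902 : allC (testChk dD dC dE dCl dTs) 902 25 = true := by decide +kernel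

set_option maxRecDepth 1000000 in
theorem tst_htst_903 : allC (testChk dD dC dE dCl dTs) 903 25 = true := by decide +kernel

set_option maxRecDepth 1000000 in
theorem tst_htst_904 : allC (testChk dD dC dE dCl dTs) 904 25 = true := by decide +kernel

set_option maxRecDepth 1000000 in
theorem tst_htst_905 : allC (testChk dD dC dE dCl dTs) 905 25 = true := by decide +kernel

set_option maxRecDepth 1000000 in
theorem tst_htst_906 : allC (testChk dD dC dE dCl dTs) 906 25 = true := by decide +kernel

set_option maxRecDepth 1000000 in
theorem tst_htst_907 : allC (testChk dD dC dE dCl dTs) 907 25 = true := by decide +kernel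

set_option maxRecDepth 1000000 in
theorem tst_htst_908 : allC (testChk dD dC dE dCl dTs) 908 25 = true := by decide +kernel

set_option maxRecDepth 1000000 in
theorem tst_htst_909 : allC (testChk dD dC dE dCl dTs) 909 25 = true := by decide +kernel

set_option maxRecDepth 1000000 in
theorem tst_htst_910 : allC (testChk dD dC dE dCl dTs) 910 25 = true := by decide +kernel

set_option maxRecDepth 1000000 in
theorem tst_htst_911 : allC (testChk dD dC dE dCl dTs) 911 25 = true := by decide +kernel

set_option maxRecDepth 1000000 in
theorem tst_htst_912 : allC (testChk dD dC dE dCl dTs) 912 25 = true := by decide +kernel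

set_option maxRecDepth 1000000 in
theorem tst_htst_913 : allC (testChk dD dC dE dCl dTs) 913 25 = true := by decide +kernel

set_option maxRecDepth 1000000 in
theorem tst_htst_914 : allC (testChk dD dC dE dCl dTs) 914 25 = true := by decide +kernel

set_option maxRecDepth 1000000 in
theorem tst_htst_915 : allC (testChk dD dC dE dCl dTs) 915 25 = true := by decide +kernel

set_option maxRecDepth 1000000 in
theorem tst_htst_916 : allC (testChk dD dC dE dCl dTs) 916 25 = true := by decide +kernel

set_option maxRecDepth 1000000 in
theorem tst_htst_917 : allC (testChk dD dC dE dCl dTs) 917 25 = true := by decide +kernel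

set_option maxRecDepth 1000000 in
theorem tst_htst_918 : allC (testChk dD dC dE dCl dTs) 918 25 = true := by decide +kernel

set_option maxRecDepth 1000000 in
theorem tst_htst_919 : allC (testChk dD dC dE dCl dTs) 919 25 = true := by decide +kernel

set_option maxRecDepth 1000000 in
theorem tst_htst_920 : allC (testChk dD dC dE dCl dTs) 920 25 = true := by decide +kernel

set_option maxRecDepth 1000000 in
theorem tst_htst_921 : allC (testChk dD dC dE dCl dTs) 921 25 = true := by decide +kernel

set_option maxRecDepth 1000000 in
theorem tst_htst_922 : allC (testChk dD dC dE dCl dTs) 922 25 = true := by decide +kernel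

set_option maxRecDepth 1000000 in
theorem tst_htst_923 : allC (testChk dD dC dE dCl dTs) 923 25 = true := by decide +kernel

set_option maxRecDepth 1000000 in
theorem tst_htst_924 : allC (testChk dD dC dE dCl dTs) 924 25 = true := by decide +kernel

set_option maxRecDepth 1000000 in
theorem tst_htst_925 : allC (testChk dD dC dE dCl dTs) 925 25 = true := by decide +kernel

set_option maxRecDepth 1000000 in
theorem tst_htst_926 : allC (testChk dD dC dE dCl dTs) 926 25 = true := by decide +kernel

set_option maxRecDepth 1000000 in
theorem tst_htst_927 : allC (testChk dD dC dE dCl dTs) 927 25 = true := by decide +kernel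

set_option maxRecDepth 1000000 in
theorem tst_htst_928 : allC (testChk dD dC dE dCl dTs) 928 25 = true := by decide +kernel

set_option maxRecDepth 1000000 in
theorem tst_htst_929 : allC (testChk dD dC dE dCl dTs) 929 25 = true := by decide +kernel

set_option maxRecDepth 1000000 in
theorem tst_htst_930 : allC (testChk dD dC dE dCl dTs) 930 25 = true := by decide +kernel

set_option maxRecDepth 1000000 in
theorem tst_htst_931 : allC (testChk dD dC dE dCl dTs) 931 25 = true := by decide +kernel

set_option maxRecDepth 1000000 in
theorem tst_htst_932 : allC (testChk dD dC dE dCl dTs) 932 25 = true := by decide +kernel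

set_option maxRecDepth 1000000 in
theorem tst_htst_933 : allC (testChk dD dC dE dCl dTs) 933 25 = true := by decide +kernel

set_option maxRecDepth 1000000 in
theorem tst_htst_934 : allC (testChk dD dC dE dCl dTs) 934 25 = true := by decide +kernel

set_option maxRecDepth 1000000 in
theorem tst_htst_935 : allC (testChk dD dC dE dCl dTs) 935 25 = true := by decide +kernel

set_option maxRecDepth 1000000 in
theorem tst_htst_936 : allC (testChk dD dC dE dCl dTs) 936 25 = true := by decide +kernel

set_option maxRecDepth 1000000 in
theorem tst_htst_937 : allC (testChk dD dC dE dCl dTs) 937 25 = true := by decide +kernel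

set_option maxRecDepth 1000000 in
theorem tst_htst_938 : allC (testChk dD dC dE dCl dTs) 938 25 = true := by decide +kernel

set_option maxRecDepth 1000000 in
theorem tst_htst_939 : allC (testChk dD dC dE dCl dTs) 939 25 = true := by decide +kernel

set_option maxRecDepth 1000000 in
theorem tst_htst_940 : allC (testChk dD dC dE dCl dTs) 940 25 = true := by decide +kernel

set_option maxRecDepth 1000000 in
theorem tst_htst_941 : allC (testChk dD dC dE dCl dTs) 941 25 = true := by decide +kernel

set_option maxRecDepth 1000000 in
theorem tst_htst_942 : allC (testChk dD dC dE dCl dTs) 942 25 = true := by decide +kernel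

set_option maxRecDepth 1000000 in
theorem tst_htst_943 : allC (testChk dD dC dE dCl dTs) 943 25 = true := by decide +kernel

set_option maxRecDepth 1000000 in
theorem tst_htst_944 : allC (testChk dD dC dE dCl dTs) 944 25 = true := by decide +kernel

set_option maxRecDepth 1000000 in
theorem tst_htst_945 : allC (testChk dD dC dE dCl dTs) 945 25 = true := by decide +kernel

set_option maxRecDepth 1000000 in
theorem tst_htst_946 : allC (testChk dD dC dE dCl dTs) 946 25 = true := by decide +kernel

set_option maxRecDepth 1000000 in
theorem tst_htst_947 : allC (testChk dD dC dE dCl dTs) 947 25 = true := by decide +kernel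

set_option maxRecDepth 1000000 in
theorem tst_htst_948 : allC (testChk dD dC dE dCl dTs) 948 25 = true := by decide +kernel

set_option maxRecDepth 1000000 in
theorem tst_htst_949 : allC (testChk dD dC dE dCl dTs) 949 25 = true := by decide +kernel

set_option maxRecDepth 1000000 in
theorem tst_htst_950 : allC (testChk dD dC dE dCl dTs) 950 25 = true := by decide +kernel

set_option maxRecDepth 1000000 in
theorem tst_htst_951 : allC (testChk dD dC dE dCl dTs) 951 25 = true := by decide +kernel

set_option maxRecDepth 1000000 in
theorem tst_htst_952 : allC (testChk dD dC dE dCl dTs) 952 25 = true := by decide +kernel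

set_option maxRecDepth 1000000 in
theorem tst_htst_953 : allC (testChk dD dC dE dCl dTs) 953 25 = true := by decide +kernel

set_option maxRecDepth 1000000 in
theorem tst_htst_954 : allC (testChk dD dC dE dCl dTs) 954 25 = true := by decide +kernel

set_option maxRecDepth 1000000 in
theorem tst_htst_955 : allC (testChk dD dC dE dCl dTs) 955 25 = true := by decide +kernel

set_option maxRecDepth 1000000 in
theorem tst_htst_956 : allC (testChk dD dC dE dCl dTs) 956 25 = true := by decide +kernel

set_option maxRecDepth 1000000 in
theorem tst_htst_957 : allC (testChk dD dC dE dCl dTs) 957 25 = true := by decide +kernel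

set_option maxRecDepth 1000000 in
theorem tst_htst_958 : allC (testChk dD dC dE dCl dTs) 958 25 = true := by decide +kernel

set_option maxRecDepth 1000000 in
theorem tst_htst_959 : allC (testChk dD dC dE dCl dTs) 959 25 = true := by decide +kernel

set_option maxRecDepth 1000000 in
theorem tst_htst_960 : allC (testChk dD dC dE dCl dTs) 960 25 = true := by decide +kernel

set_option maxRecDepth 1000000 in
theorem tst_htst_961 : allC (testChk dD dC dE dCl dTs) 961 25 = true := by decide +kernel

set_option maxRecDepth 1000000 in
theorem tst_htst_962 : allC (testChk dD dC dE dCl dTs) 962 25 = true := by decide +kernel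

set_option maxRecDepth 1000000 in
theorem tst_htst_963 : allC (testChk dD dC dE dCl dTs) 963 25 = true := by decide +kernel

set_option maxRecDepth 1000000 in
theorem tst_htst_964 : allC (testChk dD dC dE dCl dTs) 964 25 = true := by decide +kernel

set_option maxRecDepth 1000000 in
theorem tst_htst_965 : allC (testChk dD dC dE dCl dTs) 965 25 = true := by decide +kernel

set_option maxRecDepth 1000000 in
theorem tst_htst_966 : allC (testChk dD dC dE dCl dTs) 966 25 = true := by decide +kernel

set_option maxRecDepth 1000000 in
theorem tst_htst_967 : allC (testChk dD dC dE dCl dTs) 967 25 = true := by decide +kernel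

set_option maxRecDepth 1000000 in
theorem tst_htst_968 : allC (testChk dD dC dE dCl dTs) 968 25 = true := by decide +kernel

set_option maxRecDepth 1000000 in
theorem tst_htst_969 : allC (testChk dD dC dE dCl dTs) 969 25 = true := by decide +kernel

set_option maxRecDepth 1000000 in
theorem tst_htst_970 : allC (testChk dD dC dE dCl dTs) 970 25 = true := by decide +kernel

set_option maxRecDepth 1000000 in
theorem tst_htst_971 : allC (testChk dD dC dE dCl dTs) 971 25 = true := by decide +kernel

set_option maxRecDepth 1000000 in
theorem tst_htst_972 : allC (testChk dD dC dE dCl dTs) 972 25 = true := by decide +kernel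

set_option maxRecDepth 1000000 in
theorem tst_htst_973 : allC (testChk dD dC dE dCl dTs) 973 25 = true := by decide +kernel

set_option maxRecDepth 1000000 in
theorem tst_htst_974 : allC (testChk dD dC dE dCl dTs) 974 25 = true := by decide +kernel

set_option maxRecDepth 1000000 in
theorem tst_htst_975 : allC (testChk dD dC dE dCl dTs) 975 25 = true := by decide +kernel

set_option maxRecDepth 1000000 in
theorem tst_htst_976 : allC (testChk dD dC dE dCl dTs) 976 25 = true := by decide +kernel

set_option maxRecDepth 1000000 in
theorem tst_htst_977 : allC (testChk dD dC dE dCl dTs) 977 25 = true := by decide +kernel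

set_option maxRecDepth 1000000 in
theorem tst_htst_978 : allC (testChk dD dC dE dCl dTs) 978 25 = true := by decide +kernel

set_option maxRecDepth 1000000 in
theorem tst_htst_979 : allC (testChk dD dC dE dCl dTs) 979 25 = true := by decide +kernel

set_option maxRecDepth 1000000 in
theorem tst_htst_980 : allC (testChk dD dC dE dCl dTs) 980 25 = true := by decide +kernel

set_option maxRecDepth 1000000 in
theorem tst_htst_981 : allC (testChk dD dC dE dCl dTs) 981 25 = true := by decide +kernel

set_option maxRecDepth 1000000 in
theorem tst_htst_982 : allC (testChk dD dC dE dCl dTs) 982 25 = true := by decide +kernel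

set_option maxRecDepth 1000000 in
theorem tst_htst_983 : allC (testChk dD dC dE dCl dTs) 983 25 = true := by decide +kernel

set_option maxRecDepth 1000000 in
theorem tst_htst_984 : allC (testChk dD dC dE dCl dTs) 984 25 = true := by decide +kernel

set_option maxRecDepth 1000000 in
theorem tst_htst_985 : allC (testChk dD dC dE dCl dTs) 985 25 = true := by decide +kernel

set_option maxRecDepth 1000000 in
theorem tst_htst_986 : allC (testChk dD dC dE dCl dTs) 986 25 = true := by decide +kernel

set_option maxRecDepth 1000000 in
theorem tst_htst_987 : allC (testChk dD dC dE dCl dTs) 987 25 = true := by decide +kernel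

set_option maxRecDepth 1000000 in
theorem tst_htst_988 : allC (testChk dD dC dE dCl dTs) 988 25 = true := by decide +kernel

set_option maxRecDepth 1000000 in
theorem tst_htst_989 : allC (testChk dD dC dE dCl dTs) 989 25 = true := by decide +kernel

set_option maxRecDepth 1000000 in
theorem tst_htst_990 : allC (testChk dD dC dE dCl dTs) 990 25 = true := by decide +kernel

set_option maxRecDepth 1000000 in
theorem tst_htst_991 : allC (testChk dD dC dE dCl dTs) 991 25 = true := by decide +kernel

set_option maxRecDepth 1000000 in
theorem tst_htst_992 : allC (testChk dD dC dE dCl dTs) 992 25 = true := by decide +kernel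

set_option maxRecDepth 1000000 in
theorem tst_htst_993 : allC (testChk dD dC dE dCl dTs) 993 25 = true := by decide +kernel

set_option maxRecDepth 1000000 in
theorem tst_htst_994 : allC (testChk dD dC dE dCl dTs) 994 25 = true := by decide +kernel

set_option maxRecDepth 1000000 in
theorem tst_htst_995 : allC (testChk dD dC dE dCl dTs) 995 25 = true := by decide +kernel

set_option maxRecDepth 1000000 in
theorem tst_htst_996 : allC (testChk dD dC dE dCl dTs) 996 25 = true := by decide +kernel

set_option maxRecDepth 1000000 in
theorem tst_htst_997 : allC (testChk dD dC dE dCl dTs) 997 25 = true := by decide +kernel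

set_option maxRecDepth 1000000 in
theorem tst_htst_998 : allC (testChk dD dC dE dCl dTs) 998 25 = true := by decide +kernel

set_option maxRecDepth 1000000 in
theorem tst_htst_999 : allC (testChk dD dC dE dCl dTs) 999 25 = true := by decide +kernel

end Cfsg.Agent.Helper9.RuO

end
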