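import Mathlib
import Cfsg.Agent.Helper9.RuO.Data

set_option autoImplicit false

/-! Kernel checks of the certificates, a part. -/

noncomputable section

namespace Cfsg.Agent.Helper9.RuO

open Cfsg.Agent.Helper9.OutG Cfsg.Agent.Helper9.J3

set_option maxRecDepth 1000000 in
theorem syl_wit_0 : allC (witChk dD dS) 0 2048 = true := by decide +kernel

set_option maxRecDepth 1000000 in
theorem syl_wit_1 : allC (witChk dD dS) 1 2048 = true := by decide +kernel

set_option maxRecDepth 1000000 in
theorem syl_wit_2 : allC (witChk dD dS) 2 2048 = true := by decide +kernel

set_option maxRecDepth 1000000 in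
theorem syl_wit_3 : allC (witChk dD dS) 3 2048 = true := by decide +kernel

set_option maxRecDepth 1000000 in
theorem syl_wit_4 : allC (witChk dD dS) 4 2048 = true := by decide +kernel

set_option maxRecDepth 1000000 in
theorem syl_wit_5 : allC (witChk dD dS) 5 2048 = true := by decide +kernel

set_option maxRecDepth 1000000 in
theorem syl_wit_6 : allC (witChk dD dS) 6 2048 = true := by decide +kernel

set_option maxRecDepth 1000000 in
theorem syl_wit_7 : allC (witChk dD dS) 7 2048 = true := by decide +kernel

end Cfsg.Agent.Helper9.RuO

end
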