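import Mathlib
import Cfsg.Agent.Helper9.RuO.Data
import Cfsg.Agent.Helper9.RuO.ChkA0
import Cfsg.Agent.Helper9.RuO.ChkD0
import Cfsg.Agent.Helper9.RuO.ChkL0
import Cfsg.Agent.Helper9.RuO.ChkP0
import Cfsg.Agent.Helper9.RuO.ChkW0
import Cfsg.Agent.Helper9.RuO.ChkC0
import Cfsg.Agent.Helper9.RuO.ChkC1
import Cfsg.Agent.Helper9.RuO.ChkC2
import Cfsg.Agent.Helper9.RuO.ChkC3
import Cfsg.Agent.Helper9.RuO.ChkC4
import Cfsg.Agent.Helper9.RuO.ChkC5
import Cfsg.Agent.Helper9.RuO.ChkC6
import Cfsg.Agent.Helper9.RuO.ChkC7
import Cfsg.Agent.Helper9.RuO.ChkC8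
import Cfsg.Agent.Helper9.RuO.ChkC9
import Cfsg.Agent.Helper9.RuO.ChkC10
import Cfsg.Agent.Helper9.RuO.ChkC11
import Cfsg.Agent.Helper9.RuO.ChkC12
import Cfsg.Agent.Helper9.RuO.ChkC13
import Cfsg.Agent.Helper9.RuO.ChkC14
import Cfsg.Agent.Helper9.RuO.ChkC15
import Cfsg.Agent.Helper9.RuO.ChkC16
import Cfsg.Agent.Helper9.RuO.ChkC17
import Cfsg.Agent.Helper9.RuO.ChkC18
import Cfsg.Agent.Helper9.RuO.ChkC19
import Cfsg.Agent.Helper9.RuO.ChkC20
import Cfsg.Agent.Helper9.RuO.ChkC21
import Cfsg.Agent.Helper9.RuO.ChkC22
import Cfsg.Agent.Helper9.RuO.ChkC23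
import Cfsg.Agent.Helper9.RuO.ChkC24
import Cfsg.Agent.Helper9.RuO.ChkC25
import Cfsg.Agent.Helper9.RuO.ChkC26
import Cfsg.Agent.Helper9.RuO.ChkC27
import Cfsg.Agent.Helper9.RuO.ChkC28
import Cfsg.Agent.Helper9.RuO.ChkC29
import Cfsg.Agent.Helper9.RuO.ChkC30
import Cfsg.Agent.Helper9.RuO.ChkC31
import Cfsg.Agent.Helper9.RuO.ChkC32
import Cfsg.Agent.Helper9.RuO.ChkC33
import Cfsg.Agent.Helper9.RuO.ChkC34
import Cfsg.Agent.Helper9.RuO.ChkC35
import Cfsg.Agent.Helper9.RuO.ChkC36
import Cfsg.Agent.Helper9.RuO.ChkC37
import Cfsg.Agent.Helper9.RuO.ChkC38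
import Cfsg.Agent.Helper9.RuO.ChkC39
import Cfsg.Agent.Helper9.RuO.ChkC40
import Cfsg.Agent.Helper9.RuO.ChkC41
import Cfsg.Agent.Helper9.RuO.ChkC42
import Cfsg.Agent.Helper9.RuO.ChkC43
import Cfsg.Agent.Helper9.RuO.ChkC44
import Cfsg.Agent.Helper9.RuO.ChkC45
import Cfsg.Agent.Helper9.RuO.ChkC46
import Cfsg.Agent.Helper9.RuO.ChkC47
import Cfsg.Agent.Helper9.RuO.ChkC48
import Cfsg.Agent.Helper9.RuO.ChkC49
import Cfsg.Agent.Helper9.RuO.ChkC50
import Cfsg.Agent.Helper9.RuO.ChkC51
import Cfsg.Agent.Helper9.RuO.ChkC52
import Cfsg.Agent.Helper9.RuO.ChkC53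
import Cfsg.Agent.Helper9.RuO.ChkC54
import Cfsg.Agent.Helper9.RuO.ChkC55
import Cfsg.Agent.Helper9.RuO.ChkC56
import Cfsg.Agent.Helper9.RuO.ChkC57
import Cfsg.Agent.Helper9.RuO.ChkC58
import Cfsg.Agent.Helper9.RuO.ChkC59
import Cfsg.Agent.Helper9.RuO.ChkC60
import Cfsg.Agent.Helper9.RuO.ChkC61
import Cfsg.Agent.Helper9.RuO.ChkC62
import Cfsg.Agent.Helper9.RuO.ChkC63
import Cfsg.Agent.Helper9.RuO.ChkC64
import Cfsg.Agent.Helper9.RuO.ChkC65
import Cfsg.Agent.Helper9.RuO.ChkT0
import Cfsg.Agent.Helper9.RuO.ChkT1
import Cfsg.Agent.Helper9.RuO.ChkT2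
import Cfsg.Agent.Helper9.RuO.ChkT3
import Cfsg.Agent.Helper9.RuO.ChkT4
import Cfsg.Agent.Helper9.RuO.ChkT5
import Cfsg.Agent.Helper9.RuO.ChkT6
import Cfsg.Agent.Helper9.RuO.ChkT7
import Cfsg.Agent.Helper9.RuO.ChkT8
import Cfsg.Agent.Helper9.RuO.ChkT9
import Cfsg.Agent.Helper9.RuO.ChkT10
import Cfsg.Agent.Helper9.RuO.ChkT11
import Cfsg.Agent.Helper9.RuO.ChkT12
import Cfsg.Agent.Helper9.RuO.ChkT13
import Cfsg.Agent.Helper9.RuO.ChkT14
import Cfsg.Agent.Helper9.RuO.ChkT15
import Cfsg.Agent.Helper9.RuO.ChkT16
set_option autoImplicit false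

/-! Kernel checks of the certificates. -/

noncomputable section

namespace Cfsg.Agent.Helper9.RuO

open Cfsg.Agent.Helper9.OutG Cfsg.Agent.Helper9.J3

theorem tab_b : allB (tabChk dD) dD.K = true := by
  have key : ∀ i, i < 90 → allC (tabChk dD) i 1 = true := by
    intro i hi
    interval_cases i
    · exact tab_b_0
    · exact tab_b_1
    · exact tab_b_2
    · exact tab_b_3
    · exact tab_b_4
    · exact tab_b_5
    · exact tab_b_6
    · exact tab_b_7
    · exact tab_b_8
    · exact tab_b_9
    · exact tab_b_10
    · exact tab_b_11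
    · exact tab_b_12
    · exact tab_b_13
    · exact tab_b_14
    · exact tab_b_15
    · exact tab_b_16
    · exact tab_b_17
    · exact tab_b_18
    · exact tab_b_19
    · exact tab_b_20
    · exact tab_b_21
    · exact tab_b_22
    · exact tab_b_23
    · exact tab_b_24
    · exact tab_b_25
    · exact tab_b_26
    · exact tab_b_27
    · exact tab_b_28
    · exact tab_b_29
    · exact tab_b_30
    · exact tab_b_31
    · exact tab_b_32
    · exact tab_b_33
    · exact tab_b_34
    · exact tab_b_35
    · exact tab_b_36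
    · exact tab_b_37
    · exact tab_b_38
    · exact tab_b_39
    · exact tab_b_40
    · exact tab_b_41
    · exact tab_b_42
    · exact tab_b_43
    · exact tab_b_44
    · exact tab_b_45
    · exact tab_b_46
    · exact tab_b_47
    · exact tab_b_48
    · exact tab_b_49
    · exact tab_b_50
    · exact tab_b_51
    · exact tab_b_52
    · exact tab_b_53
    · exact tab_b_54
    · exact tab_b_55
    · exact tab_b_56
    · exact tab_b_57
    · exact tab_b_58
    · exact tab_b_59
    · exact tab_b_60
    · exact tab_b_61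
    · exact tab_b_62
    · exact tab_b_63
    · exact tab_b_64
    · exact tab_b_65
    · exact tab_b_66
    · exact tab_b_67
    · exact tab_b_68
    · exact tab_b_69
    · exact tab_b_70
    · exact tab_b_71
    · exact tab_b_72
    · exact tab_b_73
    · exact tab_b_74
    · exact tab_b_75
    · exact tab_b_76
    · exact tab_b_77
    · exact tab_b_78
    · exact tab_b_79
    · exact tab_b_80
    · exact tab_b_81
    · exact tab_b_82
    · exact tab_b_83
    · exact tab_b_84
    · exact tab_b_85
    · exact tab_b_86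
    · exact tab_b_87
    · exact tab_b_88
    · exact tab_b_89
  apply allB_of_forall
  intro v hv
  have h2 : dD.K = 90 * 1 := by decide
  have hv' : v < 90 * 1 := by rw [← h2]; exact hv
  exact allC_true (p := tabChk dD) (K := 90) (c := 1) key hv'

theorem dw_b : allB (dwChk dD) dD.K = true := by
  have key : ∀ i, i < 90 → allC (dwChk dD) i 1 = true := by
    intro i hi
    interval_cases i
    · exact dw_b_0
    · exact dw_b_1
    · exact dw_b_2
    · exact dw_b_3
    · exact dw_b_4
    · exact dw_b_5
    · exact dw_b_6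
    · exact dw_b_7
    · exact dw_b_8
    · exact dw_b_9
    · exact dw_b_10
    · exact dw_b_11
    · exact dw_b_12
    · exact dw_b_13
    · exact dw_b_14
    · exact dw_b_15
    · exact dw_b_16
    · exact dw_b_17
    · exact dw_b_18
    · exact dw_b_19
    · exact dw_b_20
    · exact dw_b_21
    · exact dw_b_22
    · exact dw_b_23
    · exact dw_b_24
    · exact dw_b_25
    · exact dw_b_26
    · exact dw_b_27
    · exact dw_b_28
    · exact dw_b_29
    · exact dw_b_30
    · exact dw_b_31
    · exact dw_b_32
    · exact dw_b_33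
    · exact dw_b_34
    · exact dw_b_35
    · exact dw_b_36
    · exact dw_b_37
    · exact dw_b_38
    · exact dw_b_39
    · exact dw_b_40
    · exact dw_b_41
    · exact dw_b_42
    · exact dw_b_43
    · exact dw_b_44
    · exact dw_b_45
    · exact dw_b_46
    · exact dw_b_47
    · exact dw_b_48
    · exact dw_b_49
    · exact dw_b_50
    · exact dw_b_51
    · exact dw_b_52
    · exact dw_b_53
    · exact dw_b_54
    · exact dw_b_55
    · exact dw_b_56
    · exact dw_b_57
    · exact dw_b_58
    · exact dw_b_59
    · exact dw_b_60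
    · exact dw_b_61
    · exact dw_b_62
    · exact dw_b_63
    · exact dw_b_64
    · exact dw_b_65
    · exact dw_b_66
    · exact dw_b_67
    · exact dw_b_68
    · exact dw_b_69
    · exact dw_b_70
    · exact dw_b_71
    · exact dw_b_72
    · exact dw_b_73
    · exact dw_b_74
    · exact dw_b_75
    · exact dw_b_76
    · exact dw_b_77
    · exact dw_b_78
    · exact dw_b_79
    · exact dw_b_80
    · exact dw_b_81
    · exact dw_b_82
    · exact dw_b_83
    · exact dw_b_84
    · exact dw_b_85
    · exact dw_b_86
    · exact dw_b_87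
    · exact dw_b_88
    · exact dw_b_89
  apply allB_of_forall
  intro v hv
  have h2 : dD.K = 90 * 1 := by decide
  have hv' : v < 90 * 1 := by rw [← h2]; exact hv
  exact allC_true (p := dwChk dD) (K := 90) (c := 1) key hv'

set_option maxRecDepth 1000000 in
theorem chain_b : chainChk dD dC.bs [] dC.wss = true := by decide +kernel

set_option maxRecDepth 1000000 in
theorem plen_b : prodLen dC.wss = 145926144000 := by decide +kernel

/-- the verified core. -/
theorem core : Core dD dC 145926144000 :=
  ⟨fun _ hk => allB_true tab_b hk, fun _ hk => allB_true dw_b hk, chain_b, plen_b⟩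

set_option maxRecDepth 1000000 in
theorem gen_hab : allB (fun k => orB (ltB k dE.M) (abW dD dE k (dwOf dD k))) dD.K = true := by decide +kernel

theorem gen_hlw : allB (fun l => andB (abW dD dE dD.K (nthW dE.lw l)) (allB (fun x => Nat.beq (T dD l x) (evalT dD (nthW dE.lw l) x)) dD.n)) dD.L = true := by
  have key : ∀ i, i < 10 → allC (fun l => andB (abW dD dE dD.K (nthW dE.lw l)) (allB (fun x => Nat.beq (T dD l x) (evalT dD (nthW dE.lw l) x)) dD.n)) i 1 = true := by
    intro i hi
    interval_cases i
    · exact gen_hlw_0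
    · exact gen_hlw_1
    · exact gen_hlw_2
    · exact gen_hlw_3
    · exact gen_hlw_4
    · exact gen_hlw_5
    · exact gen_hlw_6
    · exact gen_hlw_7
    · exact gen_hlw_8
    · exact gen_hlw_9
  apply allB_of_forall
  intro v hv
  have h2 : dD.L = 10 * 1 := by decide
  have hv' : v < 10 * 1 := by rw [← h2]; exact hv
  exact allC_true (p := fun l => andB (abW dD dE dD.K (nthW dE.lw l)) (allB (fun x => Nat.beq (T dD l x) (evalT dD (nthW dE.lw l) x)) dD.n)) (K := 10) (c := 1) key hv'

theorem gen_hpw : allB (fun i => allB (fun x => Nat.beq (T dD dE.iA (pwT dD dE i x)) (pwT dD dE (Nat.mod (Nat.succ i) dE.p) x)) dD.n) dE.p = true := by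
  have key : ∀ i, i < 29 → allC (fun i => allB (fun x => Nat.beq (T dD dE.iA (pwT dD dE i x)) (pwT dD dE (Nat.mod (Nat.succ i) dE.p) x)) dD.n) i 1 = true := by
    intro i hi
    interval_cases i
    · exact gen_hpw_0
    · exact gen_hpw_1
    · exact gen_hpw_2
    · exact gen_hpw_3
    · exact gen_hpw_4
    · exact gen_hpw_5
    · exact gen_hpw_6
    · exact gen_hpw_7
    · exact gen_hpw_8
    · exact gen_hpw_9
    · exact gen_hpw_10
    · exact gen_hpw_11
    · exact gen_hpw_12
    · exact gen_hpw_13
    · exact gen_hpw_14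
    · exact gen_hpw_15
    · exact gen_hpw_16
    · exact gen_hpw_17
    · exact gen_hpw_18
    · exact gen_hpw_19
    · exact gen_hpw_20
    · exact gen_hpw_21
    · exact gen_hpw_22
    · exact gen_hpw_23
    · exact gen_hpw_24
    · exact gen_hpw_25
    · exact gen_hpw_26
    · exact gen_hpw_27
    · exact gen_hpw_28
  apply allB_of_forall
  intro v hv
  have h2 : dE.p = 29 * 1 := by decide
  have hv' : v < 29 * 1 := by rw [← h2]; exact hv
  exact allC_true (p := fun i => allB (fun x => Nat.beq (T dD dE.iA (pwT dD dE i x)) (pwT dD dE (Nat.mod (Nat.succ i) dE.p) x)) dD.n) (K := 29) (c := 1) key hv'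

set_option maxRecDepth 1000000 in
theorem gen_hp0 : allB (fun x => Nat.beq (pwT dD dE 0 x) x) dD.n = true := by decide +kernel

set_option maxRecDepth 1000000 in
theorem gen_hmv : andB (ltB dE.mv dD.n) (notB (Nat.beq (T dD dE.iA dE.mv) dE.mv)) = true := by decide +kernel

set_option maxRecDepth 1000000 in
theorem gen_hnm : allB (fun x => Nat.beq (T dD dE.iN (T dD dE.iA x)) (pwT dD dE (Nat.mod dE.r dE.p) (T dD dE.iN x))) dD.n = true := by decide +kernel

theorem genOK : GenOK dD dE :=
  { hLM := by decide, hab := gen_hab, hlw := gen_hlw, hpw := gen_hpw, hp0 := gen_hp0, hmv := gen_hmv, hnm := gen_hnm }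

set_option maxRecDepth 1000000 in
theorem syl_hrel : allB (sylRelChk dD dC dS) dS.k = true := by decide +kernel

set_option maxRecDepth 1000000 in
theorem syl_hch : chainChk dD dS.sC.bs [] dS.sC.wss = true := by decide +kernel

set_option maxRecDepth 1000000 in
theorem syl_hpl : prodLen dS.sC.wss = 2 ^ dS.k := by decide +kernel

set_option maxRecDepth 1000000 in
theorem syl_hlt : memWss dS.tI dS.sC.wss = true := by decide +kernel

set_option maxRecDepth 1000000 in
theorem syl_hcm : allB (fun j => agreeL dC.bs (fun x => tF dD dS 0 (tF dD dS j x)) (fun x => tF dD dS j (tF dD dS 0 x))) dS.k = true := by decide +kernel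

set_option maxRecDepth 1000000 in
theorem syl_hmv : notB (allB (fun x => Nat.beq (tF dD dS 0 x) x) dD.n) = true := by decide +kernel

theorem syl_hwit : ∀ e, e < 2 ^ dS.k → witChk dD dS e = true := by
  intro e he
  have h2 : (2 : ℕ) ^ dS.k = 8 * 2048 := by decide
  rw [h2] at he
  refine allC_true (K := 8) (c := 2048) ?_ he
  intro i hi
  interval_cases i
  · exact syl_wit_0
  · exact syl_wit_1
  · exact syl_wit_2
  · exact syl_wit_3
  · exact syl_wit_4
  · exact syl_wit_5
  · exact syl_wit_6
  · exact syl_wit_7

theorem sylOK : SylOK dD dC 145926144000 dS :=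
  { hrel := syl_hrel, hodd := by decide, hch := syl_hch, hpl := syl_hpl, hlt := syl_hlt, hcm := syl_hcm,
    hmv := syl_hmv, hk := by decide, hwit := syl_hwit }

theorem cls_hclo : ∀ v, v < dCl.R * dE.p → cloChk dD dC dE dCl v = true := by
  intro v hv
  have h2 : dCl.R * dE.p = 593775 := by decide
  rw [h2] at hv
  have hv' : v < 6525 * 91 := by omega
  refine allC_true (K := 6525) (c := 91) ?_ hv'
  intro i hi
  interval_cases i
  · exact cls_hclo_0
  · exact cls_hclo_1
  · exact cls_hclo_2
  · exact cls_hclo_3
  · exact cls_hclo_4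
  · exact cls_hclo_5
  · exact cls_hclo_6
  · exact cls_hclo_7
  · exact cls_hclo_8
  · exact cls_hclo_9
  · exact cls_hclo_10
  · exact cls_hclo_11
  · exact cls_hclo_12
  · exact cls_hclo_13
  · exact cls_hclo_14
  · exact cls_hclo_15
  · exact cls_hclo_16
  · exact cls_hclo_17
  · exact cls_hclo_18
  · exact cls_hclo_19
  · exact cls_hclo_20
  · exact cls_hclo_21
  · exact cls_hclo_22
  · exact cls_hclo_23
  · exact cls_hclo_24
  · exact cls_hclo_25
  · exact cls_hclo_26
  · exact cls_hclo_27
  · exact cls_hclo_28
  · exact cls_hclo_29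
  · exact cls_hclo_30
  · exact cls_hclo_31
  · exact cls_hclo_32
  · exact cls_hclo_33
  · exact cls_hclo_34
  · exact cls_hclo_35
  · exact cls_hclo_36
  · exact cls_hclo_37
  · exact cls_hclo_38
  · exact cls_hclo_39
  · exact cls_hclo_40
  · exact cls_hclo_41
  · exact cls_hclo_42
  · exact cls_hclo_43
  · exact cls_hclo_44
  · exact cls_hclo_45
  · exact cls_hclo_46
  · exact cls_hclo_47
  · exact cls_hclo_48
  · exact cls_hclo_49
  · exact cls_hclo_50
  · exact cls_hclo_51
  · exact cls_hclo_52
  · exact cls_hclo_53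
  · exact cls_hclo_54
  · exact cls_hclo_55
  · exact cls_hclo_56
  · exact cls_hclo_57
  · exact cls_hclo_58
  · exact cls_hclo_59
  · exact cls_hclo_60
  · exact cls_hclo_61
  · exact cls_hclo_62
  · exact cls_hclo_63
  · exact cls_hclo_64
  · exact cls_hclo_65
  · exact cls_hclo_66
  · exact cls_hclo_67
  · exact cls_hclo_68
  · exact cls_hclo_69
  · exact cls_hclo_70
  · exact cls_hclo_71
  · exact cls_hclo_72
  · exact cls_hclo_73
  · exact cls_hclo_74
  · exact cls_hclo_75
  · exact cls_hclo_76
  · exact cls_hclo_77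
  · exact cls_hclo_78
  · exact cls_hclo_79
  · exact cls_hclo_80
  · exact cls_hclo_81
  · exact cls_hclo_82
  · exact cls_hclo_83
  · exact cls_hclo_84
  · exact cls_hclo_85
  · exact cls_hclo_86
  · exact cls_hclo_87
  · exact cls_hclo_88
  · exact cls_hclo_89
  · exact cls_hclo_90
  · exact cls_hclo_91
  · exact cls_hclo_92
  · exact cls_hclo_93
  · exact cls_hclo_94
  · exact cls_hclo_95
  · exact cls_hclo_96
  · exact cls_hclo_97
  · exact cls_hclo_98
  · exact cls_hclo_99
  · exact cls_hclo_100
  · exact cls_hclo_101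
  · exact cls_hclo_102
  · exact cls_hclo_103
  · exact cls_hclo_104
  · exact cls_hclo_105
  · exact cls_hclo_106
  · exact cls_hclo_107
  · exact cls_hclo_108
  · exact cls_hclo_109
  · exact cls_hclo_110
  · exact cls_hclo_111
  · exact cls_hclo_112
  · exact cls_hclo_113
  · exact cls_hclo_114
  · exact cls_hclo_115
  · exact cls_hclo_116
  · exact cls_hclo_117
  · exact cls_hclo_118
  · exact cls_hclo_119
  · exact cls_hclo_120
  · exact cls_hclo_121
  · exact cls_hclo_122
  · exact cls_hclo_123
  · exact cls_hclo_124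
  · exact cls_hclo_125
  · exact cls_hclo_126
  · exact cls_hclo_127
  · exact cls_hclo_128
  · exact cls_hclo_129
  · exact cls_hclo_130
  · exact cls_hclo_131
  · exact cls_hclo_132
  · exact cls_hclo_133
  · exact cls_hclo_134
  · exact cls_hclo_135
  · exact cls_hclo_136
  · exact cls_hclo_137
  · exact cls_hclo_138
  · exact cls_hclo_139
  · exact cls_hclo_140
  · exact cls_hclo_141
  · exact cls_hclo_142
  · exact cls_hclo_143
  · exact cls_hclo_144
  · exact cls_hclo_145
  · exact cls_hclo_146
  · exact cls_hclo_147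
  · exact cls_hclo_148
  · exact cls_hclo_149
  · exact cls_hclo_150
  · exact cls_hclo_151
  · exact cls_hclo_152
  · exact cls_hclo_153
  · exact cls_hclo_154
  · exact cls_hclo_155
  · exact cls_hclo_156
  · exact cls_hclo_157
  · exact cls_hclo_158
  · exact cls_hclo_159
  · exact cls_hclo_160
  · exact cls_hclo_161
  · exact cls_hclo_162
  · exact cls_hclo_163
  · exact cls_hclo_164
  · exact cls_hclo_165
  · exact cls_hclo_166
  · exact cls_hclo_167
  · exact cls_hclo_168
  · exact cls_hclo_169
  · exact cls_hclo_170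
  · exact cls_hclo_171
  · exact cls_hclo_172
  · exact cls_hclo_173
  · exact cls_hclo_174
  · exact cls_hclo_175
  · exact cls_hclo_176
  · exact cls_hclo_177
  · exact cls_hclo_178
  · exact cls_hclo_179
  · exact cls_hclo_180
  · exact cls_hclo_181
  · exact cls_hclo_182
  · exact cls_hclo_183
  · exact cls_hclo_184
  · exact cls_hclo_185
  · exact cls_hclo_186
  · exact cls_hclo_187
  · exact cls_hclo_188
  · exact cls_hclo_189
  · exact cls_hclo_190
  · exact cls_hclo_191
  · exact cls_hclo_192
  · exact cls_hclo_193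
  · exact cls_hclo_194
  · exact cls_hclo_195
  · exact cls_hclo_196
  · exact cls_hclo_197
  · exact cls_hclo_198
  · exact cls_hclo_199
  · exact cls_hclo_200
  · exact cls_hclo_201
  · exact cls_hclo_202
  · exact cls_hclo_203
  · exact cls_hclo_204
  · exact cls_hclo_205
  · exact cls_hclo_206
  · exact cls_hclo_207
  · exact cls_hclo_208
  · exact cls_hclo_209
  · exact cls_hclo_210
  · exact cls_hclo_211
  · exact cls_hclo_212
  · exact cls_hclo_213
  · exact cls_hclo_214
  · exact cls_hclo_215
  · exact cls_hclo_216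
  · exact cls_hclo_217
  · exact cls_hclo_218
  · exact cls_hclo_219
  · exact cls_hclo_220
  · exact cls_hclo_221
  · exact cls_hclo_222
  · exact cls_hclo_223
  · exact cls_hclo_224
  · exact cls_hclo_225
  · exact cls_hclo_226
  · exact cls_hclo_227
  · exact cls_hclo_228
  · exact cls_hclo_229
  · exact cls_hclo_230
  · exact cls_hclo_231
  · exact cls_hclo_232
  · exact cls_hclo_233
  · exact cls_hclo_234
  · exact cls_hclo_235
  · exact cls_hclo_236
  · exact cls_hclo_237
  · exact cls_hclo_238
  · exact cls_hclo_239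
  · exact cls_hclo_240
  · exact cls_hclo_241
  · exact cls_hclo_242
  · exact cls_hclo_243
  · exact cls_hclo_244
  · exact cls_hclo_245
  · exact cls_hclo_246
  · exact cls_hclo_247
  · exact cls_hclo_248
  · exact cls_hclo_249
  · exact cls_hclo_250
  · exact cls_hclo_251
  · exact cls_hclo_252
  · exact cls_hclo_253
  · exact cls_hclo_254
  · exact cls_hclo_255
  · exact cls_hclo_256
  · exact cls_hclo_257
  · exact cls_hclo_258
  · exact cls_hclo_259
  · exact cls_hclo_260
  · exact cls_hclo_261
  · exact cls_hclo_262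
  · exact cls_hclo_263
  · exact cls_hclo_264
  · exact cls_hclo_265
  · exact cls_hclo_266
  · exact cls_hclo_267
  · exact cls_hclo_268
  · exact cls_hclo_269
  · exact cls_hclo_270
  · exact cls_hclo_271
  · exact cls_hclo_272
  · exact cls_hclo_273
  · exact cls_hclo_274
  · exact cls_hclo_275
  · exact cls_hclo_276
  · exact cls_hclo_277
  · exact cls_hclo_278
  · exact cls_hclo_279
  · exact cls_hclo_280
  · exact cls_hclo_281
  · exact cls_hclo_282
  · exact cls_hclo_283
  · exact cls_hclo_284
  · exact cls_hclo_285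
  · exact cls_hclo_286
  · exact cls_hclo_287
  · exact cls_hclo_288
  · exact cls_hclo_289
  · exact cls_hclo_290
  · exact cls_hclo_291
  · exact cls_hclo_292
  · exact cls_hclo_293
  · exact cls_hclo_294
  · exact cls_hclo_295
  · exact cls_hclo_296
  · exact cls_hclo_297
  · exact cls_hclo_298
  · exact cls_hclo_299
  · exact cls_hclo_300
  · exact cls_hclo_301
  · exact cls_hclo_302
  · exact cls_hclo_303
  · exact cls_hclo_304
  · exact cls_hclo_305
  · exact cls_hclo_306
  · exact cls_hclo_307
  · exact cls_hclo_308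
  · exact cls_hclo_309
  · exact cls_hclo_310
  · exact cls_hclo_311
  · exact cls_hclo_312
  · exact cls_hclo_313
  · exact cls_hclo_314
  · exact cls_hclo_315
  · exact cls_hclo_316
  · exact cls_hclo_317
  · exact cls_hclo_318
  · exact cls_hclo_319
  · exact cls_hclo_320
  · exact cls_hclo_321
  · exact cls_hclo_322
  · exact cls_hclo_323
  · exact cls_hclo_324
  · exact cls_hclo_325
  · exact cls_hclo_326
  · exact cls_hclo_327
  · exact cls_hclo_328
  · exact cls_hclo_329
  · exact cls_hclo_330
  · exact cls_hclo_331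
  · exact cls_hclo_332
  · exact cls_hclo_333
  · exact cls_hclo_334
  · exact cls_hclo_335
  · exact cls_hclo_336
  · exact cls_hclo_337
  · exact cls_hclo_338
  · exact cls_hclo_339
  · exact cls_hclo_340
  · exact cls_hclo_341
  · exact cls_hclo_342
  · exact cls_hclo_343
  · exact cls_hclo_344
  · exact cls_hclo_345
  · exact cls_hclo_346
  · exact cls_hclo_347
  · exact cls_hclo_348
  · exact cls_hclo_349
  · exact cls_hclo_350
  · exact cls_hclo_351
  · exact cls_hclo_352
  · exact cls_hclo_353
  · exact cls_hclo_354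
  · exact cls_hclo_355
  · exact cls_hclo_356
  · exact cls_hclo_357
  · exact cls_hclo_358
  · exact cls_hclo_359
  · exact cls_hclo_360
  · exact cls_hclo_361
  · exact cls_hclo_362
  · exact cls_hclo_363
  · exact cls_hclo_364
  · exact cls_hclo_365
  · exact cls_hclo_366
  · exact cls_hclo_367
  · exact cls_hclo_368
  · exact cls_hclo_369
  · exact cls_hclo_370
  · exact cls_hclo_371
  · exact cls_hclo_372
  · exact cls_hclo_373
  · exact cls_hclo_374
  · exact cls_hclo_375
  · exact cls_hclo_376
  · exact cls_hclo_377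
  · exact cls_hclo_378
  · exact cls_hclo_379
  · exact cls_hclo_380
  · exact cls_hclo_381
  · exact cls_hclo_382
  · exact cls_hclo_383
  · exact cls_hclo_384
  · exact cls_hclo_385
  · exact cls_hclo_386
  · exact cls_hclo_387
  · exact cls_hclo_388
  · exact cls_hclo_389
  · exact cls_hclo_390
  · exact cls_hclo_391
  · exact cls_hclo_392
  · exact cls_hclo_393
  · exact cls_hclo_394
  · exact cls_hclo_395
  · exact cls_hclo_396
  · exact cls_hclo_397
  · exact cls_hclo_398
  · exact cls_hclo_399
  · exact cls_hclo_400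
  · exact cls_hclo_401
  · exact cls_hclo_402
  · exact cls_hclo_403
  · exact cls_hclo_404
  · exact cls_hclo_405
  · exact cls_hclo_406
  · exact cls_hclo_407
  · exact cls_hclo_408
  · exact cls_hclo_409
  · exact cls_hclo_410
  · exact cls_hclo_411
  · exact cls_hclo_412
  · exact cls_hclo_413
  · exact cls_hclo_414
  · exact cls_hclo_415
  · exact cls_hclo_416
  · exact cls_hclo_417
  · exact cls_hclo_418
  · exact cls_hclo_419
  · exact cls_hclo_420
  · exact cls_hclo_421
  · exact cls_hclo_422
  · exact cls_hclo_423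
  · exact cls_hclo_424
  · exact cls_hclo_425
  · exact cls_hclo_426
  · exact cls_hclo_427
  · exact cls_hclo_428
  · exact cls_hclo_429
  · exact cls_hclo_430
  · exact cls_hclo_431
  · exact cls_hclo_432
  · exact cls_hclo_433
  · exact cls_hclo_434
  · exact cls_hclo_435
  · exact cls_hclo_436
  · exact cls_hclo_437
  · exact cls_hclo_438
  · exact cls_hclo_439
  · exact cls_hclo_440
  · exact cls_hclo_441
  · exact cls_hclo_442
  · exact cls_hclo_443
  · exact cls_hclo_444
  · exact cls_hclo_445
  · exact cls_hclo_446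
  · exact cls_hclo_447
  · exact cls_hclo_448
  · exact cls_hclo_449
  · exact cls_hclo_450
  · exact cls_hclo_451
  · exact cls_hclo_452
  · exact cls_hclo_453
  · exact cls_hclo_454
  · exact cls_hclo_455
  · exact cls_hclo_456
  · exact cls_hclo_457
  · exact cls_hclo_458
  · exact cls_hclo_459
  · exact cls_hclo_460
  · exact cls_hclo_461
  · exact cls_hclo_462
  · exact cls_hclo_463
  · exact cls_hclo_464
  · exact cls_hclo_465
  · exact cls_hclo_466
  · exact cls_hclo_467
  · exact cls_hclo_468
  · exact cls_hclo_469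
  · exact cls_hclo_470
  · exact cls_hclo_471
  · exact cls_hclo_472
  · exact cls_hclo_473
  · exact cls_hclo_474
  · exact cls_hclo_475
  · exact cls_hclo_476
  · exact cls_hclo_477
  · exact cls_hclo_478
  · exact cls_hclo_479
  · exact cls_hclo_480
  · exact cls_hclo_481
  · exact cls_hclo_482
  · exact cls_hclo_483
  · exact cls_hclo_484
  · exact cls_hclo_485
  · exact cls_hclo_486
  · exact cls_hclo_487
  · exact cls_hclo_488
  · exact cls_hclo_489
  · exact cls_hclo_490
  · exact cls_hclo_491
  · exact cls_hclo_492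
  · exact cls_hclo_493
  · exact cls_hclo_494
  · exact cls_hclo_495
  · exact cls_hclo_496
  · exact cls_hclo_497
  · exact cls_hclo_498
  · exact cls_hclo_499
  · exact cls_hclo_500
  · exact cls_hclo_501
  · exact cls_hclo_502
  · exact cls_hclo_503
  · exact cls_hclo_504
  · exact cls_hclo_505
  · exact cls_hclo_506
  · exact cls_hclo_507
  · exact cls_hclo_508
  · exact cls_hclo_509
  · exact cls_hclo_510
  · exact cls_hclo_511
  · exact cls_hclo_512
  · exact cls_hclo_513
  · exact cls_hclo_514
  · exact cls_hclo_515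
  · exact cls_hclo_516
  · exact cls_hclo_517
  · exact cls_hclo_518
  · exact cls_hclo_519
  · exact cls_hclo_520
  · exact cls_hclo_521
  · exact cls_hclo_522
  · exact cls_hclo_523
  · exact cls_hclo_524
  · exact cls_hclo_525
  · exact cls_hclo_526
  · exact cls_hclo_527
  · exact cls_hclo_528
  · exact cls_hclo_529
  · exact cls_hclo_530
  · exact cls_hclo_531
  · exact cls_hclo_532
  · exact cls_hclo_533
  · exact cls_hclo_534
  · exact cls_hclo_535
  · exact cls_hclo_536
  · exact cls_hclo_537
  · exact cls_hclo_538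
  · exact cls_hclo_539
  · exact cls_hclo_540
  · exact cls_hclo_541
  · exact cls_hclo_542
  · exact cls_hclo_543
  · exact cls_hclo_544
  · exact cls_hclo_545
  · exact cls_hclo_546
  · exact cls_hclo_547
  · exact cls_hclo_548
  · exact cls_hclo_549
  · exact cls_hclo_550
  · exact cls_hclo_551
  · exact cls_hclo_552
  · exact cls_hclo_553
  · exact cls_hclo_554
  · exact cls_hclo_555
  · exact cls_hclo_556
  · exact cls_hclo_557
  · exact cls_hclo_558
  · exact cls_hclo_559
  · exact cls_hclo_560
  · exact cls_hclo_561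
  · exact cls_hclo_562
  · exact cls_hclo_563
  · exact cls_hclo_564
  · exact cls_hclo_565
  · exact cls_hclo_566
  · exact cls_hclo_567
  · exact cls_hclo_568
  · exact cls_hclo_569
  · exact cls_hclo_570
  · exact cls_hclo_571
  · exact cls_hclo_572
  · exact cls_hclo_573
  · exact cls_hclo_574
  · exact cls_hclo_575
  · exact cls_hclo_576
  · exact cls_hclo_577
  · exact cls_hclo_578
  · exact cls_hclo_579
  · exact cls_hclo_580
  · exact cls_hclo_581
  · exact cls_hclo_582
  · exact cls_hclo_583
  · exact cls_hclo_584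
  · exact cls_hclo_585
  · exact cls_hclo_586
  · exact cls_hclo_587
  · exact cls_hclo_588
  · exact cls_hclo_589
  · exact cls_hclo_590
  · exact cls_hclo_591
  · exact cls_hclo_592
  · exact cls_hclo_593
  · exact cls_hclo_594
  · exact cls_hclo_595
  · exact cls_hclo_596
  · exact cls_hclo_597
  · exact cls_hclo_598
  · exact cls_hclo_599
  · exact cls_hclo_600
  · exact cls_hclo_601
  · exact cls_hclo_602
  · exact cls_hclo_603
  · exact cls_hclo_604
  · exact cls_hclo_605
  · exact cls_hclo_606
  · exact cls_hclo_607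
  · exact cls_hclo_608
  · exact cls_hclo_609
  · exact cls_hclo_610
  · exact cls_hclo_611
  · exact cls_hclo_612
  · exact cls_hclo_613
  · exact cls_hclo_614
  · exact cls_hclo_615
  · exact cls_hclo_616
  · exact cls_hclo_617
  · exact cls_hclo_618
  · exact cls_hclo_619
  · exact cls_hclo_620
  · exact cls_hclo_621
  · exact cls_hclo_622
  · exact cls_hclo_623
  · exact cls_hclo_624
  · exact cls_hclo_625
  · exact cls_hclo_626
  · exact cls_hclo_627
  · exact cls_hclo_628
  · exact cls_hclo_629
  · exact cls_hclo_630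
  · exact cls_hclo_631
  · exact cls_hclo_632
  · exact cls_hclo_633
  · exact cls_hclo_634
  · exact cls_hclo_635
  · exact cls_hclo_636
  · exact cls_hclo_637
  · exact cls_hclo_638
  · exact cls_hclo_639
  · exact cls_hclo_640
  · exact cls_hclo_641
  · exact cls_hclo_642
  · exact cls_hclo_643
  · exact cls_hclo_644
  · exact cls_hclo_645
  · exact cls_hclo_646
  · exact cls_hclo_647
  · exact cls_hclo_648
  · exact cls_hclo_649
  · exact cls_hclo_650
  · exact cls_hclo_651
  · exact cls_hclo_652
  · exact cls_hclo_653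
  · exact cls_hclo_654
  · exact cls_hclo_655
  · exact cls_hclo_656
  · exact cls_hclo_657
  · exact cls_hclo_658
  · exact cls_hclo_659
  · exact cls_hclo_660
  · exact cls_hclo_661
  · exact cls_hclo_662
  · exact cls_hclo_663
  · exact cls_hclo_664
  · exact cls_hclo_665
  · exact cls_hclo_666
  · exact cls_hclo_667
  · exact cls_hclo_668
  · exact cls_hclo_669
  · exact cls_hclo_670
  · exact cls_hclo_671
  · exact cls_hclo_672
  · exact cls_hclo_673
  · exact cls_hclo_674
  · exact cls_hclo_675
  · exact cls_hclo_676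
  · exact cls_hclo_677
  · exact cls_hclo_678
  · exact cls_hclo_679
  · exact cls_hclo_680
  · exact cls_hclo_681
  · exact cls_hclo_682
  · exact cls_hclo_683
  · exact cls_hclo_684
  · exact cls_hclo_685
  · exact cls_hclo_686
  · exact cls_hclo_687
  · exact cls_hclo_688
  · exact cls_hclo_689
  · exact cls_hclo_690
  · exact cls_hclo_691
  · exact cls_hclo_692
  · exact cls_hclo_693
  · exact cls_hclo_694
  · exact cls_hclo_695
  · exact cls_hclo_696
  · exact cls_hclo_697
  · exact cls_hclo_698
  · exact cls_hclo_699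
  · exact cls_hclo_700
  · exact cls_hclo_701
  · exact cls_hclo_702
  · exact cls_hclo_703
  · exact cls_hclo_704
  · exact cls_hclo_705
  · exact cls_hclo_706
  · exact cls_hclo_707
  · exact cls_hclo_708
  · exact cls_hclo_709
  · exact cls_hclo_710
  · exact cls_hclo_711
  · exact cls_hclo_712
  · exact cls_hclo_713
  · exact cls_hclo_714
  · exact cls_hclo_715
  · exact cls_hclo_716
  · exact cls_hclo_717
  · exact cls_hclo_718
  · exact cls_hclo_719
  · exact cls_hclo_720
  · exact cls_hclo_721
  · exact cls_hclo_722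
  · exact cls_hclo_723
  · exact cls_hclo_724
  · exact cls_hclo_725
  · exact cls_hclo_726
  · exact cls_hclo_727
  · exact cls_hclo_728
  · exact cls_hclo_729
  · exact cls_hclo_730
  · exact cls_hclo_731
  · exact cls_hclo_732
  · exact cls_hclo_733
  · exact cls_hclo_734
  · exact cls_hclo_735
  · exact cls_hclo_736
  · exact cls_hclo_737
  · exact cls_hclo_738
  · exact cls_hclo_739
  · exact cls_hclo_740
  · exact cls_hclo_741
  · exact cls_hclo_742
  · exact cls_hclo_743
  · exact cls_hclo_744
  · exact cls_hclo_745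
  · exact cls_hclo_746
  · exact cls_hclo_747
  · exact cls_hclo_748
  · exact cls_hclo_749
  · exact cls_hclo_750
  · exact cls_hclo_751
  · exact cls_hclo_752
  · exact cls_hclo_753
  · exact cls_hclo_754
  · exact cls_hclo_755
  · exact cls_hclo_756
  · exact cls_hclo_757
  · exact cls_hclo_758
  · exact cls_hclo_759
  · exact cls_hclo_760
  · exact cls_hclo_761
  · exact cls_hclo_762
  · exact cls_hclo_763
  · exact cls_hclo_764
  · exact cls_hclo_765
  · exact cls_hclo_766
  · exact cls_hclo_767
  · exact cls_hclo_768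
  · exact cls_hclo_769
  · exact cls_hclo_770
  · exact cls_hclo_771
  · exact cls_hclo_772
  · exact cls_hclo_773
  · exact cls_hclo_774
  · exact cls_hclo_775
  · exact cls_hclo_776
  · exact cls_hclo_777
  · exact cls_hclo_778
  · exact cls_hclo_779
  · exact cls_hclo_780
  · exact cls_hclo_781
  · exact cls_hclo_782
  · exact cls_hclo_783
  · exact cls_hclo_784
  · exact cls_hclo_785
  · exact cls_hclo_786
  · exact cls_hclo_787
  · exact cls_hclo_788
  · exact cls_hclo_789
  · exact cls_hclo_790
  · exact cls_hclo_791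
  · exact cls_hclo_792
  · exact cls_hclo_793
  · exact cls_hclo_794
  · exact cls_hclo_795
  · exact cls_hclo_796
  · exact cls_hclo_797
  · exact cls_hclo_798
  · exact cls_hclo_799
  · exact cls_hclo_800
  · exact cls_hclo_801
  · exact cls_hclo_802
  · exact cls_hclo_803
  · exact cls_hclo_804
  · exact cls_hclo_805
  · exact cls_hclo_806
  · exact cls_hclo_807
  · exact cls_hclo_808
  · exact cls_hclo_809
  · exact cls_hclo_810
  · exact cls_hclo_811
  · exact cls_hclo_812
  · exact cls_hclo_813
  · exact cls_hclo_814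
  · exact cls_hclo_815
  · exact cls_hclo_816
  · exact cls_hclo_817
  · exact cls_hclo_818
  · exact cls_hclo_819
  · exact cls_hclo_820
  · exact cls_hclo_821
  · exact cls_hclo_822
  · exact cls_hclo_823
  · exact cls_hclo_824
  · exact cls_hclo_825
  · exact cls_hclo_826
  · exact cls_hclo_827
  · exact cls_hclo_828
  · exact cls_hclo_829
  · exact cls_hclo_830
  · exact cls_hclo_831
  · exact cls_hclo_832
  · exact cls_hclo_833
  · exact cls_hclo_834
  · exact cls_hclo_835
  · exact cls_hclo_836
  · exact cls_hclo_837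
  · exact cls_hclo_838
  · exact cls_hclo_839
  · exact cls_hclo_840
  · exact cls_hclo_841
  · exact cls_hclo_842
  · exact cls_hclo_843
  · exact cls_hclo_844
  · exact cls_hclo_845
  · exact cls_hclo_846
  · exact cls_hclo_847
  · exact cls_hclo_848
  · exact cls_hclo_849
  · exact cls_hclo_850
  · exact cls_hclo_851
  · exact cls_hclo_852
  · exact cls_hclo_853
  · exact cls_hclo_854
  · exact cls_hclo_855
  · exact cls_hclo_856
  · exact cls_hclo_857
  · exact cls_hclo_858
  · exact cls_hclo_859
  · exact cls_hclo_860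
  · exact cls_hclo_861
  · exact cls_hclo_862
  · exact cls_hclo_863
  · exact cls_hclo_864
  · exact cls_hclo_865
  · exact cls_hclo_866
  · exact cls_hclo_867
  · exact cls_hclo_868
  · exact cls_hclo_869
  · exact cls_hclo_870
  · exact cls_hclo_871
  · exact cls_hclo_872
  · exact cls_hclo_873
  · exact cls_hclo_874
  · exact cls_hclo_875
  · exact cls_hclo_876
  · exact cls_hclo_877
  · exact cls_hclo_878
  · exact cls_hclo_879
  · exact cls_hclo_880
  · exact cls_hclo_881
  · exact cls_hclo_882
  · exact cls_hclo_883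
  · exact cls_hclo_884
  · exact cls_hclo_885
  · exact cls_hclo_886
  · exact cls_hclo_887
  · exact cls_hclo_888
  · exact cls_hclo_889
  · exact cls_hclo_890
  · exact cls_hclo_891
  · exact cls_hclo_892
  · exact cls_hclo_893
  · exact cls_hclo_894
  · exact cls_hclo_895
  · exact cls_hclo_896
  · exact cls_hclo_897
  · exact cls_hclo_898
  · exact cls_hclo_899
  · exact cls_hclo_900
  · exact cls_hclo_901
  · exact cls_hclo_902
  · exact cls_hclo_903
  · exact cls_hclo_904
  · exact cls_hclo_905
  · exact cls_hclo_906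
  · exact cls_hclo_907
  · exact cls_hclo_908
  · exact cls_hclo_909
  · exact cls_hclo_910
  · exact cls_hclo_911
  · exact cls_hclo_912
  · exact cls_hclo_913
  · exact cls_hclo_914
  · exact cls_hclo_915
  · exact cls_hclo_916
  · exact cls_hclo_917
  · exact cls_hclo_918
  · exact cls_hclo_919
  · exact cls_hclo_920
  · exact cls_hclo_921
  · exact cls_hclo_922
  · exact cls_hclo_923
  · exact cls_hclo_924
  · exact cls_hclo_925
  · exact cls_hclo_926
  · exact cls_hclo_927
  · exact cls_hclo_928
  · exact cls_hclo_929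
  · exact cls_hclo_930
  · exact cls_hclo_931
  · exact cls_hclo_932
  · exact cls_hclo_933
  · exact cls_hclo_934
  · exact cls_hclo_935
  · exact cls_hclo_936
  · exact cls_hclo_937
  · exact cls_hclo_938
  · exact cls_hclo_939
  · exact cls_hclo_940
  · exact cls_hclo_941
  · exact cls_hclo_942
  · exact cls_hclo_943
  · exact cls_hclo_944
  · exact cls_hclo_945
  · exact cls_hclo_946
  · exact cls_hclo_947
  · exact cls_hclo_948
  · exact cls_hclo_949
  · exact cls_hclo_950
  · exact cls_hclo_951
  · exact cls_hclo_952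
  · exact cls_hclo_953
  · exact cls_hclo_954
  · exact cls_hclo_955
  · exact cls_hclo_956
  · exact cls_hclo_957
  · exact cls_hclo_958
  · exact cls_hclo_959
  · exact cls_hclo_960
  · exact cls_hclo_961
  · exact cls_hclo_962
  · exact cls_hclo_963
  · exact cls_hclo_964
  · exact cls_hclo_965
  · exact cls_hclo_966
  · exact cls_hclo_967
  · exact cls_hclo_968
  · exact cls_hclo_969
  · exact cls_hclo_970
  · exact cls_hclo_971
  · exact cls_hclo_972
  · exact cls_hclo_973
  · exact cls_hclo_974
  · exact cls_hclo_975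
  · exact cls_hclo_976
  · exact cls_hclo_977
  · exact cls_hclo_978
  · exact cls_hclo_979
  · exact cls_hclo_980
  · exact cls_hclo_981
  · exact cls_hclo_982
  · exact cls_hclo_983
  · exact cls_hclo_984
  · exact cls_hclo_985
  · exact cls_hclo_986
  · exact cls_hclo_987
  · exact cls_hclo_988
  · exact cls_hclo_989
  · exact cls_hclo_990
  · exact cls_hclo_991
  · exact cls_hclo_992
  · exact cls_hclo_993
  · exact cls_hclo_994
  · exact cls_hclo_995
  · exact cls_hclo_996
  · exact cls_hclo_997
  · exact cls_hclo_998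
  · exact cls_hclo_999
  · exact cls_hclo_1000
  · exact cls_hclo_1001
  · exact cls_hclo_1002
  · exact cls_hclo_1003
  · exact cls_hclo_1004
  · exact cls_hclo_1005
  · exact cls_hclo_1006
  · exact cls_hclo_1007
  · exact cls_hclo_1008
  · exact cls_hclo_1009
  · exact cls_hclo_1010
  · exact cls_hclo_1011
  · exact cls_hclo_1012
  · exact cls_hclo_1013
  · exact cls_hclo_1014
  · exact cls_hclo_1015
  · exact cls_hclo_1016
  · exact cls_hclo_1017
  · exact cls_hclo_1018
  · exact cls_hclo_1019
  · exact cls_hclo_1020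
  · exact cls_hclo_1021
  · exact cls_hclo_1022
  · exact cls_hclo_1023
  · exact cls_hclo_1024
  · exact cls_hclo_1025
  · exact cls_hclo_1026
  · exact cls_hclo_1027
  · exact cls_hclo_1028
  · exact cls_hclo_1029
  · exact cls_hclo_1030
  · exact cls_hclo_1031
  · exact cls_hclo_1032
  · exact cls_hclo_1033
  · exact cls_hclo_1034
  · exact cls_hclo_1035
  · exact cls_hclo_1036
  · exact cls_hclo_1037
  · exact cls_hclo_1038
  · exact cls_hclo_1039
  · exact cls_hclo_1040
  · exact cls_hclo_1041
  · exact cls_hclo_1042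
  · exact cls_hclo_1043
  · exact cls_hclo_1044
  · exact cls_hclo_1045
  · exact cls_hclo_1046
  · exact cls_hclo_1047
  · exact cls_hclo_1048
  · exact cls_hclo_1049
  · exact cls_hclo_1050
  · exact cls_hclo_1051
  · exact cls_hclo_1052
  · exact cls_hclo_1053
  · exact cls_hclo_1054
  · exact cls_hclo_1055
  · exact cls_hclo_1056
  · exact cls_hclo_1057
  · exact cls_hclo_1058
  · exact cls_hclo_1059
  · exact cls_hclo_1060
  · exact cls_hclo_1061
  · exact cls_hclo_1062
  · exact cls_hclo_1063
  · exact cls_hclo_1064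
  · exact cls_hclo_1065
  · exact cls_hclo_1066
  · exact cls_hclo_1067
  · exact cls_hclo_1068
  · exact cls_hclo_1069
  · exact cls_hclo_1070
  · exact cls_hclo_1071
  · exact cls_hclo_1072
  · exact cls_hclo_1073
  · exact cls_hclo_1074
  · exact cls_hclo_1075
  · exact cls_hclo_1076
  · exact cls_hclo_1077
  · exact cls_hclo_1078
  · exact cls_hclo_1079
  · exact cls_hclo_1080
  · exact cls_hclo_1081
  · exact cls_hclo_1082
  · exact cls_hclo_1083
  · exact cls_hclo_1084
  · exact cls_hclo_1085
  · exact cls_hclo_1086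
  · exact cls_hclo_1087
  · exact cls_hclo_1088
  · exact cls_hclo_1089
  · exact cls_hclo_1090
  · exact cls_hclo_1091
  · exact cls_hclo_1092
  · exact cls_hclo_1093
  · exact cls_hclo_1094
  · exact cls_hclo_1095
  · exact cls_hclo_1096
  · exact cls_hclo_1097
  · exact cls_hclo_1098
  · exact cls_hclo_1099
  · exact cls_hclo_1100
  · exact cls_hclo_1101
  · exact cls_hclo_1102
  · exact cls_hclo_1103
  · exact cls_hclo_1104
  · exact cls_hclo_1105
  · exact cls_hclo_1106
  · exact cls_hclo_1107
  · exact cls_hclo_1108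
  · exact cls_hclo_1109
  · exact cls_hclo_1110
  · exact cls_hclo_1111
  · exact cls_hclo_1112
  · exact cls_hclo_1113
  · exact cls_hclo_1114
  · exact cls_hclo_1115
  · exact cls_hclo_1116
  · exact cls_hclo_1117
  · exact cls_hclo_1118
  · exact cls_hclo_1119
  · exact cls_hclo_1120
  · exact cls_hclo_1121
  · exact cls_hclo_1122
  · exact cls_hclo_1123
  · exact cls_hclo_1124
  · exact cls_hclo_1125
  · exact cls_hclo_1126
  · exact cls_hclo_1127
  · exact cls_hclo_1128
  · exact cls_hclo_1129
  · exact cls_hclo_1130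
  · exact cls_hclo_1131
  · exact cls_hclo_1132
  · exact cls_hclo_1133
  · exact cls_hclo_1134
  · exact cls_hclo_1135
  · exact cls_hclo_1136
  · exact cls_hclo_1137
  · exact cls_hclo_1138
  · exact cls_hclo_1139
  · exact cls_hclo_1140
  · exact cls_hclo_1141
  · exact cls_hclo_1142
  · exact cls_hclo_1143
  · exact cls_hclo_1144
  · exact cls_hclo_1145
  · exact cls_hclo_1146
  · exact cls_hclo_1147
  · exact cls_hclo_1148
  · exact cls_hclo_1149
  · exact cls_hclo_1150
  · exact cls_hclo_1151
  · exact cls_hclo_1152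
  · exact cls_hclo_1153
  · exact cls_hclo_1154
  · exact cls_hclo_1155
  · exact cls_hclo_1156
  · exact cls_hclo_1157
  · exact cls_hclo_1158
  · exact cls_hclo_1159
  · exact cls_hclo_1160
  · exact cls_hclo_1161
  · exact cls_hclo_1162
  · exact cls_hclo_1163
  · exact cls_hclo_1164
  · exact cls_hclo_1165
  · exact cls_hclo_1166
  · exact cls_hclo_1167
  · exact cls_hclo_1168
  · exact cls_hclo_1169
  · exact cls_hclo_1170
  · exact cls_hclo_1171
  · exact cls_hclo_1172
  · exact cls_hclo_1173
  · exact cls_hclo_1174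
  · exact cls_hclo_1175
  · exact cls_hclo_1176
  · exact cls_hclo_1177
  · exact cls_hclo_1178
  · exact cls_hclo_1179
  · exact cls_hclo_1180
  · exact cls_hclo_1181
  · exact cls_hclo_1182
  · exact cls_hclo_1183
  · exact cls_hclo_1184
  · exact cls_hclo_1185
  · exact cls_hclo_1186
  · exact cls_hclo_1187
  · exact cls_hclo_1188
  · exact cls_hclo_1189
  · exact cls_hclo_1190
  · exact cls_hclo_1191
  · exact cls_hclo_1192
  · exact cls_hclo_1193
  · exact cls_hclo_1194
  · exact cls_hclo_1195
  · exact cls_hclo_1196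
  · exact cls_hclo_1197
  · exact cls_hclo_1198
  · exact cls_hclo_1199
  · exact cls_hclo_1200
  · exact cls_hclo_1201
  · exact cls_hclo_1202
  · exact cls_hclo_1203
  · exact cls_hclo_1204
  · exact cls_hclo_1205
  · exact cls_hclo_1206
  · exact cls_hclo_1207
  · exact cls_hclo_1208
  · exact cls_hclo_1209
  · exact cls_hclo_1210
  · exact cls_hclo_1211
  · exact cls_hclo_1212
  · exact cls_hclo_1213
  · exact cls_hclo_1214
  · exact cls_hclo_1215
  · exact cls_hclo_1216
  · exact cls_hclo_1217
  · exact cls_hclo_1218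
  · exact cls_hclo_1219
  · exact cls_hclo_1220
  · exact cls_hclo_1221
  · exact cls_hclo_1222
  · exact cls_hclo_1223
  · exact cls_hclo_1224
  · exact cls_hclo_1225
  · exact cls_hclo_1226
  · exact cls_hclo_1227
  · exact cls_hclo_1228
  · exact cls_hclo_1229
  · exact cls_hclo_1230
  · exact cls_hclo_1231
  · exact cls_hclo_1232
  · exact cls_hclo_1233
  · exact cls_hclo_1234
  · exact cls_hclo_1235
  · exact cls_hclo_1236
  · exact cls_hclo_1237
  · exact cls_hclo_1238
  · exact cls_hclo_1239
  · exact cls_hclo_1240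
  · exact cls_hclo_1241
  · exact cls_hclo_1242
  · exact cls_hclo_1243
  · exact cls_hclo_1244
  · exact cls_hclo_1245
  · exact cls_hclo_1246
  · exact cls_hclo_1247
  · exact cls_hclo_1248
  · exact cls_hclo_1249
  · exact cls_hclo_1250
  · exact cls_hclo_1251
  · exact cls_hclo_1252
  · exact cls_hclo_1253
  · exact cls_hclo_1254
  · exact cls_hclo_1255
  · exact cls_hclo_1256
  · exact cls_hclo_1257
  · exact cls_hclo_1258
  · exact cls_hclo_1259
  · exact cls_hclo_1260
  · exact cls_hclo_1261
  · exact cls_hclo_1262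
  · exact cls_hclo_1263
  · exact cls_hclo_1264
  · exact cls_hclo_1265
  · exact cls_hclo_1266
  · exact cls_hclo_1267
  · exact cls_hclo_1268
  · exact cls_hclo_1269
  · exact cls_hclo_1270
  · exact cls_hclo_1271
  · exact cls_hclo_1272
  · exact cls_hclo_1273
  · exact cls_hclo_1274
  · exact cls_hclo_1275
  · exact cls_hclo_1276
  · exact cls_hclo_1277
  · exact cls_hclo_1278
  · exact cls_hclo_1279
  · exact cls_hclo_1280
  · exact cls_hclo_1281
  · exact cls_hclo_1282
  · exact cls_hclo_1283
  · exact cls_hclo_1284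
  · exact cls_hclo_1285
  · exact cls_hclo_1286
  · exact cls_hclo_1287
  · exact cls_hclo_1288
  · exact cls_hclo_1289
  · exact cls_hclo_1290
  · exact cls_hclo_1291
  · exact cls_hclo_1292
  · exact cls_hclo_1293
  · exact cls_hclo_1294
  · exact cls_hclo_1295
  · exact cls_hclo_1296
  · exact cls_hclo_1297
  · exact cls_hclo_1298
  · exact cls_hclo_1299
  · exact cls_hclo_1300
  · exact cls_hclo_1301
  · exact cls_hclo_1302
  · exact cls_hclo_1303
  · exact cls_hclo_1304
  · exact cls_hclo_1305
  · exact cls_hclo_1306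
  · exact cls_hclo_1307
  · exact cls_hclo_1308
  · exact cls_hclo_1309
  · exact cls_hclo_1310
  · exact cls_hclo_1311
  · exact cls_hclo_1312
  · exact cls_hclo_1313
  · exact cls_hclo_1314
  · exact cls_hclo_1315
  · exact cls_hclo_1316
  · exact cls_hclo_1317
  · exact cls_hclo_1318
  · exact cls_hclo_1319
  · exact cls_hclo_1320
  · exact cls_hclo_1321
  · exact cls_hclo_1322
  · exact cls_hclo_1323
  · exact cls_hclo_1324
  · exact cls_hclo_1325
  · exact cls_hclo_1326
  · exact cls_hclo_1327
  · exact cls_hclo_1328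
  · exact cls_hclo_1329
  · exact cls_hclo_1330
  · exact cls_hclo_1331
  · exact cls_hclo_1332
  · exact cls_hclo_1333
  · exact cls_hclo_1334
  · exact cls_hclo_1335
  · exact cls_hclo_1336
  · exact cls_hclo_1337
  · exact cls_hclo_1338
  · exact cls_hclo_1339
  · exact cls_hclo_1340
  · exact cls_hclo_1341
  · exact cls_hclo_1342
  · exact cls_hclo_1343
  · exact cls_hclo_1344
  · exact cls_hclo_1345
  · exact cls_hclo_1346
  · exact cls_hclo_1347
  · exact cls_hclo_1348
  · exact cls_hclo_1349
  · exact cls_hclo_1350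
  · exact cls_hclo_1351
  · exact cls_hclo_1352
  · exact cls_hclo_1353
  · exact cls_hclo_1354
  · exact cls_hclo_1355
  · exact cls_hclo_1356
  · exact cls_hclo_1357
  · exact cls_hclo_1358
  · exact cls_hclo_1359
  · exact cls_hclo_1360
  · exact cls_hclo_1361
  · exact cls_hclo_1362
  · exact cls_hclo_1363
  · exact cls_hclo_1364
  · exact cls_hclo_1365
  · exact cls_hclo_1366
  · exact cls_hclo_1367
  · exact cls_hclo_1368
  · exact cls_hclo_1369
  · exact cls_hclo_1370
  · exact cls_hclo_1371
  · exact cls_hclo_1372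
  · exact cls_hclo_1373
  · exact cls_hclo_1374
  · exact cls_hclo_1375
  · exact cls_hclo_1376
  · exact cls_hclo_1377
  · exact cls_hclo_1378
  · exact cls_hclo_1379
  · exact cls_hclo_1380
  · exact cls_hclo_1381
  · exact cls_hclo_1382
  · exact cls_hclo_1383
  · exact cls_hclo_1384
  · exact cls_hclo_1385
  · exact cls_hclo_1386
  · exact cls_hclo_1387
  · exact cls_hclo_1388
  · exact cls_hclo_1389
  · exact cls_hclo_1390
  · exact cls_hclo_1391
  · exact cls_hclo_1392
  · exact cls_hclo_1393
  · exact cls_hclo_1394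
  · exact cls_hclo_1395
  · exact cls_hclo_1396
  · exact cls_hclo_1397
  · exact cls_hclo_1398
  · exact cls_hclo_1399
  · exact cls_hclo_1400
  · exact cls_hclo_1401
  · exact cls_hclo_1402
  · exact cls_hclo_1403
  · exact cls_hclo_1404
  · exact cls_hclo_1405
  · exact cls_hclo_1406
  · exact cls_hclo_1407
  · exact cls_hclo_1408
  · exact cls_hclo_1409
  · exact cls_hclo_1410
  · exact cls_hclo_1411
  · exact cls_hclo_1412
  · exact cls_hclo_1413
  · exact cls_hclo_1414
  · exact cls_hclo_1415
  · exact cls_hclo_1416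
  · exact cls_hclo_1417
  · exact cls_hclo_1418
  · exact cls_hclo_1419
  · exact cls_hclo_1420
  · exact cls_hclo_1421
  · exact cls_hclo_1422
  · exact cls_hclo_1423
  · exact cls_hclo_1424
  · exact cls_hclo_1425
  · exact cls_hclo_1426
  · exact cls_hclo_1427
  · exact cls_hclo_1428
  · exact cls_hclo_1429
  · exact cls_hclo_1430
  · exact cls_hclo_1431
  · exact cls_hclo_1432
  · exact cls_hclo_1433
  · exact cls_hclo_1434
  · exact cls_hclo_1435
  · exact cls_hclo_1436
  · exact cls_hclo_1437
  · exact cls_hclo_1438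
  · exact cls_hclo_1439
  · exact cls_hclo_1440
  · exact cls_hclo_1441
  · exact cls_hclo_1442
  · exact cls_hclo_1443
  · exact cls_hclo_1444
  · exact cls_hclo_1445
  · exact cls_hclo_1446
  · exact cls_hclo_1447
  · exact cls_hclo_1448
  · exact cls_hclo_1449
  · exact cls_hclo_1450
  · exact cls_hclo_1451
  · exact cls_hclo_1452
  · exact cls_hclo_1453
  · exact cls_hclo_1454
  · exact cls_hclo_1455
  · exact cls_hclo_1456
  · exact cls_hclo_1457
  · exact cls_hclo_1458
  · exact cls_hclo_1459
  · exact cls_hclo_1460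
  · exact cls_hclo_1461
  · exact cls_hclo_1462
  · exact cls_hclo_1463
  · exact cls_hclo_1464
  · exact cls_hclo_1465
  · exact cls_hclo_1466
  · exact cls_hclo_1467
  · exact cls_hclo_1468
  · exact cls_hclo_1469
  · exact cls_hclo_1470
  · exact cls_hclo_1471
  · exact cls_hclo_1472
  · exact cls_hclo_1473
  · exact cls_hclo_1474
  · exact cls_hclo_1475
  · exact cls_hclo_1476
  · exact cls_hclo_1477
  · exact cls_hclo_1478
  · exact cls_hclo_1479
  · exact cls_hclo_1480
  · exact cls_hclo_1481
  · exact cls_hclo_1482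
  · exact cls_hclo_1483
  · exact cls_hclo_1484
  · exact cls_hclo_1485
  · exact cls_hclo_1486
  · exact cls_hclo_1487
  · exact cls_hclo_1488
  · exact cls_hclo_1489
  · exact cls_hclo_1490
  · exact cls_hclo_1491
  · exact cls_hclo_1492
  · exact cls_hclo_1493
  · exact cls_hclo_1494
  · exact cls_hclo_1495
  · exact cls_hclo_1496
  · exact cls_hclo_1497
  · exact cls_hclo_1498
  · exact cls_hclo_1499
  · exact cls_hclo_1500
  · exact cls_hclo_1501
  · exact cls_hclo_1502
  · exact cls_hclo_1503
  · exact cls_hclo_1504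
  · exact cls_hclo_1505
  · exact cls_hclo_1506
  · exact cls_hclo_1507
  · exact cls_hclo_1508
  · exact cls_hclo_1509
  · exact cls_hclo_1510
  · exact cls_hclo_1511
  · exact cls_hclo_1512
  · exact cls_hclo_1513
  · exact cls_hclo_1514
  · exact cls_hclo_1515
  · exact cls_hclo_1516
  · exact cls_hclo_1517
  · exact cls_hclo_1518
  · exact cls_hclo_1519
  · exact cls_hclo_1520
  · exact cls_hclo_1521
  · exact cls_hclo_1522
  · exact cls_hclo_1523
  · exact cls_hclo_1524
  · exact cls_hclo_1525
  · exact cls_hclo_1526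
  · exact cls_hclo_1527
  · exact cls_hclo_1528
  · exact cls_hclo_1529
  · exact cls_hclo_1530
  · exact cls_hclo_1531
  · exact cls_hclo_1532
  · exact cls_hclo_1533
  · exact cls_hclo_1534
  · exact cls_hclo_1535
  · exact cls_hclo_1536
  · exact cls_hclo_1537
  · exact cls_hclo_1538
  · exact cls_hclo_1539
  · exact cls_hclo_1540
  · exact cls_hclo_1541
  · exact cls_hclo_1542
  · exact cls_hclo_1543
  · exact cls_hclo_1544
  · exact cls_hclo_1545
  · exact cls_hclo_1546
  · exact cls_hclo_1547
  · exact cls_hclo_1548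
  · exact cls_hclo_1549
  · exact cls_hclo_1550
  · exact cls_hclo_1551
  · exact cls_hclo_1552
  · exact cls_hclo_1553
  · exact cls_hclo_1554
  · exact cls_hclo_1555
  · exact cls_hclo_1556
  · exact cls_hclo_1557
  · exact cls_hclo_1558
  · exact cls_hclo_1559
  · exact cls_hclo_1560
  · exact cls_hclo_1561
  · exact cls_hclo_1562
  · exact cls_hclo_1563
  · exact cls_hclo_1564
  · exact cls_hclo_1565
  · exact cls_hclo_1566
  · exact cls_hclo_1567
  · exact cls_hclo_1568
  · exact cls_hclo_1569
  · exact cls_hclo_1570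
  · exact cls_hclo_1571
  · exact cls_hclo_1572
  · exact cls_hclo_1573
  · exact cls_hclo_1574
  · exact cls_hclo_1575
  · exact cls_hclo_1576
  · exact cls_hclo_1577
  · exact cls_hclo_1578
  · exact cls_hclo_1579
  · exact cls_hclo_1580
  · exact cls_hclo_1581
  · exact cls_hclo_1582
  · exact cls_hclo_1583
  · exact cls_hclo_1584
  · exact cls_hclo_1585
  · exact cls_hclo_1586
  · exact cls_hclo_1587
  · exact cls_hclo_1588
  · exact cls_hclo_1589
  · exact cls_hclo_1590
  · exact cls_hclo_1591
  · exact cls_hclo_1592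
  · exact cls_hclo_1593
  · exact cls_hclo_1594
  · exact cls_hclo_1595
  · exact cls_hclo_1596
  · exact cls_hclo_1597
  · exact cls_hclo_1598
  · exact cls_hclo_1599
  · exact cls_hclo_1600
  · exact cls_hclo_1601
  · exact cls_hclo_1602
  · exact cls_hclo_1603
  · exact cls_hclo_1604
  · exact cls_hclo_1605
  · exact cls_hclo_1606
  · exact cls_hclo_1607
  · exact cls_hclo_1608
  · exact cls_hclo_1609
  · exact cls_hclo_1610
  · exact cls_hclo_1611
  · exact cls_hclo_1612
  · exact cls_hclo_1613
  · exact cls_hclo_1614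
  · exact cls_hclo_1615
  · exact cls_hclo_1616
  · exact cls_hclo_1617
  · exact cls_hclo_1618
  · exact cls_hclo_1619
  · exact cls_hclo_1620
  · exact cls_hclo_1621
  · exact cls_hclo_1622
  · exact cls_hclo_1623
  · exact cls_hclo_1624
  · exact cls_hclo_1625
  · exact cls_hclo_1626
  · exact cls_hclo_1627
  · exact cls_hclo_1628
  · exact cls_hclo_1629
  · exact cls_hclo_1630
  · exact cls_hclo_1631
  · exact cls_hclo_1632
  · exact cls_hclo_1633
  · exact cls_hclo_1634
  · exact cls_hclo_1635
  · exact cls_hclo_1636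
  · exact cls_hclo_1637
  · exact cls_hclo_1638
  · exact cls_hclo_1639
  · exact cls_hclo_1640
  · exact cls_hclo_1641
  · exact cls_hclo_1642
  · exact cls_hclo_1643
  · exact cls_hclo_1644
  · exact cls_hclo_1645
  · exact cls_hclo_1646
  · exact cls_hclo_1647
  · exact cls_hclo_1648
  · exact cls_hclo_1649
  · exact cls_hclo_1650
  · exact cls_hclo_1651
  · exact cls_hclo_1652
  · exact cls_hclo_1653
  · exact cls_hclo_1654
  · exact cls_hclo_1655
  · exact cls_hclo_1656
  · exact cls_hclo_1657
  · exact cls_hclo_1658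
  · exact cls_hclo_1659
  · exact cls_hclo_1660
  · exact cls_hclo_1661
  · exact cls_hclo_1662
  · exact cls_hclo_1663
  · exact cls_hclo_1664
  · exact cls_hclo_1665
  · exact cls_hclo_1666
  · exact cls_hclo_1667
  · exact cls_hclo_1668
  · exact cls_hclo_1669
  · exact cls_hclo_1670
  · exact cls_hclo_1671
  · exact cls_hclo_1672
  · exact cls_hclo_1673
  · exact cls_hclo_1674
  · exact cls_hclo_1675
  · exact cls_hclo_1676
  · exact cls_hclo_1677
  · exact cls_hclo_1678
  · exact cls_hclo_1679
  · exact cls_hclo_1680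
  · exact cls_hclo_1681
  · exact cls_hclo_1682
  · exact cls_hclo_1683
  · exact cls_hclo_1684
  · exact cls_hclo_1685
  · exact cls_hclo_1686
  · exact cls_hclo_1687
  · exact cls_hclo_1688
  · exact cls_hclo_1689
  · exact cls_hclo_1690
  · exact cls_hclo_1691
  · exact cls_hclo_1692
  · exact cls_hclo_1693
  · exact cls_hclo_1694
  · exact cls_hclo_1695
  · exact cls_hclo_1696
  · exact cls_hclo_1697
  · exact cls_hclo_1698
  · exact cls_hclo_1699
  · exact cls_hclo_1700
  · exact cls_hclo_1701
  · exact cls_hclo_1702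
  · exact cls_hclo_1703
  · exact cls_hclo_1704
  · exact cls_hclo_1705
  · exact cls_hclo_1706
  · exact cls_hclo_1707
  · exact cls_hclo_1708
  · exact cls_hclo_1709
  · exact cls_hclo_1710
  · exact cls_hclo_1711
  · exact cls_hclo_1712
  · exact cls_hclo_1713
  · exact cls_hclo_1714
  · exact cls_hclo_1715
  · exact cls_hclo_1716
  · exact cls_hclo_1717
  · exact cls_hclo_1718
  · exact cls_hclo_1719
  · exact cls_hclo_1720
  · exact cls_hclo_1721
  · exact cls_hclo_1722
  · exact cls_hclo_1723
  · exact cls_hclo_1724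
  · exact cls_hclo_1725
  · exact cls_hclo_1726
  · exact cls_hclo_1727
  · exact cls_hclo_1728
  · exact cls_hclo_1729
  · exact cls_hclo_1730
  · exact cls_hclo_1731
  · exact cls_hclo_1732
  · exact cls_hclo_1733
  · exact cls_hclo_1734
  · exact cls_hclo_1735
  · exact cls_hclo_1736
  · exact cls_hclo_1737
  · exact cls_hclo_1738
  · exact cls_hclo_1739
  · exact cls_hclo_1740
  · exact cls_hclo_1741
  · exact cls_hclo_1742
  · exact cls_hclo_1743
  · exact cls_hclo_1744
  · exact cls_hclo_1745
  · exact cls_hclo_1746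
  · exact cls_hclo_1747
  · exact cls_hclo_1748
  · exact cls_hclo_1749
  · exact cls_hclo_1750
  · exact cls_hclo_1751
  · exact cls_hclo_1752
  · exact cls_hclo_1753
  · exact cls_hclo_1754
  · exact cls_hclo_1755
  · exact cls_hclo_1756
  · exact cls_hclo_1757
  · exact cls_hclo_1758
  · exact cls_hclo_1759
  · exact cls_hclo_1760
  · exact cls_hclo_1761
  · exact cls_hclo_1762
  · exact cls_hclo_1763
  · exact cls_hclo_1764
  · exact cls_hclo_1765
  · exact cls_hclo_1766
  · exact cls_hclo_1767
  · exact cls_hclo_1768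
  · exact cls_hclo_1769
  · exact cls_hclo_1770
  · exact cls_hclo_1771
  · exact cls_hclo_1772
  · exact cls_hclo_1773
  · exact cls_hclo_1774
  · exact cls_hclo_1775
  · exact cls_hclo_1776
  · exact cls_hclo_1777
  · exact cls_hclo_1778
  · exact cls_hclo_1779
  · exact cls_hclo_1780
  · exact cls_hclo_1781
  · exact cls_hclo_1782
  · exact cls_hclo_1783
  · exact cls_hclo_1784
  · exact cls_hclo_1785
  · exact cls_hclo_1786
  · exact cls_hclo_1787
  · exact cls_hclo_1788
  · exact cls_hclo_1789
  · exact cls_hclo_1790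
  · exact cls_hclo_1791
  · exact cls_hclo_1792
  · exact cls_hclo_1793
  · exact cls_hclo_1794
  · exact cls_hclo_1795
  · exact cls_hclo_1796
  · exact cls_hclo_1797
  · exact cls_hclo_1798
  · exact cls_hclo_1799
  · exact cls_hclo_1800
  · exact cls_hclo_1801
  · exact cls_hclo_1802
  · exact cls_hclo_1803
  · exact cls_hclo_1804
  · exact cls_hclo_1805
  · exact cls_hclo_1806
  · exact cls_hclo_1807
  · exact cls_hclo_1808
  · exact cls_hclo_1809
  · exact cls_hclo_1810
  · exact cls_hclo_1811
  · exact cls_hclo_1812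
  · exact cls_hclo_1813
  · exact cls_hclo_1814
  · exact cls_hclo_1815
  · exact cls_hclo_1816
  · exact cls_hclo_1817
  · exact cls_hclo_1818
  · exact cls_hclo_1819
  · exact cls_hclo_1820
  · exact cls_hclo_1821
  · exact cls_hclo_1822
  · exact cls_hclo_1823
  · exact cls_hclo_1824
  · exact cls_hclo_1825
  · exact cls_hclo_1826
  · exact cls_hclo_1827
  · exact cls_hclo_1828
  · exact cls_hclo_1829
  · exact cls_hclo_1830
  · exact cls_hclo_1831
  · exact cls_hclo_1832
  · exact cls_hclo_1833
  · exact cls_hclo_1834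
  · exact cls_hclo_1835
  · exact cls_hclo_1836
  · exact cls_hclo_1837
  · exact cls_hclo_1838
  · exact cls_hclo_1839
  · exact cls_hclo_1840
  · exact cls_hclo_1841
  · exact cls_hclo_1842
  · exact cls_hclo_1843
  · exact cls_hclo_1844
  · exact cls_hclo_1845
  · exact cls_hclo_1846
  · exact cls_hclo_1847
  · exact cls_hclo_1848
  · exact cls_hclo_1849
  · exact cls_hclo_1850
  · exact cls_hclo_1851
  · exact cls_hclo_1852
  · exact cls_hclo_1853
  · exact cls_hclo_1854
  · exact cls_hclo_1855
  · exact cls_hclo_1856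
  · exact cls_hclo_1857
  · exact cls_hclo_1858
  · exact cls_hclo_1859
  · exact cls_hclo_1860
  · exact cls_hclo_1861
  · exact cls_hclo_1862
  · exact cls_hclo_1863
  · exact cls_hclo_1864
  · exact cls_hclo_1865
  · exact cls_hclo_1866
  · exact cls_hclo_1867
  · exact cls_hclo_1868
  · exact cls_hclo_1869
  · exact cls_hclo_1870
  · exact cls_hclo_1871
  · exact cls_hclo_1872
  · exact cls_hclo_1873
  · exact cls_hclo_1874
  · exact cls_hclo_1875
  · exact cls_hclo_1876
  · exact cls_hclo_1877
  · exact cls_hclo_1878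
  · exact cls_hclo_1879
  · exact cls_hclo_1880
  · exact cls_hclo_1881
  · exact cls_hclo_1882
  · exact cls_hclo_1883
  · exact cls_hclo_1884
  · exact cls_hclo_1885
  · exact cls_hclo_1886
  · exact cls_hclo_1887
  · exact cls_hclo_1888
  · exact cls_hclo_1889
  · exact cls_hclo_1890
  · exact cls_hclo_1891
  · exact cls_hclo_1892
  · exact cls_hclo_1893
  · exact cls_hclo_1894
  · exact cls_hclo_1895
  · exact cls_hclo_1896
  · exact cls_hclo_1897
  · exact cls_hclo_1898
  · exact cls_hclo_1899
  · exact cls_hclo_1900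
  · exact cls_hclo_1901
  · exact cls_hclo_1902
  · exact cls_hclo_1903
  · exact cls_hclo_1904
  · exact cls_hclo_1905
  · exact cls_hclo_1906
  · exact cls_hclo_1907
  · exact cls_hclo_1908
  · exact cls_hclo_1909
  · exact cls_hclo_1910
  · exact cls_hclo_1911
  · exact cls_hclo_1912
  · exact cls_hclo_1913
  · exact cls_hclo_1914
  · exact cls_hclo_1915
  · exact cls_hclo_1916
  · exact cls_hclo_1917
  · exact cls_hclo_1918
  · exact cls_hclo_1919
  · exact cls_hclo_1920
  · exact cls_hclo_1921
  · exact cls_hclo_1922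
  · exact cls_hclo_1923
  · exact cls_hclo_1924
  · exact cls_hclo_1925
  · exact cls_hclo_1926
  · exact cls_hclo_1927
  · exact cls_hclo_1928
  · exact cls_hclo_1929
  · exact cls_hclo_1930
  · exact cls_hclo_1931
  · exact cls_hclo_1932
  · exact cls_hclo_1933
  · exact cls_hclo_1934
  · exact cls_hclo_1935
  · exact cls_hclo_1936
  · exact cls_hclo_1937
  · exact cls_hclo_1938
  · exact cls_hclo_1939
  · exact cls_hclo_1940
  · exact cls_hclo_1941
  · exact cls_hclo_1942
  · exact cls_hclo_1943
  · exact cls_hclo_1944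
  · exact cls_hclo_1945
  · exact cls_hclo_1946
  · exact cls_hclo_1947
  · exact cls_hclo_1948
  · exact cls_hclo_1949
  · exact cls_hclo_1950
  · exact cls_hclo_1951
  · exact cls_hclo_1952
  · exact cls_hclo_1953
  · exact cls_hclo_1954
  · exact cls_hclo_1955
  · exact cls_hclo_1956
  · exact cls_hclo_1957
  · exact cls_hclo_1958
  · exact cls_hclo_1959
  · exact cls_hclo_1960
  · exact cls_hclo_1961
  · exact cls_hclo_1962
  · exact cls_hclo_1963
  · exact cls_hclo_1964
  · exact cls_hclo_1965
  · exact cls_hclo_1966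
  · exact cls_hclo_1967
  · exact cls_hclo_1968
  · exact cls_hclo_1969
  · exact cls_hclo_1970
  · exact cls_hclo_1971
  · exact cls_hclo_1972
  · exact cls_hclo_1973
  · exact cls_hclo_1974
  · exact cls_hclo_1975
  · exact cls_hclo_1976
  · exact cls_hclo_1977
  · exact cls_hclo_1978
  · exact cls_hclo_1979
  · exact cls_hclo_1980
  · exact cls_hclo_1981
  · exact cls_hclo_1982
  · exact cls_hclo_1983
  · exact cls_hclo_1984
  · exact cls_hclo_1985
  · exact cls_hclo_1986
  · exact cls_hclo_1987
  · exact cls_hclo_1988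
  · exact cls_hclo_1989
  · exact cls_hclo_1990
  · exact cls_hclo_1991
  · exact cls_hclo_1992
  · exact cls_hclo_1993
  · exact cls_hclo_1994
  · exact cls_hclo_1995
  · exact cls_hclo_1996
  · exact cls_hclo_1997
  · exact cls_hclo_1998
  · exact cls_hclo_1999
  · exact cls_hclo_2000
  · exact cls_hclo_2001
  · exact cls_hclo_2002
  · exact cls_hclo_2003
  · exact cls_hclo_2004
  · exact cls_hclo_2005
  · exact cls_hclo_2006
  · exact cls_hclo_2007
  · exact cls_hclo_2008
  · exact cls_hclo_2009
  · exact cls_hclo_2010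
  · exact cls_hclo_2011
  · exact cls_hclo_2012
  · exact cls_hclo_2013
  · exact cls_hclo_2014
  · exact cls_hclo_2015
  · exact cls_hclo_2016
  · exact cls_hclo_2017
  · exact cls_hclo_2018
  · exact cls_hclo_2019
  · exact cls_hclo_2020
  · exact cls_hclo_2021
  · exact cls_hclo_2022
  · exact cls_hclo_2023
  · exact cls_hclo_2024
  · exact cls_hclo_2025
  · exact cls_hclo_2026
  · exact cls_hclo_2027
  · exact cls_hclo_2028
  · exact cls_hclo_2029
  · exact cls_hclo_2030
  · exact cls_hclo_2031
  · exact cls_hclo_2032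
  · exact cls_hclo_2033
  · exact cls_hclo_2034
  · exact cls_hclo_2035
  · exact cls_hclo_2036
  · exact cls_hclo_2037
  · exact cls_hclo_2038
  · exact cls_hclo_2039
  · exact cls_hclo_2040
  · exact cls_hclo_2041
  · exact cls_hclo_2042
  · exact cls_hclo_2043
  · exact cls_hclo_2044
  · exact cls_hclo_2045
  · exact cls_hclo_2046
  · exact cls_hclo_2047
  · exact cls_hclo_2048
  · exact cls_hclo_2049
  · exact cls_hclo_2050
  · exact cls_hclo_2051
  · exact cls_hclo_2052
  · exact cls_hclo_2053
  · exact cls_hclo_2054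
  · exact cls_hclo_2055
  · exact cls_hclo_2056
  · exact cls_hclo_2057
  · exact cls_hclo_2058
  · exact cls_hclo_2059
  · exact cls_hclo_2060
  · exact cls_hclo_2061
  · exact cls_hclo_2062
  · exact cls_hclo_2063
  · exact cls_hclo_2064
  · exact cls_hclo_2065
  · exact cls_hclo_2066
  · exact cls_hclo_2067
  · exact cls_hclo_2068
  · exact cls_hclo_2069
  · exact cls_hclo_2070
  · exact cls_hclo_2071
  · exact cls_hclo_2072
  · exact cls_hclo_2073
  · exact cls_hclo_2074
  · exact cls_hclo_2075
  · exact cls_hclo_2076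
  · exact cls_hclo_2077
  · exact cls_hclo_2078
  · exact cls_hclo_2079
  · exact cls_hclo_2080
  · exact cls_hclo_2081
  · exact cls_hclo_2082
  · exact cls_hclo_2083
  · exact cls_hclo_2084
  · exact cls_hclo_2085
  · exact cls_hclo_2086
  · exact cls_hclo_2087
  · exact cls_hclo_2088
  · exact cls_hclo_2089
  · exact cls_hclo_2090
  · exact cls_hclo_2091
  · exact cls_hclo_2092
  · exact cls_hclo_2093
  · exact cls_hclo_2094
  · exact cls_hclo_2095
  · exact cls_hclo_2096
  · exact cls_hclo_2097
  · exact cls_hclo_2098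
  · exact cls_hclo_2099
  · exact cls_hclo_2100
  · exact cls_hclo_2101
  · exact cls_hclo_2102
  · exact cls_hclo_2103
  · exact cls_hclo_2104
  · exact cls_hclo_2105
  · exact cls_hclo_2106
  · exact cls_hclo_2107
  · exact cls_hclo_2108
  · exact cls_hclo_2109
  · exact cls_hclo_2110
  · exact cls_hclo_2111
  · exact cls_hclo_2112
  · exact cls_hclo_2113
  · exact cls_hclo_2114
  · exact cls_hclo_2115
  · exact cls_hclo_2116
  · exact cls_hclo_2117
  · exact cls_hclo_2118
  · exact cls_hclo_2119
  · exact cls_hclo_2120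
  · exact cls_hclo_2121
  · exact cls_hclo_2122
  · exact cls_hclo_2123
  · exact cls_hclo_2124
  · exact cls_hclo_2125
  · exact cls_hclo_2126
  · exact cls_hclo_2127
  · exact cls_hclo_2128
  · exact cls_hclo_2129
  · exact cls_hclo_2130
  · exact cls_hclo_2131
  · exact cls_hclo_2132
  · exact cls_hclo_2133
  · exact cls_hclo_2134
  · exact cls_hclo_2135
  · exact cls_hclo_2136
  · exact cls_hclo_2137
  · exact cls_hclo_2138
  · exact cls_hclo_2139
  · exact cls_hclo_2140
  · exact cls_hclo_2141
  · exact cls_hclo_2142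
  · exact cls_hclo_2143
  · exact cls_hclo_2144
  · exact cls_hclo_2145
  · exact cls_hclo_2146
  · exact cls_hclo_2147
  · exact cls_hclo_2148
  · exact cls_hclo_2149
  · exact cls_hclo_2150
  · exact cls_hclo_2151
  · exact cls_hclo_2152
  · exact cls_hclo_2153
  · exact cls_hclo_2154
  · exact cls_hclo_2155
  · exact cls_hclo_2156
  · exact cls_hclo_2157
  · exact cls_hclo_2158
  · exact cls_hclo_2159
  · exact cls_hclo_2160
  · exact cls_hclo_2161
  · exact cls_hclo_2162
  · exact cls_hclo_2163
  · exact cls_hclo_2164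
  · exact cls_hclo_2165
  · exact cls_hclo_2166
  · exact cls_hclo_2167
  · exact cls_hclo_2168
  · exact cls_hclo_2169
  · exact cls_hclo_2170
  · exact cls_hclo_2171
  · exact cls_hclo_2172
  · exact cls_hclo_2173
  · exact cls_hclo_2174
  · exact cls_hclo_2175
  · exact cls_hclo_2176
  · exact cls_hclo_2177
  · exact cls_hclo_2178
  · exact cls_hclo_2179
  · exact cls_hclo_2180
  · exact cls_hclo_2181
  · exact cls_hclo_2182
  · exact cls_hclo_2183
  · exact cls_hclo_2184
  · exact cls_hclo_2185
  · exact cls_hclo_2186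
  · exact cls_hclo_2187
  · exact cls_hclo_2188
  · exact cls_hclo_2189
  · exact cls_hclo_2190
  · exact cls_hclo_2191
  · exact cls_hclo_2192
  · exact cls_hclo_2193
  · exact cls_hclo_2194
  · exact cls_hclo_2195
  · exact cls_hclo_2196
  · exact cls_hclo_2197
  · exact cls_hclo_2198
  · exact cls_hclo_2199
  · exact cls_hclo_2200
  · exact cls_hclo_2201
  · exact cls_hclo_2202
  · exact cls_hclo_2203
  · exact cls_hclo_2204
  · exact cls_hclo_2205
  · exact cls_hclo_2206
  · exact cls_hclo_2207
  · exact cls_hclo_2208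
  · exact cls_hclo_2209
  · exact cls_hclo_2210
  · exact cls_hclo_2211
  · exact cls_hclo_2212
  · exact cls_hclo_2213
  · exact cls_hclo_2214
  · exact cls_hclo_2215
  · exact cls_hclo_2216
  · exact cls_hclo_2217
  · exact cls_hclo_2218
  · exact cls_hclo_2219
  · exact cls_hclo_2220
  · exact cls_hclo_2221
  · exact cls_hclo_2222
  · exact cls_hclo_2223
  · exact cls_hclo_2224
  · exact cls_hclo_2225
  · exact cls_hclo_2226
  · exact cls_hclo_2227
  · exact cls_hclo_2228
  · exact cls_hclo_2229
  · exact cls_hclo_2230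
  · exact cls_hclo_2231
  · exact cls_hclo_2232
  · exact cls_hclo_2233
  · exact cls_hclo_2234
  · exact cls_hclo_2235
  · exact cls_hclo_2236
  · exact cls_hclo_2237
  · exact cls_hclo_2238
  · exact cls_hclo_2239
  · exact cls_hclo_2240
  · exact cls_hclo_2241
  · exact cls_hclo_2242
  · exact cls_hclo_2243
  · exact cls_hclo_2244
  · exact cls_hclo_2245
  · exact cls_hclo_2246
  · exact cls_hclo_2247
  · exact cls_hclo_2248
  · exact cls_hclo_2249
  · exact cls_hclo_2250
  · exact cls_hclo_2251
  · exact cls_hclo_2252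
  · exact cls_hclo_2253
  · exact cls_hclo_2254
  · exact cls_hclo_2255
  · exact cls_hclo_2256
  · exact cls_hclo_2257
  · exact cls_hclo_2258
  · exact cls_hclo_2259
  · exact cls_hclo_2260
  · exact cls_hclo_2261
  · exact cls_hclo_2262
  · exact cls_hclo_2263
  · exact cls_hclo_2264
  · exact cls_hclo_2265
  · exact cls_hclo_2266
  · exact cls_hclo_2267
  · exact cls_hclo_2268
  · exact cls_hclo_2269
  · exact cls_hclo_2270
  · exact cls_hclo_2271
  · exact cls_hclo_2272
  · exact cls_hclo_2273
  · exact cls_hclo_2274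
  · exact cls_hclo_2275
  · exact cls_hclo_2276
  · exact cls_hclo_2277
  · exact cls_hclo_2278
  · exact cls_hclo_2279
  · exact cls_hclo_2280
  · exact cls_hclo_2281
  · exact cls_hclo_2282
  · exact cls_hclo_2283
  · exact cls_hclo_2284
  · exact cls_hclo_2285
  · exact cls_hclo_2286
  · exact cls_hclo_2287
  · exact cls_hclo_2288
  · exact cls_hclo_2289
  · exact cls_hclo_2290
  · exact cls_hclo_2291
  · exact cls_hclo_2292
  · exact cls_hclo_2293
  · exact cls_hclo_2294
  · exact cls_hclo_2295
  · exact cls_hclo_2296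
  · exact cls_hclo_2297
  · exact cls_hclo_2298
  · exact cls_hclo_2299
  · exact cls_hclo_2300
  · exact cls_hclo_2301
  · exact cls_hclo_2302
  · exact cls_hclo_2303
  · exact cls_hclo_2304
  · exact cls_hclo_2305
  · exact cls_hclo_2306
  · exact cls_hclo_2307
  · exact cls_hclo_2308
  · exact cls_hclo_2309
  · exact cls_hclo_2310
  · exact cls_hclo_2311
  · exact cls_hclo_2312
  · exact cls_hclo_2313
  · exact cls_hclo_2314
  · exact cls_hclo_2315
  · exact cls_hclo_2316
  · exact cls_hclo_2317
  · exact cls_hclo_2318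
  · exact cls_hclo_2319
  · exact cls_hclo_2320
  · exact cls_hclo_2321
  · exact cls_hclo_2322
  · exact cls_hclo_2323
  · exact cls_hclo_2324
  · exact cls_hclo_2325
  · exact cls_hclo_2326
  · exact cls_hclo_2327
  · exact cls_hclo_2328
  · exact cls_hclo_2329
  · exact cls_hclo_2330
  · exact cls_hclo_2331
  · exact cls_hclo_2332
  · exact cls_hclo_2333
  · exact cls_hclo_2334
  · exact cls_hclo_2335
  · exact cls_hclo_2336
  · exact cls_hclo_2337
  · exact cls_hclo_2338
  · exact cls_hclo_2339
  · exact cls_hclo_2340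
  · exact cls_hclo_2341
  · exact cls_hclo_2342
  · exact cls_hclo_2343
  · exact cls_hclo_2344
  · exact cls_hclo_2345
  · exact cls_hclo_2346
  · exact cls_hclo_2347
  · exact cls_hclo_2348
  · exact cls_hclo_2349
  · exact cls_hclo_2350
  · exact cls_hclo_2351
  · exact cls_hclo_2352
  · exact cls_hclo_2353
  · exact cls_hclo_2354
  · exact cls_hclo_2355
  · exact cls_hclo_2356
  · exact cls_hclo_2357
  · exact cls_hclo_2358
  · exact cls_hclo_2359
  · exact cls_hclo_2360
  · exact cls_hclo_2361
  · exact cls_hclo_2362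
  · exact cls_hclo_2363
  · exact cls_hclo_2364
  · exact cls_hclo_2365
  · exact cls_hclo_2366
  · exact cls_hclo_2367
  · exact cls_hclo_2368
  · exact cls_hclo_2369
  · exact cls_hclo_2370
  · exact cls_hclo_2371
  · exact cls_hclo_2372
  · exact cls_hclo_2373
  · exact cls_hclo_2374
  · exact cls_hclo_2375
  · exact cls_hclo_2376
  · exact cls_hclo_2377
  · exact cls_hclo_2378
  · exact cls_hclo_2379
  · exact cls_hclo_2380
  · exact cls_hclo_2381
  · exact cls_hclo_2382
  · exact cls_hclo_2383
  · exact cls_hclo_2384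
  · exact cls_hclo_2385
  · exact cls_hclo_2386
  · exact cls_hclo_2387
  · exact cls_hclo_2388
  · exact cls_hclo_2389
  · exact cls_hclo_2390
  · exact cls_hclo_2391
  · exact cls_hclo_2392
  · exact cls_hclo_2393
  · exact cls_hclo_2394
  · exact cls_hclo_2395
  · exact cls_hclo_2396
  · exact cls_hclo_2397
  · exact cls_hclo_2398
  · exact cls_hclo_2399
  · exact cls_hclo_2400
  · exact cls_hclo_2401
  · exact cls_hclo_2402
  · exact cls_hclo_2403
  · exact cls_hclo_2404
  · exact cls_hclo_2405
  · exact cls_hclo_2406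
  · exact cls_hclo_2407
  · exact cls_hclo_2408
  · exact cls_hclo_2409
  · exact cls_hclo_2410
  · exact cls_hclo_2411
  · exact cls_hclo_2412
  · exact cls_hclo_2413
  · exact cls_hclo_2414
  · exact cls_hclo_2415
  · exact cls_hclo_2416
  · exact cls_hclo_2417
  · exact cls_hclo_2418
  · exact cls_hclo_2419
  · exact cls_hclo_2420
  · exact cls_hclo_2421
  · exact cls_hclo_2422
  · exact cls_hclo_2423
  · exact cls_hclo_2424
  · exact cls_hclo_2425
  · exact cls_hclo_2426
  · exact cls_hclo_2427
  · exact cls_hclo_2428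
  · exact cls_hclo_2429
  · exact cls_hclo_2430
  · exact cls_hclo_2431
  · exact cls_hclo_2432
  · exact cls_hclo_2433
  · exact cls_hclo_2434
  · exact cls_hclo_2435
  · exact cls_hclo_2436
  · exact cls_hclo_2437
  · exact cls_hclo_2438
  · exact cls_hclo_2439
  · exact cls_hclo_2440
  · exact cls_hclo_2441
  · exact cls_hclo_2442
  · exact cls_hclo_2443
  · exact cls_hclo_2444
  · exact cls_hclo_2445
  · exact cls_hclo_2446
  · exact cls_hclo_2447
  · exact cls_hclo_2448
  · exact cls_hclo_2449
  · exact cls_hclo_2450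
  · exact cls_hclo_2451
  · exact cls_hclo_2452
  · exact cls_hclo_2453
  · exact cls_hclo_2454
  · exact cls_hclo_2455
  · exact cls_hclo_2456
  · exact cls_hclo_2457
  · exact cls_hclo_2458
  · exact cls_hclo_2459
  · exact cls_hclo_2460
  · exact cls_hclo_2461
  · exact cls_hclo_2462
  · exact cls_hclo_2463
  · exact cls_hclo_2464
  · exact cls_hclo_2465
  · exact cls_hclo_2466
  · exact cls_hclo_2467
  · exact cls_hclo_2468
  · exact cls_hclo_2469
  · exact cls_hclo_2470
  · exact cls_hclo_2471
  · exact cls_hclo_2472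
  · exact cls_hclo_2473
  · exact cls_hclo_2474
  · exact cls_hclo_2475
  · exact cls_hclo_2476
  · exact cls_hclo_2477
  · exact cls_hclo_2478
  · exact cls_hclo_2479
  · exact cls_hclo_2480
  · exact cls_hclo_2481
  · exact cls_hclo_2482
  · exact cls_hclo_2483
  · exact cls_hclo_2484
  · exact cls_hclo_2485
  · exact cls_hclo_2486
  · exact cls_hclo_2487
  · exact cls_hclo_2488
  · exact cls_hclo_2489
  · exact cls_hclo_2490
  · exact cls_hclo_2491
  · exact cls_hclo_2492
  · exact cls_hclo_2493
  · exact cls_hclo_2494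
  · exact cls_hclo_2495
  · exact cls_hclo_2496
  · exact cls_hclo_2497
  · exact cls_hclo_2498
  · exact cls_hclo_2499
  · exact cls_hclo_2500
  · exact cls_hclo_2501
  · exact cls_hclo_2502
  · exact cls_hclo_2503
  · exact cls_hclo_2504
  · exact cls_hclo_2505
  · exact cls_hclo_2506
  · exact cls_hclo_2507
  · exact cls_hclo_2508
  · exact cls_hclo_2509
  · exact cls_hclo_2510
  · exact cls_hclo_2511
  · exact cls_hclo_2512
  · exact cls_hclo_2513
  · exact cls_hclo_2514
  · exact cls_hclo_2515
  · exact cls_hclo_2516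
  · exact cls_hclo_2517
  · exact cls_hclo_2518
  · exact cls_hclo_2519
  · exact cls_hclo_2520
  · exact cls_hclo_2521
  · exact cls_hclo_2522
  · exact cls_hclo_2523
  · exact cls_hclo_2524
  · exact cls_hclo_2525
  · exact cls_hclo_2526
  · exact cls_hclo_2527
  · exact cls_hclo_2528
  · exact cls_hclo_2529
  · exact cls_hclo_2530
  · exact cls_hclo_2531
  · exact cls_hclo_2532
  · exact cls_hclo_2533
  · exact cls_hclo_2534
  · exact cls_hclo_2535
  · exact cls_hclo_2536
  · exact cls_hclo_2537
  · exact cls_hclo_2538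
  · exact cls_hclo_2539
  · exact cls_hclo_2540
  · exact cls_hclo_2541
  · exact cls_hclo_2542
  · exact cls_hclo_2543
  · exact cls_hclo_2544
  · exact cls_hclo_2545
  · exact cls_hclo_2546
  · exact cls_hclo_2547
  · exact cls_hclo_2548
  · exact cls_hclo_2549
  · exact cls_hclo_2550
  · exact cls_hclo_2551
  · exact cls_hclo_2552
  · exact cls_hclo_2553
  · exact cls_hclo_2554
  · exact cls_hclo_2555
  · exact cls_hclo_2556
  · exact cls_hclo_2557
  · exact cls_hclo_2558
  · exact cls_hclo_2559
  · exact cls_hclo_2560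
  · exact cls_hclo_2561
  · exact cls_hclo_2562
  · exact cls_hclo_2563
  · exact cls_hclo_2564
  · exact cls_hclo_2565
  · exact cls_hclo_2566
  · exact cls_hclo_2567
  · exact cls_hclo_2568
  · exact cls_hclo_2569
  · exact cls_hclo_2570
  · exact cls_hclo_2571
  · exact cls_hclo_2572
  · exact cls_hclo_2573
  · exact cls_hclo_2574
  · exact cls_hclo_2575
  · exact cls_hclo_2576
  · exact cls_hclo_2577
  · exact cls_hclo_2578
  · exact cls_hclo_2579
  · exact cls_hclo_2580
  · exact cls_hclo_2581
  · exact cls_hclo_2582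
  · exact cls_hclo_2583
  · exact cls_hclo_2584
  · exact cls_hclo_2585
  · exact cls_hclo_2586
  · exact cls_hclo_2587
  · exact cls_hclo_2588
  · exact cls_hclo_2589
  · exact cls_hclo_2590
  · exact cls_hclo_2591
  · exact cls_hclo_2592
  · exact cls_hclo_2593
  · exact cls_hclo_2594
  · exact cls_hclo_2595
  · exact cls_hclo_2596
  · exact cls_hclo_2597
  · exact cls_hclo_2598
  · exact cls_hclo_2599
  · exact cls_hclo_2600
  · exact cls_hclo_2601
  · exact cls_hclo_2602
  · exact cls_hclo_2603
  · exact cls_hclo_2604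
  · exact cls_hclo_2605
  · exact cls_hclo_2606
  · exact cls_hclo_2607
  · exact cls_hclo_2608
  · exact cls_hclo_2609
  · exact cls_hclo_2610
  · exact cls_hclo_2611
  · exact cls_hclo_2612
  · exact cls_hclo_2613
  · exact cls_hclo_2614
  · exact cls_hclo_2615
  · exact cls_hclo_2616
  · exact cls_hclo_2617
  · exact cls_hclo_2618
  · exact cls_hclo_2619
  · exact cls_hclo_2620
  · exact cls_hclo_2621
  · exact cls_hclo_2622
  · exact cls_hclo_2623
  · exact cls_hclo_2624
  · exact cls_hclo_2625
  · exact cls_hclo_2626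
  · exact cls_hclo_2627
  · exact cls_hclo_2628
  · exact cls_hclo_2629
  · exact cls_hclo_2630
  · exact cls_hclo_2631
  · exact cls_hclo_2632
  · exact cls_hclo_2633
  · exact cls_hclo_2634
  · exact cls_hclo_2635
  · exact cls_hclo_2636
  · exact cls_hclo_2637
  · exact cls_hclo_2638
  · exact cls_hclo_2639
  · exact cls_hclo_2640
  · exact cls_hclo_2641
  · exact cls_hclo_2642
  · exact cls_hclo_2643
  · exact cls_hclo_2644
  · exact cls_hclo_2645
  · exact cls_hclo_2646
  · exact cls_hclo_2647
  · exact cls_hclo_2648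
  · exact cls_hclo_2649
  · exact cls_hclo_2650
  · exact cls_hclo_2651
  · exact cls_hclo_2652
  · exact cls_hclo_2653
  · exact cls_hclo_2654
  · exact cls_hclo_2655
  · exact cls_hclo_2656
  · exact cls_hclo_2657
  · exact cls_hclo_2658
  · exact cls_hclo_2659
  · exact cls_hclo_2660
  · exact cls_hclo_2661
  · exact cls_hclo_2662
  · exact cls_hclo_2663
  · exact cls_hclo_2664
  · exact cls_hclo_2665
  · exact cls_hclo_2666
  · exact cls_hclo_2667
  · exact cls_hclo_2668
  · exact cls_hclo_2669
  · exact cls_hclo_2670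
  · exact cls_hclo_2671
  · exact cls_hclo_2672
  · exact cls_hclo_2673
  · exact cls_hclo_2674
  · exact cls_hclo_2675
  · exact cls_hclo_2676
  · exact cls_hclo_2677
  · exact cls_hclo_2678
  · exact cls_hclo_2679
  · exact cls_hclo_2680
  · exact cls_hclo_2681
  · exact cls_hclo_2682
  · exact cls_hclo_2683
  · exact cls_hclo_2684
  · exact cls_hclo_2685
  · exact cls_hclo_2686
  · exact cls_hclo_2687
  · exact cls_hclo_2688
  · exact cls_hclo_2689
  · exact cls_hclo_2690
  · exact cls_hclo_2691
  · exact cls_hclo_2692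
  · exact cls_hclo_2693
  · exact cls_hclo_2694
  · exact cls_hclo_2695
  · exact cls_hclo_2696
  · exact cls_hclo_2697
  · exact cls_hclo_2698
  · exact cls_hclo_2699
  · exact cls_hclo_2700
  · exact cls_hclo_2701
  · exact cls_hclo_2702
  · exact cls_hclo_2703
  · exact cls_hclo_2704
  · exact cls_hclo_2705
  · exact cls_hclo_2706
  · exact cls_hclo_2707
  · exact cls_hclo_2708
  · exact cls_hclo_2709
  · exact cls_hclo_2710
  · exact cls_hclo_2711
  · exact cls_hclo_2712
  · exact cls_hclo_2713
  · exact cls_hclo_2714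
  · exact cls_hclo_2715
  · exact cls_hclo_2716
  · exact cls_hclo_2717
  · exact cls_hclo_2718
  · exact cls_hclo_2719
  · exact cls_hclo_2720
  · exact cls_hclo_2721
  · exact cls_hclo_2722
  · exact cls_hclo_2723
  · exact cls_hclo_2724
  · exact cls_hclo_2725
  · exact cls_hclo_2726
  · exact cls_hclo_2727
  · exact cls_hclo_2728
  · exact cls_hclo_2729
  · exact cls_hclo_2730
  · exact cls_hclo_2731
  · exact cls_hclo_2732
  · exact cls_hclo_2733
  · exact cls_hclo_2734
  · exact cls_hclo_2735
  · exact cls_hclo_2736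
  · exact cls_hclo_2737
  · exact cls_hclo_2738
  · exact cls_hclo_2739
  · exact cls_hclo_2740
  · exact cls_hclo_2741
  · exact cls_hclo_2742
  · exact cls_hclo_2743
  · exact cls_hclo_2744
  · exact cls_hclo_2745
  · exact cls_hclo_2746
  · exact cls_hclo_2747
  · exact cls_hclo_2748
  · exact cls_hclo_2749
  · exact cls_hclo_2750
  · exact cls_hclo_2751
  · exact cls_hclo_2752
  · exact cls_hclo_2753
  · exact cls_hclo_2754
  · exact cls_hclo_2755
  · exact cls_hclo_2756
  · exact cls_hclo_2757
  · exact cls_hclo_2758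
  · exact cls_hclo_2759
  · exact cls_hclo_2760
  · exact cls_hclo_2761
  · exact cls_hclo_2762
  · exact cls_hclo_2763
  · exact cls_hclo_2764
  · exact cls_hclo_2765
  · exact cls_hclo_2766
  · exact cls_hclo_2767
  · exact cls_hclo_2768
  · exact cls_hclo_2769
  · exact cls_hclo_2770
  · exact cls_hclo_2771
  · exact cls_hclo_2772
  · exact cls_hclo_2773
  · exact cls_hclo_2774
  · exact cls_hclo_2775
  · exact cls_hclo_2776
  · exact cls_hclo_2777
  · exact cls_hclo_2778
  · exact cls_hclo_2779
  · exact cls_hclo_2780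
  · exact cls_hclo_2781
  · exact cls_hclo_2782
  · exact cls_hclo_2783
  · exact cls_hclo_2784
  · exact cls_hclo_2785
  · exact cls_hclo_2786
  · exact cls_hclo_2787
  · exact cls_hclo_2788
  · exact cls_hclo_2789
  · exact cls_hclo_2790
  · exact cls_hclo_2791
  · exact cls_hclo_2792
  · exact cls_hclo_2793
  · exact cls_hclo_2794
  · exact cls_hclo_2795
  · exact cls_hclo_2796
  · exact cls_hclo_2797
  · exact cls_hclo_2798
  · exact cls_hclo_2799
  · exact cls_hclo_2800
  · exact cls_hclo_2801
  · exact cls_hclo_2802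
  · exact cls_hclo_2803
  · exact cls_hclo_2804
  · exact cls_hclo_2805
  · exact cls_hclo_2806
  · exact cls_hclo_2807
  · exact cls_hclo_2808
  · exact cls_hclo_2809
  · exact cls_hclo_2810
  · exact cls_hclo_2811
  · exact cls_hclo_2812
  · exact cls_hclo_2813
  · exact cls_hclo_2814
  · exact cls_hclo_2815
  · exact cls_hclo_2816
  · exact cls_hclo_2817
  · exact cls_hclo_2818
  · exact cls_hclo_2819
  · exact cls_hclo_2820
  · exact cls_hclo_2821
  · exact cls_hclo_2822
  · exact cls_hclo_2823
  · exact cls_hclo_2824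
  · exact cls_hclo_2825
  · exact cls_hclo_2826
  · exact cls_hclo_2827
  · exact cls_hclo_2828
  · exact cls_hclo_2829
  · exact cls_hclo_2830
  · exact cls_hclo_2831
  · exact cls_hclo_2832
  · exact cls_hclo_2833
  · exact cls_hclo_2834
  · exact cls_hclo_2835
  · exact cls_hclo_2836
  · exact cls_hclo_2837
  · exact cls_hclo_2838
  · exact cls_hclo_2839
  · exact cls_hclo_2840
  · exact cls_hclo_2841
  · exact cls_hclo_2842
  · exact cls_hclo_2843
  · exact cls_hclo_2844
  · exact cls_hclo_2845
  · exact cls_hclo_2846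
  · exact cls_hclo_2847
  · exact cls_hclo_2848
  · exact cls_hclo_2849
  · exact cls_hclo_2850
  · exact cls_hclo_2851
  · exact cls_hclo_2852
  · exact cls_hclo_2853
  · exact cls_hclo_2854
  · exact cls_hclo_2855
  · exact cls_hclo_2856
  · exact cls_hclo_2857
  · exact cls_hclo_2858
  · exact cls_hclo_2859
  · exact cls_hclo_2860
  · exact cls_hclo_2861
  · exact cls_hclo_2862
  · exact cls_hclo_2863
  · exact cls_hclo_2864
  · exact cls_hclo_2865
  · exact cls_hclo_2866
  · exact cls_hclo_2867
  · exact cls_hclo_2868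
  · exact cls_hclo_2869
  · exact cls_hclo_2870
  · exact cls_hclo_2871
  · exact cls_hclo_2872
  · exact cls_hclo_2873
  · exact cls_hclo_2874
  · exact cls_hclo_2875
  · exact cls_hclo_2876
  · exact cls_hclo_2877
  · exact cls_hclo_2878
  · exact cls_hclo_2879
  · exact cls_hclo_2880
  · exact cls_hclo_2881
  · exact cls_hclo_2882
  · exact cls_hclo_2883
  · exact cls_hclo_2884
  · exact cls_hclo_2885
  · exact cls_hclo_2886
  · exact cls_hclo_2887
  · exact cls_hclo_2888
  · exact cls_hclo_2889
  · exact cls_hclo_2890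
  · exact cls_hclo_2891
  · exact cls_hclo_2892
  · exact cls_hclo_2893
  · exact cls_hclo_2894
  · exact cls_hclo_2895
  · exact cls_hclo_2896
  · exact cls_hclo_2897
  · exact cls_hclo_2898
  · exact cls_hclo_2899
  · exact cls_hclo_2900
  · exact cls_hclo_2901
  · exact cls_hclo_2902
  · exact cls_hclo_2903
  · exact cls_hclo_2904
  · exact cls_hclo_2905
  · exact cls_hclo_2906
  · exact cls_hclo_2907
  · exact cls_hclo_2908
  · exact cls_hclo_2909
  · exact cls_hclo_2910
  · exact cls_hclo_2911
  · exact cls_hclo_2912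
  · exact cls_hclo_2913
  · exact cls_hclo_2914
  · exact cls_hclo_2915
  · exact cls_hclo_2916
  · exact cls_hclo_2917
  · exact cls_hclo_2918
  · exact cls_hclo_2919
  · exact cls_hclo_2920
  · exact cls_hclo_2921
  · exact cls_hclo_2922
  · exact cls_hclo_2923
  · exact cls_hclo_2924
  · exact cls_hclo_2925
  · exact cls_hclo_2926
  · exact cls_hclo_2927
  · exact cls_hclo_2928
  · exact cls_hclo_2929
  · exact cls_hclo_2930
  · exact cls_hclo_2931
  · exact cls_hclo_2932
  · exact cls_hclo_2933
  · exact cls_hclo_2934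
  · exact cls_hclo_2935
  · exact cls_hclo_2936
  · exact cls_hclo_2937
  · exact cls_hclo_2938
  · exact cls_hclo_2939
  · exact cls_hclo_2940
  · exact cls_hclo_2941
  · exact cls_hclo_2942
  · exact cls_hclo_2943
  · exact cls_hclo_2944
  · exact cls_hclo_2945
  · exact cls_hclo_2946
  · exact cls_hclo_2947
  · exact cls_hclo_2948
  · exact cls_hclo_2949
  · exact cls_hclo_2950
  · exact cls_hclo_2951
  · exact cls_hclo_2952
  · exact cls_hclo_2953
  · exact cls_hclo_2954
  · exact cls_hclo_2955
  · exact cls_hclo_2956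
  · exact cls_hclo_2957
  · exact cls_hclo_2958
  · exact cls_hclo_2959
  · exact cls_hclo_2960
  · exact cls_hclo_2961
  · exact cls_hclo_2962
  · exact cls_hclo_2963
  · exact cls_hclo_2964
  · exact cls_hclo_2965
  · exact cls_hclo_2966
  · exact cls_hclo_2967
  · exact cls_hclo_2968
  · exact cls_hclo_2969
  · exact cls_hclo_2970
  · exact cls_hclo_2971
  · exact cls_hclo_2972
  · exact cls_hclo_2973
  · exact cls_hclo_2974
  · exact cls_hclo_2975
  · exact cls_hclo_2976
  · exact cls_hclo_2977
  · exact cls_hclo_2978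
  · exact cls_hclo_2979
  · exact cls_hclo_2980
  · exact cls_hclo_2981
  · exact cls_hclo_2982
  · exact cls_hclo_2983
  · exact cls_hclo_2984
  · exact cls_hclo_2985
  · exact cls_hclo_2986
  · exact cls_hclo_2987
  · exact cls_hclo_2988
  · exact cls_hclo_2989
  · exact cls_hclo_2990
  · exact cls_hclo_2991
  · exact cls_hclo_2992
  · exact cls_hclo_2993
  · exact cls_hclo_2994
  · exact cls_hclo_2995
  · exact cls_hclo_2996
  · exact cls_hclo_2997
  · exact cls_hclo_2998
  · exact cls_hclo_2999
  · exact cls_hclo_3000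
  · exact cls_hclo_3001
  · exact cls_hclo_3002
  · exact cls_hclo_3003
  · exact cls_hclo_3004
  · exact cls_hclo_3005
  · exact cls_hclo_3006
  · exact cls_hclo_3007
  · exact cls_hclo_3008
  · exact cls_hclo_3009
  · exact cls_hclo_3010
  · exact cls_hclo_3011
  · exact cls_hclo_3012
  · exact cls_hclo_3013
  · exact cls_hclo_3014
  · exact cls_hclo_3015
  · exact cls_hclo_3016
  · exact cls_hclo_3017
  · exact cls_hclo_3018
  · exact cls_hclo_3019
  · exact cls_hclo_3020
  · exact cls_hclo_3021
  · exact cls_hclo_3022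
  · exact cls_hclo_3023
  · exact cls_hclo_3024
  · exact cls_hclo_3025
  · exact cls_hclo_3026
  · exact cls_hclo_3027
  · exact cls_hclo_3028
  · exact cls_hclo_3029
  · exact cls_hclo_3030
  · exact cls_hclo_3031
  · exact cls_hclo_3032
  · exact cls_hclo_3033
  · exact cls_hclo_3034
  · exact cls_hclo_3035
  · exact cls_hclo_3036
  · exact cls_hclo_3037
  · exact cls_hclo_3038
  · exact cls_hclo_3039
  · exact cls_hclo_3040
  · exact cls_hclo_3041
  · exact cls_hclo_3042
  · exact cls_hclo_3043
  · exact cls_hclo_3044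
  · exact cls_hclo_3045
  · exact cls_hclo_3046
  · exact cls_hclo_3047
  · exact cls_hclo_3048
  · exact cls_hclo_3049
  · exact cls_hclo_3050
  · exact cls_hclo_3051
  · exact cls_hclo_3052
  · exact cls_hclo_3053
  · exact cls_hclo_3054
  · exact cls_hclo_3055
  · exact cls_hclo_3056
  · exact cls_hclo_3057
  · exact cls_hclo_3058
  · exact cls_hclo_3059
  · exact cls_hclo_3060
  · exact cls_hclo_3061
  · exact cls_hclo_3062
  · exact cls_hclo_3063
  · exact cls_hclo_3064
  · exact cls_hclo_3065
  · exact cls_hclo_3066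
  · exact cls_hclo_3067
  · exact cls_hclo_3068
  · exact cls_hclo_3069
  · exact cls_hclo_3070
  · exact cls_hclo_3071
  · exact cls_hclo_3072
  · exact cls_hclo_3073
  · exact cls_hclo_3074
  · exact cls_hclo_3075
  · exact cls_hclo_3076
  · exact cls_hclo_3077
  · exact cls_hclo_3078
  · exact cls_hclo_3079
  · exact cls_hclo_3080
  · exact cls_hclo_3081
  · exact cls_hclo_3082
  · exact cls_hclo_3083
  · exact cls_hclo_3084
  · exact cls_hclo_3085
  · exact cls_hclo_3086
  · exact cls_hclo_3087
  · exact cls_hclo_3088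
  · exact cls_hclo_3089
  · exact cls_hclo_3090
  · exact cls_hclo_3091
  · exact cls_hclo_3092
  · exact cls_hclo_3093
  · exact cls_hclo_3094
  · exact cls_hclo_3095
  · exact cls_hclo_3096
  · exact cls_hclo_3097
  · exact cls_hclo_3098
  · exact cls_hclo_3099
  · exact cls_hclo_3100
  · exact cls_hclo_3101
  · exact cls_hclo_3102
  · exact cls_hclo_3103
  · exact cls_hclo_3104
  · exact cls_hclo_3105
  · exact cls_hclo_3106
  · exact cls_hclo_3107
  · exact cls_hclo_3108
  · exact cls_hclo_3109
  · exact cls_hclo_3110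
  · exact cls_hclo_3111
  · exact cls_hclo_3112
  · exact cls_hclo_3113
  · exact cls_hclo_3114
  · exact cls_hclo_3115
  · exact cls_hclo_3116
  · exact cls_hclo_3117
  · exact cls_hclo_3118
  · exact cls_hclo_3119
  · exact cls_hclo_3120
  · exact cls_hclo_3121
  · exact cls_hclo_3122
  · exact cls_hclo_3123
  · exact cls_hclo_3124
  · exact cls_hclo_3125
  · exact cls_hclo_3126
  · exact cls_hclo_3127
  · exact cls_hclo_3128
  · exact cls_hclo_3129
  · exact cls_hclo_3130
  · exact cls_hclo_3131
  · exact cls_hclo_3132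
  · exact cls_hclo_3133
  · exact cls_hclo_3134
  · exact cls_hclo_3135
  · exact cls_hclo_3136
  · exact cls_hclo_3137
  · exact cls_hclo_3138
  · exact cls_hclo_3139
  · exact cls_hclo_3140
  · exact cls_hclo_3141
  · exact cls_hclo_3142
  · exact cls_hclo_3143
  · exact cls_hclo_3144
  · exact cls_hclo_3145
  · exact cls_hclo_3146
  · exact cls_hclo_3147
  · exact cls_hclo_3148
  · exact cls_hclo_3149
  · exact cls_hclo_3150
  · exact cls_hclo_3151
  · exact cls_hclo_3152
  · exact cls_hclo_3153
  · exact cls_hclo_3154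
  · exact cls_hclo_3155
  · exact cls_hclo_3156
  · exact cls_hclo_3157
  · exact cls_hclo_3158
  · exact cls_hclo_3159
  · exact cls_hclo_3160
  · exact cls_hclo_3161
  · exact cls_hclo_3162
  · exact cls_hclo_3163
  · exact cls_hclo_3164
  · exact cls_hclo_3165
  · exact cls_hclo_3166
  · exact cls_hclo_3167
  · exact cls_hclo_3168
  · exact cls_hclo_3169
  · exact cls_hclo_3170
  · exact cls_hclo_3171
  · exact cls_hclo_3172
  · exact cls_hclo_3173
  · exact cls_hclo_3174
  · exact cls_hclo_3175
  · exact cls_hclo_3176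
  · exact cls_hclo_3177
  · exact cls_hclo_3178
  · exact cls_hclo_3179
  · exact cls_hclo_3180
  · exact cls_hclo_3181
  · exact cls_hclo_3182
  · exact cls_hclo_3183
  · exact cls_hclo_3184
  · exact cls_hclo_3185
  · exact cls_hclo_3186
  · exact cls_hclo_3187
  · exact cls_hclo_3188
  · exact cls_hclo_3189
  · exact cls_hclo_3190
  · exact cls_hclo_3191
  · exact cls_hclo_3192
  · exact cls_hclo_3193
  · exact cls_hclo_3194
  · exact cls_hclo_3195
  · exact cls_hclo_3196
  · exact cls_hclo_3197
  · exact cls_hclo_3198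
  · exact cls_hclo_3199
  · exact cls_hclo_3200
  · exact cls_hclo_3201
  · exact cls_hclo_3202
  · exact cls_hclo_3203
  · exact cls_hclo_3204
  · exact cls_hclo_3205
  · exact cls_hclo_3206
  · exact cls_hclo_3207
  · exact cls_hclo_3208
  · exact cls_hclo_3209
  · exact cls_hclo_3210
  · exact cls_hclo_3211
  · exact cls_hclo_3212
  · exact cls_hclo_3213
  · exact cls_hclo_3214
  · exact cls_hclo_3215
  · exact cls_hclo_3216
  · exact cls_hclo_3217
  · exact cls_hclo_3218
  · exact cls_hclo_3219
  · exact cls_hclo_3220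
  · exact cls_hclo_3221
  · exact cls_hclo_3222
  · exact cls_hclo_3223
  · exact cls_hclo_3224
  · exact cls_hclo_3225
  · exact cls_hclo_3226
  · exact cls_hclo_3227
  · exact cls_hclo_3228
  · exact cls_hclo_3229
  · exact cls_hclo_3230
  · exact cls_hclo_3231
  · exact cls_hclo_3232
  · exact cls_hclo_3233
  · exact cls_hclo_3234
  · exact cls_hclo_3235
  · exact cls_hclo_3236
  · exact cls_hclo_3237
  · exact cls_hclo_3238
  · exact cls_hclo_3239
  · exact cls_hclo_3240
  · exact cls_hclo_3241
  · exact cls_hclo_3242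
  · exact cls_hclo_3243
  · exact cls_hclo_3244
  · exact cls_hclo_3245
  · exact cls_hclo_3246
  · exact cls_hclo_3247
  · exact cls_hclo_3248
  · exact cls_hclo_3249
  · exact cls_hclo_3250
  · exact cls_hclo_3251
  · exact cls_hclo_3252
  · exact cls_hclo_3253
  · exact cls_hclo_3254
  · exact cls_hclo_3255
  · exact cls_hclo_3256
  · exact cls_hclo_3257
  · exact cls_hclo_3258
  · exact cls_hclo_3259
  · exact cls_hclo_3260
  · exact cls_hclo_3261
  · exact cls_hclo_3262
  · exact cls_hclo_3263
  · exact cls_hclo_3264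
  · exact cls_hclo_3265
  · exact cls_hclo_3266
  · exact cls_hclo_3267
  · exact cls_hclo_3268
  · exact cls_hclo_3269
  · exact cls_hclo_3270
  · exact cls_hclo_3271
  · exact cls_hclo_3272
  · exact cls_hclo_3273
  · exact cls_hclo_3274
  · exact cls_hclo_3275
  · exact cls_hclo_3276
  · exact cls_hclo_3277
  · exact cls_hclo_3278
  · exact cls_hclo_3279
  · exact cls_hclo_3280
  · exact cls_hclo_3281
  · exact cls_hclo_3282
  · exact cls_hclo_3283
  · exact cls_hclo_3284
  · exact cls_hclo_3285
  · exact cls_hclo_3286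
  · exact cls_hclo_3287
  · exact cls_hclo_3288
  · exact cls_hclo_3289
  · exact cls_hclo_3290
  · exact cls_hclo_3291
  · exact cls_hclo_3292
  · exact cls_hclo_3293
  · exact cls_hclo_3294
  · exact cls_hclo_3295
  · exact cls_hclo_3296
  · exact cls_hclo_3297
  · exact cls_hclo_3298
  · exact cls_hclo_3299
  · exact cls_hclo_3300
  · exact cls_hclo_3301
  · exact cls_hclo_3302
  · exact cls_hclo_3303
  · exact cls_hclo_3304
  · exact cls_hclo_3305
  · exact cls_hclo_3306
  · exact cls_hclo_3307
  · exact cls_hclo_3308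
  · exact cls_hclo_3309
  · exact cls_hclo_3310
  · exact cls_hclo_3311
  · exact cls_hclo_3312
  · exact cls_hclo_3313
  · exact cls_hclo_3314
  · exact cls_hclo_3315
  · exact cls_hclo_3316
  · exact cls_hclo_3317
  · exact cls_hclo_3318
  · exact cls_hclo_3319
  · exact cls_hclo_3320
  · exact cls_hclo_3321
  · exact cls_hclo_3322
  · exact cls_hclo_3323
  · exact cls_hclo_3324
  · exact cls_hclo_3325
  · exact cls_hclo_3326
  · exact cls_hclo_3327
  · exact cls_hclo_3328
  · exact cls_hclo_3329
  · exact cls_hclo_3330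
  · exact cls_hclo_3331
  · exact cls_hclo_3332
  · exact cls_hclo_3333
  · exact cls_hclo_3334
  · exact cls_hclo_3335
  · exact cls_hclo_3336
  · exact cls_hclo_3337
  · exact cls_hclo_3338
  · exact cls_hclo_3339
  · exact cls_hclo_3340
  · exact cls_hclo_3341
  · exact cls_hclo_3342
  · exact cls_hclo_3343
  · exact cls_hclo_3344
  · exact cls_hclo_3345
  · exact cls_hclo_3346
  · exact cls_hclo_3347
  · exact cls_hclo_3348
  · exact cls_hclo_3349
  · exact cls_hclo_3350
  · exact cls_hclo_3351
  · exact cls_hclo_3352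
  · exact cls_hclo_3353
  · exact cls_hclo_3354
  · exact cls_hclo_3355
  · exact cls_hclo_3356
  · exact cls_hclo_3357
  · exact cls_hclo_3358
  · exact cls_hclo_3359
  · exact cls_hclo_3360
  · exact cls_hclo_3361
  · exact cls_hclo_3362
  · exact cls_hclo_3363
  · exact cls_hclo_3364
  · exact cls_hclo_3365
  · exact cls_hclo_3366
  · exact cls_hclo_3367
  · exact cls_hclo_3368
  · exact cls_hclo_3369
  · exact cls_hclo_3370
  · exact cls_hclo_3371
  · exact cls_hclo_3372
  · exact cls_hclo_3373
  · exact cls_hclo_3374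
  · exact cls_hclo_3375
  · exact cls_hclo_3376
  · exact cls_hclo_3377
  · exact cls_hclo_3378
  · exact cls_hclo_3379
  · exact cls_hclo_3380
  · exact cls_hclo_3381
  · exact cls_hclo_3382
  · exact cls_hclo_3383
  · exact cls_hclo_3384
  · exact cls_hclo_3385
  · exact cls_hclo_3386
  · exact cls_hclo_3387
  · exact cls_hclo_3388
  · exact cls_hclo_3389
  · exact cls_hclo_3390
  · exact cls_hclo_3391
  · exact cls_hclo_3392
  · exact cls_hclo_3393
  · exact cls_hclo_3394
  · exact cls_hclo_3395
  · exact cls_hclo_3396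
  · exact cls_hclo_3397
  · exact cls_hclo_3398
  · exact cls_hclo_3399
  · exact cls_hclo_3400
  · exact cls_hclo_3401
  · exact cls_hclo_3402
  · exact cls_hclo_3403
  · exact cls_hclo_3404
  · exact cls_hclo_3405
  · exact cls_hclo_3406
  · exact cls_hclo_3407
  · exact cls_hclo_3408
  · exact cls_hclo_3409
  · exact cls_hclo_3410
  · exact cls_hclo_3411
  · exact cls_hclo_3412
  · exact cls_hclo_3413
  · exact cls_hclo_3414
  · exact cls_hclo_3415
  · exact cls_hclo_3416
  · exact cls_hclo_3417
  · exact cls_hclo_3418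
  · exact cls_hclo_3419
  · exact cls_hclo_3420
  · exact cls_hclo_3421
  · exact cls_hclo_3422
  · exact cls_hclo_3423
  · exact cls_hclo_3424
  · exact cls_hclo_3425
  · exact cls_hclo_3426
  · exact cls_hclo_3427
  · exact cls_hclo_3428
  · exact cls_hclo_3429
  · exact cls_hclo_3430
  · exact cls_hclo_3431
  · exact cls_hclo_3432
  · exact cls_hclo_3433
  · exact cls_hclo_3434
  · exact cls_hclo_3435
  · exact cls_hclo_3436
  · exact cls_hclo_3437
  · exact cls_hclo_3438
  · exact cls_hclo_3439
  · exact cls_hclo_3440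
  · exact cls_hclo_3441
  · exact cls_hclo_3442
  · exact cls_hclo_3443
  · exact cls_hclo_3444
  · exact cls_hclo_3445
  · exact cls_hclo_3446
  · exact cls_hclo_3447
  · exact cls_hclo_3448
  · exact cls_hclo_3449
  · exact cls_hclo_3450
  · exact cls_hclo_3451
  · exact cls_hclo_3452
  · exact cls_hclo_3453
  · exact cls_hclo_3454
  · exact cls_hclo_3455
  · exact cls_hclo_3456
  · exact cls_hclo_3457
  · exact cls_hclo_3458
  · exact cls_hclo_3459
  · exact cls_hclo_3460
  · exact cls_hclo_3461
  · exact cls_hclo_3462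
  · exact cls_hclo_3463
  · exact cls_hclo_3464
  · exact cls_hclo_3465
  · exact cls_hclo_3466
  · exact cls_hclo_3467
  · exact cls_hclo_3468
  · exact cls_hclo_3469
  · exact cls_hclo_3470
  · exact cls_hclo_3471
  · exact cls_hclo_3472
  · exact cls_hclo_3473
  · exact cls_hclo_3474
  · exact cls_hclo_3475
  · exact cls_hclo_3476
  · exact cls_hclo_3477
  · exact cls_hclo_3478
  · exact cls_hclo_3479
  · exact cls_hclo_3480
  · exact cls_hclo_3481
  · exact cls_hclo_3482
  · exact cls_hclo_3483
  · exact cls_hclo_3484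
  · exact cls_hclo_3485
  · exact cls_hclo_3486
  · exact cls_hclo_3487
  · exact cls_hclo_3488
  · exact cls_hclo_3489
  · exact cls_hclo_3490
  · exact cls_hclo_3491
  · exact cls_hclo_3492
  · exact cls_hclo_3493
  · exact cls_hclo_3494
  · exact cls_hclo_3495
  · exact cls_hclo_3496
  · exact cls_hclo_3497
  · exact cls_hclo_3498
  · exact cls_hclo_3499
  · exact cls_hclo_3500
  · exact cls_hclo_3501
  · exact cls_hclo_3502
  · exact cls_hclo_3503
  · exact cls_hclo_3504
  · exact cls_hclo_3505
  · exact cls_hclo_3506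
  · exact cls_hclo_3507
  · exact cls_hclo_3508
  · exact cls_hclo_3509
  · exact cls_hclo_3510
  · exact cls_hclo_3511
  · exact cls_hclo_3512
  · exact cls_hclo_3513
  · exact cls_hclo_3514
  · exact cls_hclo_3515
  · exact cls_hclo_3516
  · exact cls_hclo_3517
  · exact cls_hclo_3518
  · exact cls_hclo_3519
  · exact cls_hclo_3520
  · exact cls_hclo_3521
  · exact cls_hclo_3522
  · exact cls_hclo_3523
  · exact cls_hclo_3524
  · exact cls_hclo_3525
  · exact cls_hclo_3526
  · exact cls_hclo_3527
  · exact cls_hclo_3528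
  · exact cls_hclo_3529
  · exact cls_hclo_3530
  · exact cls_hclo_3531
  · exact cls_hclo_3532
  · exact cls_hclo_3533
  · exact cls_hclo_3534
  · exact cls_hclo_3535
  · exact cls_hclo_3536
  · exact cls_hclo_3537
  · exact cls_hclo_3538
  · exact cls_hclo_3539
  · exact cls_hclo_3540
  · exact cls_hclo_3541
  · exact cls_hclo_3542
  · exact cls_hclo_3543
  · exact cls_hclo_3544
  · exact cls_hclo_3545
  · exact cls_hclo_3546
  · exact cls_hclo_3547
  · exact cls_hclo_3548
  · exact cls_hclo_3549
  · exact cls_hclo_3550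
  · exact cls_hclo_3551
  · exact cls_hclo_3552
  · exact cls_hclo_3553
  · exact cls_hclo_3554
  · exact cls_hclo_3555
  · exact cls_hclo_3556
  · exact cls_hclo_3557
  · exact cls_hclo_3558
  · exact cls_hclo_3559
  · exact cls_hclo_3560
  · exact cls_hclo_3561
  · exact cls_hclo_3562
  · exact cls_hclo_3563
  · exact cls_hclo_3564
  · exact cls_hclo_3565
  · exact cls_hclo_3566
  · exact cls_hclo_3567
  · exact cls_hclo_3568
  · exact cls_hclo_3569
  · exact cls_hclo_3570
  · exact cls_hclo_3571
  · exact cls_hclo_3572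
  · exact cls_hclo_3573
  · exact cls_hclo_3574
  · exact cls_hclo_3575
  · exact cls_hclo_3576
  · exact cls_hclo_3577
  · exact cls_hclo_3578
  · exact cls_hclo_3579
  · exact cls_hclo_3580
  · exact cls_hclo_3581
  · exact cls_hclo_3582
  · exact cls_hclo_3583
  · exact cls_hclo_3584
  · exact cls_hclo_3585
  · exact cls_hclo_3586
  · exact cls_hclo_3587
  · exact cls_hclo_3588
  · exact cls_hclo_3589
  · exact cls_hclo_3590
  · exact cls_hclo_3591
  · exact cls_hclo_3592
  · exact cls_hclo_3593
  · exact cls_hclo_3594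
  · exact cls_hclo_3595
  · exact cls_hclo_3596
  · exact cls_hclo_3597
  · exact cls_hclo_3598
  · exact cls_hclo_3599
  · exact cls_hclo_3600
  · exact cls_hclo_3601
  · exact cls_hclo_3602
  · exact cls_hclo_3603
  · exact cls_hclo_3604
  · exact cls_hclo_3605
  · exact cls_hclo_3606
  · exact cls_hclo_3607
  · exact cls_hclo_3608
  · exact cls_hclo_3609
  · exact cls_hclo_3610
  · exact cls_hclo_3611
  · exact cls_hclo_3612
  · exact cls_hclo_3613
  · exact cls_hclo_3614
  · exact cls_hclo_3615
  · exact cls_hclo_3616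
  · exact cls_hclo_3617
  · exact cls_hclo_3618
  · exact cls_hclo_3619
  · exact cls_hclo_3620
  · exact cls_hclo_3621
  · exact cls_hclo_3622
  · exact cls_hclo_3623
  · exact cls_hclo_3624
  · exact cls_hclo_3625
  · exact cls_hclo_3626
  · exact cls_hclo_3627
  · exact cls_hclo_3628
  · exact cls_hclo_3629
  · exact cls_hclo_3630
  · exact cls_hclo_3631
  · exact cls_hclo_3632
  · exact cls_hclo_3633
  · exact cls_hclo_3634
  · exact cls_hclo_3635
  · exact cls_hclo_3636
  · exact cls_hclo_3637
  · exact cls_hclo_3638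
  · exact cls_hclo_3639
  · exact cls_hclo_3640
  · exact cls_hclo_3641
  · exact cls_hclo_3642
  · exact cls_hclo_3643
  · exact cls_hclo_3644
  · exact cls_hclo_3645
  · exact cls_hclo_3646
  · exact cls_hclo_3647
  · exact cls_hclo_3648
  · exact cls_hclo_3649
  · exact cls_hclo_3650
  · exact cls_hclo_3651
  · exact cls_hclo_3652
  · exact cls_hclo_3653
  · exact cls_hclo_3654
  · exact cls_hclo_3655
  · exact cls_hclo_3656
  · exact cls_hclo_3657
  · exact cls_hclo_3658
  · exact cls_hclo_3659
  · exact cls_hclo_3660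
  · exact cls_hclo_3661
  · exact cls_hclo_3662
  · exact cls_hclo_3663
  · exact cls_hclo_3664
  · exact cls_hclo_3665
  · exact cls_hclo_3666
  · exact cls_hclo_3667
  · exact cls_hclo_3668
  · exact cls_hclo_3669
  · exact cls_hclo_3670
  · exact cls_hclo_3671
  · exact cls_hclo_3672
  · exact cls_hclo_3673
  · exact cls_hclo_3674
  · exact cls_hclo_3675
  · exact cls_hclo_3676
  · exact cls_hclo_3677
  · exact cls_hclo_3678
  · exact cls_hclo_3679
  · exact cls_hclo_3680
  · exact cls_hclo_3681
  · exact cls_hclo_3682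
  · exact cls_hclo_3683
  · exact cls_hclo_3684
  · exact cls_hclo_3685
  · exact cls_hclo_3686
  · exact cls_hclo_3687
  · exact cls_hclo_3688
  · exact cls_hclo_3689
  · exact cls_hclo_3690
  · exact cls_hclo_3691
  · exact cls_hclo_3692
  · exact cls_hclo_3693
  · exact cls_hclo_3694
  · exact cls_hclo_3695
  · exact cls_hclo_3696
  · exact cls_hclo_3697
  · exact cls_hclo_3698
  · exact cls_hclo_3699
  · exact cls_hclo_3700
  · exact cls_hclo_3701
  · exact cls_hclo_3702
  · exact cls_hclo_3703
  · exact cls_hclo_3704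
  · exact cls_hclo_3705
  · exact cls_hclo_3706
  · exact cls_hclo_3707
  · exact cls_hclo_3708
  · exact cls_hclo_3709
  · exact cls_hclo_3710
  · exact cls_hclo_3711
  · exact cls_hclo_3712
  · exact cls_hclo_3713
  · exact cls_hclo_3714
  · exact cls_hclo_3715
  · exact cls_hclo_3716
  · exact cls_hclo_3717
  · exact cls_hclo_3718
  · exact cls_hclo_3719
  · exact cls_hclo_3720
  · exact cls_hclo_3721
  · exact cls_hclo_3722
  · exact cls_hclo_3723
  · exact cls_hclo_3724
  · exact cls_hclo_3725
  · exact cls_hclo_3726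
  · exact cls_hclo_3727
  · exact cls_hclo_3728
  · exact cls_hclo_3729
  · exact cls_hclo_3730
  · exact cls_hclo_3731
  · exact cls_hclo_3732
  · exact cls_hclo_3733
  · exact cls_hclo_3734
  · exact cls_hclo_3735
  · exact cls_hclo_3736
  · exact cls_hclo_3737
  · exact cls_hclo_3738
  · exact cls_hclo_3739
  · exact cls_hclo_3740
  · exact cls_hclo_3741
  · exact cls_hclo_3742
  · exact cls_hclo_3743
  · exact cls_hclo_3744
  · exact cls_hclo_3745
  · exact cls_hclo_3746
  · exact cls_hclo_3747
  · exact cls_hclo_3748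
  · exact cls_hclo_3749
  · exact cls_hclo_3750
  · exact cls_hclo_3751
  · exact cls_hclo_3752
  · exact cls_hclo_3753
  · exact cls_hclo_3754
  · exact cls_hclo_3755
  · exact cls_hclo_3756
  · exact cls_hclo_3757
  · exact cls_hclo_3758
  · exact cls_hclo_3759
  · exact cls_hclo_3760
  · exact cls_hclo_3761
  · exact cls_hclo_3762
  · exact cls_hclo_3763
  · exact cls_hclo_3764
  · exact cls_hclo_3765
  · exact cls_hclo_3766
  · exact cls_hclo_3767
  · exact cls_hclo_3768
  · exact cls_hclo_3769
  · exact cls_hclo_3770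
  · exact cls_hclo_3771
  · exact cls_hclo_3772
  · exact cls_hclo_3773
  · exact cls_hclo_3774
  · exact cls_hclo_3775
  · exact cls_hclo_3776
  · exact cls_hclo_3777
  · exact cls_hclo_3778
  · exact cls_hclo_3779
  · exact cls_hclo_3780
  · exact cls_hclo_3781
  · exact cls_hclo_3782
  · exact cls_hclo_3783
  · exact cls_hclo_3784
  · exact cls_hclo_3785
  · exact cls_hclo_3786
  · exact cls_hclo_3787
  · exact cls_hclo_3788
  · exact cls_hclo_3789
  · exact cls_hclo_3790
  · exact cls_hclo_3791
  · exact cls_hclo_3792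
  · exact cls_hclo_3793
  · exact cls_hclo_3794
  · exact cls_hclo_3795
  · exact cls_hclo_3796
  · exact cls_hclo_3797
  · exact cls_hclo_3798
  · exact cls_hclo_3799
  · exact cls_hclo_3800
  · exact cls_hclo_3801
  · exact cls_hclo_3802
  · exact cls_hclo_3803
  · exact cls_hclo_3804
  · exact cls_hclo_3805
  · exact cls_hclo_3806
  · exact cls_hclo_3807
  · exact cls_hclo_3808
  · exact cls_hclo_3809
  · exact cls_hclo_3810
  · exact cls_hclo_3811
  · exact cls_hclo_3812
  · exact cls_hclo_3813
  · exact cls_hclo_3814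
  · exact cls_hclo_3815
  · exact cls_hclo_3816
  · exact cls_hclo_3817
  · exact cls_hclo_3818
  · exact cls_hclo_3819
  · exact cls_hclo_3820
  · exact cls_hclo_3821
  · exact cls_hclo_3822
  · exact cls_hclo_3823
  · exact cls_hclo_3824
  · exact cls_hclo_3825
  · exact cls_hclo_3826
  · exact cls_hclo_3827
  · exact cls_hclo_3828
  · exact cls_hclo_3829
  · exact cls_hclo_3830
  · exact cls_hclo_3831
  · exact cls_hclo_3832
  · exact cls_hclo_3833
  · exact cls_hclo_3834
  · exact cls_hclo_3835
  · exact cls_hclo_3836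
  · exact cls_hclo_3837
  · exact cls_hclo_3838
  · exact cls_hclo_3839
  · exact cls_hclo_3840
  · exact cls_hclo_3841
  · exact cls_hclo_3842
  · exact cls_hclo_3843
  · exact cls_hclo_3844
  · exact cls_hclo_3845
  · exact cls_hclo_3846
  · exact cls_hclo_3847
  · exact cls_hclo_3848
  · exact cls_hclo_3849
  · exact cls_hclo_3850
  · exact cls_hclo_3851
  · exact cls_hclo_3852
  · exact cls_hclo_3853
  · exact cls_hclo_3854
  · exact cls_hclo_3855
  · exact cls_hclo_3856
  · exact cls_hclo_3857
  · exact cls_hclo_3858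
  · exact cls_hclo_3859
  · exact cls_hclo_3860
  · exact cls_hclo_3861
  · exact cls_hclo_3862
  · exact cls_hclo_3863
  · exact cls_hclo_3864
  · exact cls_hclo_3865
  · exact cls_hclo_3866
  · exact cls_hclo_3867
  · exact cls_hclo_3868
  · exact cls_hclo_3869
  · exact cls_hclo_3870
  · exact cls_hclo_3871
  · exact cls_hclo_3872
  · exact cls_hclo_3873
  · exact cls_hclo_3874
  · exact cls_hclo_3875
  · exact cls_hclo_3876
  · exact cls_hclo_3877
  · exact cls_hclo_3878
  · exact cls_hclo_3879
  · exact cls_hclo_3880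
  · exact cls_hclo_3881
  · exact cls_hclo_3882
  · exact cls_hclo_3883
  · exact cls_hclo_3884
  · exact cls_hclo_3885
  · exact cls_hclo_3886
  · exact cls_hclo_3887
  · exact cls_hclo_3888
  · exact cls_hclo_3889
  · exact cls_hclo_3890
  · exact cls_hclo_3891
  · exact cls_hclo_3892
  · exact cls_hclo_3893
  · exact cls_hclo_3894
  · exact cls_hclo_3895
  · exact cls_hclo_3896
  · exact cls_hclo_3897
  · exact cls_hclo_3898
  · exact cls_hclo_3899
  · exact cls_hclo_3900
  · exact cls_hclo_3901
  · exact cls_hclo_3902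
  · exact cls_hclo_3903
  · exact cls_hclo_3904
  · exact cls_hclo_3905
  · exact cls_hclo_3906
  · exact cls_hclo_3907
  · exact cls_hclo_3908
  · exact cls_hclo_3909
  · exact cls_hclo_3910
  · exact cls_hclo_3911
  · exact cls_hclo_3912
  · exact cls_hclo_3913
  · exact cls_hclo_3914
  · exact cls_hclo_3915
  · exact cls_hclo_3916
  · exact cls_hclo_3917
  · exact cls_hclo_3918
  · exact cls_hclo_3919
  · exact cls_hclo_3920
  · exact cls_hclo_3921
  · exact cls_hclo_3922
  · exact cls_hclo_3923
  · exact cls_hclo_3924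
  · exact cls_hclo_3925
  · exact cls_hclo_3926
  · exact cls_hclo_3927
  · exact cls_hclo_3928
  · exact cls_hclo_3929
  · exact cls_hclo_3930
  · exact cls_hclo_3931
  · exact cls_hclo_3932
  · exact cls_hclo_3933
  · exact cls_hclo_3934
  · exact cls_hclo_3935
  · exact cls_hclo_3936
  · exact cls_hclo_3937
  · exact cls_hclo_3938
  · exact cls_hclo_3939
  · exact cls_hclo_3940
  · exact cls_hclo_3941
  · exact cls_hclo_3942
  · exact cls_hclo_3943
  · exact cls_hclo_3944
  · exact cls_hclo_3945
  · exact cls_hclo_3946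
  · exact cls_hclo_3947
  · exact cls_hclo_3948
  · exact cls_hclo_3949
  · exact cls_hclo_3950
  · exact cls_hclo_3951
  · exact cls_hclo_3952
  · exact cls_hclo_3953
  · exact cls_hclo_3954
  · exact cls_hclo_3955
  · exact cls_hclo_3956
  · exact cls_hclo_3957
  · exact cls_hclo_3958
  · exact cls_hclo_3959
  · exact cls_hclo_3960
  · exact cls_hclo_3961
  · exact cls_hclo_3962
  · exact cls_hclo_3963
  · exact cls_hclo_3964
  · exact cls_hclo_3965
  · exact cls_hclo_3966
  · exact cls_hclo_3967
  · exact cls_hclo_3968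
  · exact cls_hclo_3969
  · exact cls_hclo_3970
  · exact cls_hclo_3971
  · exact cls_hclo_3972
  · exact cls_hclo_3973
  · exact cls_hclo_3974
  · exact cls_hclo_3975
  · exact cls_hclo_3976
  · exact cls_hclo_3977
  · exact cls_hclo_3978
  · exact cls_hclo_3979
  · exact cls_hclo_3980
  · exact cls_hclo_3981
  · exact cls_hclo_3982
  · exact cls_hclo_3983
  · exact cls_hclo_3984
  · exact cls_hclo_3985
  · exact cls_hclo_3986
  · exact cls_hclo_3987
  · exact cls_hclo_3988
  · exact cls_hclo_3989
  · exact cls_hclo_3990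
  · exact cls_hclo_3991
  · exact cls_hclo_3992
  · exact cls_hclo_3993
  · exact cls_hclo_3994
  · exact cls_hclo_3995
  · exact cls_hclo_3996
  · exact cls_hclo_3997
  · exact cls_hclo_3998
  · exact cls_hclo_3999
  · exact cls_hclo_4000
  · exact cls_hclo_4001
  · exact cls_hclo_4002
  · exact cls_hclo_4003
  · exact cls_hclo_4004
  · exact cls_hclo_4005
  · exact cls_hclo_4006
  · exact cls_hclo_4007
  · exact cls_hclo_4008
  · exact cls_hclo_4009
  · exact cls_hclo_4010
  · exact cls_hclo_4011
  · exact cls_hclo_4012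
  · exact cls_hclo_4013
  · exact cls_hclo_4014
  · exact cls_hclo_4015
  · exact cls_hclo_4016
  · exact cls_hclo_4017
  · exact cls_hclo_4018
  · exact cls_hclo_4019
  · exact cls_hclo_4020
  · exact cls_hclo_4021
  · exact cls_hclo_4022
  · exact cls_hclo_4023
  · exact cls_hclo_4024
  · exact cls_hclo_4025
  · exact cls_hclo_4026
  · exact cls_hclo_4027
  · exact cls_hclo_4028
  · exact cls_hclo_4029
  · exact cls_hclo_4030
  · exact cls_hclo_4031
  · exact cls_hclo_4032
  · exact cls_hclo_4033
  · exact cls_hclo_4034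
  · exact cls_hclo_4035
  · exact cls_hclo_4036
  · exact cls_hclo_4037
  · exact cls_hclo_4038
  · exact cls_hclo_4039
  · exact cls_hclo_4040
  · exact cls_hclo_4041
  · exact cls_hclo_4042
  · exact cls_hclo_4043
  · exact cls_hclo_4044
  · exact cls_hclo_4045
  · exact cls_hclo_4046
  · exact cls_hclo_4047
  · exact cls_hclo_4048
  · exact cls_hclo_4049
  · exact cls_hclo_4050
  · exact cls_hclo_4051
  · exact cls_hclo_4052
  · exact cls_hclo_4053
  · exact cls_hclo_4054
  · exact cls_hclo_4055
  · exact cls_hclo_4056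
  · exact cls_hclo_4057
  · exact cls_hclo_4058
  · exact cls_hclo_4059
  · exact cls_hclo_4060
  · exact cls_hclo_4061
  · exact cls_hclo_4062
  · exact cls_hclo_4063
  · exact cls_hclo_4064
  · exact cls_hclo_4065
  · exact cls_hclo_4066
  · exact cls_hclo_4067
  · exact cls_hclo_4068
  · exact cls_hclo_4069
  · exact cls_hclo_4070
  · exact cls_hclo_4071
  · exact cls_hclo_4072
  · exact cls_hclo_4073
  · exact cls_hclo_4074
  · exact cls_hclo_4075
  · exact cls_hclo_4076
  · exact cls_hclo_4077
  · exact cls_hclo_4078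
  · exact cls_hclo_4079
  · exact cls_hclo_4080
  · exact cls_hclo_4081
  · exact cls_hclo_4082
  · exact cls_hclo_4083
  · exact cls_hclo_4084
  · exact cls_hclo_4085
  · exact cls_hclo_4086
  · exact cls_hclo_4087
  · exact cls_hclo_4088
  · exact cls_hclo_4089
  · exact cls_hclo_4090
  · exact cls_hclo_4091
  · exact cls_hclo_4092
  · exact cls_hclo_4093
  · exact cls_hclo_4094
  · exact cls_hclo_4095
  · exact cls_hclo_4096
  · exact cls_hclo_4097
  · exact cls_hclo_4098
  · exact cls_hclo_4099
  · exact cls_hclo_4100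
  · exact cls_hclo_4101
  · exact cls_hclo_4102
  · exact cls_hclo_4103
  · exact cls_hclo_4104
  · exact cls_hclo_4105
  · exact cls_hclo_4106
  · exact cls_hclo_4107
  · exact cls_hclo_4108
  · exact cls_hclo_4109
  · exact cls_hclo_4110
  · exact cls_hclo_4111
  · exact cls_hclo_4112
  · exact cls_hclo_4113
  · exact cls_hclo_4114
  · exact cls_hclo_4115
  · exact cls_hclo_4116
  · exact cls_hclo_4117
  · exact cls_hclo_4118
  · exact cls_hclo_4119
  · exact cls_hclo_4120
  · exact cls_hclo_4121
  · exact cls_hclo_4122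
  · exact cls_hclo_4123
  · exact cls_hclo_4124
  · exact cls_hclo_4125
  · exact cls_hclo_4126
  · exact cls_hclo_4127
  · exact cls_hclo_4128
  · exact cls_hclo_4129
  · exact cls_hclo_4130
  · exact cls_hclo_4131
  · exact cls_hclo_4132
  · exact cls_hclo_4133
  · exact cls_hclo_4134
  · exact cls_hclo_4135
  · exact cls_hclo_4136
  · exact cls_hclo_4137
  · exact cls_hclo_4138
  · exact cls_hclo_4139
  · exact cls_hclo_4140
  · exact cls_hclo_4141
  · exact cls_hclo_4142
  · exact cls_hclo_4143
  · exact cls_hclo_4144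
  · exact cls_hclo_4145
  · exact cls_hclo_4146
  · exact cls_hclo_4147
  · exact cls_hclo_4148
  · exact cls_hclo_4149
  · exact cls_hclo_4150
  · exact cls_hclo_4151
  · exact cls_hclo_4152
  · exact cls_hclo_4153
  · exact cls_hclo_4154
  · exact cls_hclo_4155
  · exact cls_hclo_4156
  · exact cls_hclo_4157
  · exact cls_hclo_4158
  · exact cls_hclo_4159
  · exact cls_hclo_4160
  · exact cls_hclo_4161
  · exact cls_hclo_4162
  · exact cls_hclo_4163
  · exact cls_hclo_4164
  · exact cls_hclo_4165
  · exact cls_hclo_4166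
  · exact cls_hclo_4167
  · exact cls_hclo_4168
  · exact cls_hclo_4169
  · exact cls_hclo_4170
  · exact cls_hclo_4171
  · exact cls_hclo_4172
  · exact cls_hclo_4173
  · exact cls_hclo_4174
  · exact cls_hclo_4175
  · exact cls_hclo_4176
  · exact cls_hclo_4177
  · exact cls_hclo_4178
  · exact cls_hclo_4179
  · exact cls_hclo_4180
  · exact cls_hclo_4181
  · exact cls_hclo_4182
  · exact cls_hclo_4183
  · exact cls_hclo_4184
  · exact cls_hclo_4185
  · exact cls_hclo_4186
  · exact cls_hclo_4187
  · exact cls_hclo_4188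
  · exact cls_hclo_4189
  · exact cls_hclo_4190
  · exact cls_hclo_4191
  · exact cls_hclo_4192
  · exact cls_hclo_4193
  · exact cls_hclo_4194
  · exact cls_hclo_4195
  · exact cls_hclo_4196
  · exact cls_hclo_4197
  · exact cls_hclo_4198
  · exact cls_hclo_4199
  · exact cls_hclo_4200
  · exact cls_hclo_4201
  · exact cls_hclo_4202
  · exact cls_hclo_4203
  · exact cls_hclo_4204
  · exact cls_hclo_4205
  · exact cls_hclo_4206
  · exact cls_hclo_4207
  · exact cls_hclo_4208
  · exact cls_hclo_4209
  · exact cls_hclo_4210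
  · exact cls_hclo_4211
  · exact cls_hclo_4212
  · exact cls_hclo_4213
  · exact cls_hclo_4214
  · exact cls_hclo_4215
  · exact cls_hclo_4216
  · exact cls_hclo_4217
  · exact cls_hclo_4218
  · exact cls_hclo_4219
  · exact cls_hclo_4220
  · exact cls_hclo_4221
  · exact cls_hclo_4222
  · exact cls_hclo_4223
  · exact cls_hclo_4224
  · exact cls_hclo_4225
  · exact cls_hclo_4226
  · exact cls_hclo_4227
  · exact cls_hclo_4228
  · exact cls_hclo_4229
  · exact cls_hclo_4230
  · exact cls_hclo_4231
  · exact cls_hclo_4232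
  · exact cls_hclo_4233
  · exact cls_hclo_4234
  · exact cls_hclo_4235
  · exact cls_hclo_4236
  · exact cls_hclo_4237
  · exact cls_hclo_4238
  · exact cls_hclo_4239
  · exact cls_hclo_4240
  · exact cls_hclo_4241
  · exact cls_hclo_4242
  · exact cls_hclo_4243
  · exact cls_hclo_4244
  · exact cls_hclo_4245
  · exact cls_hclo_4246
  · exact cls_hclo_4247
  · exact cls_hclo_4248
  · exact cls_hclo_4249
  · exact cls_hclo_4250
  · exact cls_hclo_4251
  · exact cls_hclo_4252
  · exact cls_hclo_4253
  · exact cls_hclo_4254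
  · exact cls_hclo_4255
  · exact cls_hclo_4256
  · exact cls_hclo_4257
  · exact cls_hclo_4258
  · exact cls_hclo_4259
  · exact cls_hclo_4260
  · exact cls_hclo_4261
  · exact cls_hclo_4262
  · exact cls_hclo_4263
  · exact cls_hclo_4264
  · exact cls_hclo_4265
  · exact cls_hclo_4266
  · exact cls_hclo_4267
  · exact cls_hclo_4268
  · exact cls_hclo_4269
  · exact cls_hclo_4270
  · exact cls_hclo_4271
  · exact cls_hclo_4272
  · exact cls_hclo_4273
  · exact cls_hclo_4274
  · exact cls_hclo_4275
  · exact cls_hclo_4276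
  · exact cls_hclo_4277
  · exact cls_hclo_4278
  · exact cls_hclo_4279
  · exact cls_hclo_4280
  · exact cls_hclo_4281
  · exact cls_hclo_4282
  · exact cls_hclo_4283
  · exact cls_hclo_4284
  · exact cls_hclo_4285
  · exact cls_hclo_4286
  · exact cls_hclo_4287
  · exact cls_hclo_4288
  · exact cls_hclo_4289
  · exact cls_hclo_4290
  · exact cls_hclo_4291
  · exact cls_hclo_4292
  · exact cls_hclo_4293
  · exact cls_hclo_4294
  · exact cls_hclo_4295
  · exact cls_hclo_4296
  · exact cls_hclo_4297
  · exact cls_hclo_4298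
  · exact cls_hclo_4299
  · exact cls_hclo_4300
  · exact cls_hclo_4301
  · exact cls_hclo_4302
  · exact cls_hclo_4303
  · exact cls_hclo_4304
  · exact cls_hclo_4305
  · exact cls_hclo_4306
  · exact cls_hclo_4307
  · exact cls_hclo_4308
  · exact cls_hclo_4309
  · exact cls_hclo_4310
  · exact cls_hclo_4311
  · exact cls_hclo_4312
  · exact cls_hclo_4313
  · exact cls_hclo_4314
  · exact cls_hclo_4315
  · exact cls_hclo_4316
  · exact cls_hclo_4317
  · exact cls_hclo_4318
  · exact cls_hclo_4319
  · exact cls_hclo_4320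
  · exact cls_hclo_4321
  · exact cls_hclo_4322
  · exact cls_hclo_4323
  · exact cls_hclo_4324
  · exact cls_hclo_4325
  · exact cls_hclo_4326
  · exact cls_hclo_4327
  · exact cls_hclo_4328
  · exact cls_hclo_4329
  · exact cls_hclo_4330
  · exact cls_hclo_4331
  · exact cls_hclo_4332
  · exact cls_hclo_4333
  · exact cls_hclo_4334
  · exact cls_hclo_4335
  · exact cls_hclo_4336
  · exact cls_hclo_4337
  · exact cls_hclo_4338
  · exact cls_hclo_4339
  · exact cls_hclo_4340
  · exact cls_hclo_4341
  · exact cls_hclo_4342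
  · exact cls_hclo_4343
  · exact cls_hclo_4344
  · exact cls_hclo_4345
  · exact cls_hclo_4346
  · exact cls_hclo_4347
  · exact cls_hclo_4348
  · exact cls_hclo_4349
  · exact cls_hclo_4350
  · exact cls_hclo_4351
  · exact cls_hclo_4352
  · exact cls_hclo_4353
  · exact cls_hclo_4354
  · exact cls_hclo_4355
  · exact cls_hclo_4356
  · exact cls_hclo_4357
  · exact cls_hclo_4358
  · exact cls_hclo_4359
  · exact cls_hclo_4360
  · exact cls_hclo_4361
  · exact cls_hclo_4362
  · exact cls_hclo_4363
  · exact cls_hclo_4364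
  · exact cls_hclo_4365
  · exact cls_hclo_4366
  · exact cls_hclo_4367
  · exact cls_hclo_4368
  · exact cls_hclo_4369
  · exact cls_hclo_4370
  · exact cls_hclo_4371
  · exact cls_hclo_4372
  · exact cls_hclo_4373
  · exact cls_hclo_4374
  · exact cls_hclo_4375
  · exact cls_hclo_4376
  · exact cls_hclo_4377
  · exact cls_hclo_4378
  · exact cls_hclo_4379
  · exact cls_hclo_4380
  · exact cls_hclo_4381
  · exact cls_hclo_4382
  · exact cls_hclo_4383
  · exact cls_hclo_4384
  · exact cls_hclo_4385
  · exact cls_hclo_4386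
  · exact cls_hclo_4387
  · exact cls_hclo_4388
  · exact cls_hclo_4389
  · exact cls_hclo_4390
  · exact cls_hclo_4391
  · exact cls_hclo_4392
  · exact cls_hclo_4393
  · exact cls_hclo_4394
  · exact cls_hclo_4395
  · exact cls_hclo_4396
  · exact cls_hclo_4397
  · exact cls_hclo_4398
  · exact cls_hclo_4399
  · exact cls_hclo_4400
  · exact cls_hclo_4401
  · exact cls_hclo_4402
  · exact cls_hclo_4403
  · exact cls_hclo_4404
  · exact cls_hclo_4405
  · exact cls_hclo_4406
  · exact cls_hclo_4407
  · exact cls_hclo_4408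
  · exact cls_hclo_4409
  · exact cls_hclo_4410
  · exact cls_hclo_4411
  · exact cls_hclo_4412
  · exact cls_hclo_4413
  · exact cls_hclo_4414
  · exact cls_hclo_4415
  · exact cls_hclo_4416
  · exact cls_hclo_4417
  · exact cls_hclo_4418
  · exact cls_hclo_4419
  · exact cls_hclo_4420
  · exact cls_hclo_4421
  · exact cls_hclo_4422
  · exact cls_hclo_4423
  · exact cls_hclo_4424
  · exact cls_hclo_4425
  · exact cls_hclo_4426
  · exact cls_hclo_4427
  · exact cls_hclo_4428
  · exact cls_hclo_4429
  · exact cls_hclo_4430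
  · exact cls_hclo_4431
  · exact cls_hclo_4432
  · exact cls_hclo_4433
  · exact cls_hclo_4434
  · exact cls_hclo_4435
  · exact cls_hclo_4436
  · exact cls_hclo_4437
  · exact cls_hclo_4438
  · exact cls_hclo_4439
  · exact cls_hclo_4440
  · exact cls_hclo_4441
  · exact cls_hclo_4442
  · exact cls_hclo_4443
  · exact cls_hclo_4444
  · exact cls_hclo_4445
  · exact cls_hclo_4446
  · exact cls_hclo_4447
  · exact cls_hclo_4448
  · exact cls_hclo_4449
  · exact cls_hclo_4450
  · exact cls_hclo_4451
  · exact cls_hclo_4452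
  · exact cls_hclo_4453
  · exact cls_hclo_4454
  · exact cls_hclo_4455
  · exact cls_hclo_4456
  · exact cls_hclo_4457
  · exact cls_hclo_4458
  · exact cls_hclo_4459
  · exact cls_hclo_4460
  · exact cls_hclo_4461
  · exact cls_hclo_4462
  · exact cls_hclo_4463
  · exact cls_hclo_4464
  · exact cls_hclo_4465
  · exact cls_hclo_4466
  · exact cls_hclo_4467
  · exact cls_hclo_4468
  · exact cls_hclo_4469
  · exact cls_hclo_4470
  · exact cls_hclo_4471
  · exact cls_hclo_4472
  · exact cls_hclo_4473
  · exact cls_hclo_4474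
  · exact cls_hclo_4475
  · exact cls_hclo_4476
  · exact cls_hclo_4477
  · exact cls_hclo_4478
  · exact cls_hclo_4479
  · exact cls_hclo_4480
  · exact cls_hclo_4481
  · exact cls_hclo_4482
  · exact cls_hclo_4483
  · exact cls_hclo_4484
  · exact cls_hclo_4485
  · exact cls_hclo_4486
  · exact cls_hclo_4487
  · exact cls_hclo_4488
  · exact cls_hclo_4489
  · exact cls_hclo_4490
  · exact cls_hclo_4491
  · exact cls_hclo_4492
  · exact cls_hclo_4493
  · exact cls_hclo_4494
  · exact cls_hclo_4495
  · exact cls_hclo_4496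
  · exact cls_hclo_4497
  · exact cls_hclo_4498
  · exact cls_hclo_4499
  · exact cls_hclo_4500
  · exact cls_hclo_4501
  · exact cls_hclo_4502
  · exact cls_hclo_4503
  · exact cls_hclo_4504
  · exact cls_hclo_4505
  · exact cls_hclo_4506
  · exact cls_hclo_4507
  · exact cls_hclo_4508
  · exact cls_hclo_4509
  · exact cls_hclo_4510
  · exact cls_hclo_4511
  · exact cls_hclo_4512
  · exact cls_hclo_4513
  · exact cls_hclo_4514
  · exact cls_hclo_4515
  · exact cls_hclo_4516
  · exact cls_hclo_4517
  · exact cls_hclo_4518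
  · exact cls_hclo_4519
  · exact cls_hclo_4520
  · exact cls_hclo_4521
  · exact cls_hclo_4522
  · exact cls_hclo_4523
  · exact cls_hclo_4524
  · exact cls_hclo_4525
  · exact cls_hclo_4526
  · exact cls_hclo_4527
  · exact cls_hclo_4528
  · exact cls_hclo_4529
  · exact cls_hclo_4530
  · exact cls_hclo_4531
  · exact cls_hclo_4532
  · exact cls_hclo_4533
  · exact cls_hclo_4534
  · exact cls_hclo_4535
  · exact cls_hclo_4536
  · exact cls_hclo_4537
  · exact cls_hclo_4538
  · exact cls_hclo_4539
  · exact cls_hclo_4540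
  · exact cls_hclo_4541
  · exact cls_hclo_4542
  · exact cls_hclo_4543
  · exact cls_hclo_4544
  · exact cls_hclo_4545
  · exact cls_hclo_4546
  · exact cls_hclo_4547
  · exact cls_hclo_4548
  · exact cls_hclo_4549
  · exact cls_hclo_4550
  · exact cls_hclo_4551
  · exact cls_hclo_4552
  · exact cls_hclo_4553
  · exact cls_hclo_4554
  · exact cls_hclo_4555
  · exact cls_hclo_4556
  · exact cls_hclo_4557
  · exact cls_hclo_4558
  · exact cls_hclo_4559
  · exact cls_hclo_4560
  · exact cls_hclo_4561
  · exact cls_hclo_4562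
  · exact cls_hclo_4563
  · exact cls_hclo_4564
  · exact cls_hclo_4565
  · exact cls_hclo_4566
  · exact cls_hclo_4567
  · exact cls_hclo_4568
  · exact cls_hclo_4569
  · exact cls_hclo_4570
  · exact cls_hclo_4571
  · exact cls_hclo_4572
  · exact cls_hclo_4573
  · exact cls_hclo_4574
  · exact cls_hclo_4575
  · exact cls_hclo_4576
  · exact cls_hclo_4577
  · exact cls_hclo_4578
  · exact cls_hclo_4579
  · exact cls_hclo_4580
  · exact cls_hclo_4581
  · exact cls_hclo_4582
  · exact cls_hclo_4583
  · exact cls_hclo_4584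
  · exact cls_hclo_4585
  · exact cls_hclo_4586
  · exact cls_hclo_4587
  · exact cls_hclo_4588
  · exact cls_hclo_4589
  · exact cls_hclo_4590
  · exact cls_hclo_4591
  · exact cls_hclo_4592
  · exact cls_hclo_4593
  · exact cls_hclo_4594
  · exact cls_hclo_4595
  · exact cls_hclo_4596
  · exact cls_hclo_4597
  · exact cls_hclo_4598
  · exact cls_hclo_4599
  · exact cls_hclo_4600
  · exact cls_hclo_4601
  · exact cls_hclo_4602
  · exact cls_hclo_4603
  · exact cls_hclo_4604
  · exact cls_hclo_4605
  · exact cls_hclo_4606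
  · exact cls_hclo_4607
  · exact cls_hclo_4608
  · exact cls_hclo_4609
  · exact cls_hclo_4610
  · exact cls_hclo_4611
  · exact cls_hclo_4612
  · exact cls_hclo_4613
  · exact cls_hclo_4614
  · exact cls_hclo_4615
  · exact cls_hclo_4616
  · exact cls_hclo_4617
  · exact cls_hclo_4618
  · exact cls_hclo_4619
  · exact cls_hclo_4620
  · exact cls_hclo_4621
  · exact cls_hclo_4622
  · exact cls_hclo_4623
  · exact cls_hclo_4624
  · exact cls_hclo_4625
  · exact cls_hclo_4626
  · exact cls_hclo_4627
  · exact cls_hclo_4628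
  · exact cls_hclo_4629
  · exact cls_hclo_4630
  · exact cls_hclo_4631
  · exact cls_hclo_4632
  · exact cls_hclo_4633
  · exact cls_hclo_4634
  · exact cls_hclo_4635
  · exact cls_hclo_4636
  · exact cls_hclo_4637
  · exact cls_hclo_4638
  · exact cls_hclo_4639
  · exact cls_hclo_4640
  · exact cls_hclo_4641
  · exact cls_hclo_4642
  · exact cls_hclo_4643
  · exact cls_hclo_4644
  · exact cls_hclo_4645
  · exact cls_hclo_4646
  · exact cls_hclo_4647
  · exact cls_hclo_4648
  · exact cls_hclo_4649
  · exact cls_hclo_4650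
  · exact cls_hclo_4651
  · exact cls_hclo_4652
  · exact cls_hclo_4653
  · exact cls_hclo_4654
  · exact cls_hclo_4655
  · exact cls_hclo_4656
  · exact cls_hclo_4657
  · exact cls_hclo_4658
  · exact cls_hclo_4659
  · exact cls_hclo_4660
  · exact cls_hclo_4661
  · exact cls_hclo_4662
  · exact cls_hclo_4663
  · exact cls_hclo_4664
  · exact cls_hclo_4665
  · exact cls_hclo_4666
  · exact cls_hclo_4667
  · exact cls_hclo_4668
  · exact cls_hclo_4669
  · exact cls_hclo_4670
  · exact cls_hclo_4671
  · exact cls_hclo_4672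
  · exact cls_hclo_4673
  · exact cls_hclo_4674
  · exact cls_hclo_4675
  · exact cls_hclo_4676
  · exact cls_hclo_4677
  · exact cls_hclo_4678
  · exact cls_hclo_4679
  · exact cls_hclo_4680
  · exact cls_hclo_4681
  · exact cls_hclo_4682
  · exact cls_hclo_4683
  · exact cls_hclo_4684
  · exact cls_hclo_4685
  · exact cls_hclo_4686
  · exact cls_hclo_4687
  · exact cls_hclo_4688
  · exact cls_hclo_4689
  · exact cls_hclo_4690
  · exact cls_hclo_4691
  · exact cls_hclo_4692
  · exact cls_hclo_4693
  · exact cls_hclo_4694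
  · exact cls_hclo_4695
  · exact cls_hclo_4696
  · exact cls_hclo_4697
  · exact cls_hclo_4698
  · exact cls_hclo_4699
  · exact cls_hclo_4700
  · exact cls_hclo_4701
  · exact cls_hclo_4702
  · exact cls_hclo_4703
  · exact cls_hclo_4704
  · exact cls_hclo_4705
  · exact cls_hclo_4706
  · exact cls_hclo_4707
  · exact cls_hclo_4708
  · exact cls_hclo_4709
  · exact cls_hclo_4710
  · exact cls_hclo_4711
  · exact cls_hclo_4712
  · exact cls_hclo_4713
  · exact cls_hclo_4714
  · exact cls_hclo_4715
  · exact cls_hclo_4716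
  · exact cls_hclo_4717
  · exact cls_hclo_4718
  · exact cls_hclo_4719
  · exact cls_hclo_4720
  · exact cls_hclo_4721
  · exact cls_hclo_4722
  · exact cls_hclo_4723
  · exact cls_hclo_4724
  · exact cls_hclo_4725
  · exact cls_hclo_4726
  · exact cls_hclo_4727
  · exact cls_hclo_4728
  · exact cls_hclo_4729
  · exact cls_hclo_4730
  · exact cls_hclo_4731
  · exact cls_hclo_4732
  · exact cls_hclo_4733
  · exact cls_hclo_4734
  · exact cls_hclo_4735
  · exact cls_hclo_4736
  · exact cls_hclo_4737
  · exact cls_hclo_4738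
  · exact cls_hclo_4739
  · exact cls_hclo_4740
  · exact cls_hclo_4741
  · exact cls_hclo_4742
  · exact cls_hclo_4743
  · exact cls_hclo_4744
  · exact cls_hclo_4745
  · exact cls_hclo_4746
  · exact cls_hclo_4747
  · exact cls_hclo_4748
  · exact cls_hclo_4749
  · exact cls_hclo_4750
  · exact cls_hclo_4751
  · exact cls_hclo_4752
  · exact cls_hclo_4753
  · exact cls_hclo_4754
  · exact cls_hclo_4755
  · exact cls_hclo_4756
  · exact cls_hclo_4757
  · exact cls_hclo_4758
  · exact cls_hclo_4759
  · exact cls_hclo_4760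
  · exact cls_hclo_4761
  · exact cls_hclo_4762
  · exact cls_hclo_4763
  · exact cls_hclo_4764
  · exact cls_hclo_4765
  · exact cls_hclo_4766
  · exact cls_hclo_4767
  · exact cls_hclo_4768
  · exact cls_hclo_4769
  · exact cls_hclo_4770
  · exact cls_hclo_4771
  · exact cls_hclo_4772
  · exact cls_hclo_4773
  · exact cls_hclo_4774
  · exact cls_hclo_4775
  · exact cls_hclo_4776
  · exact cls_hclo_4777
  · exact cls_hclo_4778
  · exact cls_hclo_4779
  · exact cls_hclo_4780
  · exact cls_hclo_4781
  · exact cls_hclo_4782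
  · exact cls_hclo_4783
  · exact cls_hclo_4784
  · exact cls_hclo_4785
  · exact cls_hclo_4786
  · exact cls_hclo_4787
  · exact cls_hclo_4788
  · exact cls_hclo_4789
  · exact cls_hclo_4790
  · exact cls_hclo_4791
  · exact cls_hclo_4792
  · exact cls_hclo_4793
  · exact cls_hclo_4794
  · exact cls_hclo_4795
  · exact cls_hclo_4796
  · exact cls_hclo_4797
  · exact cls_hclo_4798
  · exact cls_hclo_4799
  · exact cls_hclo_4800
  · exact cls_hclo_4801
  · exact cls_hclo_4802
  · exact cls_hclo_4803
  · exact cls_hclo_4804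
  · exact cls_hclo_4805
  · exact cls_hclo_4806
  · exact cls_hclo_4807
  · exact cls_hclo_4808
  · exact cls_hclo_4809
  · exact cls_hclo_4810
  · exact cls_hclo_4811
  · exact cls_hclo_4812
  · exact cls_hclo_4813
  · exact cls_hclo_4814
  · exact cls_hclo_4815
  · exact cls_hclo_4816
  · exact cls_hclo_4817
  · exact cls_hclo_4818
  · exact cls_hclo_4819
  · exact cls_hclo_4820
  · exact cls_hclo_4821
  · exact cls_hclo_4822
  · exact cls_hclo_4823
  · exact cls_hclo_4824
  · exact cls_hclo_4825
  · exact cls_hclo_4826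
  · exact cls_hclo_4827
  · exact cls_hclo_4828
  · exact cls_hclo_4829
  · exact cls_hclo_4830
  · exact cls_hclo_4831
  · exact cls_hclo_4832
  · exact cls_hclo_4833
  · exact cls_hclo_4834
  · exact cls_hclo_4835
  · exact cls_hclo_4836
  · exact cls_hclo_4837
  · exact cls_hclo_4838
  · exact cls_hclo_4839
  · exact cls_hclo_4840
  · exact cls_hclo_4841
  · exact cls_hclo_4842
  · exact cls_hclo_4843
  · exact cls_hclo_4844
  · exact cls_hclo_4845
  · exact cls_hclo_4846
  · exact cls_hclo_4847
  · exact cls_hclo_4848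
  · exact cls_hclo_4849
  · exact cls_hclo_4850
  · exact cls_hclo_4851
  · exact cls_hclo_4852
  · exact cls_hclo_4853
  · exact cls_hclo_4854
  · exact cls_hclo_4855
  · exact cls_hclo_4856
  · exact cls_hclo_4857
  · exact cls_hclo_4858
  · exact cls_hclo_4859
  · exact cls_hclo_4860
  · exact cls_hclo_4861
  · exact cls_hclo_4862
  · exact cls_hclo_4863
  · exact cls_hclo_4864
  · exact cls_hclo_4865
  · exact cls_hclo_4866
  · exact cls_hclo_4867
  · exact cls_hclo_4868
  · exact cls_hclo_4869
  · exact cls_hclo_4870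
  · exact cls_hclo_4871
  · exact cls_hclo_4872
  · exact cls_hclo_4873
  · exact cls_hclo_4874
  · exact cls_hclo_4875
  · exact cls_hclo_4876
  · exact cls_hclo_4877
  · exact cls_hclo_4878
  · exact cls_hclo_4879
  · exact cls_hclo_4880
  · exact cls_hclo_4881
  · exact cls_hclo_4882
  · exact cls_hclo_4883
  · exact cls_hclo_4884
  · exact cls_hclo_4885
  · exact cls_hclo_4886
  · exact cls_hclo_4887
  · exact cls_hclo_4888
  · exact cls_hclo_4889
  · exact cls_hclo_4890
  · exact cls_hclo_4891
  · exact cls_hclo_4892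
  · exact cls_hclo_4893
  · exact cls_hclo_4894
  · exact cls_hclo_4895
  · exact cls_hclo_4896
  · exact cls_hclo_4897
  · exact cls_hclo_4898
  · exact cls_hclo_4899
  · exact cls_hclo_4900
  · exact cls_hclo_4901
  · exact cls_hclo_4902
  · exact cls_hclo_4903
  · exact cls_hclo_4904
  · exact cls_hclo_4905
  · exact cls_hclo_4906
  · exact cls_hclo_4907
  · exact cls_hclo_4908
  · exact cls_hclo_4909
  · exact cls_hclo_4910
  · exact cls_hclo_4911
  · exact cls_hclo_4912
  · exact cls_hclo_4913
  · exact cls_hclo_4914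
  · exact cls_hclo_4915
  · exact cls_hclo_4916
  · exact cls_hclo_4917
  · exact cls_hclo_4918
  · exact cls_hclo_4919
  · exact cls_hclo_4920
  · exact cls_hclo_4921
  · exact cls_hclo_4922
  · exact cls_hclo_4923
  · exact cls_hclo_4924
  · exact cls_hclo_4925
  · exact cls_hclo_4926
  · exact cls_hclo_4927
  · exact cls_hclo_4928
  · exact cls_hclo_4929
  · exact cls_hclo_4930
  · exact cls_hclo_4931
  · exact cls_hclo_4932
  · exact cls_hclo_4933
  · exact cls_hclo_4934
  · exact cls_hclo_4935
  · exact cls_hclo_4936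
  · exact cls_hclo_4937
  · exact cls_hclo_4938
  · exact cls_hclo_4939
  · exact cls_hclo_4940
  · exact cls_hclo_4941
  · exact cls_hclo_4942
  · exact cls_hclo_4943
  · exact cls_hclo_4944
  · exact cls_hclo_4945
  · exact cls_hclo_4946
  · exact cls_hclo_4947
  · exact cls_hclo_4948
  · exact cls_hclo_4949
  · exact cls_hclo_4950
  · exact cls_hclo_4951
  · exact cls_hclo_4952
  · exact cls_hclo_4953
  · exact cls_hclo_4954
  · exact cls_hclo_4955
  · exact cls_hclo_4956
  · exact cls_hclo_4957
  · exact cls_hclo_4958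
  · exact cls_hclo_4959
  · exact cls_hclo_4960
  · exact cls_hclo_4961
  · exact cls_hclo_4962
  · exact cls_hclo_4963
  · exact cls_hclo_4964
  · exact cls_hclo_4965
  · exact cls_hclo_4966
  · exact cls_hclo_4967
  · exact cls_hclo_4968
  · exact cls_hclo_4969
  · exact cls_hclo_4970
  · exact cls_hclo_4971
  · exact cls_hclo_4972
  · exact cls_hclo_4973
  · exact cls_hclo_4974
  · exact cls_hclo_4975
  · exact cls_hclo_4976
  · exact cls_hclo_4977
  · exact cls_hclo_4978
  · exact cls_hclo_4979
  · exact cls_hclo_4980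
  · exact cls_hclo_4981
  · exact cls_hclo_4982
  · exact cls_hclo_4983
  · exact cls_hclo_4984
  · exact cls_hclo_4985
  · exact cls_hclo_4986
  · exact cls_hclo_4987
  · exact cls_hclo_4988
  · exact cls_hclo_4989
  · exact cls_hclo_4990
  · exact cls_hclo_4991
  · exact cls_hclo_4992
  · exact cls_hclo_4993
  · exact cls_hclo_4994
  · exact cls_hclo_4995
  · exact cls_hclo_4996
  · exact cls_hclo_4997
  · exact cls_hclo_4998
  · exact cls_hclo_4999
  · exact cls_hclo_5000
  · exact cls_hclo_5001
  · exact cls_hclo_5002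
  · exact cls_hclo_5003
  · exact cls_hclo_5004
  · exact cls_hclo_5005
  · exact cls_hclo_5006
  · exact cls_hclo_5007
  · exact cls_hclo_5008
  · exact cls_hclo_5009
  · exact cls_hclo_5010
  · exact cls_hclo_5011
  · exact cls_hclo_5012
  · exact cls_hclo_5013
  · exact cls_hclo_5014
  · exact cls_hclo_5015
  · exact cls_hclo_5016
  · exact cls_hclo_5017
  · exact cls_hclo_5018
  · exact cls_hclo_5019
  · exact cls_hclo_5020
  · exact cls_hclo_5021
  · exact cls_hclo_5022
  · exact cls_hclo_5023
  · exact cls_hclo_5024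
  · exact cls_hclo_5025
  · exact cls_hclo_5026
  · exact cls_hclo_5027
  · exact cls_hclo_5028
  · exact cls_hclo_5029
  · exact cls_hclo_5030
  · exact cls_hclo_5031
  · exact cls_hclo_5032
  · exact cls_hclo_5033
  · exact cls_hclo_5034
  · exact cls_hclo_5035
  · exact cls_hclo_5036
  · exact cls_hclo_5037
  · exact cls_hclo_5038
  · exact cls_hclo_5039
  · exact cls_hclo_5040
  · exact cls_hclo_5041
  · exact cls_hclo_5042
  · exact cls_hclo_5043
  · exact cls_hclo_5044
  · exact cls_hclo_5045
  · exact cls_hclo_5046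
  · exact cls_hclo_5047
  · exact cls_hclo_5048
  · exact cls_hclo_5049
  · exact cls_hclo_5050
  · exact cls_hclo_5051
  · exact cls_hclo_5052
  · exact cls_hclo_5053
  · exact cls_hclo_5054
  · exact cls_hclo_5055
  · exact cls_hclo_5056
  · exact cls_hclo_5057
  · exact cls_hclo_5058
  · exact cls_hclo_5059
  · exact cls_hclo_5060
  · exact cls_hclo_5061
  · exact cls_hclo_5062
  · exact cls_hclo_5063
  · exact cls_hclo_5064
  · exact cls_hclo_5065
  · exact cls_hclo_5066
  · exact cls_hclo_5067
  · exact cls_hclo_5068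
  · exact cls_hclo_5069
  · exact cls_hclo_5070
  · exact cls_hclo_5071
  · exact cls_hclo_5072
  · exact cls_hclo_5073
  · exact cls_hclo_5074
  · exact cls_hclo_5075
  · exact cls_hclo_5076
  · exact cls_hclo_5077
  · exact cls_hclo_5078
  · exact cls_hclo_5079
  · exact cls_hclo_5080
  · exact cls_hclo_5081
  · exact cls_hclo_5082
  · exact cls_hclo_5083
  · exact cls_hclo_5084
  · exact cls_hclo_5085
  · exact cls_hclo_5086
  · exact cls_hclo_5087
  · exact cls_hclo_5088
  · exact cls_hclo_5089
  · exact cls_hclo_5090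
  · exact cls_hclo_5091
  · exact cls_hclo_5092
  · exact cls_hclo_5093
  · exact cls_hclo_5094
  · exact cls_hclo_5095
  · exact cls_hclo_5096
  · exact cls_hclo_5097
  · exact cls_hclo_5098
  · exact cls_hclo_5099
  · exact cls_hclo_5100
  · exact cls_hclo_5101
  · exact cls_hclo_5102
  · exact cls_hclo_5103
  · exact cls_hclo_5104
  · exact cls_hclo_5105
  · exact cls_hclo_5106
  · exact cls_hclo_5107
  · exact cls_hclo_5108
  · exact cls_hclo_5109
  · exact cls_hclo_5110
  · exact cls_hclo_5111
  · exact cls_hclo_5112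
  · exact cls_hclo_5113
  · exact cls_hclo_5114
  · exact cls_hclo_5115
  · exact cls_hclo_5116
  · exact cls_hclo_5117
  · exact cls_hclo_5118
  · exact cls_hclo_5119
  · exact cls_hclo_5120
  · exact cls_hclo_5121
  · exact cls_hclo_5122
  · exact cls_hclo_5123
  · exact cls_hclo_5124
  · exact cls_hclo_5125
  · exact cls_hclo_5126
  · exact cls_hclo_5127
  · exact cls_hclo_5128
  · exact cls_hclo_5129
  · exact cls_hclo_5130
  · exact cls_hclo_5131
  · exact cls_hclo_5132
  · exact cls_hclo_5133
  · exact cls_hclo_5134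
  · exact cls_hclo_5135
  · exact cls_hclo_5136
  · exact cls_hclo_5137
  · exact cls_hclo_5138
  · exact cls_hclo_5139
  · exact cls_hclo_5140
  · exact cls_hclo_5141
  · exact cls_hclo_5142
  · exact cls_hclo_5143
  · exact cls_hclo_5144
  · exact cls_hclo_5145
  · exact cls_hclo_5146
  · exact cls_hclo_5147
  · exact cls_hclo_5148
  · exact cls_hclo_5149
  · exact cls_hclo_5150
  · exact cls_hclo_5151
  · exact cls_hclo_5152
  · exact cls_hclo_5153
  · exact cls_hclo_5154
  · exact cls_hclo_5155
  · exact cls_hclo_5156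
  · exact cls_hclo_5157
  · exact cls_hclo_5158
  · exact cls_hclo_5159
  · exact cls_hclo_5160
  · exact cls_hclo_5161
  · exact cls_hclo_5162
  · exact cls_hclo_5163
  · exact cls_hclo_5164
  · exact cls_hclo_5165
  · exact cls_hclo_5166
  · exact cls_hclo_5167
  · exact cls_hclo_5168
  · exact cls_hclo_5169
  · exact cls_hclo_5170
  · exact cls_hclo_5171
  · exact cls_hclo_5172
  · exact cls_hclo_5173
  · exact cls_hclo_5174
  · exact cls_hclo_5175
  · exact cls_hclo_5176
  · exact cls_hclo_5177
  · exact cls_hclo_5178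
  · exact cls_hclo_5179
  · exact cls_hclo_5180
  · exact cls_hclo_5181
  · exact cls_hclo_5182
  · exact cls_hclo_5183
  · exact cls_hclo_5184
  · exact cls_hclo_5185
  · exact cls_hclo_5186
  · exact cls_hclo_5187
  · exact cls_hclo_5188
  · exact cls_hclo_5189
  · exact cls_hclo_5190
  · exact cls_hclo_5191
  · exact cls_hclo_5192
  · exact cls_hclo_5193
  · exact cls_hclo_5194
  · exact cls_hclo_5195
  · exact cls_hclo_5196
  · exact cls_hclo_5197
  · exact cls_hclo_5198
  · exact cls_hclo_5199
  · exact cls_hclo_5200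
  · exact cls_hclo_5201
  · exact cls_hclo_5202
  · exact cls_hclo_5203
  · exact cls_hclo_5204
  · exact cls_hclo_5205
  · exact cls_hclo_5206
  · exact cls_hclo_5207
  · exact cls_hclo_5208
  · exact cls_hclo_5209
  · exact cls_hclo_5210
  · exact cls_hclo_5211
  · exact cls_hclo_5212
  · exact cls_hclo_5213
  · exact cls_hclo_5214
  · exact cls_hclo_5215
  · exact cls_hclo_5216
  · exact cls_hclo_5217
  · exact cls_hclo_5218
  · exact cls_hclo_5219
  · exact cls_hclo_5220
  · exact cls_hclo_5221
  · exact cls_hclo_5222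
  · exact cls_hclo_5223
  · exact cls_hclo_5224
  · exact cls_hclo_5225
  · exact cls_hclo_5226
  · exact cls_hclo_5227
  · exact cls_hclo_5228
  · exact cls_hclo_5229
  · exact cls_hclo_5230
  · exact cls_hclo_5231
  · exact cls_hclo_5232
  · exact cls_hclo_5233
  · exact cls_hclo_5234
  · exact cls_hclo_5235
  · exact cls_hclo_5236
  · exact cls_hclo_5237
  · exact cls_hclo_5238
  · exact cls_hclo_5239
  · exact cls_hclo_5240
  · exact cls_hclo_5241
  · exact cls_hclo_5242
  · exact cls_hclo_5243
  · exact cls_hclo_5244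
  · exact cls_hclo_5245
  · exact cls_hclo_5246
  · exact cls_hclo_5247
  · exact cls_hclo_5248
  · exact cls_hclo_5249
  · exact cls_hclo_5250
  · exact cls_hclo_5251
  · exact cls_hclo_5252
  · exact cls_hclo_5253
  · exact cls_hclo_5254
  · exact cls_hclo_5255
  · exact cls_hclo_5256
  · exact cls_hclo_5257
  · exact cls_hclo_5258
  · exact cls_hclo_5259
  · exact cls_hclo_5260
  · exact cls_hclo_5261
  · exact cls_hclo_5262
  · exact cls_hclo_5263
  · exact cls_hclo_5264
  · exact cls_hclo_5265
  · exact cls_hclo_5266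
  · exact cls_hclo_5267
  · exact cls_hclo_5268
  · exact cls_hclo_5269
  · exact cls_hclo_5270
  · exact cls_hclo_5271
  · exact cls_hclo_5272
  · exact cls_hclo_5273
  · exact cls_hclo_5274
  · exact cls_hclo_5275
  · exact cls_hclo_5276
  · exact cls_hclo_5277
  · exact cls_hclo_5278
  · exact cls_hclo_5279
  · exact cls_hclo_5280
  · exact cls_hclo_5281
  · exact cls_hclo_5282
  · exact cls_hclo_5283
  · exact cls_hclo_5284
  · exact cls_hclo_5285
  · exact cls_hclo_5286
  · exact cls_hclo_5287
  · exact cls_hclo_5288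
  · exact cls_hclo_5289
  · exact cls_hclo_5290
  · exact cls_hclo_5291
  · exact cls_hclo_5292
  · exact cls_hclo_5293
  · exact cls_hclo_5294
  · exact cls_hclo_5295
  · exact cls_hclo_5296
  · exact cls_hclo_5297
  · exact cls_hclo_5298
  · exact cls_hclo_5299
  · exact cls_hclo_5300
  · exact cls_hclo_5301
  · exact cls_hclo_5302
  · exact cls_hclo_5303
  · exact cls_hclo_5304
  · exact cls_hclo_5305
  · exact cls_hclo_5306
  · exact cls_hclo_5307
  · exact cls_hclo_5308
  · exact cls_hclo_5309
  · exact cls_hclo_5310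
  · exact cls_hclo_5311
  · exact cls_hclo_5312
  · exact cls_hclo_5313
  · exact cls_hclo_5314
  · exact cls_hclo_5315
  · exact cls_hclo_5316
  · exact cls_hclo_5317
  · exact cls_hclo_5318
  · exact cls_hclo_5319
  · exact cls_hclo_5320
  · exact cls_hclo_5321
  · exact cls_hclo_5322
  · exact cls_hclo_5323
  · exact cls_hclo_5324
  · exact cls_hclo_5325
  · exact cls_hclo_5326
  · exact cls_hclo_5327
  · exact cls_hclo_5328
  · exact cls_hclo_5329
  · exact cls_hclo_5330
  · exact cls_hclo_5331
  · exact cls_hclo_5332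
  · exact cls_hclo_5333
  · exact cls_hclo_5334
  · exact cls_hclo_5335
  · exact cls_hclo_5336
  · exact cls_hclo_5337
  · exact cls_hclo_5338
  · exact cls_hclo_5339
  · exact cls_hclo_5340
  · exact cls_hclo_5341
  · exact cls_hclo_5342
  · exact cls_hclo_5343
  · exact cls_hclo_5344
  · exact cls_hclo_5345
  · exact cls_hclo_5346
  · exact cls_hclo_5347
  · exact cls_hclo_5348
  · exact cls_hclo_5349
  · exact cls_hclo_5350
  · exact cls_hclo_5351
  · exact cls_hclo_5352
  · exact cls_hclo_5353
  · exact cls_hclo_5354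
  · exact cls_hclo_5355
  · exact cls_hclo_5356
  · exact cls_hclo_5357
  · exact cls_hclo_5358
  · exact cls_hclo_5359
  · exact cls_hclo_5360
  · exact cls_hclo_5361
  · exact cls_hclo_5362
  · exact cls_hclo_5363
  · exact cls_hclo_5364
  · exact cls_hclo_5365
  · exact cls_hclo_5366
  · exact cls_hclo_5367
  · exact cls_hclo_5368
  · exact cls_hclo_5369
  · exact cls_hclo_5370
  · exact cls_hclo_5371
  · exact cls_hclo_5372
  · exact cls_hclo_5373
  · exact cls_hclo_5374
  · exact cls_hclo_5375
  · exact cls_hclo_5376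
  · exact cls_hclo_5377
  · exact cls_hclo_5378
  · exact cls_hclo_5379
  · exact cls_hclo_5380
  · exact cls_hclo_5381
  · exact cls_hclo_5382
  · exact cls_hclo_5383
  · exact cls_hclo_5384
  · exact cls_hclo_5385
  · exact cls_hclo_5386
  · exact cls_hclo_5387
  · exact cls_hclo_5388
  · exact cls_hclo_5389
  · exact cls_hclo_5390
  · exact cls_hclo_5391
  · exact cls_hclo_5392
  · exact cls_hclo_5393
  · exact cls_hclo_5394
  · exact cls_hclo_5395
  · exact cls_hclo_5396
  · exact cls_hclo_5397
  · exact cls_hclo_5398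
  · exact cls_hclo_5399
  · exact cls_hclo_5400
  · exact cls_hclo_5401
  · exact cls_hclo_5402
  · exact cls_hclo_5403
  · exact cls_hclo_5404
  · exact cls_hclo_5405
  · exact cls_hclo_5406
  · exact cls_hclo_5407
  · exact cls_hclo_5408
  · exact cls_hclo_5409
  · exact cls_hclo_5410
  · exact cls_hclo_5411
  · exact cls_hclo_5412
  · exact cls_hclo_5413
  · exact cls_hclo_5414
  · exact cls_hclo_5415
  · exact cls_hclo_5416
  · exact cls_hclo_5417
  · exact cls_hclo_5418
  · exact cls_hclo_5419
  · exact cls_hclo_5420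
  · exact cls_hclo_5421
  · exact cls_hclo_5422
  · exact cls_hclo_5423
  · exact cls_hclo_5424
  · exact cls_hclo_5425
  · exact cls_hclo_5426
  · exact cls_hclo_5427
  · exact cls_hclo_5428
  · exact cls_hclo_5429
  · exact cls_hclo_5430
  · exact cls_hclo_5431
  · exact cls_hclo_5432
  · exact cls_hclo_5433
  · exact cls_hclo_5434
  · exact cls_hclo_5435
  · exact cls_hclo_5436
  · exact cls_hclo_5437
  · exact cls_hclo_5438
  · exact cls_hclo_5439
  · exact cls_hclo_5440
  · exact cls_hclo_5441
  · exact cls_hclo_5442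
  · exact cls_hclo_5443
  · exact cls_hclo_5444
  · exact cls_hclo_5445
  · exact cls_hclo_5446
  · exact cls_hclo_5447
  · exact cls_hclo_5448
  · exact cls_hclo_5449
  · exact cls_hclo_5450
  · exact cls_hclo_5451
  · exact cls_hclo_5452
  · exact cls_hclo_5453
  · exact cls_hclo_5454
  · exact cls_hclo_5455
  · exact cls_hclo_5456
  · exact cls_hclo_5457
  · exact cls_hclo_5458
  · exact cls_hclo_5459
  · exact cls_hclo_5460
  · exact cls_hclo_5461
  · exact cls_hclo_5462
  · exact cls_hclo_5463
  · exact cls_hclo_5464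
  · exact cls_hclo_5465
  · exact cls_hclo_5466
  · exact cls_hclo_5467
  · exact cls_hclo_5468
  · exact cls_hclo_5469
  · exact cls_hclo_5470
  · exact cls_hclo_5471
  · exact cls_hclo_5472
  · exact cls_hclo_5473
  · exact cls_hclo_5474
  · exact cls_hclo_5475
  · exact cls_hclo_5476
  · exact cls_hclo_5477
  · exact cls_hclo_5478
  · exact cls_hclo_5479
  · exact cls_hclo_5480
  · exact cls_hclo_5481
  · exact cls_hclo_5482
  · exact cls_hclo_5483
  · exact cls_hclo_5484
  · exact cls_hclo_5485
  · exact cls_hclo_5486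
  · exact cls_hclo_5487
  · exact cls_hclo_5488
  · exact cls_hclo_5489
  · exact cls_hclo_5490
  · exact cls_hclo_5491
  · exact cls_hclo_5492
  · exact cls_hclo_5493
  · exact cls_hclo_5494
  · exact cls_hclo_5495
  · exact cls_hclo_5496
  · exact cls_hclo_5497
  · exact cls_hclo_5498
  · exact cls_hclo_5499
  · exact cls_hclo_5500
  · exact cls_hclo_5501
  · exact cls_hclo_5502
  · exact cls_hclo_5503
  · exact cls_hclo_5504
  · exact cls_hclo_5505
  · exact cls_hclo_5506
  · exact cls_hclo_5507
  · exact cls_hclo_5508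
  · exact cls_hclo_5509
  · exact cls_hclo_5510
  · exact cls_hclo_5511
  · exact cls_hclo_5512
  · exact cls_hclo_5513
  · exact cls_hclo_5514
  · exact cls_hclo_5515
  · exact cls_hclo_5516
  · exact cls_hclo_5517
  · exact cls_hclo_5518
  · exact cls_hclo_5519
  · exact cls_hclo_5520
  · exact cls_hclo_5521
  · exact cls_hclo_5522
  · exact cls_hclo_5523
  · exact cls_hclo_5524
  · exact cls_hclo_5525
  · exact cls_hclo_5526
  · exact cls_hclo_5527
  · exact cls_hclo_5528
  · exact cls_hclo_5529
  · exact cls_hclo_5530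
  · exact cls_hclo_5531
  · exact cls_hclo_5532
  · exact cls_hclo_5533
  · exact cls_hclo_5534
  · exact cls_hclo_5535
  · exact cls_hclo_5536
  · exact cls_hclo_5537
  · exact cls_hclo_5538
  · exact cls_hclo_5539
  · exact cls_hclo_5540
  · exact cls_hclo_5541
  · exact cls_hclo_5542
  · exact cls_hclo_5543
  · exact cls_hclo_5544
  · exact cls_hclo_5545
  · exact cls_hclo_5546
  · exact cls_hclo_5547
  · exact cls_hclo_5548
  · exact cls_hclo_5549
  · exact cls_hclo_5550
  · exact cls_hclo_5551
  · exact cls_hclo_5552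
  · exact cls_hclo_5553
  · exact cls_hclo_5554
  · exact cls_hclo_5555
  · exact cls_hclo_5556
  · exact cls_hclo_5557
  · exact cls_hclo_5558
  · exact cls_hclo_5559
  · exact cls_hclo_5560
  · exact cls_hclo_5561
  · exact cls_hclo_5562
  · exact cls_hclo_5563
  · exact cls_hclo_5564
  · exact cls_hclo_5565
  · exact cls_hclo_5566
  · exact cls_hclo_5567
  · exact cls_hclo_5568
  · exact cls_hclo_5569
  · exact cls_hclo_5570
  · exact cls_hclo_5571
  · exact cls_hclo_5572
  · exact cls_hclo_5573
  · exact cls_hclo_5574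
  · exact cls_hclo_5575
  · exact cls_hclo_5576
  · exact cls_hclo_5577
  · exact cls_hclo_5578
  · exact cls_hclo_5579
  · exact cls_hclo_5580
  · exact cls_hclo_5581
  · exact cls_hclo_5582
  · exact cls_hclo_5583
  · exact cls_hclo_5584
  · exact cls_hclo_5585
  · exact cls_hclo_5586
  · exact cls_hclo_5587
  · exact cls_hclo_5588
  · exact cls_hclo_5589
  · exact cls_hclo_5590
  · exact cls_hclo_5591
  · exact cls_hclo_5592
  · exact cls_hclo_5593
  · exact cls_hclo_5594
  · exact cls_hclo_5595
  · exact cls_hclo_5596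
  · exact cls_hclo_5597
  · exact cls_hclo_5598
  · exact cls_hclo_5599
  · exact cls_hclo_5600
  · exact cls_hclo_5601
  · exact cls_hclo_5602
  · exact cls_hclo_5603
  · exact cls_hclo_5604
  · exact cls_hclo_5605
  · exact cls_hclo_5606
  · exact cls_hclo_5607
  · exact cls_hclo_5608
  · exact cls_hclo_5609
  · exact cls_hclo_5610
  · exact cls_hclo_5611
  · exact cls_hclo_5612
  · exact cls_hclo_5613
  · exact cls_hclo_5614
  · exact cls_hclo_5615
  · exact cls_hclo_5616
  · exact cls_hclo_5617
  · exact cls_hclo_5618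
  · exact cls_hclo_5619
  · exact cls_hclo_5620
  · exact cls_hclo_5621
  · exact cls_hclo_5622
  · exact cls_hclo_5623
  · exact cls_hclo_5624
  · exact cls_hclo_5625
  · exact cls_hclo_5626
  · exact cls_hclo_5627
  · exact cls_hclo_5628
  · exact cls_hclo_5629
  · exact cls_hclo_5630
  · exact cls_hclo_5631
  · exact cls_hclo_5632
  · exact cls_hclo_5633
  · exact cls_hclo_5634
  · exact cls_hclo_5635
  · exact cls_hclo_5636
  · exact cls_hclo_5637
  · exact cls_hclo_5638
  · exact cls_hclo_5639
  · exact cls_hclo_5640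
  · exact cls_hclo_5641
  · exact cls_hclo_5642
  · exact cls_hclo_5643
  · exact cls_hclo_5644
  · exact cls_hclo_5645
  · exact cls_hclo_5646
  · exact cls_hclo_5647
  · exact cls_hclo_5648
  · exact cls_hclo_5649
  · exact cls_hclo_5650
  · exact cls_hclo_5651
  · exact cls_hclo_5652
  · exact cls_hclo_5653
  · exact cls_hclo_5654
  · exact cls_hclo_5655
  · exact cls_hclo_5656
  · exact cls_hclo_5657
  · exact cls_hclo_5658
  · exact cls_hclo_5659
  · exact cls_hclo_5660
  · exact cls_hclo_5661
  · exact cls_hclo_5662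
  · exact cls_hclo_5663
  · exact cls_hclo_5664
  · exact cls_hclo_5665
  · exact cls_hclo_5666
  · exact cls_hclo_5667
  · exact cls_hclo_5668
  · exact cls_hclo_5669
  · exact cls_hclo_5670
  · exact cls_hclo_5671
  · exact cls_hclo_5672
  · exact cls_hclo_5673
  · exact cls_hclo_5674
  · exact cls_hclo_5675
  · exact cls_hclo_5676
  · exact cls_hclo_5677
  · exact cls_hclo_5678
  · exact cls_hclo_5679
  · exact cls_hclo_5680
  · exact cls_hclo_5681
  · exact cls_hclo_5682
  · exact cls_hclo_5683
  · exact cls_hclo_5684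
  · exact cls_hclo_5685
  · exact cls_hclo_5686
  · exact cls_hclo_5687
  · exact cls_hclo_5688
  · exact cls_hclo_5689
  · exact cls_hclo_5690
  · exact cls_hclo_5691
  · exact cls_hclo_5692
  · exact cls_hclo_5693
  · exact cls_hclo_5694
  · exact cls_hclo_5695
  · exact cls_hclo_5696
  · exact cls_hclo_5697
  · exact cls_hclo_5698
  · exact cls_hclo_5699
  · exact cls_hclo_5700
  · exact cls_hclo_5701
  · exact cls_hclo_5702
  · exact cls_hclo_5703
  · exact cls_hclo_5704
  · exact cls_hclo_5705
  · exact cls_hclo_5706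
  · exact cls_hclo_5707
  · exact cls_hclo_5708
  · exact cls_hclo_5709
  · exact cls_hclo_5710
  · exact cls_hclo_5711
  · exact cls_hclo_5712
  · exact cls_hclo_5713
  · exact cls_hclo_5714
  · exact cls_hclo_5715
  · exact cls_hclo_5716
  · exact cls_hclo_5717
  · exact cls_hclo_5718
  · exact cls_hclo_5719
  · exact cls_hclo_5720
  · exact cls_hclo_5721
  · exact cls_hclo_5722
  · exact cls_hclo_5723
  · exact cls_hclo_5724
  · exact cls_hclo_5725
  · exact cls_hclo_5726
  · exact cls_hclo_5727
  · exact cls_hclo_5728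
  · exact cls_hclo_5729
  · exact cls_hclo_5730
  · exact cls_hclo_5731
  · exact cls_hclo_5732
  · exact cls_hclo_5733
  · exact cls_hclo_5734
  · exact cls_hclo_5735
  · exact cls_hclo_5736
  · exact cls_hclo_5737
  · exact cls_hclo_5738
  · exact cls_hclo_5739
  · exact cls_hclo_5740
  · exact cls_hclo_5741
  · exact cls_hclo_5742
  · exact cls_hclo_5743
  · exact cls_hclo_5744
  · exact cls_hclo_5745
  · exact cls_hclo_5746
  · exact cls_hclo_5747
  · exact cls_hclo_5748
  · exact cls_hclo_5749
  · exact cls_hclo_5750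
  · exact cls_hclo_5751
  · exact cls_hclo_5752
  · exact cls_hclo_5753
  · exact cls_hclo_5754
  · exact cls_hclo_5755
  · exact cls_hclo_5756
  · exact cls_hclo_5757
  · exact cls_hclo_5758
  · exact cls_hclo_5759
  · exact cls_hclo_5760
  · exact cls_hclo_5761
  · exact cls_hclo_5762
  · exact cls_hclo_5763
  · exact cls_hclo_5764
  · exact cls_hclo_5765
  · exact cls_hclo_5766
  · exact cls_hclo_5767
  · exact cls_hclo_5768
  · exact cls_hclo_5769
  · exact cls_hclo_5770
  · exact cls_hclo_5771
  · exact cls_hclo_5772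
  · exact cls_hclo_5773
  · exact cls_hclo_5774
  · exact cls_hclo_5775
  · exact cls_hclo_5776
  · exact cls_hclo_5777
  · exact cls_hclo_5778
  · exact cls_hclo_5779
  · exact cls_hclo_5780
  · exact cls_hclo_5781
  · exact cls_hclo_5782
  · exact cls_hclo_5783
  · exact cls_hclo_5784
  · exact cls_hclo_5785
  · exact cls_hclo_5786
  · exact cls_hclo_5787
  · exact cls_hclo_5788
  · exact cls_hclo_5789
  · exact cls_hclo_5790
  · exact cls_hclo_5791
  · exact cls_hclo_5792
  · exact cls_hclo_5793
  · exact cls_hclo_5794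
  · exact cls_hclo_5795
  · exact cls_hclo_5796
  · exact cls_hclo_5797
  · exact cls_hclo_5798
  · exact cls_hclo_5799
  · exact cls_hclo_5800
  · exact cls_hclo_5801
  · exact cls_hclo_5802
  · exact cls_hclo_5803
  · exact cls_hclo_5804
  · exact cls_hclo_5805
  · exact cls_hclo_5806
  · exact cls_hclo_5807
  · exact cls_hclo_5808
  · exact cls_hclo_5809
  · exact cls_hclo_5810
  · exact cls_hclo_5811
  · exact cls_hclo_5812
  · exact cls_hclo_5813
  · exact cls_hclo_5814
  · exact cls_hclo_5815
  · exact cls_hclo_5816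
  · exact cls_hclo_5817
  · exact cls_hclo_5818
  · exact cls_hclo_5819
  · exact cls_hclo_5820
  · exact cls_hclo_5821
  · exact cls_hclo_5822
  · exact cls_hclo_5823
  · exact cls_hclo_5824
  · exact cls_hclo_5825
  · exact cls_hclo_5826
  · exact cls_hclo_5827
  · exact cls_hclo_5828
  · exact cls_hclo_5829
  · exact cls_hclo_5830
  · exact cls_hclo_5831
  · exact cls_hclo_5832
  · exact cls_hclo_5833
  · exact cls_hclo_5834
  · exact cls_hclo_5835
  · exact cls_hclo_5836
  · exact cls_hclo_5837
  · exact cls_hclo_5838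
  · exact cls_hclo_5839
  · exact cls_hclo_5840
  · exact cls_hclo_5841
  · exact cls_hclo_5842
  · exact cls_hclo_5843
  · exact cls_hclo_5844
  · exact cls_hclo_5845
  · exact cls_hclo_5846
  · exact cls_hclo_5847
  · exact cls_hclo_5848
  · exact cls_hclo_5849
  · exact cls_hclo_5850
  · exact cls_hclo_5851
  · exact cls_hclo_5852
  · exact cls_hclo_5853
  · exact cls_hclo_5854
  · exact cls_hclo_5855
  · exact cls_hclo_5856
  · exact cls_hclo_5857
  · exact cls_hclo_5858
  · exact cls_hclo_5859
  · exact cls_hclo_5860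
  · exact cls_hclo_5861
  · exact cls_hclo_5862
  · exact cls_hclo_5863
  · exact cls_hclo_5864
  · exact cls_hclo_5865
  · exact cls_hclo_5866
  · exact cls_hclo_5867
  · exact cls_hclo_5868
  · exact cls_hclo_5869
  · exact cls_hclo_5870
  · exact cls_hclo_5871
  · exact cls_hclo_5872
  · exact cls_hclo_5873
  · exact cls_hclo_5874
  · exact cls_hclo_5875
  · exact cls_hclo_5876
  · exact cls_hclo_5877
  · exact cls_hclo_5878
  · exact cls_hclo_5879
  · exact cls_hclo_5880
  · exact cls_hclo_5881
  · exact cls_hclo_5882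
  · exact cls_hclo_5883
  · exact cls_hclo_5884
  · exact cls_hclo_5885
  · exact cls_hclo_5886
  · exact cls_hclo_5887
  · exact cls_hclo_5888
  · exact cls_hclo_5889
  · exact cls_hclo_5890
  · exact cls_hclo_5891
  · exact cls_hclo_5892
  · exact cls_hclo_5893
  · exact cls_hclo_5894
  · exact cls_hclo_5895
  · exact cls_hclo_5896
  · exact cls_hclo_5897
  · exact cls_hclo_5898
  · exact cls_hclo_5899
  · exact cls_hclo_5900
  · exact cls_hclo_5901
  · exact cls_hclo_5902
  · exact cls_hclo_5903
  · exact cls_hclo_5904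
  · exact cls_hclo_5905
  · exact cls_hclo_5906
  · exact cls_hclo_5907
  · exact cls_hclo_5908
  · exact cls_hclo_5909
  · exact cls_hclo_5910
  · exact cls_hclo_5911
  · exact cls_hclo_5912
  · exact cls_hclo_5913
  · exact cls_hclo_5914
  · exact cls_hclo_5915
  · exact cls_hclo_5916
  · exact cls_hclo_5917
  · exact cls_hclo_5918
  · exact cls_hclo_5919
  · exact cls_hclo_5920
  · exact cls_hclo_5921
  · exact cls_hclo_5922
  · exact cls_hclo_5923
  · exact cls_hclo_5924
  · exact cls_hclo_5925
  · exact cls_hclo_5926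
  · exact cls_hclo_5927
  · exact cls_hclo_5928
  · exact cls_hclo_5929
  · exact cls_hclo_5930
  · exact cls_hclo_5931
  · exact cls_hclo_5932
  · exact cls_hclo_5933
  · exact cls_hclo_5934
  · exact cls_hclo_5935
  · exact cls_hclo_5936
  · exact cls_hclo_5937
  · exact cls_hclo_5938
  · exact cls_hclo_5939
  · exact cls_hclo_5940
  · exact cls_hclo_5941
  · exact cls_hclo_5942
  · exact cls_hclo_5943
  · exact cls_hclo_5944
  · exact cls_hclo_5945
  · exact cls_hclo_5946
  · exact cls_hclo_5947
  · exact cls_hclo_5948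
  · exact cls_hclo_5949
  · exact cls_hclo_5950
  · exact cls_hclo_5951
  · exact cls_hclo_5952
  · exact cls_hclo_5953
  · exact cls_hclo_5954
  · exact cls_hclo_5955
  · exact cls_hclo_5956
  · exact cls_hclo_5957
  · exact cls_hclo_5958
  · exact cls_hclo_5959
  · exact cls_hclo_5960
  · exact cls_hclo_5961
  · exact cls_hclo_5962
  · exact cls_hclo_5963
  · exact cls_hclo_5964
  · exact cls_hclo_5965
  · exact cls_hclo_5966
  · exact cls_hclo_5967
  · exact cls_hclo_5968
  · exact cls_hclo_5969
  · exact cls_hclo_5970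
  · exact cls_hclo_5971
  · exact cls_hclo_5972
  · exact cls_hclo_5973
  · exact cls_hclo_5974
  · exact cls_hclo_5975
  · exact cls_hclo_5976
  · exact cls_hclo_5977
  · exact cls_hclo_5978
  · exact cls_hclo_5979
  · exact cls_hclo_5980
  · exact cls_hclo_5981
  · exact cls_hclo_5982
  · exact cls_hclo_5983
  · exact cls_hclo_5984
  · exact cls_hclo_5985
  · exact cls_hclo_5986
  · exact cls_hclo_5987
  · exact cls_hclo_5988
  · exact cls_hclo_5989
  · exact cls_hclo_5990
  · exact cls_hclo_5991
  · exact cls_hclo_5992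
  · exact cls_hclo_5993
  · exact cls_hclo_5994
  · exact cls_hclo_5995
  · exact cls_hclo_5996
  · exact cls_hclo_5997
  · exact cls_hclo_5998
  · exact cls_hclo_5999
  · exact cls_hclo_6000
  · exact cls_hclo_6001
  · exact cls_hclo_6002
  · exact cls_hclo_6003
  · exact cls_hclo_6004
  · exact cls_hclo_6005
  · exact cls_hclo_6006
  · exact cls_hclo_6007
  · exact cls_hclo_6008
  · exact cls_hclo_6009
  · exact cls_hclo_6010
  · exact cls_hclo_6011
  · exact cls_hclo_6012
  · exact cls_hclo_6013
  · exact cls_hclo_6014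
  · exact cls_hclo_6015
  · exact cls_hclo_6016
  · exact cls_hclo_6017
  · exact cls_hclo_6018
  · exact cls_hclo_6019
  · exact cls_hclo_6020
  · exact cls_hclo_6021
  · exact cls_hclo_6022
  · exact cls_hclo_6023
  · exact cls_hclo_6024
  · exact cls_hclo_6025
  · exact cls_hclo_6026
  · exact cls_hclo_6027
  · exact cls_hclo_6028
  · exact cls_hclo_6029
  · exact cls_hclo_6030
  · exact cls_hclo_6031
  · exact cls_hclo_6032
  · exact cls_hclo_6033
  · exact cls_hclo_6034
  · exact cls_hclo_6035
  · exact cls_hclo_6036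
  · exact cls_hclo_6037
  · exact cls_hclo_6038
  · exact cls_hclo_6039
  · exact cls_hclo_6040
  · exact cls_hclo_6041
  · exact cls_hclo_6042
  · exact cls_hclo_6043
  · exact cls_hclo_6044
  · exact cls_hclo_6045
  · exact cls_hclo_6046
  · exact cls_hclo_6047
  · exact cls_hclo_6048
  · exact cls_hclo_6049
  · exact cls_hclo_6050
  · exact cls_hclo_6051
  · exact cls_hclo_6052
  · exact cls_hclo_6053
  · exact cls_hclo_6054
  · exact cls_hclo_6055
  · exact cls_hclo_6056
  · exact cls_hclo_6057
  · exact cls_hclo_6058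
  · exact cls_hclo_6059
  · exact cls_hclo_6060
  · exact cls_hclo_6061
  · exact cls_hclo_6062
  · exact cls_hclo_6063
  · exact cls_hclo_6064
  · exact cls_hclo_6065
  · exact cls_hclo_6066
  · exact cls_hclo_6067
  · exact cls_hclo_6068
  · exact cls_hclo_6069
  · exact cls_hclo_6070
  · exact cls_hclo_6071
  · exact cls_hclo_6072
  · exact cls_hclo_6073
  · exact cls_hclo_6074
  · exact cls_hclo_6075
  · exact cls_hclo_6076
  · exact cls_hclo_6077
  · exact cls_hclo_6078
  · exact cls_hclo_6079
  · exact cls_hclo_6080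
  · exact cls_hclo_6081
  · exact cls_hclo_6082
  · exact cls_hclo_6083
  · exact cls_hclo_6084
  · exact cls_hclo_6085
  · exact cls_hclo_6086
  · exact cls_hclo_6087
  · exact cls_hclo_6088
  · exact cls_hclo_6089
  · exact cls_hclo_6090
  · exact cls_hclo_6091
  · exact cls_hclo_6092
  · exact cls_hclo_6093
  · exact cls_hclo_6094
  · exact cls_hclo_6095
  · exact cls_hclo_6096
  · exact cls_hclo_6097
  · exact cls_hclo_6098
  · exact cls_hclo_6099
  · exact cls_hclo_6100
  · exact cls_hclo_6101
  · exact cls_hclo_6102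
  · exact cls_hclo_6103
  · exact cls_hclo_6104
  · exact cls_hclo_6105
  · exact cls_hclo_6106
  · exact cls_hclo_6107
  · exact cls_hclo_6108
  · exact cls_hclo_6109
  · exact cls_hclo_6110
  · exact cls_hclo_6111
  · exact cls_hclo_6112
  · exact cls_hclo_6113
  · exact cls_hclo_6114
  · exact cls_hclo_6115
  · exact cls_hclo_6116
  · exact cls_hclo_6117
  · exact cls_hclo_6118
  · exact cls_hclo_6119
  · exact cls_hclo_6120
  · exact cls_hclo_6121
  · exact cls_hclo_6122
  · exact cls_hclo_6123
  · exact cls_hclo_6124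
  · exact cls_hclo_6125
  · exact cls_hclo_6126
  · exact cls_hclo_6127
  · exact cls_hclo_6128
  · exact cls_hclo_6129
  · exact cls_hclo_6130
  · exact cls_hclo_6131
  · exact cls_hclo_6132
  · exact cls_hclo_6133
  · exact cls_hclo_6134
  · exact cls_hclo_6135
  · exact cls_hclo_6136
  · exact cls_hclo_6137
  · exact cls_hclo_6138
  · exact cls_hclo_6139
  · exact cls_hclo_6140
  · exact cls_hclo_6141
  · exact cls_hclo_6142
  · exact cls_hclo_6143
  · exact cls_hclo_6144
  · exact cls_hclo_6145
  · exact cls_hclo_6146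
  · exact cls_hclo_6147
  · exact cls_hclo_6148
  · exact cls_hclo_6149
  · exact cls_hclo_6150
  · exact cls_hclo_6151
  · exact cls_hclo_6152
  · exact cls_hclo_6153
  · exact cls_hclo_6154
  · exact cls_hclo_6155
  · exact cls_hclo_6156
  · exact cls_hclo_6157
  · exact cls_hclo_6158
  · exact cls_hclo_6159
  · exact cls_hclo_6160
  · exact cls_hclo_6161
  · exact cls_hclo_6162
  · exact cls_hclo_6163
  · exact cls_hclo_6164
  · exact cls_hclo_6165
  · exact cls_hclo_6166
  · exact cls_hclo_6167
  · exact cls_hclo_6168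
  · exact cls_hclo_6169
  · exact cls_hclo_6170
  · exact cls_hclo_6171
  · exact cls_hclo_6172
  · exact cls_hclo_6173
  · exact cls_hclo_6174
  · exact cls_hclo_6175
  · exact cls_hclo_6176
  · exact cls_hclo_6177
  · exact cls_hclo_6178
  · exact cls_hclo_6179
  · exact cls_hclo_6180
  · exact cls_hclo_6181
  · exact cls_hclo_6182
  · exact cls_hclo_6183
  · exact cls_hclo_6184
  · exact cls_hclo_6185
  · exact cls_hclo_6186
  · exact cls_hclo_6187
  · exact cls_hclo_6188
  · exact cls_hclo_6189
  · exact cls_hclo_6190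
  · exact cls_hclo_6191
  · exact cls_hclo_6192
  · exact cls_hclo_6193
  · exact cls_hclo_6194
  · exact cls_hclo_6195
  · exact cls_hclo_6196
  · exact cls_hclo_6197
  · exact cls_hclo_6198
  · exact cls_hclo_6199
  · exact cls_hclo_6200
  · exact cls_hclo_6201
  · exact cls_hclo_6202
  · exact cls_hclo_6203
  · exact cls_hclo_6204
  · exact cls_hclo_6205
  · exact cls_hclo_6206
  · exact cls_hclo_6207
  · exact cls_hclo_6208
  · exact cls_hclo_6209
  · exact cls_hclo_6210
  · exact cls_hclo_6211
  · exact cls_hclo_6212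
  · exact cls_hclo_6213
  · exact cls_hclo_6214
  · exact cls_hclo_6215
  · exact cls_hclo_6216
  · exact cls_hclo_6217
  · exact cls_hclo_6218
  · exact cls_hclo_6219
  · exact cls_hclo_6220
  · exact cls_hclo_6221
  · exact cls_hclo_6222
  · exact cls_hclo_6223
  · exact cls_hclo_6224
  · exact cls_hclo_6225
  · exact cls_hclo_6226
  · exact cls_hclo_6227
  · exact cls_hclo_6228
  · exact cls_hclo_6229
  · exact cls_hclo_6230
  · exact cls_hclo_6231
  · exact cls_hclo_6232
  · exact cls_hclo_6233
  · exact cls_hclo_6234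
  · exact cls_hclo_6235
  · exact cls_hclo_6236
  · exact cls_hclo_6237
  · exact cls_hclo_6238
  · exact cls_hclo_6239
  · exact cls_hclo_6240
  · exact cls_hclo_6241
  · exact cls_hclo_6242
  · exact cls_hclo_6243
  · exact cls_hclo_6244
  · exact cls_hclo_6245
  · exact cls_hclo_6246
  · exact cls_hclo_6247
  · exact cls_hclo_6248
  · exact cls_hclo_6249
  · exact cls_hclo_6250
  · exact cls_hclo_6251
  · exact cls_hclo_6252
  · exact cls_hclo_6253
  · exact cls_hclo_6254
  · exact cls_hclo_6255
  · exact cls_hclo_6256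
  · exact cls_hclo_6257
  · exact cls_hclo_6258
  · exact cls_hclo_6259
  · exact cls_hclo_6260
  · exact cls_hclo_6261
  · exact cls_hclo_6262
  · exact cls_hclo_6263
  · exact cls_hclo_6264
  · exact cls_hclo_6265
  · exact cls_hclo_6266
  · exact cls_hclo_6267
  · exact cls_hclo_6268
  · exact cls_hclo_6269
  · exact cls_hclo_6270
  · exact cls_hclo_6271
  · exact cls_hclo_6272
  · exact cls_hclo_6273
  · exact cls_hclo_6274
  · exact cls_hclo_6275
  · exact cls_hclo_6276
  · exact cls_hclo_6277
  · exact cls_hclo_6278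
  · exact cls_hclo_6279
  · exact cls_hclo_6280
  · exact cls_hclo_6281
  · exact cls_hclo_6282
  · exact cls_hclo_6283
  · exact cls_hclo_6284
  · exact cls_hclo_6285
  · exact cls_hclo_6286
  · exact cls_hclo_6287
  · exact cls_hclo_6288
  · exact cls_hclo_6289
  · exact cls_hclo_6290
  · exact cls_hclo_6291
  · exact cls_hclo_6292
  · exact cls_hclo_6293
  · exact cls_hclo_6294
  · exact cls_hclo_6295
  · exact cls_hclo_6296
  · exact cls_hclo_6297
  · exact cls_hclo_6298
  · exact cls_hclo_6299
  · exact cls_hclo_6300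
  · exact cls_hclo_6301
  · exact cls_hclo_6302
  · exact cls_hclo_6303
  · exact cls_hclo_6304
  · exact cls_hclo_6305
  · exact cls_hclo_6306
  · exact cls_hclo_6307
  · exact cls_hclo_6308
  · exact cls_hclo_6309
  · exact cls_hclo_6310
  · exact cls_hclo_6311
  · exact cls_hclo_6312
  · exact cls_hclo_6313
  · exact cls_hclo_6314
  · exact cls_hclo_6315
  · exact cls_hclo_6316
  · exact cls_hclo_6317
  · exact cls_hclo_6318
  · exact cls_hclo_6319
  · exact cls_hclo_6320
  · exact cls_hclo_6321
  · exact cls_hclo_6322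
  · exact cls_hclo_6323
  · exact cls_hclo_6324
  · exact cls_hclo_6325
  · exact cls_hclo_6326
  · exact cls_hclo_6327
  · exact cls_hclo_6328
  · exact cls_hclo_6329
  · exact cls_hclo_6330
  · exact cls_hclo_6331
  · exact cls_hclo_6332
  · exact cls_hclo_6333
  · exact cls_hclo_6334
  · exact cls_hclo_6335
  · exact cls_hclo_6336
  · exact cls_hclo_6337
  · exact cls_hclo_6338
  · exact cls_hclo_6339
  · exact cls_hclo_6340
  · exact cls_hclo_6341
  · exact cls_hclo_6342
  · exact cls_hclo_6343
  · exact cls_hclo_6344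
  · exact cls_hclo_6345
  · exact cls_hclo_6346
  · exact cls_hclo_6347
  · exact cls_hclo_6348
  · exact cls_hclo_6349
  · exact cls_hclo_6350
  · exact cls_hclo_6351
  · exact cls_hclo_6352
  · exact cls_hclo_6353
  · exact cls_hclo_6354
  · exact cls_hclo_6355
  · exact cls_hclo_6356
  · exact cls_hclo_6357
  · exact cls_hclo_6358
  · exact cls_hclo_6359
  · exact cls_hclo_6360
  · exact cls_hclo_6361
  · exact cls_hclo_6362
  · exact cls_hclo_6363
  · exact cls_hclo_6364
  · exact cls_hclo_6365
  · exact cls_hclo_6366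
  · exact cls_hclo_6367
  · exact cls_hclo_6368
  · exact cls_hclo_6369
  · exact cls_hclo_6370
  · exact cls_hclo_6371
  · exact cls_hclo_6372
  · exact cls_hclo_6373
  · exact cls_hclo_6374
  · exact cls_hclo_6375
  · exact cls_hclo_6376
  · exact cls_hclo_6377
  · exact cls_hclo_6378
  · exact cls_hclo_6379
  · exact cls_hclo_6380
  · exact cls_hclo_6381
  · exact cls_hclo_6382
  · exact cls_hclo_6383
  · exact cls_hclo_6384
  · exact cls_hclo_6385
  · exact cls_hclo_6386
  · exact cls_hclo_6387
  · exact cls_hclo_6388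
  · exact cls_hclo_6389
  · exact cls_hclo_6390
  · exact cls_hclo_6391
  · exact cls_hclo_6392
  · exact cls_hclo_6393
  · exact cls_hclo_6394
  · exact cls_hclo_6395
  · exact cls_hclo_6396
  · exact cls_hclo_6397
  · exact cls_hclo_6398
  · exact cls_hclo_6399
  · exact cls_hclo_6400
  · exact cls_hclo_6401
  · exact cls_hclo_6402
  · exact cls_hclo_6403
  · exact cls_hclo_6404
  · exact cls_hclo_6405
  · exact cls_hclo_6406
  · exact cls_hclo_6407
  · exact cls_hclo_6408
  · exact cls_hclo_6409
  · exact cls_hclo_6410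
  · exact cls_hclo_6411
  · exact cls_hclo_6412
  · exact cls_hclo_6413
  · exact cls_hclo_6414
  · exact cls_hclo_6415
  · exact cls_hclo_6416
  · exact cls_hclo_6417
  · exact cls_hclo_6418
  · exact cls_hclo_6419
  · exact cls_hclo_6420
  · exact cls_hclo_6421
  · exact cls_hclo_6422
  · exact cls_hclo_6423
  · exact cls_hclo_6424
  · exact cls_hclo_6425
  · exact cls_hclo_6426
  · exact cls_hclo_6427
  · exact cls_hclo_6428
  · exact cls_hclo_6429
  · exact cls_hclo_6430
  · exact cls_hclo_6431
  · exact cls_hclo_6432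
  · exact cls_hclo_6433
  · exact cls_hclo_6434
  · exact cls_hclo_6435
  · exact cls_hclo_6436
  · exact cls_hclo_6437
  · exact cls_hclo_6438
  · exact cls_hclo_6439
  · exact cls_hclo_6440
  · exact cls_hclo_6441
  · exact cls_hclo_6442
  · exact cls_hclo_6443
  · exact cls_hclo_6444
  · exact cls_hclo_6445
  · exact cls_hclo_6446
  · exact cls_hclo_6447
  · exact cls_hclo_6448
  · exact cls_hclo_6449
  · exact cls_hclo_6450
  · exact cls_hclo_6451
  · exact cls_hclo_6452
  · exact cls_hclo_6453
  · exact cls_hclo_6454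
  · exact cls_hclo_6455
  · exact cls_hclo_6456
  · exact cls_hclo_6457
  · exact cls_hclo_6458
  · exact cls_hclo_6459
  · exact cls_hclo_6460
  · exact cls_hclo_6461
  · exact cls_hclo_6462
  · exact cls_hclo_6463
  · exact cls_hclo_6464
  · exact cls_hclo_6465
  · exact cls_hclo_6466
  · exact cls_hclo_6467
  · exact cls_hclo_6468
  · exact cls_hclo_6469
  · exact cls_hclo_6470
  · exact cls_hclo_6471
  · exact cls_hclo_6472
  · exact cls_hclo_6473
  · exact cls_hclo_6474
  · exact cls_hclo_6475
  · exact cls_hclo_6476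
  · exact cls_hclo_6477
  · exact cls_hclo_6478
  · exact cls_hclo_6479
  · exact cls_hclo_6480
  · exact cls_hclo_6481
  · exact cls_hclo_6482
  · exact cls_hclo_6483
  · exact cls_hclo_6484
  · exact cls_hclo_6485
  · exact cls_hclo_6486
  · exact cls_hclo_6487
  · exact cls_hclo_6488
  · exact cls_hclo_6489
  · exact cls_hclo_6490
  · exact cls_hclo_6491
  · exact cls_hclo_6492
  · exact cls_hclo_6493
  · exact cls_hclo_6494
  · exact cls_hclo_6495
  · exact cls_hclo_6496
  · exact cls_hclo_6497
  · exact cls_hclo_6498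
  · exact cls_hclo_6499
  · exact cls_hclo_6500
  · exact cls_hclo_6501
  · exact cls_hclo_6502
  · exact cls_hclo_6503
  · exact cls_hclo_6504
  · exact cls_hclo_6505
  · exact cls_hclo_6506
  · exact cls_hclo_6507
  · exact cls_hclo_6508
  · exact cls_hclo_6509
  · exact cls_hclo_6510
  · exact cls_hclo_6511
  · exact cls_hclo_6512
  · exact cls_hclo_6513
  · exact cls_hclo_6514
  · exact cls_hclo_6515
  · exact cls_hclo_6516
  · exact cls_hclo_6517
  · exact cls_hclo_6518
  · exact cls_hclo_6519
  · exact cls_hclo_6520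
  · exact cls_hclo_6521
  · exact cls_hclo_6522
  · exact cls_hclo_6523
  · exact cls_hclo_6524

set_option maxRecDepth 1000000 in
theorem cls_hb : andB (ltB dCl.bI dE.p) (andB (ltB dCl.bJ dCl.R) (agreeL dC.bs (T dD dE.iB) (crF dD dE dCl dCl.bI dCl.bJ))) = true := by decide +kernel

set_option maxRecDepth 1000000 in
theorem cls_hb2 : allB (fun x => Nat.beq (T dD dE.iB (T dD dE.iB x)) x) dD.n = true := by decide +kernel

theorem clsOK : ClsOK dD dC dE dCl := { hclo := cls_hclo, hb := cls_hb, hb2 := cls_hb2 }

set_option maxRecDepth 1000000 in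
theorem tst_hrels : relsOK dD dE dTs.rels = true := by decide +kernel

theorem tst_htst : ∀ v, v < dTs.K0.length * dCl.R → testChk dD dC dE dCl dTs v = true := by
  intro v hv
  have h2 : dTs.K0.length * dCl.R = 40950 := by decide
  rw [h2] at hv
  have hv' : v < 1638 * 25 := by omega
  refine allC_true (K := 1638) (c := 25) ?_ hv'
  intro i hi
  interval_cases i
  · exact tst_htst_0
  · exact tst_htst_1
  · exact tst_htst_2
  · exact tst_htst_3
  · exact tst_htst_4
  · exact tst_htst_5
  · exact tst_htst_6
  · exact tst_htst_7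
  · exact tst_htst_8
  · exact tst_htst_9
  · exact tst_htst_10
  · exact tst_htst_11
  · exact tst_htst_12
  · exact tst_htst_13
  · exact tst_htst_14
  · exact tst_htst_15
  · exact tst_htst_16
  · exact tst_htst_17
  · exact tst_htst_18
  · exact tst_htst_19
  · exact tst_htst_20
  · exact tst_htst_21
  · exact tst_htst_22
  · exact tst_htst_23
  · exact tst_htst_24
  · exact tst_htst_25
  · exact tst_htst_26
  · exact tst_htst_27
  · exact tst_htst_28
  · exact tst_htst_29
  · exact tst_htst_30
  · exact tst_htst_31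
  · exact tst_htst_32
  · exact tst_htst_33
  · exact tst_htst_34
  · exact tst_htst_35
  · exact tst_htst_36
  · exact tst_htst_37
  · exact tst_htst_38
  · exact tst_htst_39
  · exact tst_htst_40
  · exact tst_htst_41
  · exact tst_htst_42
  · exact tst_htst_43
  · exact tst_htst_44
  · exact tst_htst_45
  · exact tst_htst_46
  · exact tst_htst_47
  · exact tst_htst_48
  · exact tst_htst_49
  · exact tst_htst_50
  · exact tst_htst_51
  · exact tst_htst_52
  · exact tst_htst_53
  · exact tst_htst_54
  · exact tst_htst_55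
  · exact tst_htst_56
  · exact tst_htst_57
  · exact tst_htst_58
  · exact tst_htst_59
  · exact tst_htst_60
  · exact tst_htst_61
  · exact tst_htst_62
  · exact tst_htst_63
  · exact tst_htst_64
  · exact tst_htst_65
  · exact tst_htst_66
  · exact tst_htst_67
  · exact tst_htst_68
  · exact tst_htst_69
  · exact tst_htst_70
  · exact tst_htst_71
  · exact tst_htst_72
  · exact tst_htst_73
  · exact tst_htst_74
  · exact tst_htst_75
  · exact tst_htst_76
  · exact tst_htst_77
  · exact tst_htst_78
  · exact tst_htst_79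
  · exact tst_htst_80
  · exact tst_htst_81
  · exact tst_htst_82
  · exact tst_htst_83
  · exact tst_htst_84
  · exact tst_htst_85
  · exact tst_htst_86
  · exact tst_htst_87
  · exact tst_htst_88
  · exact tst_htst_89
  · exact tst_htst_90
  · exact tst_htst_91
  · exact tst_htst_92
  · exact tst_htst_93
  · exact tst_htst_94
  · exact tst_htst_95
  · exact tst_htst_96
  · exact tst_htst_97
  · exact tst_htst_98
  · exact tst_htst_99
  · exact tst_htst_100
  · exact tst_htst_101
  · exact tst_htst_102
  · exact tst_htst_103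
  · exact tst_htst_104
  · exact tst_htst_105
  · exact tst_htst_106
  · exact tst_htst_107
  · exact tst_htst_108
  · exact tst_htst_109
  · exact tst_htst_110
  · exact tst_htst_111
  · exact tst_htst_112
  · exact tst_htst_113
  · exact tst_htst_114
  · exact tst_htst_115
  · exact tst_htst_116
  · exact tst_htst_117
  · exact tst_htst_118
  · exact tst_htst_119
  · exact tst_htst_120
  · exact tst_htst_121
  · exact tst_htst_122
  · exact tst_htst_123
  · exact tst_htst_124
  · exact tst_htst_125
  · exact tst_htst_126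
  · exact tst_htst_127
  · exact tst_htst_128
  · exact tst_htst_129
  · exact tst_htst_130
  · exact tst_htst_131
  · exact tst_htst_132
  · exact tst_htst_133
  · exact tst_htst_134
  · exact tst_htst_135
  · exact tst_htst_136
  · exact tst_htst_137
  · exact tst_htst_138
  · exact tst_htst_139
  · exact tst_htst_140
  · exact tst_htst_141
  · exact tst_htst_142
  · exact tst_htst_143
  · exact tst_htst_144
  · exact tst_htst_145
  · exact tst_htst_146
  · exact tst_htst_147
  · exact tst_htst_148
  · exact tst_htst_149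
  · exact tst_htst_150
  · exact tst_htst_151
  · exact tst_htst_152
  · exact tst_htst_153
  · exact tst_htst_154
  · exact tst_htst_155
  · exact tst_htst_156
  · exact tst_htst_157
  · exact tst_htst_158
  · exact tst_htst_159
  · exact tst_htst_160
  · exact tst_htst_161
  · exact tst_htst_162
  · exact tst_htst_163
  · exact tst_htst_164
  · exact tst_htst_165
  · exact tst_htst_166
  · exact tst_htst_167
  · exact tst_htst_168
  · exact tst_htst_169
  · exact tst_htst_170
  · exact tst_htst_171
  · exact tst_htst_172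
  · exact tst_htst_173
  · exact tst_htst_174
  · exact tst_htst_175
  · exact tst_htst_176
  · exact tst_htst_177
  · exact tst_htst_178
  · exact tst_htst_179
  · exact tst_htst_180
  · exact tst_htst_181
  · exact tst_htst_182
  · exact tst_htst_183
  · exact tst_htst_184
  · exact tst_htst_185
  · exact tst_htst_186
  · exact tst_htst_187
  · exact tst_htst_188
  · exact tst_htst_189
  · exact tst_htst_190
  · exact tst_htst_191
  · exact tst_htst_192
  · exact tst_htst_193
  · exact tst_htst_194
  · exact tst_htst_195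
  · exact tst_htst_196
  · exact tst_htst_197
  · exact tst_htst_198
  · exact tst_htst_199
  · exact tst_htst_200
  · exact tst_htst_201
  · exact tst_htst_202
  · exact tst_htst_203
  · exact tst_htst_204
  · exact tst_htst_205
  · exact tst_htst_206
  · exact tst_htst_207
  · exact tst_htst_208
  · exact tst_htst_209
  · exact tst_htst_210
  · exact tst_htst_211
  · exact tst_htst_212
  · exact tst_htst_213
  · exact tst_htst_214
  · exact tst_htst_215
  · exact tst_htst_216
  · exact tst_htst_217
  · exact tst_htst_218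
  · exact tst_htst_219
  · exact tst_htst_220
  · exact tst_htst_221
  · exact tst_htst_222
  · exact tst_htst_223
  · exact tst_htst_224
  · exact tst_htst_225
  · exact tst_htst_226
  · exact tst_htst_227
  · exact tst_htst_228
  · exact tst_htst_229
  · exact tst_htst_230
  · exact tst_htst_231
  · exact tst_htst_232
  · exact tst_htst_233
  · exact tst_htst_234
  · exact tst_htst_235
  · exact tst_htst_236
  · exact tst_htst_237
  · exact tst_htst_238
  · exact tst_htst_239
  · exact tst_htst_240
  · exact tst_htst_241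
  · exact tst_htst_242
  · exact tst_htst_243
  · exact tst_htst_244
  · exact tst_htst_245
  · exact tst_htst_246
  · exact tst_htst_247
  · exact tst_htst_248
  · exact tst_htst_249
  · exact tst_htst_250
  · exact tst_htst_251
  · exact tst_htst_252
  · exact tst_htst_253
  · exact tst_htst_254
  · exact tst_htst_255
  · exact tst_htst_256
  · exact tst_htst_257
  · exact tst_htst_258
  · exact tst_htst_259
  · exact tst_htst_260
  · exact tst_htst_261
  · exact tst_htst_262
  · exact tst_htst_263
  · exact tst_htst_264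
  · exact tst_htst_265
  · exact tst_htst_266
  · exact tst_htst_267
  · exact tst_htst_268
  · exact tst_htst_269
  · exact tst_htst_270
  · exact tst_htst_271
  · exact tst_htst_272
  · exact tst_htst_273
  · exact tst_htst_274
  · exact tst_htst_275
  · exact tst_htst_276
  · exact tst_htst_277
  · exact tst_htst_278
  · exact tst_htst_279
  · exact tst_htst_280
  · exact tst_htst_281
  · exact tst_htst_282
  · exact tst_htst_283
  · exact tst_htst_284
  · exact tst_htst_285
  · exact tst_htst_286
  · exact tst_htst_287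
  · exact tst_htst_288
  · exact tst_htst_289
  · exact tst_htst_290
  · exact tst_htst_291
  · exact tst_htst_292
  · exact tst_htst_293
  · exact tst_htst_294
  · exact tst_htst_295
  · exact tst_htst_296
  · exact tst_htst_297
  · exact tst_htst_298
  · exact tst_htst_299
  · exact tst_htst_300
  · exact tst_htst_301
  · exact tst_htst_302
  · exact tst_htst_303
  · exact tst_htst_304
  · exact tst_htst_305
  · exact tst_htst_306
  · exact tst_htst_307
  · exact tst_htst_308
  · exact tst_htst_309
  · exact tst_htst_310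
  · exact tst_htst_311
  · exact tst_htst_312
  · exact tst_htst_313
  · exact tst_htst_314
  · exact tst_htst_315
  · exact tst_htst_316
  · exact tst_htst_317
  · exact tst_htst_318
  · exact tst_htst_319
  · exact tst_htst_320
  · exact tst_htst_321
  · exact tst_htst_322
  · exact tst_htst_323
  · exact tst_htst_324
  · exact tst_htst_325
  · exact tst_htst_326
  · exact tst_htst_327
  · exact tst_htst_328
  · exact tst_htst_329
  · exact tst_htst_330
  · exact tst_htst_331
  · exact tst_htst_332
  · exact tst_htst_333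
  · exact tst_htst_334
  · exact tst_htst_335
  · exact tst_htst_336
  · exact tst_htst_337
  · exact tst_htst_338
  · exact tst_htst_339
  · exact tst_htst_340
  · exact tst_htst_341
  · exact tst_htst_342
  · exact tst_htst_343
  · exact tst_htst_344
  · exact tst_htst_345
  · exact tst_htst_346
  · exact tst_htst_347
  · exact tst_htst_348
  · exact tst_htst_349
  · exact tst_htst_350
  · exact tst_htst_351
  · exact tst_htst_352
  · exact tst_htst_353
  · exact tst_htst_354
  · exact tst_htst_355
  · exact tst_htst_356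
  · exact tst_htst_357
  · exact tst_htst_358
  · exact tst_htst_359
  · exact tst_htst_360
  · exact tst_htst_361
  · exact tst_htst_362
  · exact tst_htst_363
  · exact tst_htst_364
  · exact tst_htst_365
  · exact tst_htst_366
  · exact tst_htst_367
  · exact tst_htst_368
  · exact tst_htst_369
  · exact tst_htst_370
  · exact tst_htst_371
  · exact tst_htst_372
  · exact tst_htst_373
  · exact tst_htst_374
  · exact tst_htst_375
  · exact tst_htst_376
  · exact tst_htst_377
  · exact tst_htst_378
  · exact tst_htst_379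
  · exact tst_htst_380
  · exact tst_htst_381
  · exact tst_htst_382
  · exact tst_htst_383
  · exact tst_htst_384
  · exact tst_htst_385
  · exact tst_htst_386
  · exact tst_htst_387
  · exact tst_htst_388
  · exact tst_htst_389
  · exact tst_htst_390
  · exact tst_htst_391
  · exact tst_htst_392
  · exact tst_htst_393
  · exact tst_htst_394
  · exact tst_htst_395
  · exact tst_htst_396
  · exact tst_htst_397
  · exact tst_htst_398
  · exact tst_htst_399
  · exact tst_htst_400
  · exact tst_htst_401
  · exact tst_htst_402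
  · exact tst_htst_403
  · exact tst_htst_404
  · exact tst_htst_405
  · exact tst_htst_406
  · exact tst_htst_407
  · exact tst_htst_408
  · exact tst_htst_409
  · exact tst_htst_410
  · exact tst_htst_411
  · exact tst_htst_412
  · exact tst_htst_413
  · exact tst_htst_414
  · exact tst_htst_415
  · exact tst_htst_416
  · exact tst_htst_417
  · exact tst_htst_418
  · exact tst_htst_419
  · exact tst_htst_420
  · exact tst_htst_421
  · exact tst_htst_422
  · exact tst_htst_423
  · exact tst_htst_424
  · exact tst_htst_425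
  · exact tst_htst_426
  · exact tst_htst_427
  · exact tst_htst_428
  · exact tst_htst_429
  · exact tst_htst_430
  · exact tst_htst_431
  · exact tst_htst_432
  · exact tst_htst_433
  · exact tst_htst_434
  · exact tst_htst_435
  · exact tst_htst_436
  · exact tst_htst_437
  · exact tst_htst_438
  · exact tst_htst_439
  · exact tst_htst_440
  · exact tst_htst_441
  · exact tst_htst_442
  · exact tst_htst_443
  · exact tst_htst_444
  · exact tst_htst_445
  · exact tst_htst_446
  · exact tst_htst_447
  · exact tst_htst_448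
  · exact tst_htst_449
  · exact tst_htst_450
  · exact tst_htst_451
  · exact tst_htst_452
  · exact tst_htst_453
  · exact tst_htst_454
  · exact tst_htst_455
  · exact tst_htst_456
  · exact tst_htst_457
  · exact tst_htst_458
  · exact tst_htst_459
  · exact tst_htst_460
  · exact tst_htst_461
  · exact tst_htst_462
  · exact tst_htst_463
  · exact tst_htst_464
  · exact tst_htst_465
  · exact tst_htst_466
  · exact tst_htst_467
  · exact tst_htst_468
  · exact tst_htst_469
  · exact tst_htst_470
  · exact tst_htst_471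
  · exact tst_htst_472
  · exact tst_htst_473
  · exact tst_htst_474
  · exact tst_htst_475
  · exact tst_htst_476
  · exact tst_htst_477
  · exact tst_htst_478
  · exact tst_htst_479
  · exact tst_htst_480
  · exact tst_htst_481
  · exact tst_htst_482
  · exact tst_htst_483
  · exact tst_htst_484
  · exact tst_htst_485
  · exact tst_htst_486
  · exact tst_htst_487
  · exact tst_htst_488
  · exact tst_htst_489
  · exact tst_htst_490
  · exact tst_htst_491
  · exact tst_htst_492
  · exact tst_htst_493
  · exact tst_htst_494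
  · exact tst_htst_495
  · exact tst_htst_496
  · exact tst_htst_497
  · exact tst_htst_498
  · exact tst_htst_499
  · exact tst_htst_500
  · exact tst_htst_501
  · exact tst_htst_502
  · exact tst_htst_503
  · exact tst_htst_504
  · exact tst_htst_505
  · exact tst_htst_506
  · exact tst_htst_507
  · exact tst_htst_508
  · exact tst_htst_509
  · exact tst_htst_510
  · exact tst_htst_511
  · exact tst_htst_512
  · exact tst_htst_513
  · exact tst_htst_514
  · exact tst_htst_515
  · exact tst_htst_516
  · exact tst_htst_517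
  · exact tst_htst_518
  · exact tst_htst_519
  · exact tst_htst_520
  · exact tst_htst_521
  · exact tst_htst_522
  · exact tst_htst_523
  · exact tst_htst_524
  · exact tst_htst_525
  · exact tst_htst_526
  · exact tst_htst_527
  · exact tst_htst_528
  · exact tst_htst_529
  · exact tst_htst_530
  · exact tst_htst_531
  · exact tst_htst_532
  · exact tst_htst_533
  · exact tst_htst_534
  · exact tst_htst_535
  · exact tst_htst_536
  · exact tst_htst_537
  · exact tst_htst_538
  · exact tst_htst_539
  · exact tst_htst_540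
  · exact tst_htst_541
  · exact tst_htst_542
  · exact tst_htst_543
  · exact tst_htst_544
  · exact tst_htst_545
  · exact tst_htst_546
  · exact tst_htst_547
  · exact tst_htst_548
  · exact tst_htst_549
  · exact tst_htst_550
  · exact tst_htst_551
  · exact tst_htst_552
  · exact tst_htst_553
  · exact tst_htst_554
  · exact tst_htst_555
  · exact tst_htst_556
  · exact tst_htst_557
  · exact tst_htst_558
  · exact tst_htst_559
  · exact tst_htst_560
  · exact tst_htst_561
  · exact tst_htst_562
  · exact tst_htst_563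
  · exact tst_htst_564
  · exact tst_htst_565
  · exact tst_htst_566
  · exact tst_htst_567
  · exact tst_htst_568
  · exact tst_htst_569
  · exact tst_htst_570
  · exact tst_htst_571
  · exact tst_htst_572
  · exact tst_htst_573
  · exact tst_htst_574
  · exact tst_htst_575
  · exact tst_htst_576
  · exact tst_htst_577
  · exact tst_htst_578
  · exact tst_htst_579
  · exact tst_htst_580
  · exact tst_htst_581
  · exact tst_htst_582
  · exact tst_htst_583
  · exact tst_htst_584
  · exact tst_htst_585
  · exact tst_htst_586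
  · exact tst_htst_587
  · exact tst_htst_588
  · exact tst_htst_589
  · exact tst_htst_590
  · exact tst_htst_591
  · exact tst_htst_592
  · exact tst_htst_593
  · exact tst_htst_594
  · exact tst_htst_595
  · exact tst_htst_596
  · exact tst_htst_597
  · exact tst_htst_598
  · exact tst_htst_599
  · exact tst_htst_600
  · exact tst_htst_601
  · exact tst_htst_602
  · exact tst_htst_603
  · exact tst_htst_604
  · exact tst_htst_605
  · exact tst_htst_606
  · exact tst_htst_607
  · exact tst_htst_608
  · exact tst_htst_609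
  · exact tst_htst_610
  · exact tst_htst_611
  · exact tst_htst_612
  · exact tst_htst_613
  · exact tst_htst_614
  · exact tst_htst_615
  · exact tst_htst_616
  · exact tst_htst_617
  · exact tst_htst_618
  · exact tst_htst_619
  · exact tst_htst_620
  · exact tst_htst_621
  · exact tst_htst_622
  · exact tst_htst_623
  · exact tst_htst_624
  · exact tst_htst_625
  · exact tst_htst_626
  · exact tst_htst_627
  · exact tst_htst_628
  · exact tst_htst_629
  · exact tst_htst_630
  · exact tst_htst_631
  · exact tst_htst_632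
  · exact tst_htst_633
  · exact tst_htst_634
  · exact tst_htst_635
  · exact tst_htst_636
  · exact tst_htst_637
  · exact tst_htst_638
  · exact tst_htst_639
  · exact tst_htst_640
  · exact tst_htst_641
  · exact tst_htst_642
  · exact tst_htst_643
  · exact tst_htst_644
  · exact tst_htst_645
  · exact tst_htst_646
  · exact tst_htst_647
  · exact tst_htst_648
  · exact tst_htst_649
  · exact tst_htst_650
  · exact tst_htst_651
  · exact tst_htst_652
  · exact tst_htst_653
  · exact tst_htst_654
  · exact tst_htst_655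
  · exact tst_htst_656
  · exact tst_htst_657
  · exact tst_htst_658
  · exact tst_htst_659
  · exact tst_htst_660
  · exact tst_htst_661
  · exact tst_htst_662
  · exact tst_htst_663
  · exact tst_htst_664
  · exact tst_htst_665
  · exact tst_htst_666
  · exact tst_htst_667
  · exact tst_htst_668
  · exact tst_htst_669
  · exact tst_htst_670
  · exact tst_htst_671
  · exact tst_htst_672
  · exact tst_htst_673
  · exact tst_htst_674
  · exact tst_htst_675
  · exact tst_htst_676
  · exact tst_htst_677
  · exact tst_htst_678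
  · exact tst_htst_679
  · exact tst_htst_680
  · exact tst_htst_681
  · exact tst_htst_682
  · exact tst_htst_683
  · exact tst_htst_684
  · exact tst_htst_685
  · exact tst_htst_686
  · exact tst_htst_687
  · exact tst_htst_688
  · exact tst_htst_689
  · exact tst_htst_690
  · exact tst_htst_691
  · exact tst_htst_692
  · exact tst_htst_693
  · exact tst_htst_694
  · exact tst_htst_695
  · exact tst_htst_696
  · exact tst_htst_697
  · exact tst_htst_698
  · exact tst_htst_699
  · exact tst_htst_700
  · exact tst_htst_701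
  · exact tst_htst_702
  · exact tst_htst_703
  · exact tst_htst_704
  · exact tst_htst_705
  · exact tst_htst_706
  · exact tst_htst_707
  · exact tst_htst_708
  · exact tst_htst_709
  · exact tst_htst_710
  · exact tst_htst_711
  · exact tst_htst_712
  · exact tst_htst_713
  · exact tst_htst_714
  · exact tst_htst_715
  · exact tst_htst_716
  · exact tst_htst_717
  · exact tst_htst_718
  · exact tst_htst_719
  · exact tst_htst_720
  · exact tst_htst_721
  · exact tst_htst_722
  · exact tst_htst_723
  · exact tst_htst_724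
  · exact tst_htst_725
  · exact tst_htst_726
  · exact tst_htst_727
  · exact tst_htst_728
  · exact tst_htst_729
  · exact tst_htst_730
  · exact tst_htst_731
  · exact tst_htst_732
  · exact tst_htst_733
  · exact tst_htst_734
  · exact tst_htst_735
  · exact tst_htst_736
  · exact tst_htst_737
  · exact tst_htst_738
  · exact tst_htst_739
  · exact tst_htst_740
  · exact tst_htst_741
  · exact tst_htst_742
  · exact tst_htst_743
  · exact tst_htst_744
  · exact tst_htst_745
  · exact tst_htst_746
  · exact tst_htst_747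
  · exact tst_htst_748
  · exact tst_htst_749
  · exact tst_htst_750
  · exact tst_htst_751
  · exact tst_htst_752
  · exact tst_htst_753
  · exact tst_htst_754
  · exact tst_htst_755
  · exact tst_htst_756
  · exact tst_htst_757
  · exact tst_htst_758
  · exact tst_htst_759
  · exact tst_htst_760
  · exact tst_htst_761
  · exact tst_htst_762
  · exact tst_htst_763
  · exact tst_htst_764
  · exact tst_htst_765
  · exact tst_htst_766
  · exact tst_htst_767
  · exact tst_htst_768
  · exact tst_htst_769
  · exact tst_htst_770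
  · exact tst_htst_771
  · exact tst_htst_772
  · exact tst_htst_773
  · exact tst_htst_774
  · exact tst_htst_775
  · exact tst_htst_776
  · exact tst_htst_777
  · exact tst_htst_778
  · exact tst_htst_779
  · exact tst_htst_780
  · exact tst_htst_781
  · exact tst_htst_782
  · exact tst_htst_783
  · exact tst_htst_784
  · exact tst_htst_785
  · exact tst_htst_786
  · exact tst_htst_787
  · exact tst_htst_788
  · exact tst_htst_789
  · exact tst_htst_790
  · exact tst_htst_791
  · exact tst_htst_792
  · exact tst_htst_793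
  · exact tst_htst_794
  · exact tst_htst_795
  · exact tst_htst_796
  · exact tst_htst_797
  · exact tst_htst_798
  · exact tst_htst_799
  · exact tst_htst_800
  · exact tst_htst_801
  · exact tst_htst_802
  · exact tst_htst_803
  · exact tst_htst_804
  · exact tst_htst_805
  · exact tst_htst_806
  · exact tst_htst_807
  · exact tst_htst_808
  · exact tst_htst_809
  · exact tst_htst_810
  · exact tst_htst_811
  · exact tst_htst_812
  · exact tst_htst_813
  · exact tst_htst_814
  · exact tst_htst_815
  · exact tst_htst_816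
  · exact tst_htst_817
  · exact tst_htst_818
  · exact tst_htst_819
  · exact tst_htst_820
  · exact tst_htst_821
  · exact tst_htst_822
  · exact tst_htst_823
  · exact tst_htst_824
  · exact tst_htst_825
  · exact tst_htst_826
  · exact tst_htst_827
  · exact tst_htst_828
  · exact tst_htst_829
  · exact tst_htst_830
  · exact tst_htst_831
  · exact tst_htst_832
  · exact tst_htst_833
  · exact tst_htst_834
  · exact tst_htst_835
  · exact tst_htst_836
  · exact tst_htst_837
  · exact tst_htst_838
  · exact tst_htst_839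
  · exact tst_htst_840
  · exact tst_htst_841
  · exact tst_htst_842
  · exact tst_htst_843
  · exact tst_htst_844
  · exact tst_htst_845
  · exact tst_htst_846
  · exact tst_htst_847
  · exact tst_htst_848
  · exact tst_htst_849
  · exact tst_htst_850
  · exact tst_htst_851
  · exact tst_htst_852
  · exact tst_htst_853
  · exact tst_htst_854
  · exact tst_htst_855
  · exact tst_htst_856
  · exact tst_htst_857
  · exact tst_htst_858
  · exact tst_htst_859
  · exact tst_htst_860
  · exact tst_htst_861
  · exact tst_htst_862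
  · exact tst_htst_863
  · exact tst_htst_864
  · exact tst_htst_865
  · exact tst_htst_866
  · exact tst_htst_867
  · exact tst_htst_868
  · exact tst_htst_869
  · exact tst_htst_870
  · exact tst_htst_871
  · exact tst_htst_872
  · exact tst_htst_873
  · exact tst_htst_874
  · exact tst_htst_875
  · exact tst_htst_876
  · exact tst_htst_877
  · exact tst_htst_878
  · exact tst_htst_879
  · exact tst_htst_880
  · exact tst_htst_881
  · exact tst_htst_882
  · exact tst_htst_883
  · exact tst_htst_884
  · exact tst_htst_885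
  · exact tst_htst_886
  · exact tst_htst_887
  · exact tst_htst_888
  · exact tst_htst_889
  · exact tst_htst_890
  · exact tst_htst_891
  · exact tst_htst_892
  · exact tst_htst_893
  · exact tst_htst_894
  · exact tst_htst_895
  · exact tst_htst_896
  · exact tst_htst_897
  · exact tst_htst_898
  · exact tst_htst_899
  · exact tst_htst_900
  · exact tst_htst_901
  · exact tst_htst_902
  · exact tst_htst_903
  · exact tst_htst_904
  · exact tst_htst_905
  · exact tst_htst_906
  · exact tst_htst_907
  · exact tst_htst_908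
  · exact tst_htst_909
  · exact tst_htst_910
  · exact tst_htst_911
  · exact tst_htst_912
  · exact tst_htst_913
  · exact tst_htst_914
  · exact tst_htst_915
  · exact tst_htst_916
  · exact tst_htst_917
  · exact tst_htst_918
  · exact tst_htst_919
  · exact tst_htst_920
  · exact tst_htst_921
  · exact tst_htst_922
  · exact tst_htst_923
  · exact tst_htst_924
  · exact tst_htst_925
  · exact tst_htst_926
  · exact tst_htst_927
  · exact tst_htst_928
  · exact tst_htst_929
  · exact tst_htst_930
  · exact tst_htst_931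
  · exact tst_htst_932
  · exact tst_htst_933
  · exact tst_htst_934
  · exact tst_htst_935
  · exact tst_htst_936
  · exact tst_htst_937
  · exact tst_htst_938
  · exact tst_htst_939
  · exact tst_htst_940
  · exact tst_htst_941
  · exact tst_htst_942
  · exact tst_htst_943
  · exact tst_htst_944
  · exact tst_htst_945
  · exact tst_htst_946
  · exact tst_htst_947
  · exact tst_htst_948
  · exact tst_htst_949
  · exact tst_htst_950
  · exact tst_htst_951
  · exact tst_htst_952
  · exact tst_htst_953
  · exact tst_htst_954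
  · exact tst_htst_955
  · exact tst_htst_956
  · exact tst_htst_957
  · exact tst_htst_958
  · exact tst_htst_959
  · exact tst_htst_960
  · exact tst_htst_961
  · exact tst_htst_962
  · exact tst_htst_963
  · exact tst_htst_964
  · exact tst_htst_965
  · exact tst_htst_966
  · exact tst_htst_967
  · exact tst_htst_968
  · exact tst_htst_969
  · exact tst_htst_970
  · exact tst_htst_971
  · exact tst_htst_972
  · exact tst_htst_973
  · exact tst_htst_974
  · exact tst_htst_975
  · exact tst_htst_976
  · exact tst_htst_977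
  · exact tst_htst_978
  · exact tst_htst_979
  · exact tst_htst_980
  · exact tst_htst_981
  · exact tst_htst_982
  · exact tst_htst_983
  · exact tst_htst_984
  · exact tst_htst_985
  · exact tst_htst_986
  · exact tst_htst_987
  · exact tst_htst_988
  · exact tst_htst_989
  · exact tst_htst_990
  · exact tst_htst_991
  · exact tst_htst_992
  · exact tst_htst_993
  · exact tst_htst_994
  · exact tst_htst_995
  · exact tst_htst_996
  · exact tst_htst_997
  · exact tst_htst_998
  · exact tst_htst_999
  · exact tst_htst_1000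
  · exact tst_htst_1001
  · exact tst_htst_1002
  · exact tst_htst_1003
  · exact tst_htst_1004
  · exact tst_htst_1005
  · exact tst_htst_1006
  · exact tst_htst_1007
  · exact tst_htst_1008
  · exact tst_htst_1009
  · exact tst_htst_1010
  · exact tst_htst_1011
  · exact tst_htst_1012
  · exact tst_htst_1013
  · exact tst_htst_1014
  · exact tst_htst_1015
  · exact tst_htst_1016
  · exact tst_htst_1017
  · exact tst_htst_1018
  · exact tst_htst_1019
  · exact tst_htst_1020
  · exact tst_htst_1021
  · exact tst_htst_1022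
  · exact tst_htst_1023
  · exact tst_htst_1024
  · exact tst_htst_1025
  · exact tst_htst_1026
  · exact tst_htst_1027
  · exact tst_htst_1028
  · exact tst_htst_1029
  · exact tst_htst_1030
  · exact tst_htst_1031
  · exact tst_htst_1032
  · exact tst_htst_1033
  · exact tst_htst_1034
  · exact tst_htst_1035
  · exact tst_htst_1036
  · exact tst_htst_1037
  · exact tst_htst_1038
  · exact tst_htst_1039
  · exact tst_htst_1040
  · exact tst_htst_1041
  · exact tst_htst_1042
  · exact tst_htst_1043
  · exact tst_htst_1044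
  · exact tst_htst_1045
  · exact tst_htst_1046
  · exact tst_htst_1047
  · exact tst_htst_1048
  · exact tst_htst_1049
  · exact tst_htst_1050
  · exact tst_htst_1051
  · exact tst_htst_1052
  · exact tst_htst_1053
  · exact tst_htst_1054
  · exact tst_htst_1055
  · exact tst_htst_1056
  · exact tst_htst_1057
  · exact tst_htst_1058
  · exact tst_htst_1059
  · exact tst_htst_1060
  · exact tst_htst_1061
  · exact tst_htst_1062
  · exact tst_htst_1063
  · exact tst_htst_1064
  · exact tst_htst_1065
  · exact tst_htst_1066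
  · exact tst_htst_1067
  · exact tst_htst_1068
  · exact tst_htst_1069
  · exact tst_htst_1070
  · exact tst_htst_1071
  · exact tst_htst_1072
  · exact tst_htst_1073
  · exact tst_htst_1074
  · exact tst_htst_1075
  · exact tst_htst_1076
  · exact tst_htst_1077
  · exact tst_htst_1078
  · exact tst_htst_1079
  · exact tst_htst_1080
  · exact tst_htst_1081
  · exact tst_htst_1082
  · exact tst_htst_1083
  · exact tst_htst_1084
  · exact tst_htst_1085
  · exact tst_htst_1086
  · exact tst_htst_1087
  · exact tst_htst_1088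
  · exact tst_htst_1089
  · exact tst_htst_1090
  · exact tst_htst_1091
  · exact tst_htst_1092
  · exact tst_htst_1093
  · exact tst_htst_1094
  · exact tst_htst_1095
  · exact tst_htst_1096
  · exact tst_htst_1097
  · exact tst_htst_1098
  · exact tst_htst_1099
  · exact tst_htst_1100
  · exact tst_htst_1101
  · exact tst_htst_1102
  · exact tst_htst_1103
  · exact tst_htst_1104
  · exact tst_htst_1105
  · exact tst_htst_1106
  · exact tst_htst_1107
  · exact tst_htst_1108
  · exact tst_htst_1109
  · exact tst_htst_1110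
  · exact tst_htst_1111
  · exact tst_htst_1112
  · exact tst_htst_1113
  · exact tst_htst_1114
  · exact tst_htst_1115
  · exact tst_htst_1116
  · exact tst_htst_1117
  · exact tst_htst_1118
  · exact tst_htst_1119
  · exact tst_htst_1120
  · exact tst_htst_1121
  · exact tst_htst_1122
  · exact tst_htst_1123
  · exact tst_htst_1124
  · exact tst_htst_1125
  · exact tst_htst_1126
  · exact tst_htst_1127
  · exact tst_htst_1128
  · exact tst_htst_1129
  · exact tst_htst_1130
  · exact tst_htst_1131
  · exact tst_htst_1132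
  · exact tst_htst_1133
  · exact tst_htst_1134
  · exact tst_htst_1135
  · exact tst_htst_1136
  · exact tst_htst_1137
  · exact tst_htst_1138
  · exact tst_htst_1139
  · exact tst_htst_1140
  · exact tst_htst_1141
  · exact tst_htst_1142
  · exact tst_htst_1143
  · exact tst_htst_1144
  · exact tst_htst_1145
  · exact tst_htst_1146
  · exact tst_htst_1147
  · exact tst_htst_1148
  · exact tst_htst_1149
  · exact tst_htst_1150
  · exact tst_htst_1151
  · exact tst_htst_1152
  · exact tst_htst_1153
  · exact tst_htst_1154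
  · exact tst_htst_1155
  · exact tst_htst_1156
  · exact tst_htst_1157
  · exact tst_htst_1158
  · exact tst_htst_1159
  · exact tst_htst_1160
  · exact tst_htst_1161
  · exact tst_htst_1162
  · exact tst_htst_1163
  · exact tst_htst_1164
  · exact tst_htst_1165
  · exact tst_htst_1166
  · exact tst_htst_1167
  · exact tst_htst_1168
  · exact tst_htst_1169
  · exact tst_htst_1170
  · exact tst_htst_1171
  · exact tst_htst_1172
  · exact tst_htst_1173
  · exact tst_htst_1174
  · exact tst_htst_1175
  · exact tst_htst_1176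
  · exact tst_htst_1177
  · exact tst_htst_1178
  · exact tst_htst_1179
  · exact tst_htst_1180
  · exact tst_htst_1181
  · exact tst_htst_1182
  · exact tst_htst_1183
  · exact tst_htst_1184
  · exact tst_htst_1185
  · exact tst_htst_1186
  · exact tst_htst_1187
  · exact tst_htst_1188
  · exact tst_htst_1189
  · exact tst_htst_1190
  · exact tst_htst_1191
  · exact tst_htst_1192
  · exact tst_htst_1193
  · exact tst_htst_1194
  · exact tst_htst_1195
  · exact tst_htst_1196
  · exact tst_htst_1197
  · exact tst_htst_1198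
  · exact tst_htst_1199
  · exact tst_htst_1200
  · exact tst_htst_1201
  · exact tst_htst_1202
  · exact tst_htst_1203
  · exact tst_htst_1204
  · exact tst_htst_1205
  · exact tst_htst_1206
  · exact tst_htst_1207
  · exact tst_htst_1208
  · exact tst_htst_1209
  · exact tst_htst_1210
  · exact tst_htst_1211
  · exact tst_htst_1212
  · exact tst_htst_1213
  · exact tst_htst_1214
  · exact tst_htst_1215
  · exact tst_htst_1216
  · exact tst_htst_1217
  · exact tst_htst_1218
  · exact tst_htst_1219
  · exact tst_htst_1220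
  · exact tst_htst_1221
  · exact tst_htst_1222
  · exact tst_htst_1223
  · exact tst_htst_1224
  · exact tst_htst_1225
  · exact tst_htst_1226
  · exact tst_htst_1227
  · exact tst_htst_1228
  · exact tst_htst_1229
  · exact tst_htst_1230
  · exact tst_htst_1231
  · exact tst_htst_1232
  · exact tst_htst_1233
  · exact tst_htst_1234
  · exact tst_htst_1235
  · exact tst_htst_1236
  · exact tst_htst_1237
  · exact tst_htst_1238
  · exact tst_htst_1239
  · exact tst_htst_1240
  · exact tst_htst_1241
  · exact tst_htst_1242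
  · exact tst_htst_1243
  · exact tst_htst_1244
  · exact tst_htst_1245
  · exact tst_htst_1246
  · exact tst_htst_1247
  · exact tst_htst_1248
  · exact tst_htst_1249
  · exact tst_htst_1250
  · exact tst_htst_1251
  · exact tst_htst_1252
  · exact tst_htst_1253
  · exact tst_htst_1254
  · exact tst_htst_1255
  · exact tst_htst_1256
  · exact tst_htst_1257
  · exact tst_htst_1258
  · exact tst_htst_1259
  · exact tst_htst_1260
  · exact tst_htst_1261
  · exact tst_htst_1262
  · exact tst_htst_1263
  · exact tst_htst_1264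
  · exact tst_htst_1265
  · exact tst_htst_1266
  · exact tst_htst_1267
  · exact tst_htst_1268
  · exact tst_htst_1269
  · exact tst_htst_1270
  · exact tst_htst_1271
  · exact tst_htst_1272
  · exact tst_htst_1273
  · exact tst_htst_1274
  · exact tst_htst_1275
  · exact tst_htst_1276
  · exact tst_htst_1277
  · exact tst_htst_1278
  · exact tst_htst_1279
  · exact tst_htst_1280
  · exact tst_htst_1281
  · exact tst_htst_1282
  · exact tst_htst_1283
  · exact tst_htst_1284
  · exact tst_htst_1285
  · exact tst_htst_1286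
  · exact tst_htst_1287
  · exact tst_htst_1288
  · exact tst_htst_1289
  · exact tst_htst_1290
  · exact tst_htst_1291
  · exact tst_htst_1292
  · exact tst_htst_1293
  · exact tst_htst_1294
  · exact tst_htst_1295
  · exact tst_htst_1296
  · exact tst_htst_1297
  · exact tst_htst_1298
  · exact tst_htst_1299
  · exact tst_htst_1300
  · exact tst_htst_1301
  · exact tst_htst_1302
  · exact tst_htst_1303
  · exact tst_htst_1304
  · exact tst_htst_1305
  · exact tst_htst_1306
  · exact tst_htst_1307
  · exact tst_htst_1308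
  · exact tst_htst_1309
  · exact tst_htst_1310
  · exact tst_htst_1311
  · exact tst_htst_1312
  · exact tst_htst_1313
  · exact tst_htst_1314
  · exact tst_htst_1315
  · exact tst_htst_1316
  · exact tst_htst_1317
  · exact tst_htst_1318
  · exact tst_htst_1319
  · exact tst_htst_1320
  · exact tst_htst_1321
  · exact tst_htst_1322
  · exact tst_htst_1323
  · exact tst_htst_1324
  · exact tst_htst_1325
  · exact tst_htst_1326
  · exact tst_htst_1327
  · exact tst_htst_1328
  · exact tst_htst_1329
  · exact tst_htst_1330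
  · exact tst_htst_1331
  · exact tst_htst_1332
  · exact tst_htst_1333
  · exact tst_htst_1334
  · exact tst_htst_1335
  · exact tst_htst_1336
  · exact tst_htst_1337
  · exact tst_htst_1338
  · exact tst_htst_1339
  · exact tst_htst_1340
  · exact tst_htst_1341
  · exact tst_htst_1342
  · exact tst_htst_1343
  · exact tst_htst_1344
  · exact tst_htst_1345
  · exact tst_htst_1346
  · exact tst_htst_1347
  · exact tst_htst_1348
  · exact tst_htst_1349
  · exact tst_htst_1350
  · exact tst_htst_1351
  · exact tst_htst_1352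
  · exact tst_htst_1353
  · exact tst_htst_1354
  · exact tst_htst_1355
  · exact tst_htst_1356
  · exact tst_htst_1357
  · exact tst_htst_1358
  · exact tst_htst_1359
  · exact tst_htst_1360
  · exact tst_htst_1361
  · exact tst_htst_1362
  · exact tst_htst_1363
  · exact tst_htst_1364
  · exact tst_htst_1365
  · exact tst_htst_1366
  · exact tst_htst_1367
  · exact tst_htst_1368
  · exact tst_htst_1369
  · exact tst_htst_1370
  · exact tst_htst_1371
  · exact tst_htst_1372
  · exact tst_htst_1373
  · exact tst_htst_1374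
  · exact tst_htst_1375
  · exact tst_htst_1376
  · exact tst_htst_1377
  · exact tst_htst_1378
  · exact tst_htst_1379
  · exact tst_htst_1380
  · exact tst_htst_1381
  · exact tst_htst_1382
  · exact tst_htst_1383
  · exact tst_htst_1384
  · exact tst_htst_1385
  · exact tst_htst_1386
  · exact tst_htst_1387
  · exact tst_htst_1388
  · exact tst_htst_1389
  · exact tst_htst_1390
  · exact tst_htst_1391
  · exact tst_htst_1392
  · exact tst_htst_1393
  · exact tst_htst_1394
  · exact tst_htst_1395
  · exact tst_htst_1396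
  · exact tst_htst_1397
  · exact tst_htst_1398
  · exact tst_htst_1399
  · exact tst_htst_1400
  · exact tst_htst_1401
  · exact tst_htst_1402
  · exact tst_htst_1403
  · exact tst_htst_1404
  · exact tst_htst_1405
  · exact tst_htst_1406
  · exact tst_htst_1407
  · exact tst_htst_1408
  · exact tst_htst_1409
  · exact tst_htst_1410
  · exact tst_htst_1411
  · exact tst_htst_1412
  · exact tst_htst_1413
  · exact tst_htst_1414
  · exact tst_htst_1415
  · exact tst_htst_1416
  · exact tst_htst_1417
  · exact tst_htst_1418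
  · exact tst_htst_1419
  · exact tst_htst_1420
  · exact tst_htst_1421
  · exact tst_htst_1422
  · exact tst_htst_1423
  · exact tst_htst_1424
  · exact tst_htst_1425
  · exact tst_htst_1426
  · exact tst_htst_1427
  · exact tst_htst_1428
  · exact tst_htst_1429
  · exact tst_htst_1430
  · exact tst_htst_1431
  · exact tst_htst_1432
  · exact tst_htst_1433
  · exact tst_htst_1434
  · exact tst_htst_1435
  · exact tst_htst_1436
  · exact tst_htst_1437
  · exact tst_htst_1438
  · exact tst_htst_1439
  · exact tst_htst_1440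
  · exact tst_htst_1441
  · exact tst_htst_1442
  · exact tst_htst_1443
  · exact tst_htst_1444
  · exact tst_htst_1445
  · exact tst_htst_1446
  · exact tst_htst_1447
  · exact tst_htst_1448
  · exact tst_htst_1449
  · exact tst_htst_1450
  · exact tst_htst_1451
  · exact tst_htst_1452
  · exact tst_htst_1453
  · exact tst_htst_1454
  · exact tst_htst_1455
  · exact tst_htst_1456
  · exact tst_htst_1457
  · exact tst_htst_1458
  · exact tst_htst_1459
  · exact tst_htst_1460
  · exact tst_htst_1461
  · exact tst_htst_1462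
  · exact tst_htst_1463
  · exact tst_htst_1464
  · exact tst_htst_1465
  · exact tst_htst_1466
  · exact tst_htst_1467
  · exact tst_htst_1468
  · exact tst_htst_1469
  · exact tst_htst_1470
  · exact tst_htst_1471
  · exact tst_htst_1472
  · exact tst_htst_1473
  · exact tst_htst_1474
  · exact tst_htst_1475
  · exact tst_htst_1476
  · exact tst_htst_1477
  · exact tst_htst_1478
  · exact tst_htst_1479
  · exact tst_htst_1480
  · exact tst_htst_1481
  · exact tst_htst_1482
  · exact tst_htst_1483
  · exact tst_htst_1484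
  · exact tst_htst_1485
  · exact tst_htst_1486
  · exact tst_htst_1487
  · exact tst_htst_1488
  · exact tst_htst_1489
  · exact tst_htst_1490
  · exact tst_htst_1491
  · exact tst_htst_1492
  · exact tst_htst_1493
  · exact tst_htst_1494
  · exact tst_htst_1495
  · exact tst_htst_1496
  · exact tst_htst_1497
  · exact tst_htst_1498
  · exact tst_htst_1499
  · exact tst_htst_1500
  · exact tst_htst_1501
  · exact tst_htst_1502
  · exact tst_htst_1503
  · exact tst_htst_1504
  · exact tst_htst_1505
  · exact tst_htst_1506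
  · exact tst_htst_1507
  · exact tst_htst_1508
  · exact tst_htst_1509
  · exact tst_htst_1510
  · exact tst_htst_1511
  · exact tst_htst_1512
  · exact tst_htst_1513
  · exact tst_htst_1514
  · exact tst_htst_1515
  · exact tst_htst_1516
  · exact tst_htst_1517
  · exact tst_htst_1518
  · exact tst_htst_1519
  · exact tst_htst_1520
  · exact tst_htst_1521
  · exact tst_htst_1522
  · exact tst_htst_1523
  · exact tst_htst_1524
  · exact tst_htst_1525
  · exact tst_htst_1526
  · exact tst_htst_1527
  · exact tst_htst_1528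
  · exact tst_htst_1529
  · exact tst_htst_1530
  · exact tst_htst_1531
  · exact tst_htst_1532
  · exact tst_htst_1533
  · exact tst_htst_1534
  · exact tst_htst_1535
  · exact tst_htst_1536
  · exact tst_htst_1537
  · exact tst_htst_1538
  · exact tst_htst_1539
  · exact tst_htst_1540
  · exact tst_htst_1541
  · exact tst_htst_1542
  · exact tst_htst_1543
  · exact tst_htst_1544
  · exact tst_htst_1545
  · exact tst_htst_1546
  · exact tst_htst_1547
  · exact tst_htst_1548
  · exact tst_htst_1549
  · exact tst_htst_1550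
  · exact tst_htst_1551
  · exact tst_htst_1552
  · exact tst_htst_1553
  · exact tst_htst_1554
  · exact tst_htst_1555
  · exact tst_htst_1556
  · exact tst_htst_1557
  · exact tst_htst_1558
  · exact tst_htst_1559
  · exact tst_htst_1560
  · exact tst_htst_1561
  · exact tst_htst_1562
  · exact tst_htst_1563
  · exact tst_htst_1564
  · exact tst_htst_1565
  · exact tst_htst_1566
  · exact tst_htst_1567
  · exact tst_htst_1568
  · exact tst_htst_1569
  · exact tst_htst_1570
  · exact tst_htst_1571
  · exact tst_htst_1572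
  · exact tst_htst_1573
  · exact tst_htst_1574
  · exact tst_htst_1575
  · exact tst_htst_1576
  · exact tst_htst_1577
  · exact tst_htst_1578
  · exact tst_htst_1579
  · exact tst_htst_1580
  · exact tst_htst_1581
  · exact tst_htst_1582
  · exact tst_htst_1583
  · exact tst_htst_1584
  · exact tst_htst_1585
  · exact tst_htst_1586
  · exact tst_htst_1587
  · exact tst_htst_1588
  · exact tst_htst_1589
  · exact tst_htst_1590
  · exact tst_htst_1591
  · exact tst_htst_1592
  · exact tst_htst_1593
  · exact tst_htst_1594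
  · exact tst_htst_1595
  · exact tst_htst_1596
  · exact tst_htst_1597
  · exact tst_htst_1598
  · exact tst_htst_1599
  · exact tst_htst_1600
  · exact tst_htst_1601
  · exact tst_htst_1602
  · exact tst_htst_1603
  · exact tst_htst_1604
  · exact tst_htst_1605
  · exact tst_htst_1606
  · exact tst_htst_1607
  · exact tst_htst_1608
  · exact tst_htst_1609
  · exact tst_htst_1610
  · exact tst_htst_1611
  · exact tst_htst_1612
  · exact tst_htst_1613
  · exact tst_htst_1614
  · exact tst_htst_1615
  · exact tst_htst_1616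
  · exact tst_htst_1617
  · exact tst_htst_1618
  · exact tst_htst_1619
  · exact tst_htst_1620
  · exact tst_htst_1621
  · exact tst_htst_1622
  · exact tst_htst_1623
  · exact tst_htst_1624
  · exact tst_htst_1625
  · exact tst_htst_1626
  · exact tst_htst_1627
  · exact tst_htst_1628
  · exact tst_htst_1629
  · exact tst_htst_1630
  · exact tst_htst_1631
  · exact tst_htst_1632
  · exact tst_htst_1633
  · exact tst_htst_1634
  · exact tst_htst_1635
  · exact tst_htst_1636
  · exact tst_htst_1637

theorem tstOK : TstOK dD dC dE dCl dTs := { hrels := tst_hrels, htst := tst_htst }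

theorem hK0aux : ∀ k < 29, 0 < k → ∃ j < 29, ∃ k0 ∈ [1, 2], (k * 4 ^ j) % 29 = k0 % 29 := by
  decide

theorem hK0 : ∀ k, 0 < k → k < dE.p → ∃ j : ℕ, ∃ k0 ∈ dTs.K0, (k * dE.r ^ j) % dE.p = k0 % dE.p := by
  intro k h0 hp
  obtain ⟨j, -, k0, hk0, hj⟩ := hK0aux k hp h0
  exact ⟨j, k0, hk0, hj⟩

instance factP : Fact (Nat.Prime dE.p) := ⟨by norm_num [dE]⟩

theorem hp2 : ¬ dE.p ^ 2 ∣ 145926144000 := by decide

end Cfsg.Agent.Helper9.RuO

end
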