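import Mathlib
import Cfsg.Agent.Helper9.RuO.Data

set_option autoImplicit false

/-! Kernel checks of the certificates, a part. -/

noncomputable section

namespace Cfsg.Agent.Helper9.RuO

open Cfsg.Agent.Helper9.OutG Cfsg.Agent.Helper9.J3

set_option maxRecDepth 1000000 in
theorem cls_hclo_2300 : allC (cloChk dD dC dE dCl) 2300 91 = true := by decide +kernel

set_option maxRecDepth 1000000 in
theorem cls_hclo_2301 : allC (cloChk dD dC dE dCl) 2301 91 = true := by decide +kernel

set_option maxRecDepth 1000000 in
theorem cls_hclo_2302 : allC (cloChk dD dC dE dCl) 2302 91 = true := by decide +kernel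

set_option maxRecDepth 1000000 in
theorem cls_hclo_2303 : allC (cloChk dD dC dE dCl) 2303 91 = true := by decide +kernel

set_option maxRecDepth 1000000 in
theorem cls_hclo_2304 : allC (cloChk dD dC dE dCl) 2304 91 = true := by decide +kernel

set_option maxRecDepth 1000000 in
theorem cls_hclo_2305 : allC (cloChk dD dC dE dCl) 2305 91 = true := by decide +kernel

set_option maxRecDepth 1000000 in
theorem cls_hclo_2306 : allC (cloChk dD dC dE dCl) 2306 91 = true := by decide +kernel

set_option maxRecDepth 1000000 in
theorem cls_hclo_2307 : allC (cloChk dD dC dE dCl) 2307 91 = true := by decide +kernel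

set_option maxRecDepth 1000000 in
theorem cls_hclo_2308 : allC (cloChk dD dC dE dCl) 2308 91 = true := by decide +kernel

set_option maxRecDepth 1000000 in
theorem cls_hclo_2309 : allC (cloChk dD dC dE dCl) 2309 91 = true := by decide +kernel

set_option maxRecDepth 1000000 in
theorem cls_hclo_2310 : allC (cloChk dD dC dE dCl) 2310 91 = true := by decide +kernel

set_option maxRecDepth 1000000 in
theorem cls_hclo_2311 : allC (cloChk dD dC dE dCl) 2311 91 = true := by decide +kernel

set_option maxRecDepth 1000000 in
theorem cls_hclo_2312 : allC (cloChk dD dC dE dCl) 2312 91 = true := by decide +kernel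

set_option maxRecDepth 1000000 in
theorem cls_hclo_2313 : allC (cloChk dD dC dE dCl) 2313 91 = true := by decide +kernel

set_option maxRecDepth 1000000 in
theorem cls_hclo_2314 : allC (cloChk dD dC dE dCl) 2314 91 = true := by decide +kernel

set_option maxRecDepth 1000000 in
theorem cls_hclo_2315 : allC (cloChk dD dC dE dCl) 2315 91 = true := by decide +kernel

set_option maxRecDepth 1000000 in
theorem cls_hclo_2316 : allC (cloChk dD dC dE dCl) 2316 91 = true := by decide +kernel

set_option maxRecDepth 1000000 in
theorem cls_hclo_2317 : allC (cloChk dD dC dE dCl) 2317 91 = true := by decide +kernel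

set_option maxRecDepth 1000000 in
theorem cls_hclo_2318 : allC (cloChk dD dC dE dCl) 2318 91 = true := by decide +kernel

set_option maxRecDepth 1000000 in
theorem cls_hclo_2319 : allC (cloChk dD dC dE dCl) 2319 91 = true := by decide +kernel

set_option maxRecDepth 1000000 in
theorem cls_hclo_2320 : allC (cloChk dD dC dE dCl) 2320 91 = true := by decide +kernel

set_option maxRecDepth 1000000 in
theorem cls_hclo_2321 : allC (cloChk dD dC dE dCl) 2321 91 = true := by decide +kernel

set_option maxRecDepth 1000000 in
theorem cls_hclo_2322 : allC (cloChk dD dC dE dCl) 2322 91 = true := by decide +kernel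

set_option maxRecDepth 1000000 in
theorem cls_hclo_2323 : allC (cloChk dD dC dE dCl) 2323 91 = true := by decide +kernel

set_option maxRecDepth 1000000 in
theorem cls_hclo_2324 : allC (cloChk dD dC dE dCl) 2324 91 = true := by decide +kernel

set_option maxRecDepth 1000000 in
theorem cls_hclo_2325 : allC (cloChk dD dC dE dCl) 2325 91 = true := by decide +kernel

set_option maxRecDepth 1000000 in
theorem cls_hclo_2326 : allC (cloChk dD dC dE dCl) 2326 91 = true := by decide +kernel

set_option maxRecDepth 1000000 in
theorem cls_hclo_2327 : allC (cloChk dD dC dE dCl) 2327 91 = true := by decide +kernel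

set_option maxRecDepth 1000000 in
theorem cls_hclo_2328 : allC (cloChk dD dC dE dCl) 2328 91 = true := by decide +kernel

set_option maxRecDepth 1000000 in
theorem cls_hclo_2329 : allC (cloChk dD dC dE dCl) 2329 91 = true := by decide +kernel

set_option maxRecDepth 1000000 in
theorem cls_hclo_2330 : allC (cloChk dD dC dE dCl) 2330 91 = true := by decide +kernel

set_option maxRecDepth 1000000 in
theorem cls_hclo_2331 : allC (cloChk dD dC dE dCl) 2331 91 = true := by decide +kernel

set_option maxRecDepth 1000000 in
theorem cls_hclo_2332 : allC (cloChk dD dC dE dCl) 2332 91 = true := by decide +kernel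

set_option maxRecDepth 1000000 in
theorem cls_hclo_2333 : allC (cloChk dD dC dE dCl) 2333 91 = true := by decide +kernel

set_option maxRecDepth 1000000 in
theorem cls_hclo_2334 : allC (cloChk dD dC dE dCl) 2334 91 = true := by decide +kernel

set_option maxRecDepth 1000000 in
theorem cls_hclo_2335 : allC (cloChk dD dC dE dCl) 2335 91 = true := by decide +kernel

set_option maxRecDepth 1000000 in
theorem cls_hclo_2336 : allC (cloChk dD dC dE dCl) 2336 91 = true := by decide +kernel

set_option maxRecDepth 1000000 in
theorem cls_hclo_2337 : allC (cloChk dD dC dE dCl) 2337 91 = true := by decide +kernel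

set_option maxRecDepth 1000000 in
theorem cls_hclo_2338 : allC (cloChk dD dC dE dCl) 2338 91 = true := by decide +kernel

set_option maxRecDepth 1000000 in
theorem cls_hclo_2339 : allC (cloChk dD dC dE dCl) 2339 91 = true := by decide +kernel

set_option maxRecDepth 1000000 in
theorem cls_hclo_2340 : allC (cloChk dD dC dE dCl) 2340 91 = true := by decide +kernel

set_option maxRecDepth 1000000 in
theorem cls_hclo_2341 : allC (cloChk dD dC dE dCl) 2341 91 = true := by decide +kernel

set_option maxRecDepth 1000000 in
theorem cls_hclo_2342 : allC (cloChk dD dC dE dCl) 2342 91 = true := by decide +kernel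

set_option maxRecDepth 1000000 in
theorem cls_hclo_2343 : allC (cloChk dD dC dE dCl) 2343 91 = true := by decide +kernel

set_option maxRecDepth 1000000 in
theorem cls_hclo_2344 : allC (cloChk dD dC dE dCl) 2344 91 = true := by decide +kernel

set_option maxRecDepth 1000000 in
theorem cls_hclo_2345 : allC (cloChk dD dC dE dCl) 2345 91 = true := by decide +kernel

set_option maxRecDepth 1000000 in
theorem cls_hclo_2346 : allC (cloChk dD dC dE dCl) 2346 91 = true := by decide +kernel

set_option maxRecDepth 1000000 in
theorem cls_hclo_2347 : allC (cloChk dD dC dE dCl) 2347 91 = true := by decide +kernel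

set_option maxRecDepth 1000000 in
theorem cls_hclo_2348 : allC (cloChk dD dC dE dCl) 2348 91 = true := by decide +kernel

set_option maxRecDepth 1000000 in
theorem cls_hclo_2349 : allC (cloChk dD dC dE dCl) 2349 91 = true := by decide +kernel

set_option maxRecDepth 1000000 in
theorem cls_hclo_2350 : allC (cloChk dD dC dE dCl) 2350 91 = true := by decide +kernel

set_option maxRecDepth 1000000 in
theorem cls_hclo_2351 : allC (cloChk dD dC dE dCl) 2351 91 = true := by decide +kernel

set_option maxRecDepth 1000000 in
theorem cls_hclo_2352 : allC (cloChk dD dC dE dCl) 2352 91 = true := by decide +kernel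

set_option maxRecDepth 1000000 in
theorem cls_hclo_2353 : allC (cloChk dD dC dE dCl) 2353 91 = true := by decide +kernel

set_option maxRecDepth 1000000 in
theorem cls_hclo_2354 : allC (cloChk dD dC dE dCl) 2354 91 = true := by decide +kernel

set_option maxRecDepth 1000000 in
theorem cls_hclo_2355 : allC (cloChk dD dC dE dCl) 2355 91 = true := by decide +kernel

set_option maxRecDepth 1000000 in
theorem cls_hclo_2356 : allC (cloChk dD dC dE dCl) 2356 91 = true := by decide +kernel

set_option maxRecDepth 1000000 in
theorem cls_hclo_2357 : allC (cloChk dD dC dE dCl) 2357 91 = true := by decide +kernel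

set_option maxRecDepth 1000000 in
theorem cls_hclo_2358 : allC (cloChk dD dC dE dCl) 2358 91 = true := by decide +kernel

set_option maxRecDepth 1000000 in
theorem cls_hclo_2359 : allC (cloChk dD dC dE dCl) 2359 91 = true := by decide +kernel

set_option maxRecDepth 1000000 in
theorem cls_hclo_2360 : allC (cloChk dD dC dE dCl) 2360 91 = true := by decide +kernel

set_option maxRecDepth 1000000 in
theorem cls_hclo_2361 : allC (cloChk dD dC dE dCl) 2361 91 = true := by decide +kernel

set_option maxRecDepth 1000000 in
theorem cls_hclo_2362 : allC (cloChk dD dC dE dCl) 2362 91 = true := by decide +kernel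

set_option maxRecDepth 1000000 in
theorem cls_hclo_2363 : allC (cloChk dD dC dE dCl) 2363 91 = true := by decide +kernel

set_option maxRecDepth 1000000 in
theorem cls_hclo_2364 : allC (cloChk dD dC dE dCl) 2364 91 = true := by decide +kernel

set_option maxRecDepth 1000000 in
theorem cls_hclo_2365 : allC (cloChk dD dC dE dCl) 2365 91 = true := by decide +kernel

set_option maxRecDepth 1000000 in
theorem cls_hclo_2366 : allC (cloChk dD dC dE dCl) 2366 91 = true := by decide +kernel

set_option maxRecDepth 1000000 in
theorem cls_hclo_2367 : allC (cloChk dD dC dE dCl) 2367 91 = true := by decide +kernel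

set_option maxRecDepth 1000000 in
theorem cls_hclo_2368 : allC (cloChk dD dC dE dCl) 2368 91 = true := by decide +kernel

set_option maxRecDepth 1000000 in
theorem cls_hclo_2369 : allC (cloChk dD dC dE dCl) 2369 91 = true := by decide +kernel

set_option maxRecDepth 1000000 in
theorem cls_hclo_2370 : allC (cloChk dD dC dE dCl) 2370 91 = true := by decide +kernel

set_option maxRecDepth 1000000 in
theorem cls_hclo_2371 : allC (cloChk dD dC dE dCl) 2371 91 = true := by decide +kernel

set_option maxRecDepth 1000000 in
theorem cls_hclo_2372 : allC (cloChk dD dC dE dCl) 2372 91 = true := by decide +kernel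

set_option maxRecDepth 1000000 in
theorem cls_hclo_2373 : allC (cloChk dD dC dE dCl) 2373 91 = true := by decide +kernel

set_option maxRecDepth 1000000 in
theorem cls_hclo_2374 : allC (cloChk dD dC dE dCl) 2374 91 = true := by decide +kernel

set_option maxRecDepth 1000000 in
theorem cls_hclo_2375 : allC (cloChk dD dC dE dCl) 2375 91 = true := by decide +kernel

set_option maxRecDepth 1000000 in
theorem cls_hclo_2376 : allC (cloChk dD dC dE dCl) 2376 91 = true := by decide +kernel

set_option maxRecDepth 1000000 in
theorem cls_hclo_2377 : allC (cloChk dD dC dE dCl) 2377 91 = true := by decide +kernel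

set_option maxRecDepth 1000000 in
theorem cls_hclo_2378 : allC (cloChk dD dC dE dCl) 2378 91 = true := by decide +kernel

set_option maxRecDepth 1000000 in
theorem cls_hclo_2379 : allC (cloChk dD dC dE dCl) 2379 91 = true := by decide +kernel

set_option maxRecDepth 1000000 in
theorem cls_hclo_2380 : allC (cloChk dD dC dE dCl) 2380 91 = true := by decide +kernel

set_option maxRecDepth 1000000 in
theorem cls_hclo_2381 : allC (cloChk dD dC dE dCl) 2381 91 = true := by decide +kernel

set_option maxRecDepth 1000000 in
theorem cls_hclo_2382 : allC (cloChk dD dC dE dCl) 2382 91 = true := by decide +kernel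

set_option maxRecDepth 1000000 in
theorem cls_hclo_2383 : allC (cloChk dD dC dE dCl) 2383 91 = true := by decide +kernel

set_option maxRecDepth 1000000 in
theorem cls_hclo_2384 : allC (cloChk dD dC dE dCl) 2384 91 = true := by decide +kernel

set_option maxRecDepth 1000000 in
theorem cls_hclo_2385 : allC (cloChk dD dC dE dCl) 2385 91 = true := by decide +kernel

set_option maxRecDepth 1000000 in
theorem cls_hclo_2386 : allC (cloChk dD dC dE dCl) 2386 91 = true := by decide +kernel

set_option maxRecDepth 1000000 in
theorem cls_hclo_2387 : allC (cloChk dD dC dE dCl) 2387 91 = true := by decide +kernel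

set_option maxRecDepth 1000000 in
theorem cls_hclo_2388 : allC (cloChk dD dC dE dCl) 2388 91 = true := by decide +kernel

set_option maxRecDepth 1000000 in
theorem cls_hclo_2389 : allC (cloChk dD dC dE dCl) 2389 91 = true := by decide +kernel

set_option maxRecDepth 1000000 in
theorem cls_hclo_2390 : allC (cloChk dD dC dE dCl) 2390 91 = true := by decide +kernel

set_option maxRecDepth 1000000 in
theorem cls_hclo_2391 : allC (cloChk dD dC dE dCl) 2391 91 = true := by decide +kernel

set_option maxRecDepth 1000000 in
theorem cls_hclo_2392 : allC (cloChk dD dC dE dCl) 2392 91 = true := by decide +kernel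

set_option maxRecDepth 1000000 in
theorem cls_hclo_2393 : allC (cloChk dD dC dE dCl) 2393 91 = true := by decide +kernel

set_option maxRecDepth 1000000 in
theorem cls_hclo_2394 : allC (cloChk dD dC dE dCl) 2394 91 = true := by decide +kernel

set_option maxRecDepth 1000000 in
theorem cls_hclo_2395 : allC (cloChk dD dC dE dCl) 2395 91 = true := by decide +kernel

set_option maxRecDepth 1000000 in
theorem cls_hclo_2396 : allC (cloChk dD dC dE dCl) 2396 91 = true := by decide +kernel

set_option maxRecDepth 1000000 in
theorem cls_hclo_2397 : allC (cloChk dD dC dE dCl) 2397 91 = true := by decide +kernel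

set_option maxRecDepth 1000000 in
theorem cls_hclo_2398 : allC (cloChk dD dC dE dCl) 2398 91 = true := by decide +kernel

set_option maxRecDepth 1000000 in
theorem cls_hclo_2399 : allC (cloChk dD dC dE dCl) 2399 91 = true := by decide +kernel

end Cfsg.Agent.Helper9.RuO

end
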