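import Mathlib
import Cfsg.Agent.Helper9.RuO.Data

set_option autoImplicit false

/-! Kernel checks of the certificates, a part. -/

noncomputable section

namespace Cfsg.Agent.Helper9.RuO

open Cfsg.Agent.Helper9.OutG Cfsg.Agent.Helper9.J3

set_option maxRecDepth 1000000 in
theorem cls_hclo_3800 : allC (cloChk dD dC dE dCl) 3800 91 = true := by decide +kernel

set_option maxRecDepth 1000000 in
theorem cls_hclo_3801 : allC (cloChk dD dC dE dCl) 3801 91 = true := by decide +kernel

set_option maxRecDepth 1000000 in
theorem cls_hclo_3802 : allC (cloChk dD dC dE dCl) 3802 91 = true := by decide +kernel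

set_option maxRecDepth 1000000 in
theorem cls_hclo_3803 : allC (cloChk dD dC dE dCl) 3803 91 = true := by decide +kernel

set_option maxRecDepth 1000000 in
theorem cls_hclo_3804 : allC (cloChk dD dC dE dCl) 3804 91 = true := by decide +kernel

set_option maxRecDepth 1000000 in
theorem cls_hclo_3805 : allC (cloChk dD dC dE dCl) 3805 91 = true := by decide +kernel

set_option maxRecDepth 1000000 in
theorem cls_hclo_3806 : allC (cloChk dD dC dE dCl) 3806 91 = true := by decide +kernel

set_option maxRecDepth 1000000 in
theorem cls_hclo_3807 : allC (cloChk dD dC dE dCl) 3807 91 = true := by decide +kernel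

set_option maxRecDepth 1000000 in
theorem cls_hclo_3808 : allC (cloChk dD dC dE dCl) 3808 91 = true := by decide +kernel

set_option maxRecDepth 1000000 in
theorem cls_hclo_3809 : allC (cloChk dD dC dE dCl) 3809 91 = true := by decide +kernel

set_option maxRecDepth 1000000 in
theorem cls_hclo_3810 : allC (cloChk dD dC dE dCl) 3810 91 = true := by decide +kernel

set_option maxRecDepth 1000000 in
theorem cls_hclo_3811 : allC (cloChk dD dC dE dCl) 3811 91 = true := by decide +kernel

set_option maxRecDepth 1000000 in
theorem cls_hclo_3812 : allC (cloChk dD dC dE dCl) 3812 91 = true := by decide +kernel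

set_option maxRecDepth 1000000 in
theorem cls_hclo_3813 : allC (cloChk dD dC dE dCl) 3813 91 = true := by decide +kernel

set_option maxRecDepth 1000000 in
theorem cls_hclo_3814 : allC (cloChk dD dC dE dCl) 3814 91 = true := by decide +kernel

set_option maxRecDepth 1000000 in
theorem cls_hclo_3815 : allC (cloChk dD dC dE dCl) 3815 91 = true := by decide +kernel

set_option maxRecDepth 1000000 in
theorem cls_hclo_3816 : allC (cloChk dD dC dE dCl) 3816 91 = true := by decide +kernel

set_option maxRecDepth 1000000 in
theorem cls_hclo_3817 : allC (cloChk dD dC dE dCl) 3817 91 = true := by decide +kernel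

set_option maxRecDepth 1000000 in
theorem cls_hclo_3818 : allC (cloChk dD dC dE dCl) 3818 91 = true := by decide +kernel

set_option maxRecDepth 1000000 in
theorem cls_hclo_3819 : allC (cloChk dD dC dE dCl) 3819 91 = true := by decide +kernel

set_option maxRecDepth 1000000 in
theorem cls_hclo_3820 : allC (cloChk dD dC dE dCl) 3820 91 = true := by decide +kernel

set_option maxRecDepth 1000000 in
theorem cls_hclo_3821 : allC (cloChk dD dC dE dCl) 3821 91 = true := by decide +kernel

set_option maxRecDepth 1000000 in
theorem cls_hclo_3822 : allC (cloChk dD dC dE dCl) 3822 91 = true := by decide +kernel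

set_option maxRecDepth 1000000 in
theorem cls_hclo_3823 : allC (cloChk dD dC dE dCl) 3823 91 = true := by decide +kernel

set_option maxRecDepth 1000000 in
theorem cls_hclo_3824 : allC (cloChk dD dC dE dCl) 3824 91 = true := by decide +kernel

set_option maxRecDepth 1000000 in
theorem cls_hclo_3825 : allC (cloChk dD dC dE dCl) 3825 91 = true := by decide +kernel

set_option maxRecDepth 1000000 in
theorem cls_hclo_3826 : allC (cloChk dD dC dE dCl) 3826 91 = true := by decide +kernel

set_option maxRecDepth 1000000 in
theorem cls_hclo_3827 : allC (cloChk dD dC dE dCl) 3827 91 = true := by decide +kernel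

set_option maxRecDepth 1000000 in
theorem cls_hclo_3828 : allC (cloChk dD dC dE dCl) 3828 91 = true := by decide +kernel

set_option maxRecDepth 1000000 in
theorem cls_hclo_3829 : allC (cloChk dD dC dE dCl) 3829 91 = true := by decide +kernel

set_option maxRecDepth 1000000 in
theorem cls_hclo_3830 : allC (cloChk dD dC dE dCl) 3830 91 = true := by decide +kernel

set_option maxRecDepth 1000000 in
theorem cls_hclo_3831 : allC (cloChk dD dC dE dCl) 3831 91 = true := by decide +kernel

set_option maxRecDepth 1000000 in
theorem cls_hclo_3832 : allC (cloChk dD dC dE dCl) 3832 91 = true := by decide +kernel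

set_option maxRecDepth 1000000 in
theorem cls_hclo_3833 : allC (cloChk dD dC dE dCl) 3833 91 = true := by decide +kernel

set_option maxRecDepth 1000000 in
theorem cls_hclo_3834 : allC (cloChk dD dC dE dCl) 3834 91 = true := by decide +kernel

set_option maxRecDepth 1000000 in
theorem cls_hclo_3835 : allC (cloChk dD dC dE dCl) 3835 91 = true := by decide +kernel

set_option maxRecDepth 1000000 in
theorem cls_hclo_3836 : allC (cloChk dD dC dE dCl) 3836 91 = true := by decide +kernel

set_option maxRecDepth 1000000 in
theorem cls_hclo_3837 : allC (cloChk dD dC dE dCl) 3837 91 = true := by decide +kernel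

set_option maxRecDepth 1000000 in
theorem cls_hclo_3838 : allC (cloChk dD dC dE dCl) 3838 91 = true := by decide +kernel

set_option maxRecDepth 1000000 in
theorem cls_hclo_3839 : allC (cloChk dD dC dE dCl) 3839 91 = true := by decide +kernel

set_option maxRecDepth 1000000 in
theorem cls_hclo_3840 : allC (cloChk dD dC dE dCl) 3840 91 = true := by decide +kernel

set_option maxRecDepth 1000000 in
theorem cls_hclo_3841 : allC (cloChk dD dC dE dCl) 3841 91 = true := by decide +kernel

set_option maxRecDepth 1000000 in
theorem cls_hclo_3842 : allC (cloChk dD dC dE dCl) 3842 91 = true := by decide +kernel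

set_option maxRecDepth 1000000 in
theorem cls_hclo_3843 : allC (cloChk dD dC dE dCl) 3843 91 = true := by decide +kernel

set_option maxRecDepth 1000000 in
theorem cls_hclo_3844 : allC (cloChk dD dC dE dCl) 3844 91 = true := by decide +kernel

set_option maxRecDepth 1000000 in
theorem cls_hclo_3845 : allC (cloChk dD dC dE dCl) 3845 91 = true := by decide +kernel

set_option maxRecDepth 1000000 in
theorem cls_hclo_3846 : allC (cloChk dD dC dE dCl) 3846 91 = true := by decide +kernel

set_option maxRecDepth 1000000 in
theorem cls_hclo_3847 : allC (cloChk dD dC dE dCl) 3847 91 = true := by decide +kernel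

set_option maxRecDepth 1000000 in
theorem cls_hclo_3848 : allC (cloChk dD dC dE dCl) 3848 91 = true := by decide +kernel

set_option maxRecDepth 1000000 in
theorem cls_hclo_3849 : allC (cloChk dD dC dE dCl) 3849 91 = true := by decide +kernel

set_option maxRecDepth 1000000 in
theorem cls_hclo_3850 : allC (cloChk dD dC dE dCl) 3850 91 = true := by decide +kernel

set_option maxRecDepth 1000000 in
theorem cls_hclo_3851 : allC (cloChk dD dC dE dCl) 3851 91 = true := by decide +kernel

set_option maxRecDepth 1000000 in
theorem cls_hclo_3852 : allC (cloChk dD dC dE dCl) 3852 91 = true := by decide +kernel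

set_option maxRecDepth 1000000 in
theorem cls_hclo_3853 : allC (cloChk dD dC dE dCl) 3853 91 = true := by decide +kernel

set_option maxRecDepth 1000000 in
theorem cls_hclo_3854 : allC (cloChk dD dC dE dCl) 3854 91 = true := by decide +kernel

set_option maxRecDepth 1000000 in
theorem cls_hclo_3855 : allC (cloChk dD dC dE dCl) 3855 91 = true := by decide +kernel

set_option maxRecDepth 1000000 in
theorem cls_hclo_3856 : allC (cloChk dD dC dE dCl) 3856 91 = true := by decide +kernel

set_option maxRecDepth 1000000 in
theorem cls_hclo_3857 : allC (cloChk dD dC dE dCl) 3857 91 = true := by decide +kernel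

set_option maxRecDepth 1000000 in
theorem cls_hclo_3858 : allC (cloChk dD dC dE dCl) 3858 91 = true := by decide +kernel

set_option maxRecDepth 1000000 in
theorem cls_hclo_3859 : allC (cloChk dD dC dE dCl) 3859 91 = true := by decide +kernel

set_option maxRecDepth 1000000 in
theorem cls_hclo_3860 : allC (cloChk dD dC dE dCl) 3860 91 = true := by decide +kernel

set_option maxRecDepth 1000000 in
theorem cls_hclo_3861 : allC (cloChk dD dC dE dCl) 3861 91 = true := by decide +kernel

set_option maxRecDepth 1000000 in
theorem cls_hclo_3862 : allC (cloChk dD dC dE dCl) 3862 91 = true := by decide +kernel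

set_option maxRecDepth 1000000 in
theorem cls_hclo_3863 : allC (cloChk dD dC dE dCl) 3863 91 = true := by decide +kernel

set_option maxRecDepth 1000000 in
theorem cls_hclo_3864 : allC (cloChk dD dC dE dCl) 3864 91 = true := by decide +kernel

set_option maxRecDepth 1000000 in
theorem cls_hclo_3865 : allC (cloChk dD dC dE dCl) 3865 91 = true := by decide +kernel

set_option maxRecDepth 1000000 in
theorem cls_hclo_3866 : allC (cloChk dD dC dE dCl) 3866 91 = true := by decide +kernel

set_option maxRecDepth 1000000 in
theorem cls_hclo_3867 : allC (cloChk dD dC dE dCl) 3867 91 = true := by decide +kernel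

set_option maxRecDepth 1000000 in
theorem cls_hclo_3868 : allC (cloChk dD dC dE dCl) 3868 91 = true := by decide +kernel

set_option maxRecDepth 1000000 in
theorem cls_hclo_3869 : allC (cloChk dD dC dE dCl) 3869 91 = true := by decide +kernel

set_option maxRecDepth 1000000 in
theorem cls_hclo_3870 : allC (cloChk dD dC dE dCl) 3870 91 = true := by decide +kernel

set_option maxRecDepth 1000000 in
theorem cls_hclo_3871 : allC (cloChk dD dC dE dCl) 3871 91 = true := by decide +kernel

set_option maxRecDepth 1000000 in
theorem cls_hclo_3872 : allC (cloChk dD dC dE dCl) 3872 91 = true := by decide +kernel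

set_option maxRecDepth 1000000 in
theorem cls_hclo_3873 : allC (cloChk dD dC dE dCl) 3873 91 = true := by decide +kernel

set_option maxRecDepth 1000000 in
theorem cls_hclo_3874 : allC (cloChk dD dC dE dCl) 3874 91 = true := by decide +kernel

set_option maxRecDepth 1000000 in
theorem cls_hclo_3875 : allC (cloChk dD dC dE dCl) 3875 91 = true := by decide +kernel

set_option maxRecDepth 1000000 in
theorem cls_hclo_3876 : allC (cloChk dD dC dE dCl) 3876 91 = true := by decide +kernel

set_option maxRecDepth 1000000 in
theorem cls_hclo_3877 : allC (cloChk dD dC dE dCl) 3877 91 = true := by decide +kernel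

set_option maxRecDepth 1000000 in
theorem cls_hclo_3878 : allC (cloChk dD dC dE dCl) 3878 91 = true := by decide +kernel

set_option maxRecDepth 1000000 in
theorem cls_hclo_3879 : allC (cloChk dD dC dE dCl) 3879 91 = true := by decide +kernel

set_option maxRecDepth 1000000 in
theorem cls_hclo_3880 : allC (cloChk dD dC dE dCl) 3880 91 = true := by decide +kernel

set_option maxRecDepth 1000000 in
theorem cls_hclo_3881 : allC (cloChk dD dC dE dCl) 3881 91 = true := by decide +kernel

set_option maxRecDepth 1000000 in
theorem cls_hclo_3882 : allC (cloChk dD dC dE dCl) 3882 91 = true := by decide +kernel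

set_option maxRecDepth 1000000 in
theorem cls_hclo_3883 : allC (cloChk dD dC dE dCl) 3883 91 = true := by decide +kernel

set_option maxRecDepth 1000000 in
theorem cls_hclo_3884 : allC (cloChk dD dC dE dCl) 3884 91 = true := by decide +kernel

set_option maxRecDepth 1000000 in
theorem cls_hclo_3885 : allC (cloChk dD dC dE dCl) 3885 91 = true := by decide +kernel

set_option maxRecDepth 1000000 in
theorem cls_hclo_3886 : allC (cloChk dD dC dE dCl) 3886 91 = true := by decide +kernel

set_option maxRecDepth 1000000 in
theorem cls_hclo_3887 : allC (cloChk dD dC dE dCl) 3887 91 = true := by decide +kernel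

set_option maxRecDepth 1000000 in
theorem cls_hclo_3888 : allC (cloChk dD dC dE dCl) 3888 91 = true := by decide +kernel

set_option maxRecDepth 1000000 in
theorem cls_hclo_3889 : allC (cloChk dD dC dE dCl) 3889 91 = true := by decide +kernel

set_option maxRecDepth 1000000 in
theorem cls_hclo_3890 : allC (cloChk dD dC dE dCl) 3890 91 = true := by decide +kernel

set_option maxRecDepth 1000000 in
theorem cls_hclo_3891 : allC (cloChk dD dC dE dCl) 3891 91 = true := by decide +kernel

set_option maxRecDepth 1000000 in
theorem cls_hclo_3892 : allC (cloChk dD dC dE dCl) 3892 91 = true := by decide +kernel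

set_option maxRecDepth 1000000 in
theorem cls_hclo_3893 : allC (cloChk dD dC dE dCl) 3893 91 = true := by decide +kernel

set_option maxRecDepth 1000000 in
theorem cls_hclo_3894 : allC (cloChk dD dC dE dCl) 3894 91 = true := by decide +kernel

set_option maxRecDepth 1000000 in
theorem cls_hclo_3895 : allC (cloChk dD dC dE dCl) 3895 91 = true := by decide +kernel

set_option maxRecDepth 1000000 in
theorem cls_hclo_3896 : allC (cloChk dD dC dE dCl) 3896 91 = true := by decide +kernel

set_option maxRecDepth 1000000 in
theorem cls_hclo_3897 : allC (cloChk dD dC dE dCl) 3897 91 = true := by decide +kernel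

set_option maxRecDepth 1000000 in
theorem cls_hclo_3898 : allC (cloChk dD dC dE dCl) 3898 91 = true := by decide +kernel

set_option maxRecDepth 1000000 in
theorem cls_hclo_3899 : allC (cloChk dD dC dE dCl) 3899 91 = true := by decide +kernel

end Cfsg.Agent.Helper9.RuO

end
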