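import Mathlib
import Cfsg.Agent.Helper9.RuO.Data

set_option autoImplicit false

/-! Kernel checks of the certificates, a part. -/

noncomputable section

namespace Cfsg.Agent.Helper9.RuO

open Cfsg.Agent.Helper9.OutG Cfsg.Agent.Helper9.J3

set_option maxRecDepth 1000000 in
theorem cls_hclo_5300 : allC (cloChk dD dC dE dCl) 5300 91 = true := by decide +kernel

set_option maxRecDepth 1000000 in
theorem cls_hclo_5301 : allC (cloChk dD dC dE dCl) 5301 91 = true := by decide +kernel

set_option maxRecDepth 1000000 in
theorem cls_hclo_5302 : allC (cloChk dD dC dE dCl) 5302 91 = true := by decide +kernel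

set_option maxRecDepth 1000000 in
theorem cls_hclo_5303 : allC (cloChk dD dC dE dCl) 5303 91 = true := by decide +kernel

set_option maxRecDepth 1000000 in
theorem cls_hclo_5304 : allC (cloChk dD dC dE dCl) 5304 91 = true := by decide +kernel

set_option maxRecDepth 1000000 in
theorem cls_hclo_5305 : allC (cloChk dD dC dE dCl) 5305 91 = true := by decide +kernel

set_option maxRecDepth 1000000 in
theorem cls_hclo_5306 : allC (cloChk dD dC dE dCl) 5306 91 = true := by decide +kernel

set_option maxRecDepth 1000000 in
theorem cls_hclo_5307 : allC (cloChk dD dC dE dCl) 5307 91 = true := by decide +kernel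

set_option maxRecDepth 1000000 in
theorem cls_hclo_5308 : allC (cloChk dD dC dE dCl) 5308 91 = true := by decide +kernel

set_option maxRecDepth 1000000 in
theorem cls_hclo_5309 : allC (cloChk dD dC dE dCl) 5309 91 = true := by decide +kernel

set_option maxRecDepth 1000000 in
theorem cls_hclo_5310 : allC (cloChk dD dC dE dCl) 5310 91 = true := by decide +kernel

set_option maxRecDepth 1000000 in
theorem cls_hclo_5311 : allC (cloChk dD dC dE dCl) 5311 91 = true := by decide +kernel

set_option maxRecDepth 1000000 in
theorem cls_hclo_5312 : allC (cloChk dD dC dE dCl) 5312 91 = true := by decide +kernel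

set_option maxRecDepth 1000000 in
theorem cls_hclo_5313 : allC (cloChk dD dC dE dCl) 5313 91 = true := by decide +kernel

set_option maxRecDepth 1000000 in
theorem cls_hclo_5314 : allC (cloChk dD dC dE dCl) 5314 91 = true := by decide +kernel

set_option maxRecDepth 1000000 in
theorem cls_hclo_5315 : allC (cloChk dD dC dE dCl) 5315 91 = true := by decide +kernel

set_option maxRecDepth 1000000 in
theorem cls_hclo_5316 : allC (cloChk dD dC dE dCl) 5316 91 = true := by decide +kernel

set_option maxRecDepth 1000000 in
theorem cls_hclo_5317 : allC (cloChk dD dC dE dCl) 5317 91 = true := by decide +kernel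

set_option maxRecDepth 1000000 in
theorem cls_hclo_5318 : allC (cloChk dD dC dE dCl) 5318 91 = true := by decide +kernel

set_option maxRecDepth 1000000 in
theorem cls_hclo_5319 : allC (cloChk dD dC dE dCl) 5319 91 = true := by decide +kernel

set_option maxRecDepth 1000000 in
theorem cls_hclo_5320 : allC (cloChk dD dC dE dCl) 5320 91 = true := by decide +kernel

set_option maxRecDepth 1000000 in
theorem cls_hclo_5321 : allC (cloChk dD dC dE dCl) 5321 91 = true := by decide +kernel

set_option maxRecDepth 1000000 in
theorem cls_hclo_5322 : allC (cloChk dD dC dE dCl) 5322 91 = true := by decide +kernel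

set_option maxRecDepth 1000000 in
theorem cls_hclo_5323 : allC (cloChk dD dC dE dCl) 5323 91 = true := by decide +kernel

set_option maxRecDepth 1000000 in
theorem cls_hclo_5324 : allC (cloChk dD dC dE dCl) 5324 91 = true := by decide +kernel

set_option maxRecDepth 1000000 in
theorem cls_hclo_5325 : allC (cloChk dD dC dE dCl) 5325 91 = true := by decide +kernel

set_option maxRecDepth 1000000 in
theorem cls_hclo_5326 : allC (cloChk dD dC dE dCl) 5326 91 = true := by decide +kernel

set_option maxRecDepth 1000000 in
theorem cls_hclo_5327 : allC (cloChk dD dC dE dCl) 5327 91 = true := by decide +kernel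

set_option maxRecDepth 1000000 in
theorem cls_hclo_5328 : allC (cloChk dD dC dE dCl) 5328 91 = true := by decide +kernel

set_option maxRecDepth 1000000 in
theorem cls_hclo_5329 : allC (cloChk dD dC dE dCl) 5329 91 = true := by decide +kernel

set_option maxRecDepth 1000000 in
theorem cls_hclo_5330 : allC (cloChk dD dC dE dCl) 5330 91 = true := by decide +kernel

set_option maxRecDepth 1000000 in
theorem cls_hclo_5331 : allC (cloChk dD dC dE dCl) 5331 91 = true := by decide +kernel

set_option maxRecDepth 1000000 in
theorem cls_hclo_5332 : allC (cloChk dD dC dE dCl) 5332 91 = true := by decide +kernel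

set_option maxRecDepth 1000000 in
theorem cls_hclo_5333 : allC (cloChk dD dC dE dCl) 5333 91 = true := by decide +kernel

set_option maxRecDepth 1000000 in
theorem cls_hclo_5334 : allC (cloChk dD dC dE dCl) 5334 91 = true := by decide +kernel

set_option maxRecDepth 1000000 in
theorem cls_hclo_5335 : allC (cloChk dD dC dE dCl) 5335 91 = true := by decide +kernel

set_option maxRecDepth 1000000 in
theorem cls_hclo_5336 : allC (cloChk dD dC dE dCl) 5336 91 = true := by decide +kernel

set_option maxRecDepth 1000000 in
theorem cls_hclo_5337 : allC (cloChk dD dC dE dCl) 5337 91 = true := by decide +kernel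

set_option maxRecDepth 1000000 in
theorem cls_hclo_5338 : allC (cloChk dD dC dE dCl) 5338 91 = true := by decide +kernel

set_option maxRecDepth 1000000 in
theorem cls_hclo_5339 : allC (cloChk dD dC dE dCl) 5339 91 = true := by decide +kernel

set_option maxRecDepth 1000000 in
theorem cls_hclo_5340 : allC (cloChk dD dC dE dCl) 5340 91 = true := by decide +kernel

set_option maxRecDepth 1000000 in
theorem cls_hclo_5341 : allC (cloChk dD dC dE dCl) 5341 91 = true := by decide +kernel

set_option maxRecDepth 1000000 in
theorem cls_hclo_5342 : allC (cloChk dD dC dE dCl) 5342 91 = true := by decide +kernel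

set_option maxRecDepth 1000000 in
theorem cls_hclo_5343 : allC (cloChk dD dC dE dCl) 5343 91 = true := by decide +kernel

set_option maxRecDepth 1000000 in
theorem cls_hclo_5344 : allC (cloChk dD dC dE dCl) 5344 91 = true := by decide +kernel

set_option maxRecDepth 1000000 in
theorem cls_hclo_5345 : allC (cloChk dD dC dE dCl) 5345 91 = true := by decide +kernel

set_option maxRecDepth 1000000 in
theorem cls_hclo_5346 : allC (cloChk dD dC dE dCl) 5346 91 = true := by decide +kernel

set_option maxRecDepth 1000000 in
theorem cls_hclo_5347 : allC (cloChk dD dC dE dCl) 5347 91 = true := by decide +kernel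

set_option maxRecDepth 1000000 in
theorem cls_hclo_5348 : allC (cloChk dD dC dE dCl) 5348 91 = true := by decide +kernel

set_option maxRecDepth 1000000 in
theorem cls_hclo_5349 : allC (cloChk dD dC dE dCl) 5349 91 = true := by decide +kernel

set_option maxRecDepth 1000000 in
theorem cls_hclo_5350 : allC (cloChk dD dC dE dCl) 5350 91 = true := by decide +kernel

set_option maxRecDepth 1000000 in
theorem cls_hclo_5351 : allC (cloChk dD dC dE dCl) 5351 91 = true := by decide +kernel

set_option maxRecDepth 1000000 in
theorem cls_hclo_5352 : allC (cloChk dD dC dE dCl) 5352 91 = true := by decide +kernel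

set_option maxRecDepth 1000000 in
theorem cls_hclo_5353 : allC (cloChk dD dC dE dCl) 5353 91 = true := by decide +kernel

set_option maxRecDepth 1000000 in
theorem cls_hclo_5354 : allC (cloChk dD dC dE dCl) 5354 91 = true := by decide +kernel

set_option maxRecDepth 1000000 in
theorem cls_hclo_5355 : allC (cloChk dD dC dE dCl) 5355 91 = true := by decide +kernel

set_option maxRecDepth 1000000 in
theorem cls_hclo_5356 : allC (cloChk dD dC dE dCl) 5356 91 = true := by decide +kernel

set_option maxRecDepth 1000000 in
theorem cls_hclo_5357 : allC (cloChk dD dC dE dCl) 5357 91 = true := by decide +kernel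

set_option maxRecDepth 1000000 in
theorem cls_hclo_5358 : allC (cloChk dD dC dE dCl) 5358 91 = true := by decide +kernel

set_option maxRecDepth 1000000 in
theorem cls_hclo_5359 : allC (cloChk dD dC dE dCl) 5359 91 = true := by decide +kernel

set_option maxRecDepth 1000000 in
theorem cls_hclo_5360 : allC (cloChk dD dC dE dCl) 5360 91 = true := by decide +kernel

set_option maxRecDepth 1000000 in
theorem cls_hclo_5361 : allC (cloChk dD dC dE dCl) 5361 91 = true := by decide +kernel

set_option maxRecDepth 1000000 in
theorem cls_hclo_5362 : allC (cloChk dD dC dE dCl) 5362 91 = true := by decide +kernel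

set_option maxRecDepth 1000000 in
theorem cls_hclo_5363 : allC (cloChk dD dC dE dCl) 5363 91 = true := by decide +kernel

set_option maxRecDepth 1000000 in
theorem cls_hclo_5364 : allC (cloChk dD dC dE dCl) 5364 91 = true := by decide +kernel

set_option maxRecDepth 1000000 in
theorem cls_hclo_5365 : allC (cloChk dD dC dE dCl) 5365 91 = true := by decide +kernel

set_option maxRecDepth 1000000 in
theorem cls_hclo_5366 : allC (cloChk dD dC dE dCl) 5366 91 = true := by decide +kernel

set_option maxRecDepth 1000000 in
theorem cls_hclo_5367 : allC (cloChk dD dC dE dCl) 5367 91 = true := by decide +kernel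

set_option maxRecDepth 1000000 in
theorem cls_hclo_5368 : allC (cloChk dD dC dE dCl) 5368 91 = true := by decide +kernel

set_option maxRecDepth 1000000 in
theorem cls_hclo_5369 : allC (cloChk dD dC dE dCl) 5369 91 = true := by decide +kernel

set_option maxRecDepth 1000000 in
theorem cls_hclo_5370 : allC (cloChk dD dC dE dCl) 5370 91 = true := by decide +kernel

set_option maxRecDepth 1000000 in
theorem cls_hclo_5371 : allC (cloChk dD dC dE dCl) 5371 91 = true := by decide +kernel

set_option maxRecDepth 1000000 in
theorem cls_hclo_5372 : allC (cloChk dD dC dE dCl) 5372 91 = true := by decide +kernel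

set_option maxRecDepth 1000000 in
theorem cls_hclo_5373 : allC (cloChk dD dC dE dCl) 5373 91 = true := by decide +kernel

set_option maxRecDepth 1000000 in
theorem cls_hclo_5374 : allC (cloChk dD dC dE dCl) 5374 91 = true := by decide +kernel

set_option maxRecDepth 1000000 in
theorem cls_hclo_5375 : allC (cloChk dD dC dE dCl) 5375 91 = true := by decide +kernel

set_option maxRecDepth 1000000 in
theorem cls_hclo_5376 : allC (cloChk dD dC dE dCl) 5376 91 = true := by decide +kernel

set_option maxRecDepth 1000000 in
theorem cls_hclo_5377 : allC (cloChk dD dC dE dCl) 5377 91 = true := by decide +kernel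

set_option maxRecDepth 1000000 in
theorem cls_hclo_5378 : allC (cloChk dD dC dE dCl) 5378 91 = true := by decide +kernel

set_option maxRecDepth 1000000 in
theorem cls_hclo_5379 : allC (cloChk dD dC dE dCl) 5379 91 = true := by decide +kernel

set_option maxRecDepth 1000000 in
theorem cls_hclo_5380 : allC (cloChk dD dC dE dCl) 5380 91 = true := by decide +kernel

set_option maxRecDepth 1000000 in
theorem cls_hclo_5381 : allC (cloChk dD dC dE dCl) 5381 91 = true := by decide +kernel

set_option maxRecDepth 1000000 in
theorem cls_hclo_5382 : allC (cloChk dD dC dE dCl) 5382 91 = true := by decide +kernel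

set_option maxRecDepth 1000000 in
theorem cls_hclo_5383 : allC (cloChk dD dC dE dCl) 5383 91 = true := by decide +kernel

set_option maxRecDepth 1000000 in
theorem cls_hclo_5384 : allC (cloChk dD dC dE dCl) 5384 91 = true := by decide +kernel

set_option maxRecDepth 1000000 in
theorem cls_hclo_5385 : allC (cloChk dD dC dE dCl) 5385 91 = true := by decide +kernel

set_option maxRecDepth 1000000 in
theorem cls_hclo_5386 : allC (cloChk dD dC dE dCl) 5386 91 = true := by decide +kernel

set_option maxRecDepth 1000000 in
theorem cls_hclo_5387 : allC (cloChk dD dC dE dCl) 5387 91 = true := by decide +kernel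

set_option maxRecDepth 1000000 in
theorem cls_hclo_5388 : allC (cloChk dD dC dE dCl) 5388 91 = true := by decide +kernel

set_option maxRecDepth 1000000 in
theorem cls_hclo_5389 : allC (cloChk dD dC dE dCl) 5389 91 = true := by decide +kernel

set_option maxRecDepth 1000000 in
theorem cls_hclo_5390 : allC (cloChk dD dC dE dCl) 5390 91 = true := by decide +kernel

set_option maxRecDepth 1000000 in
theorem cls_hclo_5391 : allC (cloChk dD dC dE dCl) 5391 91 = true := by decide +kernel

set_option maxRecDepth 1000000 in
theorem cls_hclo_5392 : allC (cloChk dD dC dE dCl) 5392 91 = true := by decide +kernel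

set_option maxRecDepth 1000000 in
theorem cls_hclo_5393 : allC (cloChk dD dC dE dCl) 5393 91 = true := by decide +kernel

set_option maxRecDepth 1000000 in
theorem cls_hclo_5394 : allC (cloChk dD dC dE dCl) 5394 91 = true := by decide +kernel

set_option maxRecDepth 1000000 in
theorem cls_hclo_5395 : allC (cloChk dD dC dE dCl) 5395 91 = true := by decide +kernel

set_option maxRecDepth 1000000 in
theorem cls_hclo_5396 : allC (cloChk dD dC dE dCl) 5396 91 = true := by decide +kernel

set_option maxRecDepth 1000000 in
theorem cls_hclo_5397 : allC (cloChk dD dC dE dCl) 5397 91 = true := by decide +kernel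

set_option maxRecDepth 1000000 in
theorem cls_hclo_5398 : allC (cloChk dD dC dE dCl) 5398 91 = true := by decide +kernel

set_option maxRecDepth 1000000 in
theorem cls_hclo_5399 : allC (cloChk dD dC dE dCl) 5399 91 = true := by decide +kernel

end Cfsg.Agent.Helper9.RuO

end
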