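import Mathlib
import Cfsg.Agent.Helper9.RuO.Data

set_option autoImplicit false

/-! Kernel checks of the certificates, a part. -/

noncomputable section

namespace Cfsg.Agent.Helper9.RuO

open Cfsg.Agent.Helper9.OutG Cfsg.Agent.Helper9.J3

set_option maxRecDepth 1000000 in
theorem cls_hclo_800 : allC (cloChk dD dC dE dCl) 800 91 = true := by decide +kernel

set_option maxRecDepth 1000000 in
theorem cls_hclo_801 : allC (cloChk dD dC dE dCl) 801 91 = true := by decide +kernel

set_option maxRecDepth 1000000 in
theorem cls_hclo_802 : allC (cloChk dD dC dE dCl) 802 91 = true := by decide +kernel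

set_option maxRecDepth 1000000 in
theorem cls_hclo_803 : allC (cloChk dD dC dE dCl) 803 91 = true := by decide +kernel

set_option maxRecDepth 1000000 in
theorem cls_hclo_804 : allC (cloChk dD dC dE dCl) 804 91 = true := by decide +kernel

set_option maxRecDepth 1000000 in
theorem cls_hclo_805 : allC (cloChk dD dC dE dCl) 805 91 = true := by decide +kernel

set_option maxRecDepth 1000000 in
theorem cls_hclo_806 : allC (cloChk dD dC dE dCl) 806 91 = true := by decide +kernel

set_option maxRecDepth 1000000 in
theorem cls_hclo_807 : allC (cloChk dD dC dE dCl) 807 91 = true := by decide +kernel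

set_option maxRecDepth 1000000 in
theorem cls_hclo_808 : allC (cloChk dD dC dE dCl) 808 91 = true := by decide +kernel

set_option maxRecDepth 1000000 in
theorem cls_hclo_809 : allC (cloChk dD dC dE dCl) 809 91 = true := by decide +kernel

set_option maxRecDepth 1000000 in
theorem cls_hclo_810 : allC (cloChk dD dC dE dCl) 810 91 = true := by decide +kernel

set_option maxRecDepth 1000000 in
theorem cls_hclo_811 : allC (cloChk dD dC dE dCl) 811 91 = true := by decide +kernel

set_option maxRecDepth 1000000 in
theorem cls_hclo_812 : allC (cloChk dD dC dE dCl) 812 91 = true := by decide +kernel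

set_option maxRecDepth 1000000 in
theorem cls_hclo_813 : allC (cloChk dD dC dE dCl) 813 91 = true := by decide +kernel

set_option maxRecDepth 1000000 in
theorem cls_hclo_814 : allC (cloChk dD dC dE dCl) 814 91 = true := by decide +kernel

set_option maxRecDepth 1000000 in
theorem cls_hclo_815 : allC (cloChk dD dC dE dCl) 815 91 = true := by decide +kernel

set_option maxRecDepth 1000000 in
theorem cls_hclo_816 : allC (cloChk dD dC dE dCl) 816 91 = true := by decide +kernel

set_option maxRecDepth 1000000 in
theorem cls_hclo_817 : allC (cloChk dD dC dE dCl) 817 91 = true := by decide +kernel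

set_option maxRecDepth 1000000 in
theorem cls_hclo_818 : allC (cloChk dD dC dE dCl) 818 91 = true := by decide +kernel

set_option maxRecDepth 1000000 in
theorem cls_hclo_819 : allC (cloChk dD dC dE dCl) 819 91 = true := by decide +kernel

set_option maxRecDepth 1000000 in
theorem cls_hclo_820 : allC (cloChk dD dC dE dCl) 820 91 = true := by decide +kernel

set_option maxRecDepth 1000000 in
theorem cls_hclo_821 : allC (cloChk dD dC dE dCl) 821 91 = true := by decide +kernel

set_option maxRecDepth 1000000 in
theorem cls_hclo_822 : allC (cloChk dD dC dE dCl) 822 91 = true := by decide +kernel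

set_option maxRecDepth 1000000 in
theorem cls_hclo_823 : allC (cloChk dD dC dE dCl) 823 91 = true := by decide +kernel

set_option maxRecDepth 1000000 in
theorem cls_hclo_824 : allC (cloChk dD dC dE dCl) 824 91 = true := by decide +kernel

set_option maxRecDepth 1000000 in
theorem cls_hclo_825 : allC (cloChk dD dC dE dCl) 825 91 = true := by decide +kernel

set_option maxRecDepth 1000000 in
theorem cls_hclo_826 : allC (cloChk dD dC dE dCl) 826 91 = true := by decide +kernel

set_option maxRecDepth 1000000 in
theorem cls_hclo_827 : allC (cloChk dD dC dE dCl) 827 91 = true := by decide +kernel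

set_option maxRecDepth 1000000 in
theorem cls_hclo_828 : allC (cloChk dD dC dE dCl) 828 91 = true := by decide +kernel

set_option maxRecDepth 1000000 in
theorem cls_hclo_829 : allC (cloChk dD dC dE dCl) 829 91 = true := by decide +kernel

set_option maxRecDepth 1000000 in
theorem cls_hclo_830 : allC (cloChk dD dC dE dCl) 830 91 = true := by decide +kernel

set_option maxRecDepth 1000000 in
theorem cls_hclo_831 : allC (cloChk dD dC dE dCl) 831 91 = true := by decide +kernel

set_option maxRecDepth 1000000 in
theorem cls_hclo_832 : allC (cloChk dD dC dE dCl) 832 91 = true := by decide +kernel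

set_option maxRecDepth 1000000 in
theorem cls_hclo_833 : allC (cloChk dD dC dE dCl) 833 91 = true := by decide +kernel

set_option maxRecDepth 1000000 in
theorem cls_hclo_834 : allC (cloChk dD dC dE dCl) 834 91 = true := by decide +kernel

set_option maxRecDepth 1000000 in
theorem cls_hclo_835 : allC (cloChk dD dC dE dCl) 835 91 = true := by decide +kernel

set_option maxRecDepth 1000000 in
theorem cls_hclo_836 : allC (cloChk dD dC dE dCl) 836 91 = true := by decide +kernel

set_option maxRecDepth 1000000 in
theorem cls_hclo_837 : allC (cloChk dD dC dE dCl) 837 91 = true := by decide +kernel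

set_option maxRecDepth 1000000 in
theorem cls_hclo_838 : allC (cloChk dD dC dE dCl) 838 91 = true := by decide +kernel

set_option maxRecDepth 1000000 in
theorem cls_hclo_839 : allC (cloChk dD dC dE dCl) 839 91 = true := by decide +kernel

set_option maxRecDepth 1000000 in
theorem cls_hclo_840 : allC (cloChk dD dC dE dCl) 840 91 = true := by decide +kernel

set_option maxRecDepth 1000000 in
theorem cls_hclo_841 : allC (cloChk dD dC dE dCl) 841 91 = true := by decide +kernel

set_option maxRecDepth 1000000 in
theorem cls_hclo_842 : allC (cloChk dD dC dE dCl) 842 91 = true := by decide +kernel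

set_option maxRecDepth 1000000 in
theorem cls_hclo_843 : allC (cloChk dD dC dE dCl) 843 91 = true := by decide +kernel

set_option maxRecDepth 1000000 in
theorem cls_hclo_844 : allC (cloChk dD dC dE dCl) 844 91 = true := by decide +kernel

set_option maxRecDepth 1000000 in
theorem cls_hclo_845 : allC (cloChk dD dC dE dCl) 845 91 = true := by decide +kernel

set_option maxRecDepth 1000000 in
theorem cls_hclo_846 : allC (cloChk dD dC dE dCl) 846 91 = true := by decide +kernel

set_option maxRecDepth 1000000 in
theorem cls_hclo_847 : allC (cloChk dD dC dE dCl) 847 91 = true := by decide +kernel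

set_option maxRecDepth 1000000 in
theorem cls_hclo_848 : allC (cloChk dD dC dE dCl) 848 91 = true := by decide +kernel

set_option maxRecDepth 1000000 in
theorem cls_hclo_849 : allC (cloChk dD dC dE dCl) 849 91 = true := by decide +kernel

set_option maxRecDepth 1000000 in
theorem cls_hclo_850 : allC (cloChk dD dC dE dCl) 850 91 = true := by decide +kernel

set_option maxRecDepth 1000000 in
theorem cls_hclo_851 : allC (cloChk dD dC dE dCl) 851 91 = true := by decide +kernel

set_option maxRecDepth 1000000 in
theorem cls_hclo_852 : allC (cloChk dD dC dE dCl) 852 91 = true := by decide +kernel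

set_option maxRecDepth 1000000 in
theorem cls_hclo_853 : allC (cloChk dD dC dE dCl) 853 91 = true := by decide +kernel

set_option maxRecDepth 1000000 in
theorem cls_hclo_854 : allC (cloChk dD dC dE dCl) 854 91 = true := by decide +kernel

set_option maxRecDepth 1000000 in
theorem cls_hclo_855 : allC (cloChk dD dC dE dCl) 855 91 = true := by decide +kernel

set_option maxRecDepth 1000000 in
theorem cls_hclo_856 : allC (cloChk dD dC dE dCl) 856 91 = true := by decide +kernel

set_option maxRecDepth 1000000 in
theorem cls_hclo_857 : allC (cloChk dD dC dE dCl) 857 91 = true := by decide +kernel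

set_option maxRecDepth 1000000 in
theorem cls_hclo_858 : allC (cloChk dD dC dE dCl) 858 91 = true := by decide +kernel

set_option maxRecDepth 1000000 in
theorem cls_hclo_859 : allC (cloChk dD dC dE dCl) 859 91 = true := by decide +kernel

set_option maxRecDepth 1000000 in
theorem cls_hclo_860 : allC (cloChk dD dC dE dCl) 860 91 = true := by decide +kernel

set_option maxRecDepth 1000000 in
theorem cls_hclo_861 : allC (cloChk dD dC dE dCl) 861 91 = true := by decide +kernel

set_option maxRecDepth 1000000 in
theorem cls_hclo_862 : allC (cloChk dD dC dE dCl) 862 91 = true := by decide +kernel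

set_option maxRecDepth 1000000 in
theorem cls_hclo_863 : allC (cloChk dD dC dE dCl) 863 91 = true := by decide +kernel

set_option maxRecDepth 1000000 in
theorem cls_hclo_864 : allC (cloChk dD dC dE dCl) 864 91 = true := by decide +kernel

set_option maxRecDepth 1000000 in
theorem cls_hclo_865 : allC (cloChk dD dC dE dCl) 865 91 = true := by decide +kernel

set_option maxRecDepth 1000000 in
theorem cls_hclo_866 : allC (cloChk dD dC dE dCl) 866 91 = true := by decide +kernel

set_option maxRecDepth 1000000 in
theorem cls_hclo_867 : allC (cloChk dD dC dE dCl) 867 91 = true := by decide +kernel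

set_option maxRecDepth 1000000 in
theorem cls_hclo_868 : allC (cloChk dD dC dE dCl) 868 91 = true := by decide +kernel

set_option maxRecDepth 1000000 in
theorem cls_hclo_869 : allC (cloChk dD dC dE dCl) 869 91 = true := by decide +kernel

set_option maxRecDepth 1000000 in
theorem cls_hclo_870 : allC (cloChk dD dC dE dCl) 870 91 = true := by decide +kernel

set_option maxRecDepth 1000000 in
theorem cls_hclo_871 : allC (cloChk dD dC dE dCl) 871 91 = true := by decide +kernel

set_option maxRecDepth 1000000 in
theorem cls_hclo_872 : allC (cloChk dD dC dE dCl) 872 91 = true := by decide +kernel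

set_option maxRecDepth 1000000 in
theorem cls_hclo_873 : allC (cloChk dD dC dE dCl) 873 91 = true := by decide +kernel

set_option maxRecDepth 1000000 in
theorem cls_hclo_874 : allC (cloChk dD dC dE dCl) 874 91 = true := by decide +kernel

set_option maxRecDepth 1000000 in
theorem cls_hclo_875 : allC (cloChk dD dC dE dCl) 875 91 = true := by decide +kernel

set_option maxRecDepth 1000000 in
theorem cls_hclo_876 : allC (cloChk dD dC dE dCl) 876 91 = true := by decide +kernel

set_option maxRecDepth 1000000 in
theorem cls_hclo_877 : allC (cloChk dD dC dE dCl) 877 91 = true := by decide +kernel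

set_option maxRecDepth 1000000 in
theorem cls_hclo_878 : allC (cloChk dD dC dE dCl) 878 91 = true := by decide +kernel

set_option maxRecDepth 1000000 in
theorem cls_hclo_879 : allC (cloChk dD dC dE dCl) 879 91 = true := by decide +kernel

set_option maxRecDepth 1000000 in
theorem cls_hclo_880 : allC (cloChk dD dC dE dCl) 880 91 = true := by decide +kernel

set_option maxRecDepth 1000000 in
theorem cls_hclo_881 : allC (cloChk dD dC dE dCl) 881 91 = true := by decide +kernel

set_option maxRecDepth 1000000 in
theorem cls_hclo_882 : allC (cloChk dD dC dE dCl) 882 91 = true := by decide +kernel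

set_option maxRecDepth 1000000 in
theorem cls_hclo_883 : allC (cloChk dD dC dE dCl) 883 91 = true := by decide +kernel

set_option maxRecDepth 1000000 in
theorem cls_hclo_884 : allC (cloChk dD dC dE dCl) 884 91 = true := by decide +kernel

set_option maxRecDepth 1000000 in
theorem cls_hclo_885 : allC (cloChk dD dC dE dCl) 885 91 = true := by decide +kernel

set_option maxRecDepth 1000000 in
theorem cls_hclo_886 : allC (cloChk dD dC dE dCl) 886 91 = true := by decide +kernel

set_option maxRecDepth 1000000 in
theorem cls_hclo_887 : allC (cloChk dD dC dE dCl) 887 91 = true := by decide +kernel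

set_option maxRecDepth 1000000 in
theorem cls_hclo_888 : allC (cloChk dD dC dE dCl) 888 91 = true := by decide +kernel

set_option maxRecDepth 1000000 in
theorem cls_hclo_889 : allC (cloChk dD dC dE dCl) 889 91 = true := by decide +kernel

set_option maxRecDepth 1000000 in
theorem cls_hclo_890 : allC (cloChk dD dC dE dCl) 890 91 = true := by decide +kernel

set_option maxRecDepth 1000000 in
theorem cls_hclo_891 : allC (cloChk dD dC dE dCl) 891 91 = true := by decide +kernel

set_option maxRecDepth 1000000 in
theorem cls_hclo_892 : allC (cloChk dD dC dE dCl) 892 91 = true := by decide +kernel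

set_option maxRecDepth 1000000 in
theorem cls_hclo_893 : allC (cloChk dD dC dE dCl) 893 91 = true := by decide +kernel

set_option maxRecDepth 1000000 in
theorem cls_hclo_894 : allC (cloChk dD dC dE dCl) 894 91 = true := by decide +kernel

set_option maxRecDepth 1000000 in
theorem cls_hclo_895 : allC (cloChk dD dC dE dCl) 895 91 = true := by decide +kernel

set_option maxRecDepth 1000000 in
theorem cls_hclo_896 : allC (cloChk dD dC dE dCl) 896 91 = true := by decide +kernel

set_option maxRecDepth 1000000 in
theorem cls_hclo_897 : allC (cloChk dD dC dE dCl) 897 91 = true := by decide +kernel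

set_option maxRecDepth 1000000 in
theorem cls_hclo_898 : allC (cloChk dD dC dE dCl) 898 91 = true := by decide +kernel

set_option maxRecDepth 1000000 in
theorem cls_hclo_899 : allC (cloChk dD dC dE dCl) 899 91 = true := by decide +kernel

end Cfsg.Agent.Helper9.RuO

end
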