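import Mathlib
import Cfsg.Agent.Helper9.RuO.Data

set_option autoImplicit false

/-! Kernel checks of the certificates, a part. -/

noncomputable section

namespace Cfsg.Agent.Helper9.RuO

open Cfsg.Agent.Helper9.OutG Cfsg.Agent.Helper9.J3

set_option maxRecDepth 1000000 in
theorem tst_htst_200 : allC (testChk dD dC dE dCl dTs) 200 25 = true := by decide +kernel

set_option maxRecDepth 1000000 in
theorem tst_htst_201 : allC (testChk dD dC dE dCl dTs) 201 25 = true := by decide +kernel

set_option maxRecDepth 1000000 in
theorem tst_htst_202 : allC (testChk dD dC dE dCl dTs) 202 25 = true := by decide +kernel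

set_option maxRecDepth 1000000 in
theorem tst_htst_203 : allC (testChk dD dC dE dCl dTs) 203 25 = true := by decide +kernel

set_option maxRecDepth 1000000 in
theorem tst_htst_204 : allC (testChk dD dC dE dCl dTs) 204 25 = true := by decide +kernel

set_option maxRecDepth 1000000 in
theorem tst_htst_205 : allC (testChk dD dC dE dCl dTs) 205 25 = true := by decide +kernel

set_option maxRecDepth 1000000 in
theorem tst_htst_206 : allC (testChk dD dC dE dCl dTs) 206 25 = true := by decide +kernel

set_option maxRecDepth 1000000 in
theorem tst_htst_207 : allC (testChk dD dC dE dCl dTs) 207 25 = true := by decide +kernel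

set_option maxRecDepth 1000000 in
theorem tst_htst_208 : allC (testChk dD dC dE dCl dTs) 208 25 = true := by decide +kernel

set_option maxRecDepth 1000000 in
theorem tst_htst_209 : allC (testChk dD dC dE dCl dTs) 209 25 = true := by decide +kernel

set_option maxRecDepth 1000000 in
theorem tst_htst_210 : allC (testChk dD dC dE dCl dTs) 210 25 = true := by decide +kernel

set_option maxRecDepth 1000000 in
theorem tst_htst_211 : allC (testChk dD dC dE dCl dTs) 211 25 = true := by decide +kernel

set_option maxRecDepth 1000000 in
theorem tst_htst_212 : allC (testChk dD dC dE dCl dTs) 212 25 = true := by decide +kernel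

set_option maxRecDepth 1000000 in
theorem tst_htst_213 : allC (testChk dD dC dE dCl dTs) 213 25 = true := by decide +kernel

set_option maxRecDepth 1000000 in
theorem tst_htst_214 : allC (testChk dD dC dE dCl dTs) 214 25 = true := by decide +kernel

set_option maxRecDepth 1000000 in
theorem tst_htst_215 : allC (testChk dD dC dE dCl dTs) 215 25 = true := by decide +kernel

set_option maxRecDepth 1000000 in
theorem tst_htst_216 : allC (testChk dD dC dE dCl dTs) 216 25 = true := by decide +kernel

set_option maxRecDepth 1000000 in
theorem tst_htst_217 : allC (testChk dD dC dE dCl dTs) 217 25 = true := by decide +kernel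

set_option maxRecDepth 1000000 in
theorem tst_htst_218 : allC (testChk dD dC dE dCl dTs) 218 25 = true := by decide +kernel

set_option maxRecDepth 1000000 in
theorem tst_htst_219 : allC (testChk dD dC dE dCl dTs) 219 25 = true := by decide +kernel

set_option maxRecDepth 1000000 in
theorem tst_htst_220 : allC (testChk dD dC dE dCl dTs) 220 25 = true := by decide +kernel

set_option maxRecDepth 1000000 in
theorem tst_htst_221 : allC (testChk dD dC dE dCl dTs) 221 25 = true := by decide +kernel

set_option maxRecDepth 1000000 in
theorem tst_htst_222 : allC (testChk dD dC dE dCl dTs) 222 25 = true := by decide +kernel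

set_option maxRecDepth 1000000 in
theorem tst_htst_223 : allC (testChk dD dC dE dCl dTs) 223 25 = true := by decide +kernel

set_option maxRecDepth 1000000 in
theorem tst_htst_224 : allC (testChk dD dC dE dCl dTs) 224 25 = true := by decide +kernel

set_option maxRecDepth 1000000 in
theorem tst_htst_225 : allC (testChk dD dC dE dCl dTs) 225 25 = true := by decide +kernel

set_option maxRecDepth 1000000 in
theorem tst_htst_226 : allC (testChk dD dC dE dCl dTs) 226 25 = true := by decide +kernel

set_option maxRecDepth 1000000 in
theorem tst_htst_227 : allC (testChk dD dC dE dCl dTs) 227 25 = true := by decide +kernel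

set_option maxRecDepth 1000000 in
theorem tst_htst_228 : allC (testChk dD dC dE dCl dTs) 228 25 = true := by decide +kernel

set_option maxRecDepth 1000000 in
theorem tst_htst_229 : allC (testChk dD dC dE dCl dTs) 229 25 = true := by decide +kernel

set_option maxRecDepth 1000000 in
theorem tst_htst_230 : allC (testChk dD dC dE dCl dTs) 230 25 = true := by decide +kernel

set_option maxRecDepth 1000000 in
theorem tst_htst_231 : allC (testChk dD dC dE dCl dTs) 231 25 = true := by decide +kernel

set_option maxRecDepth 1000000 in
theorem tst_htst_232 : allC (testChk dD dC dE dCl dTs) 232 25 = true := by decide +kernel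

set_option maxRecDepth 1000000 in
theorem tst_htst_233 : allC (testChk dD dC dE dCl dTs) 233 25 = true := by decide +kernel

set_option maxRecDepth 1000000 in
theorem tst_htst_234 : allC (testChk dD dC dE dCl dTs) 234 25 = true := by decide +kernel

set_option maxRecDepth 1000000 in
theorem tst_htst_235 : allC (testChk dD dC dE dCl dTs) 235 25 = true := by decide +kernel

set_option maxRecDepth 1000000 in
theorem tst_htst_236 : allC (testChk dD dC dE dCl dTs) 236 25 = true := by decide +kernel

set_option maxRecDepth 1000000 in
theorem tst_htst_237 : allC (testChk dD dC dE dCl dTs) 237 25 = true := by decide +kernel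

set_option maxRecDepth 1000000 in
theorem tst_htst_238 : allC (testChk dD dC dE dCl dTs) 238 25 = true := by decide +kernel

set_option maxRecDepth 1000000 in
theorem tst_htst_239 : allC (testChk dD dC dE dCl dTs) 239 25 = true := by decide +kernel

set_option maxRecDepth 1000000 in
theorem tst_htst_240 : allC (testChk dD dC dE dCl dTs) 240 25 = true := by decide +kernel

set_option maxRecDepth 1000000 in
theorem tst_htst_241 : allC (testChk dD dC dE dCl dTs) 241 25 = true := by decide +kernel

set_option maxRecDepth 1000000 in
theorem tst_htst_242 : allC (testChk dD dC dE dCl dTs) 242 25 = true := by decide +kernel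

set_option maxRecDepth 1000000 in
theorem tst_htst_243 : allC (testChk dD dC dE dCl dTs) 243 25 = true := by decide +kernel

set_option maxRecDepth 1000000 in
theorem tst_htst_244 : allC (testChk dD dC dE dCl dTs) 244 25 = true := by decide +kernel

set_option maxRecDepth 1000000 in
theorem tst_htst_245 : allC (testChk dD dC dE dCl dTs) 245 25 = true := by decide +kernel

set_option maxRecDepth 1000000 in
theorem tst_htst_246 : allC (testChk dD dC dE dCl dTs) 246 25 = true := by decide +kernel

set_option maxRecDepth 1000000 in
theorem tst_htst_247 : allC (testChk dD dC dE dCl dTs) 247 25 = true := by decide +kernel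

set_option maxRecDepth 1000000 in
theorem tst_htst_248 : allC (testChk dD dC dE dCl dTs) 248 25 = true := by decide +kernel

set_option maxRecDepth 1000000 in
theorem tst_htst_249 : allC (testChk dD dC dE dCl dTs) 249 25 = true := by decide +kernel

set_option maxRecDepth 1000000 in
theorem tst_htst_250 : allC (testChk dD dC dE dCl dTs) 250 25 = true := by decide +kernel

set_option maxRecDepth 1000000 in
theorem tst_htst_251 : allC (testChk dD dC dE dCl dTs) 251 25 = true := by decide +kernel

set_option maxRecDepth 1000000 in
theorem tst_htst_252 : allC (testChk dD dC dE dCl dTs) 252 25 = true := by decide +kernel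

set_option maxRecDepth 1000000 in
theorem tst_htst_253 : allC (testChk dD dC dE dCl dTs) 253 25 = true := by decide +kernel

set_option maxRecDepth 1000000 in
theorem tst_htst_254 : allC (testChk dD dC dE dCl dTs) 254 25 = true := by decide +kernel

set_option maxRecDepth 1000000 in
theorem tst_htst_255 : allC (testChk dD dC dE dCl dTs) 255 25 = true := by decide +kernel

set_option maxRecDepth 1000000 in
theorem tst_htst_256 : allC (testChk dD dC dE dCl dTs) 256 25 = true := by decide +kernel

set_option maxRecDepth 1000000 in
theorem tst_htst_257 : allC (testChk dD dC dE dCl dTs) 257 25 = true := by decide +kernel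

set_option maxRecDepth 1000000 in
theorem tst_htst_258 : allC (testChk dD dC dE dCl dTs) 258 25 = true := by decide +kernel

set_option maxRecDepth 1000000 in
theorem tst_htst_259 : allC (testChk dD dC dE dCl dTs) 259 25 = true := by decide +kernel

set_option maxRecDepth 1000000 in
theorem tst_htst_260 : allC (testChk dD dC dE dCl dTs) 260 25 = true := by decide +kernel

set_option maxRecDepth 1000000 in
theorem tst_htst_261 : allC (testChk dD dC dE dCl dTs) 261 25 = true := by decide +kernel

set_option maxRecDepth 1000000 in
theorem tst_htst_262 : allC (testChk dD dC dE dCl dTs) 262 25 = true := by decide +kernel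

set_option maxRecDepth 1000000 in
theorem tst_htst_263 : allC (testChk dD dC dE dCl dTs) 263 25 = true := by decide +kernel

set_option maxRecDepth 1000000 in
theorem tst_htst_264 : allC (testChk dD dC dE dCl dTs) 264 25 = true := by decide +kernel

set_option maxRecDepth 1000000 in
theorem tst_htst_265 : allC (testChk dD dC dE dCl dTs) 265 25 = true := by decide +kernel

set_option maxRecDepth 1000000 in
theorem tst_htst_266 : allC (testChk dD dC dE dCl dTs) 266 25 = true := by decide +kernel

set_option maxRecDepth 1000000 in
theorem tst_htst_267 : allC (testChk dD dC dE dCl dTs) 267 25 = true := by decide +kernel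

set_option maxRecDepth 1000000 in
theorem tst_htst_268 : allC (testChk dD dC dE dCl dTs) 268 25 = true := by decide +kernel

set_option maxRecDepth 1000000 in
theorem tst_htst_269 : allC (testChk dD dC dE dCl dTs) 269 25 = true := by decide +kernel

set_option maxRecDepth 1000000 in
theorem tst_htst_270 : allC (testChk dD dC dE dCl dTs) 270 25 = true := by decide +kernel

set_option maxRecDepth 1000000 in
theorem tst_htst_271 : allC (testChk dD dC dE dCl dTs) 271 25 = true := by decide +kernel

set_option maxRecDepth 1000000 in
theorem tst_htst_272 : allC (testChk dD dC dE dCl dTs) 272 25 = true := by decide +kernel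

set_option maxRecDepth 1000000 in
theorem tst_htst_273 : allC (testChk dD dC dE dCl dTs) 273 25 = true := by decide +kernel

set_option maxRecDepth 1000000 in
theorem tst_htst_274 : allC (testChk dD dC dE dCl dTs) 274 25 = true := by decide +kernel

set_option maxRecDepth 1000000 in
theorem tst_htst_275 : allC (testChk dD dC dE dCl dTs) 275 25 = true := by decide +kernel

set_option maxRecDepth 1000000 in
theorem tst_htst_276 : allC (testChk dD dC dE dCl dTs) 276 25 = true := by decide +kernel

set_option maxRecDepth 1000000 in
theorem tst_htst_277 : allC (testChk dD dC dE dCl dTs) 277 25 = true := by decide +kernel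

set_option maxRecDepth 1000000 in
theorem tst_htst_278 : allC (testChk dD dC dE dCl dTs) 278 25 = true := by decide +kernel

set_option maxRecDepth 1000000 in
theorem tst_htst_279 : allC (testChk dD dC dE dCl dTs) 279 25 = true := by decide +kernel

set_option maxRecDepth 1000000 in
theorem tst_htst_280 : allC (testChk dD dC dE dCl dTs) 280 25 = true := by decide +kernel

set_option maxRecDepth 1000000 in
theorem tst_htst_281 : allC (testChk dD dC dE dCl dTs) 281 25 = true := by decide +kernel

set_option maxRecDepth 1000000 in
theorem tst_htst_282 : allC (testChk dD dC dE dCl dTs) 282 25 = true := by decide +kernel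

set_option maxRecDepth 1000000 in
theorem tst_htst_283 : allC (testChk dD dC dE dCl dTs) 283 25 = true := by decide +kernel

set_option maxRecDepth 1000000 in
theorem tst_htst_284 : allC (testChk dD dC dE dCl dTs) 284 25 = true := by decide +kernel

set_option maxRecDepth 1000000 in
theorem tst_htst_285 : allC (testChk dD dC dE dCl dTs) 285 25 = true := by decide +kernel

set_option maxRecDepth 1000000 in
theorem tst_htst_286 : allC (testChk dD dC dE dCl dTs) 286 25 = true := by decide +kernel

set_option maxRecDepth 1000000 in
theorem tst_htst_287 : allC (testChk dD dC dE dCl dTs) 287 25 = true := by decide +kernel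

set_option maxRecDepth 1000000 in
theorem tst_htst_288 : allC (testChk dD dC dE dCl dTs) 288 25 = true := by decide +kernel

set_option maxRecDepth 1000000 in
theorem tst_htst_289 : allC (testChk dD dC dE dCl dTs) 289 25 = true := by decide +kernel

set_option maxRecDepth 1000000 in
theorem tst_htst_290 : allC (testChk dD dC dE dCl dTs) 290 25 = true := by decide +kernel

set_option maxRecDepth 1000000 in
theorem tst_htst_291 : allC (testChk dD dC dE dCl dTs) 291 25 = true := by decide +kernel

set_option maxRecDepth 1000000 in
theorem tst_htst_292 : allC (testChk dD dC dE dCl dTs) 292 25 = true := by decide +kernel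

set_option maxRecDepth 1000000 in
theorem tst_htst_293 : allC (testChk dD dC dE dCl dTs) 293 25 = true := by decide +kernel

set_option maxRecDepth 1000000 in
theorem tst_htst_294 : allC (testChk dD dC dE dCl dTs) 294 25 = true := by decide +kernel

set_option maxRecDepth 1000000 in
theorem tst_htst_295 : allC (testChk dD dC dE dCl dTs) 295 25 = true := by decide +kernel

set_option maxRecDepth 1000000 in
theorem tst_htst_296 : allC (testChk dD dC dE dCl dTs) 296 25 = true := by decide +kernel

set_option maxRecDepth 1000000 in
theorem tst_htst_297 : allC (testChk dD dC dE dCl dTs) 297 25 = true := by decide +kernel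

set_option maxRecDepth 1000000 in
theorem tst_htst_298 : allC (testChk dD dC dE dCl dTs) 298 25 = true := by decide +kernel

set_option maxRecDepth 1000000 in
theorem tst_htst_299 : allC (testChk dD dC dE dCl dTs) 299 25 = true := by decide +kernel

end Cfsg.Agent.Helper9.RuO

end
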