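import Mathlib
import Cfsg.Agent.Helper9.RuO.Chk
import Cfsg.Agent.Helper2.RuM.Main
import Cfsg.Agent.Helper9.OutG.Main
import Cfsg.Agent.Helper9.HeO.Abs

set_option autoImplicit false

/-! The outer automorphism group of the Rudvalis group on 4060 points (the group `HRu` of
`Helper2.RuM`) is trivial. -/

noncomputable section

namespace Cfsg.Agent.Helper9.RuO

open Cfsg Cfsg.Agent.Helper9.OutG Cfsg.Agent.Helper9.J3 Cfsg.Agent.Helper5.StemP
  Cfsg.Agent.Helper5.LP

/-- the permutations of 4060 points. -/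
abbrev Q : Type := Equiv.Perm (Fin 4060)

/-- the group of `Helper2.RuM`. -/
def HR : Subgroup Q := Cfsg.Agent.Helper2.RuM.HRu

/-- the generators of `Helper2.RuM`. -/
def gR (i : ℕ) : Q := Cfsg.Agent.Helper2.RuM.g i

/-- the letters of the tables of `Helper2.RuM`. -/
def eR (c : ℕ) : Q := El Cfsg.Agent.Helper2.RuM.dD Cfsg.Agent.Helper2.RuM.hD c

/-- the letters of the tables. -/
def eO (c : ℕ) : Q := El dD core.tab c

set_option maxRecDepth 1000000 in
set_option maxHeartbeats 0 in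
theorem tab_eq : ∀ l : Fin 10, ∀ x : Fin 4060,
    T dD l.val x.val = T Cfsg.Agent.Helper2.RuM.dD l.val x.val := by
  decide +kernel

theorem letter_eq (l : ℕ) (hl : l < 10) : eO l = eR l := by
  apply Equiv.ext
  intro (x : Fin 4060)
  apply Fin.ext
  exact tab_eq ⟨l, hl⟩ x

theorem gR_eq (i : ℕ) : gR i = eR (2 * i) := rfl

theorem eR_odd (i : ℕ) (hi : i < 5) : eR (2 * i + 1) = (gR i)⁻¹ := by
  have h := Cfsg.Agent.Helper2.RuM.lval_g (2 * i + 1) (by omega)
  unfold lval at h
  rw [if_neg (by omega)] at h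
  have e : (2 * i + 1) / 2 = i := by omega
  rw [e] at h
  exact h.symm

theorem gR_mem (i : ℕ) (hi : i < 5) : gR i ∈ HR := by
  refine ⟨cgen 5 Cfsg.Agent.Helper2.RuM.mm Cfsg.Agent.Helper2.RuM.relsR
    Cfsg.Agent.Helper2.RuM.relsR 1 i, ?_⟩
  unfold cgen
  rw [Cfsg.Agent.Helper2.RuM.stageR.pi_ev 1 [2 * i] (by
    intro c hc
    rw [List.mem_singleton] at hc
    omega)]
  simp [lval_even]
  rfl

theorem HR_le (K : Subgroup Q) (h : ∀ i, i < 5 → gR i ∈ K) : HR ≤ K := by
  rintro y ⟨x, rfl⟩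
  have hx : x ∈ Subgroup.closure {x : CovG 5 Cfsg.Agent.Helper2.RuM.mm Cfsg.Agent.Helper2.RuM.relsR
      Cfsg.Agent.Helper2.RuM.relsR 1 | ∃ i, i < 5 ∧ x = cgen 5 _ _ _ 1 i} := by
    rw [closure_cgen]
    trivial
  induction hx using Subgroup.closure_induction with
  | mem x hx =>
    obtain ⟨i, hi, rfl⟩ := hx
    have e : (Cfsg.Agent.Helper2.RuM.stageR.pi 1) (cgen 5 _ _ _ 1 i) = gR i := by
      unfold cgen
      rw [Cfsg.Agent.Helper2.RuM.stageR.pi_ev 1 [2 * i] (by
        intro c hc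
        rw [List.mem_singleton] at hc
        omega)]
      simp [lval_even]
      rfl
    rw [e]
    exact h i hi
  | one =>
    rw [map_one]
    exact K.one_mem
  | mul x y _ _ hx hy =>
    rw [map_mul]
    exact K.mul_mem hx hy
  | inv x _ hx =>
    rw [map_inv]
    exact K.inv_mem hx

/-- the group of the tables as a group of permutations of 4060 points. -/
def GQ : Subgroup Q := GS core

theorem eO_mem (l : ℕ) (hl : l < 10) : eO l ∈ GQ :=
  Subgroup.subset_closure ⟨⟨l, hl⟩, rfl⟩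

theorem GQ_le (K : Subgroup Q) (h : ∀ l, l < 10 → eO l ∈ K) : GQ ≤ K := by
  show Subgroup.closure (Set.range fun l : Fin 10 => (El dD core.tab l.val : Q)) ≤ K
  apply (Subgroup.closure_le K).2
  rintro _ ⟨l, rfl⟩
  exact h l.val l.isLt

theorem grp_eq : GQ = HR := by
  apply le_antisymm
  · apply GQ_le
    intro l hl
    rw [letter_eq l hl]
    have h2 : l = 2 * (l / 2) ∨ l = 2 * (l / 2) + 1 := by omega
    have hi : l / 2 < 5 := by omega
    rcases h2 with h | h
    · rw [h, ← gR_eq]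
      exact gR_mem _ hi
    · rw [h, eR_odd _ hi]
      exact HR.inv_mem (gR_mem _ hi)
  · apply HR_le
    intro i hi
    rw [gR_eq, ← letter_eq (2 * i) (by omega)]
    exact eO_mem _ (by omega)

theorem card_GS : Nat.card ↥(GS core) = 145926144000 := by
  have h : Nat.card ↥GQ = Nat.card ↥HR :=
    congrArg (fun H : Subgroup Q => Nat.card ↥H) grp_eq
  exact h.trans Cfsg.Agent.Helper2.RuM.card_HRu

/-- the group of `Helper2.RuM` is the group of the tables. -/
def HRuEquivGS : ↥Cfsg.Agent.Helper2.RuM.HRu ≃* ↥(GS core) :=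
  (MulEquiv.subgroupCongr grp_eq.symm : ↥HR ≃* ↥GQ)

theorem out_HRu : Nat.card (Cfsg.Out ↥Cfsg.Agent.Helper2.RuM.HRu) = 1 := by
  rw [Cfsg.Agent.Helper9.HeO.card_out_congr HRuEquivGS]
  exact out_one core card_GS genOK sylOK (by decide) clsOK (by decide) tstOK hp2 hK0 (by decide)
    (by decide)

end Cfsg.Agent.Helper9.RuO

end
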